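import Mathlib.RingTheory.AdicCompletion.Algebra
import Mathlib.RingTheory.Ideal.Quotient.Nilpotent

/-!
# Units of an adic completion are detected modulo the ideal
-/

namespace Groth.Agent.Lib.Helper18

open AdicCompletion

variable {R : Type*} [CommRing R] (I : Ideal R)

/-- An element of `AdicCompletion I R` whose image in `R ⧸ I ^ 1` is a unit is a unit
(no finiteness hypothesis on `I`). -/
theorem isUnit_of_isUnit_evalₐ_one (x : AdicCompletion I R) (h : IsUnit (evalₐ I 1 x)) :
    IsUnit x := by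
  obtain ⟨a, rfl⟩ := AdicCompletion.mk_surjective I R x
  rw [evalₐ_mk] at h
  -- `a n` is congruent to `a 1` modulo `I`
  have hcong : ∀ n, 1 ≤ n → Ideal.Quotient.mk I (a n) = Ideal.Quotient.mk I (a 1) := by
    intro n hn
    have h1 := a.property hn
    rw [SModEq.sub_mem] at h1
    simp only [smul_eq_mul, Ideal.mul_top, pow_one] at h1
    rw [Ideal.Quotient.eq, ← neg_sub, Ideal.neg_mem_iff]
    exact h1
  have hunit : ∀ n, IsUnit (Ideal.Quotient.mk (I ^ n) (a n)) := by
    intro n
    rcases Nat.eq_zero_or_pos n with rfl | hn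
    · have : Subsingleton (R ⧸ I ^ 0) := by
        rw [pow_zero, Ideal.one_eq_top]; exact Ideal.Quotient.subsingleton_iff.mpr rfl
      exact isUnit_of_subsingleton _
    · rw [Ideal.Quotient.isUnit_mk_pow_iff_isUnit_mk I (Nat.pos_iff_ne_zero.mp hn), hcong n hn,
        ← Ideal.Quotient.isUnit_mk_pow_iff_isUnit_mk I one_ne_zero]
      exact h
  -- choose inverses
  have hex : ∀ n, ∃ b : R, Ideal.Quotient.mk (I ^ n) (a n) * Ideal.Quotient.mk (I ^ n) b = 1 := by
    intro n
    obtain ⟨u, hu⟩ := hunit n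
    obtain ⟨b, hb⟩ := Ideal.Quotient.mk_surjective (↑u⁻¹ : R ⧸ I ^ n)
    exact ⟨b, by rw [hb, ← hu]; exact u.mul_inv⟩
  choose b hb using hex
  have hbc : IsAdicCauchy I R b := by
    intro m n hmn
    rw [SModEq.sub_mem]
    simp only [smul_eq_mul, Ideal.mul_top]
    rw [← Ideal.Quotient.eq]
    -- in R ⧸ I^m
    have h1 := hb m
    have h2 := congrArg (Ideal.Quotient.factor (Ideal.pow_le_pow_right (I := I) hmn)) (hb n)
    rw [map_mul, map_one, Ideal.Quotient.factor_mk, Ideal.Quotient.factor_mk] at h2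
    have h3 : Ideal.Quotient.mk (I ^ m) (a n) = Ideal.Quotient.mk (I ^ m) (a m) := by
      have h4 := a.property hmn
      rw [SModEq.sub_mem] at h4
      simp only [smul_eq_mul, Ideal.mul_top] at h4
      rw [Ideal.Quotient.eq, ← neg_sub, Ideal.neg_mem_iff]
      exact h4
    rw [h3] at h2
    calc Ideal.Quotient.mk (I ^ m) (b m)
        = Ideal.Quotient.mk (I ^ m) (b m) * (Ideal.Quotient.mk (I ^ m) (a m) *
            Ideal.Quotient.mk (I ^ m) (b n)) := by rw [h2, mul_one]
      _ = (Ideal.Quotient.mk (I ^ m) (a m) * Ideal.Quotient.mk (I ^ m) (b m)) *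
            Ideal.Quotient.mk (I ^ m) (b n) := by ring
      _ = Ideal.Quotient.mk (I ^ m) (b n) := by rw [h1, one_mul]
  let b' : AdicCauchySequence I R := ⟨b, hbc⟩
  refine IsUnit.of_mul_eq_one (AdicCompletion.mk I R b') ?_
  apply AdicCompletion.ext_evalₐ
  intro n
  rw [map_mul, evalₐ_mk, evalₐ_mk I n b', map_one]
  exact hb n

/-- An element of `AdicCompletion I R` whose image in `R ⧸ I` is a unit is a unit. -/
theorem isUnit_of_isUnit_evalOneₐ (x : AdicCompletion I R) (h : IsUnit (evalOneₐ I x)) :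
    IsUnit x := by
  apply isUnit_of_isUnit_evalₐ_one
  obtain ⟨r, hr⟩ := Ideal.Quotient.mk_surjective (evalₐ I 1 x)
  have h1 : evalOneₐ I x = Ideal.Quotient.mk I r := by
    rw [← factorₐ_evalₐ_one, ← hr, Ideal.Quotient.factor_mk]
  rw [← hr, Ideal.Quotient.isUnit_mk_pow_iff_isUnit_mk I one_ne_zero, ← h1]
  exact h

/-- `evalOneₐ` reflects units. -/
theorem isLocalHom_evalOneₐ : IsLocalHom (evalOneₐ I).toRingHom :=
  ⟨fun x hx => isUnit_of_isUnit_evalOneₐ I x hx⟩

end Groth.Agent.Lib.Helper18
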