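import Groth.Prelude.Def_FSch3
import Groth.Agent.Lib.Helper18.AdicUnits

/-!
# API for `FSch.complMap` (functoriality of adic completion of rings)
-/

universe u

namespace Groth.Agent.Lib.Helper18

open AdicCompletion

section
variable {S T U : Type u} [CommRing S] [CommRing T] [CommRing U]
  (I : Ideal S) (K : Ideal T) (L : Ideal U) (g : S →+* T) (g' : T →+* U)

/-- The compatibility used in the definition of `FSch.complMap` (same proof as there). -/
theorem complMap_compat (h : I.map g ≤ K) {m n : ℕ} (hle : m ≤ n) :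
    (Ideal.Quotient.factorPow K hle).comp
      ((Ideal.quotientMap (K ^ n) g (FSch.pow_le_comap_pow_of_map_le I K g h n)).comp
        (AdicCompletion.evalₐ I n).toRingHom) =
    (Ideal.quotientMap (K ^ m) g (FSch.pow_le_comap_pow_of_map_le I K g h m)).comp
        (AdicCompletion.evalₐ I m).toRingHom := by
  apply RingHom.ext
  intro x
  obtain ⟨y, rfl⟩ := AdicCompletion.mk_surjective I S x
  simp only [RingHom.coe_comp, Function.comp_apply, AlgHom.toRingHom_eq_coe, AlgHom.coe_toRingHom,
    AdicCompletion.evalₐ_mk, Ideal.quotientMap_mk, Ideal.Quotient.factorPow,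
    Ideal.Quotient.factor_mk]
  rw [Ideal.Quotient.eq]
  have hy := y.2 hle
  rw [SModEq.sub_mem] at hy
  simp only [smul_eq_mul, Ideal.mul_top] at hy
  rw [← map_sub]
  have hy' : (y : ℕ → S) n - (y : ℕ → S) m ∈ I ^ m := by
    rw [← neg_sub]; exact (I ^ m).neg_mem hy
  exact FSch.pow_le_comap_pow_of_map_le I K g h m hy'

theorem complMap_eq (h : I.map g ≤ K) :
    FSch.complMap I K g h = AdicCompletion.liftRingHom K
      (fun n => (Ideal.quotientMap (K ^ n) g (FSch.pow_le_comap_pow_of_map_le I K g h n)).comp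
        (AdicCompletion.evalₐ I n).toRingHom)
      (fun {_ _} hle => complMap_compat I K g h hle) := rfl

theorem evalₐ_complMap (h : I.map g ≤ K) (n : ℕ) (x : AdicCompletion I S) :
    evalₐ K n (FSch.complMap I K g h x) =
      Ideal.quotientMap (K ^ n) g (FSch.pow_le_comap_pow_of_map_le I K g h n) (evalₐ I n x) := by
  rw [complMap_eq]
  exact evalₐ_liftRingHom K _ (fun {_ _} hle => complMap_compat I K g h hle) n x

theorem complMap_comp (h : I.map g ≤ K) (h' : K.map g' ≤ L) (h'' : I.map (g'.comp g) ≤ L) :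
    (FSch.complMap K L g' h').comp (FSch.complMap I K g h) = FSch.complMap I L (g'.comp g) h'' := by
  ext x : 1
  apply AdicCompletion.ext_evalₐ
  intro n
  rw [RingHom.comp_apply, evalₐ_complMap, evalₐ_complMap, evalₐ_complMap]
  obtain ⟨r, hr⟩ := Ideal.Quotient.mk_surjective (evalₐ I n x)
  rw [← hr]
  rfl

theorem evalOneₐ_complMap (h : I.map g ≤ K) (x : AdicCompletion I S) :
    evalOneₐ K (FSch.complMap I K g h x) =
      Ideal.quotientMap K g (Ideal.map_le_iff_le_comap.mp h) (evalOneₐ I x) := by
  rw [← factorₐ_evalₐ_one, ← factorₐ_evalₐ_one, evalₐ_complMap]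
  obtain ⟨r, hr⟩ := Ideal.Quotient.mk_surjective (evalₐ I 1 x)
  rw [← hr]
  rfl

end

end Groth.Agent.Lib.Helper18

namespace Groth.Agent.Lib.Helper18

open AdicCompletion

section
variable {S T : Type u} [CommRing S] [CommRing T] (I : Ideal S) (K : Ideal T) (g : S →+* T)

theorem complMap_of (h : I.map g ≤ K) (s : S) :
    FSch.complMap I K g h (of I S s) = of K T (g s) := by
  apply AdicCompletion.ext_evalₐ
  intro n
  rw [evalₐ_complMap, evalₐ_of, evalₐ_of]
  rfl

/-- The kernel of `evalOneₐ` consists of non-units as soon as `R ⧸ I` is nontrivial. -/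
theorem not_isUnit_of_evalOneₐ_eq_zero [Nontrivial (S ⧸ I)] (x : AdicCompletion I S)
    (hx : evalOneₐ I x = 0) : ¬ IsUnit x := by
  intro hu
  have := hu.map (evalOneₐ I)
  rw [hx] at this
  exact not_isUnit_zero this

end

end Groth.Agent.Lib.Helper18
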