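import Groth.Prelude.Def_CAlgX
import Mathlib.RingTheory.MvPolynomial.Homogeneous
import Mathlib.Algebra.MvPolynomial.Monad
import Mathlib.LinearAlgebra.Matrix.NonsingularInverse
import Mathlib.RingTheory.Ideal.Quotient.Operations

/-! helper18: quasi-regular sequences (`CAlgX.IsQuasiRegular`): change of generators -/

set_option autoImplicit false
universe u
open MvPolynomial

namespace Groth.Agent.Lib.Helper18


variable {A : Type u} [CommRing A] {n : ℕ}

/-- the linear forms attached to a matrix -/
noncomputable def linForm (a : Matrix (Fin n) (Fin n) A) (i : Fin n) : MvPolynomial (Fin n) A :=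
  ∑ j, C (a i j) * X j

theorem linForm_isHomogeneous (a : Matrix (Fin n) (Fin n) A) (i : Fin n) :
    (linForm a i).IsHomogeneous 1 :=
  IsHomogeneous.sum _ _ _ (fun j _ => isHomogeneous_C_mul_X _ _)

theorem eval_linForm (a : Matrix (Fin n) (Fin n) A) (f : Fin n → A) (i : Fin n) :
    eval f (linForm a i) = ∑ j, a i j * f j := by
  simp [linForm]

theorem coeff_linForm (a : Matrix (Fin n) (Fin n) A) (i k : Fin n) :
    coeff (Finsupp.single k 1) (linForm a i) = a i k := by
  classical
  simp only [linForm, coeff_sum, coeff_C_mul, coeff_X]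
  rw [Finset.sum_eq_single k]
  · simp
  · intro j _ hj
    have : Finsupp.single j 1 ≠ Finsupp.single k 1 := by
      intro h
      exact hj ((Finsupp.single_left_inj one_ne_zero).mp h)
    simp [this]
  · simp

theorem bind₁_linForm (a b : Matrix (Fin n) (Fin n) A) (i : Fin n) :
    bind₁ (linForm b) (linForm a i) = linForm (a * b) i := by
  simp only [linForm, map_sum, map_mul, bind₁_C_right, bind₁_X_right, Finset.mul_sum, Matrix.mul_apply,
    map_sum, Finset.sum_mul]
  rw [Finset.sum_comm]
  apply Finset.sum_congr rfl
  intro k _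
  apply Finset.sum_congr rfl
  intro j _
  rw [← mul_assoc, ← C_mul]

theorem map_linForm {B : Type*} [CommRing B] (φ : A →+* B) (a : Matrix (Fin n) (Fin n) A) (i : Fin n) :
    map φ (linForm a i) = linForm (a.map φ) i := by
  simp [linForm]

theorem linForm_one (i : Fin n) : linForm (1 : Matrix (Fin n) (Fin n) A) i = X i := by
  classical
  simp only [linForm, Matrix.one_apply]
  rw [Finset.sum_eq_single i]
  · simp
  · intro j _ hj; simp [hj.symm]
  · simp

theorem exists_matrix_of_span_le (f g : Fin n → A)
    (h : Ideal.span (Set.range g) ≤ Ideal.span (Set.range f)) :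
    ∃ a : Matrix (Fin n) (Fin n) A, ∀ i, g i = ∑ j, a i j * f j := by
  have : ∀ i, ∃ c : Fin n → A, ∑ j, c j * f j = g i := by
    intro i
    have hi : g i ∈ Ideal.span (Set.range f) := h (Ideal.subset_span ⟨i, rfl⟩)
    exact (Ideal.mem_span_range_iff_exists_fun).mp hi
  choose c hc using this
  exact ⟨Matrix.of c, fun i => (hc i).symm⟩

theorem isQuasiRegular_of_span_eq (f f' : Fin n → A)
    (hf : CAlgX.IsQuasiRegular f) (h : Ideal.span (Set.range f') = Ideal.span (Set.range f)) :
    CAlgX.IsQuasiRegular f' := by
  classical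
  obtain ⟨a, ha⟩ := exists_matrix_of_span_le f f' h.le
  obtain ⟨b, hb⟩ := exists_matrix_of_span_le f' f h.ge
  set J := Ideal.span (Set.range f) with hJ
  -- `b * a ≡ 1` modulo `J`
  have hba : (b * a).map (Ideal.Quotient.mk J) = 1 := by
    ext i k
    rw [Matrix.map_apply, Matrix.one_apply]
    have hL : (linForm (b * a - 1) i).IsHomogeneous 1 := linForm_isHomogeneous _ _
    have hLe : eval f (linForm (b * a - 1) i) = 0 := by
      rw [eval_linForm]
      simp only [Matrix.sub_apply, Matrix.mul_apply, Matrix.one_apply, sub_mul, Finset.sum_sub_distrib,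
        Finset.sum_mul]
      rw [Finset.sum_comm]
      have e1 : ∑ y, ∑ x, b i x * a x y * f y = ∑ x, b i x * f' x := by
        rw [Finset.sum_comm]
        apply Finset.sum_congr rfl
        intro x _
        rw [ha x, Finset.mul_sum]
        apply Finset.sum_congr rfl
        intro y _
        ring
      rw [Finset.sum_comm, e1, ← hb i]
      simp
    have hc := hf 1 _ hL (by rw [hLe]; exact Ideal.zero_mem _) (Finsupp.single k 1)
    rw [coeff_linForm, Matrix.sub_apply, Matrix.one_apply] at hc
    have := (Ideal.Quotient.eq).mpr hc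
    rw [this]
    split_ifs <;> simp
  have hab : (a * b).map (Ideal.Quotient.mk J) = 1 := by
    rw [Matrix.map_mul] at hba ⊢
    exact mul_eq_one_comm.mp hba
  intro m P hP hPe d
  rw [h] at hPe ⊢
  -- substitute
  have hQ : (bind₁ (linForm a) P).IsHomogeneous m := by
    have := hP.aeval (linForm a) (fun i => linForm_isHomogeneous a i)
    rwa [one_mul, aeval_eq_bind₁] at this
  have hQe : eval f (bind₁ (linForm a) P) = eval f' P := by
    show eval₂Hom (RingHom.id A) f (bind₁ (linForm a) P) = eval₂Hom (RingHom.id A) f' P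
    rw [eval₂Hom_bind₁]
    have e : (fun i => eval₂Hom (RingHom.id A) f (linForm a i)) = f' := by
      funext i
      show eval f (linForm a i) = f' i
      rw [eval_linForm, ha i]
    rw [e]
  have hQc := hf m _ hQ (by rw [hQe]; exact hPe)
  have hQ0 : map (Ideal.Quotient.mk J) (bind₁ (linForm a) P) = 0 := by
    ext e
    rw [coeff_map, coeff_zero]
    exact (Ideal.Quotient.eq_zero_iff_mem).mpr (hQc e)
  have hP0 : map (Ideal.Quotient.mk J) P = 0 := by
    have e1 : map (Ideal.Quotient.mk J) (bind₁ (linForm b) (bind₁ (linForm a) P)) = 0 := by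
      rw [map_bind₁, hQ0, map_zero]
    rw [bind₁_bind₁, map_bind₁] at e1
    have e2 : (fun i => map (Ideal.Quotient.mk J) (bind₁ (linForm b) (linForm a i))) = X := by
      ext1 i
      rw [bind₁_linForm, map_linForm, hab, linForm_one]
    rw [e2] at e1
    simpa using e1
  have := congrArg (coeff d) hP0
  rw [coeff_map, coeff_zero] at this
  exact (Ideal.Quotient.eq_zero_iff_mem).mp this

end Groth.Agent.Lib.Helper18
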