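import Groth.Prelude.Def_CAlgX
import Groth.Agent.Lib.Helper18.QuasiReg
import Mathlib.RingTheory.MvPolynomial.Homogeneous
import Mathlib.Algebra.MvPolynomial.Equiv
import Mathlib.RingTheory.Regular.RegularSequence

/-! helper18: regular sequences are quasi-regular (`CAlgX.IsQuasiRegular`), Matsumura 16.2(i) for `M = A`;
generic lemmas on values of homogeneous polynomials at a sequence (`eval_mem_mul_pow`,
`exists_homogeneous_eval_eq`), colon lemma `mem_pow_of_mul_mem_pow`, step `isQuasiRegular_cons`,
main `isQuasiRegular_of_isWeaklyRegular`. -/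

set_option autoImplicit false
universe u
open MvPolynomial

namespace Groth.Agent.Lib.Helper18

section generic

variable {A : Type u} [CommRing A] {n : ℕ}

theorem prod_pow_mem_span_pow (g : Fin n → A) (d : Fin n →₀ ℕ) :
    ∏ i, g i ^ d i ∈ Ideal.span (Set.range g) ^ d.degree := by
  have : d.degree = ∑ i, d i := by
    rw [Finsupp.degree_eq_sum]
  rw [this, ← Finset.prod_pow_eq_pow_sum]
  exact Ideal.prod_mem_prod (fun i _ => Ideal.pow_mem_pow
    (Ideal.subset_span (Set.mem_range_self i)) _)

/-- (A3) -/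
theorem eval_mem_mul_pow (g : Fin n → A) (K : Ideal A) {m : ℕ} {F : MvPolynomial (Fin n) A}
    (hF : F.IsHomogeneous m) (hc : ∀ d, coeff d F ∈ K) :
    eval g F ∈ K * Ideal.span (Set.range g) ^ m := by
  rw [eval_eq']
  refine Ideal.sum_mem _ (fun d hd => ?_)
  have hd' : d.degree = m := by
    rw [Finsupp.degree_eq_weight_one]
    exact hF (mem_support_iff.mp hd)
  rw [← hd']
  exact Ideal.mul_mem_mul (hc d) (prod_pow_mem_span_pow g d)

theorem eval_mem_pow (g : Fin n → A) {m : ℕ} {F : MvPolynomial (Fin n) A}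
    (hF : F.IsHomogeneous m) : eval g F ∈ Ideal.span (Set.range g) ^ m := by
  have := eval_mem_mul_pow g ⊤ hF (fun _ => Submodule.mem_top)
  rwa [Ideal.top_mul] at this

/-- (A1''') -/
theorem exists_homogeneous_eval_eq (g : Fin n → A) (K : Ideal A) (m : ℕ) {y : A}
    (hy : y ∈ K * Ideal.span (Set.range g) ^ m) :
    ∃ F : MvPolynomial (Fin n) A, F.IsHomogeneous m ∧ (∀ d, coeff d F ∈ K) ∧ eval g F = y := by
  induction m generalizing K y with
  | zero =>
    rw [pow_zero, mul_one] at hy
    refine ⟨C y, isHomogeneous_C _ _, fun d => ?_, by simp⟩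
    rw [coeff_C]
    split_ifs
    · exact hy
    · exact K.zero_mem
  | succ m ih =>
    rw [pow_succ, ← mul_assoc] at hy
    refine Submodule.mul_induction_on hy ?_ ?_
    · intro z hz w hw
      obtain ⟨F, hF, hFc, hFe⟩ := ih K hz
      obtain ⟨c, hc⟩ := (Ideal.mem_span_range_iff_exists_fun).mp hw
      refine ⟨F * ∑ i, C (c i) * X i, hF.mul (IsHomogeneous.sum _ _ _
        (fun i _ => isHomogeneous_C_mul_X _ _)), fun d => ?_, ?_⟩
      · rw [Finset.mul_sum, coeff_sum]
        refine Ideal.sum_mem _ (fun i _ => ?_)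
        rw [← mul_assoc, mul_comm F, mul_assoc, coeff_C_mul]
        refine Ideal.mul_mem_left _ _ ?_
        rw [coeff_mul_X']
        split_ifs
        · exact hFc _
        · exact K.zero_mem
      · simp [hFe, hc]
    · rintro y₁ y₂ ⟨F₁, h₁, c₁, e₁⟩ ⟨F₂, h₂, c₂, e₂⟩
      exact ⟨F₁ + F₂, h₁.add h₂, fun d => by rw [coeff_add]; exact K.add_mem (c₁ d) (c₂ d),
        by simp [e₁, e₂]⟩

theorem exists_homogeneous_eval_eq_of_mem_pow (g : Fin n → A) (m : ℕ) {y : A}
    (hy : y ∈ Ideal.span (Set.range g) ^ m) :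
    ∃ F : MvPolynomial (Fin n) A, F.IsHomogeneous m ∧ eval g F = y := by
  obtain ⟨F, hF, -, hFe⟩ := exists_homogeneous_eval_eq g ⊤ m (by rwa [Ideal.top_mul])
  exact ⟨F, hF, hFe⟩

/-- Step A: it is enough to treat polynomials vanishing at `g`. -/
theorem isQuasiRegular_of_eval_eq_zero (g : Fin n → A)
    (h : ∀ (m : ℕ) (F : MvPolynomial (Fin n) A), F.IsHomogeneous m → eval g F = 0 →
      ∀ d, coeff d F ∈ Ideal.span (Set.range g)) : CAlgX.IsQuasiRegular g := by
  intro m F hF hFe d
  rw [pow_succ'] at hFe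
  obtain ⟨G, hG, hGc, hGe⟩ := exists_homogeneous_eval_eq g _ m hFe
  have := h m (F - G) (hF.sub hG) (by rw [map_sub, hGe, sub_self]) d
  rw [coeff_sub] at this
  have h2 := Ideal.add_mem _ this (hGc d)
  rwa [sub_add_cancel] at h2

/-- Step A, degree-wise. -/
theorem coeff_mem_of_eval_mem_pow_succ (g : Fin n → A) (m : ℕ)
    (h : ∀ (F : MvPolynomial (Fin n) A), F.IsHomogeneous m → eval g F = 0 →
      ∀ d, coeff d F ∈ Ideal.span (Set.range g))
    (F : MvPolynomial (Fin n) A) (hF : F.IsHomogeneous m)
    (hFe : eval g F ∈ Ideal.span (Set.range g) ^ (m + 1)) (d : Fin n →₀ ℕ) :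
    coeff d F ∈ Ideal.span (Set.range g) := by
  rw [pow_succ'] at hFe
  obtain ⟨G, hG, hGc, hGe⟩ := exists_homogeneous_eval_eq g _ m hFe
  have := h (F - G) (hF.sub hG) (by rw [map_sub, hGe, sub_self]) d
  rw [coeff_sub] at this
  have h2 := Ideal.add_mem _ this (hGc d)
  rwa [sub_add_cancel] at h2

end generic

section step

variable {A : Type u} [CommRing A] {n : ℕ}

/-- colon lemma: `J^m : x = J^m` for a quasi-regular `g` and `x` regular modulo `J = (g)`. -/
theorem mem_pow_of_mul_mem_pow (g : Fin n → A) (hg : CAlgX.IsQuasiRegular g) (x : A)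
    (hx : ∀ y, x * y ∈ Ideal.span (Set.range g) → y ∈ Ideal.span (Set.range g)) :
    ∀ (m : ℕ) (y : A), x * y ∈ Ideal.span (Set.range g) ^ m →
      y ∈ Ideal.span (Set.range g) ^ m := by
  intro m
  induction m with
  | zero => intro y _; simp
  | succ m ih =>
    intro y hy
    have h1 : y ∈ Ideal.span (Set.range g) ^ m := ih y (Ideal.pow_le_pow_right (Nat.le_succ m) hy)
    obtain ⟨F, hF, hFe⟩ := exists_homogeneous_eval_eq_of_mem_pow g m h1
    have hxF : (C x * F).IsHomogeneous m := by
      have := (isHomogeneous_C (Fin n) x).mul hF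
      rwa [zero_add] at this
    have h2 : ∀ d, coeff d (C x * F) ∈ Ideal.span (Set.range g) :=
      hg m (C x * F) hxF (by rw [map_mul, eval_C, hFe]; exact hy)
    have h3 : ∀ d, coeff d F ∈ Ideal.span (Set.range g) := fun d => hx _ (by
      have := h2 d
      rwa [coeff_C_mul] at this)
    have := eval_mem_mul_pow g _ hF h3
    rwa [hFe, ← pow_succ'] at this

theorem weight_one_eq_degree {σ : Type*} (d : σ →₀ ℕ) :
    Finsupp.weight (1 : σ → ℕ) d = d.degree := by
  rw [Finsupp.degree_eq_weight_one]; rfl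

theorem degree_cons (m : Fin n →₀ ℕ) (i : ℕ) : (m.cons i).degree = i + m.degree := by
  rw [Finsupp.degree_eq_sum, Finsupp.degree_eq_sum, Fin.sum_univ_succ]
  simp

theorem isQuasiRegular_cons (g : Fin n → A) (hg : CAlgX.IsQuasiRegular g) (x : A)
    (hx : ∀ y, x * y ∈ Ideal.span (Set.range g) → y ∈ Ideal.span (Set.range g)) :
    CAlgX.IsQuasiRegular (Fin.cons x g : Fin (n + 1) → A) := by
  set a : Fin (n + 1) → A := Fin.cons x g with ha
  have hJI : Ideal.span (Set.range g) ≤ Ideal.span (Set.range a) := by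
    rw [Ideal.span_le]
    rintro _ ⟨i, rfl⟩
    exact Ideal.subset_span ⟨i.succ, by simp [ha]⟩
  have hxI : x ∈ Ideal.span (Set.range a) := Ideal.subset_span ⟨0, by simp [ha]⟩
  intro ν
  induction ν with
  | zero =>
    intro F hF hFe d
    by_cases hF0 : F = 0
    · simp [hF0]
    · have htd := hF.totalDegree hF0
      rw [totalDegree_eq_zero_iff_eq_C] at htd
      rw [htd, eval_C, zero_add, pow_one] at hFe
      rw [htd, coeff_C]
      split_ifs
      · exact hFe
      · exact Ideal.zero_mem _
  | succ ν ih =>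
    apply coeff_mem_of_eval_mem_pow_succ a (ν + 1)
    intro F hF hFe d
    set p := finSuccEquiv A n F with hp
    set G := p.coeff 0 with hGdef
    set H := (finSuccEquiv A n).symm p.divX with hHdef
    have hpH : finSuccEquiv A n H = p.divX := by simp [hHdef]
    have hG : G.IsHomogeneous (ν + 1) := hF.finSuccEquiv_coeff_isHomogeneous 0 (ν + 1) (zero_add _)
    have hcoeffH : ∀ (m : Fin n →₀ ℕ) (k : ℕ), coeff (m.cons k) H = coeff (m.cons (k + 1)) F := by
      intro m k
      rw [← finSuccEquiv_coeff_coeff, hpH, Polynomial.coeff_divX, hp,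
        finSuccEquiv_coeff_coeff]
    have hH : H.IsHomogeneous ν := by
      intro e he
      rw [← Finsupp.cons_tail e, hcoeffH] at he
      have := hF he
      rw [weight_one_eq_degree] at this ⊢
      rw [degree_cons] at this
      rw [← Finsupp.cons_tail e, degree_cons]
      omega
    have hevalH : eval a H = Polynomial.eval x (Polynomial.map (eval g) p.divX) := by
      rw [ha, eval_eq_eval_mv_eval', hpH]
    have hevalF : eval a F = eval a H * x + eval g G := by
      rw [ha, eval_eq_eval_mv_eval' g x F, ← hp, ← ha, hevalH]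
      conv_lhs => rw [← Polynomial.divX_mul_X_add p]
      simp [hGdef]
    have h1 : x * eval a H ∈ Ideal.span (Set.range g) ^ (ν + 1) := by
      have : x * eval a H = - eval g G := by
        rw [hFe] at hevalF
        linear_combination -hevalF
      rw [this]
      exact Ideal.neg_mem_iff _ |>.mpr (eval_mem_pow g hG)
    have h2 : eval a H ∈ Ideal.span (Set.range g) ^ (ν + 1) :=
      mem_pow_of_mul_mem_pow g hg x hx _ _ h1
    have hHc : ∀ e, coeff e H ∈ Ideal.span (Set.range a) :=
      ih H hH (Ideal.pow_right_mono hJI _ h2)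
    obtain ⟨h, hh, hhe⟩ := exists_homogeneous_eval_eq_of_mem_pow g (ν + 1) h2
    have hxh : (C x * h).IsHomogeneous (ν + 1) := by
      have := (isHomogeneous_C (Fin n) x).mul hh
      rwa [zero_add] at this
    have h3 : ∀ e, coeff e (G + C x * h) ∈ Ideal.span (Set.range g) := by
      apply hg (ν + 1) (G + C x * h) (hG.add hxh)
      have : eval g (G + C x * h) = 0 := by
        rw [map_add, map_mul, eval_C, hhe, ← hFe, hevalF]; ring
      rw [this]
      exact Ideal.zero_mem _
    have hGc : ∀ e, coeff e G ∈ Ideal.span (Set.range a) := by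
      intro e
      have h4 := hJI (h3 e)
      rw [coeff_add, coeff_C_mul] at h4
      have h5 := Ideal.sub_mem _ h4 (Ideal.mul_mem_right (coeff e h) _ hxI)
      rwa [add_sub_cancel_right] at h5
    rw [← Finsupp.cons_tail d]
    rcases Nat.eq_zero_or_eq_succ_pred (d 0) with h0 | h0
    · rw [h0, ← finSuccEquiv_coeff_coeff]
      exact hGc _
    · rw [h0, Nat.succ_eq_add_one, ← hcoeffH]
      exact hHc _

end step

section main

variable {A : Type u} [CommRing A]

theorem ofList_ofFn {c : ℕ} (f : Fin c → A) :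
    Ideal.ofList (List.ofFn f) = Ideal.span (Set.range f) := by
  unfold Ideal.ofList
  congr 1
  ext y
  simp [List.mem_ofFn]

/-- regularity modulo an ideal, unfolded -/
theorem mul_mem_of_isSMulRegular_quotient (J : Ideal A) (x : A)
    (h : IsSMulRegular (A ⧸ (J • ⊤ : Submodule A A)) x) (y : A) (hy : x * y ∈ J) : y ∈ J := by
  have e : (J • ⊤ : Submodule A A) = J := by
    simp
  have h0 : x • (Submodule.Quotient.mk y : A ⧸ (J • ⊤ : Submodule A A)) = x • 0 := by
    rw [← Submodule.Quotient.mk_smul, smul_zero, Submodule.Quotient.mk_eq_zero, e]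
    exact hy
  have := h h0
  rwa [Submodule.Quotient.mk_eq_zero, e] at this

theorem isQuasiRegular_of_isEmpty (f : Fin 0 → A) : CAlgX.IsQuasiRegular f := by
  intro m
  apply coeff_mem_of_eval_mem_pow_succ f m
  intro F hF hFe d
  rw [eq_C_of_isEmpty F, eval_C] at hFe
  rw [eq_C_of_isEmpty F, hFe]
  simp

/-- **Regular sequences are quasi-regular** (Matsumura 16.2 (i), case `M = A`). -/
theorem isQuasiRegular_of_isWeaklyRegular : ∀ (c : ℕ) (f : Fin c → A),
    RingTheory.Sequence.IsWeaklyRegular A (List.ofFn f) → CAlgX.IsQuasiRegular f := by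
  intro c
  induction c with
  | zero => intro f _; exact isQuasiRegular_of_isEmpty f
  | succ c ih =>
    intro f hf
    rw [List.ofFn_succ', List.concat_eq_append,
      RingTheory.Sequence.isWeaklyRegular_append_iff,
      RingTheory.Sequence.isWeaklyRegular_singleton_iff, ofList_ofFn] at hf
    obtain ⟨hf1, hf2⟩ := hf
    have hg := ih _ hf1
    have hx := mul_mem_of_isSMulRegular_quotient _ _ hf2
    have hcons := isQuasiRegular_cons (fun i => f i.castSucc) hg (f (Fin.last c)) hx
    refine isQuasiRegular_of_span_eq _ f hcons ?_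
    apply le_antisymm
    · rw [Ideal.span_le]
      rintro _ ⟨i, rfl⟩
      refine Fin.lastCases ?_ (fun j => ?_) i
      · exact Ideal.subset_span ⟨0, by simp⟩
      · exact Ideal.subset_span ⟨j.succ, by simp⟩
    · rw [Ideal.span_le]
      rintro _ ⟨i, rfl⟩
      refine Fin.cases ?_ (fun j => ?_) i
      · exact Ideal.subset_span ⟨Fin.last c, by simp⟩
      · exact Ideal.subset_span ⟨j.castSucc, by simp⟩

end main

end Groth.Agent.Lib.Helper18
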