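import Mathlib.AlgebraicGeometry.IdealSheaf.Functorial

/-!
# A local formula for the inverse image of an ideal sheaf

`ideal_comap_of_le`: for `f : X ⟶ Y`, `K : Y.IdealSheafData`, affine opens `U ⊆ X`, `V ⊆ Y`
with `U ≤ f ⁻¹ᵁ V`, `(K.comap f).ideal U` is the extension of `K.ideal V` along `f.appLE V U`.
-/

universe u
open CategoryTheory CategoryTheory.Limits AlgebraicGeometry

namespace Groth.Agent.Lib.Helper18

variable {X Y : Scheme.{u}}

/-- Affine case: the ideal of global sections of a pulled-back ideal sheaf. -/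
theorem ideal_comap_top_of_isAffine [IsAffine X] [IsAffine Y] (f : X ⟶ Y) (K : Y.IdealSheafData) :
    (K.comap f).ideal ⟨⊤, isAffineOpen_top X⟩ =
      (K.ideal ⟨⊤, isAffineOpen_top Y⟩).map f.appTop.hom := by
  have hmap : ∀ L : X.IdealSheafData, (L.map f).ideal ⟨⊤, isAffineOpen_top Y⟩ =
      (L.ideal ⟨⊤, isAffineOpen_top X⟩).comap f.appTop.hom := by
    intro L
    exact Scheme.IdealSheafData.ideal_map_of_isAffineHom L f ⟨⊤, isAffineOpen_top Y⟩
  apply le_antisymm
  · set L : X.IdealSheafData := Scheme.IdealSheafData.ofIdealTop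
      ((K.ideal ⟨⊤, isAffineOpen_top Y⟩).map f.appTop.hom) with hL
    have hLtop : L.ideal ⟨⊤, isAffineOpen_top X⟩ =
        (K.ideal ⟨⊤, isAffineOpen_top Y⟩).map f.appTop.hom := by
      have := (Scheme.IdealSheafData.equivOfIsAffine (X := X)).apply_symm_apply
        ((K.ideal ⟨⊤, isAffineOpen_top Y⟩).map f.appTop.hom)
      exact this
    have h1 : K ≤ L.map f := by
      apply Scheme.IdealSheafData.le_of_isAffine
      rw [hmap, hLtop]
      exact Ideal.le_comap_map
    have h2 : K.comap f ≤ L := Scheme.IdealSheafData.le_map_iff_comap_le.mp h1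
    rw [← hLtop]
    exact h2 _
  · rw [Ideal.map_le_iff_le_comap, ← hmap]
    exact (Scheme.IdealSheafData.le_map_comap K f) _

/-- Restriction of an ideal sheaf to an affine open, read on global sections. -/
theorem ideal_comap_ι_top (I : X.IdealSheafData) (U : X.affineOpens) :
    haveI : IsAffine (U.1 : Scheme.{u}) := U.2
    (I.comap U.1.ι).ideal ⟨⊤, isAffineOpen_top (U.1 : Scheme.{u})⟩ =
      (I.ideal U).map U.1.topIso.inv.hom := by
  have : IsAffine (U.1 : Scheme.{u}) := U.2
  rw [Scheme.IdealSheafData.ideal_comap_of_isOpenImmersion]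
  have hU : U.1.ι ''ᵁ ⊤ = U.1 := U.1.ι_image_top
  have h := I.map_ideal'
    (U := ⟨U.1.ι ''ᵁ ⊤, (isAffineOpen_top (U.1 : Scheme.{u})).image_of_isOpenImmersion U.1.ι⟩)
    (V := U) (eqToHom (congrArg Opposite.op hU.symm))
  rw [← h]
  simp only [Scheme.Opens.ι_appIso, Iso.refl_inv]
  refine (Ideal.comap_id (Ideal.map (CommRingCat.Hom.hom
    (X.presheaf.map (eqToHom (congrArg Opposite.op hU.symm)))) (I.ideal U))).trans ?_
  congr 2
  simp only [Scheme.Opens.topIso_inv]
  congr 1
  rw [eqToHom_op]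

/-- **Local formula for the inverse image ideal sheaf**: on an affine open `U` mapping into an
affine open `V`, `(K.comap f).ideal U` is generated by the image of `K.ideal V`. -/
theorem ideal_comap_of_le (f : X ⟶ Y) (K : Y.IdealSheafData) (U : X.affineOpens)
    (V : Y.affineOpens) (e : U.1 ≤ f ⁻¹ᵁ V.1) :
    (K.comap f).ideal U = (K.ideal V).map (f.appLE V.1 U.1 e).hom := by
  have : IsAffine (U.1 : Scheme.{u}) := U.2
  have : IsAffine (V.1 : Scheme.{u}) := V.2
  have h1 : (K.comap f).comap U.1.ι = (K.comap V.1.ι).comap (f.resLE V.1 U.1 e) := by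
    rw [← Scheme.IdealSheafData.comap_comp, ← Scheme.IdealSheafData.comap_comp,
      Scheme.Hom.resLE_comp_ι]
  have h2 := congrArg (fun L => L.ideal ⟨⊤, isAffineOpen_top _⟩) h1
  simp only at h2
  rw [ideal_comap_ι_top, ideal_comap_top_of_isAffine, ideal_comap_ι_top, Ideal.map_map] at h2
  have h3 := congrArg (Ideal.map U.1.topIso.hom.hom) h2
  rw [Ideal.map_map, Ideal.map_map] at h3
  have e1 : (CommRingCat.Hom.hom U.1.topIso.hom).comp (CommRingCat.Hom.hom U.1.topIso.inv) =
      RingHom.id _ := by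
    rw [← CommRingCat.hom_comp, Iso.inv_hom_id]; rfl
  have e2 : (CommRingCat.Hom.hom U.1.topIso.hom).comp
      ((CommRingCat.Hom.hom (Scheme.Hom.appTop (Scheme.Hom.resLE f V.1 U.1 e))).comp
        (CommRingCat.Hom.hom V.1.topIso.inv)) = (f.appLE V.1 U.1 e).hom := by
    rw [← CommRingCat.hom_comp, ← CommRingCat.hom_comp]
    congr 1
    rw [Scheme.Hom.appTop, Scheme.Hom.resLE_app_top]
    simp only [Category.assoc, Iso.inv_hom_id_assoc, Iso.inv_hom_id, Category.comp_id]
  rw [e1, e2, Ideal.map_id] at h3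
  exact h3

/-- Affine opens of `X` mapping into some affine open of `Y` cover `X`. -/
theorem exists_affineOpens_le_preimage (f : X ⟶ Y) (x : X) :
    ∃ (U : X.affineOpens) (V : Y.affineOpens), x ∈ U.1 ∧ U.1 ≤ f ⁻¹ᵁ V.1 := by
  obtain ⟨V, hV, hxV, -⟩ := TopologicalSpace.Opens.isBasis_iff_nbhd.mp Y.isBasis_affineOpens
    (show f x ∈ (⊤ : Y.Opens) from trivial)
  obtain ⟨U, hU, hxU, hUV⟩ := TopologicalSpace.Opens.isBasis_iff_nbhd.mp X.isBasis_affineOpens
    (show x ∈ f ⁻¹ᵁ V from hxV)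
  exact ⟨⟨U, hU⟩, ⟨V, hV⟩, hxU, hUV⟩

/-- Two ideal sheaves on `X` agree as soon as they agree on every affine open of `X` that maps
into an affine open of `Y`. -/
theorem ext_of_le_preimage (f : X ⟶ Y) {I J : X.IdealSheafData}
    (H : ∀ (U : X.affineOpens) (V : Y.affineOpens), U.1 ≤ f ⁻¹ᵁ V.1 → I.ideal U = J.ideal U) :
    I = J := by
  refine Scheme.IdealSheafData.ext_of_iSup_eq_top
    (ι := {p : X.affineOpens × Y.affineOpens // p.1.1 ≤ f ⁻¹ᵁ p.2.1}) (fun p => p.1.1) ?_
    (fun p => H p.1.1 p.1.2 p.2)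
  rw [eq_top_iff]
  intro x _
  obtain ⟨U, V, hxU, hUV⟩ := exists_affineOpens_le_preimage f x
  exact TopologicalSpace.Opens.mem_iSup.mpr ⟨⟨(U, V), hUV⟩, hxU⟩

/-- The inverse image of a product of ideal sheaves is the product of the inverse images. -/
theorem comap_mul (f : X ⟶ Y) (K₁ K₂ : Y.IdealSheafData) :
    (K₁ * K₂).comap f = K₁.comap f * K₂.comap f := by
  refine ext_of_le_preimage f (fun U V e => ?_)
  rw [Scheme.IdealSheafData.ideal_mul, Pi.mul_apply, ideal_comap_of_le f _ U V e,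
    ideal_comap_of_le f _ U V e, ideal_comap_of_le f _ U V e,
    Scheme.IdealSheafData.ideal_mul, Pi.mul_apply, Ideal.map_mul]

end Groth.Agent.Lib.Helper18
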