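import Mathlib
/-!
# Finitely presented approximation of a module, locally finitely presented on some basic opens

Pure commutative algebra used for extending finitely presented quasi-coherent modules
(Stacks 01PE): if `M_f` is finitely presented over `R_f` for finitely many `f`, there is a finitely
presented `R`-module `M'` with a map `M' → M` which becomes bijective after inverting each `f`.
-/
universe u
open Submodule

namespace Groth.Agent.Lib.Helper18.FPAlg

section single

variable {R : Type*} [CommRing R] {M : Type*} [AddCommGroup M] [Module R M] (f : R)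
  (Rf : Type*) [CommRing Rf] [Algebra R Rf] [IsLocalization.Away f Rf]
  {Mf : Type*} [AddCommGroup Mf] [Module R Mf] [Module Rf Mf] [IsScalarTower R Rf Mf]
  (g : M →ₗ[R] Mf) [IsLocalizedModule (Submonoid.powers f) g]

include Rf in
theorem exists_pow_smul_mem_of_mem_localized' (N : Submodule R M) (m : M)
    (h : g m ∈ N.localized' Rf (Submonoid.powers f) g) : ∃ k : ℕ, f ^ k • m ∈ N := by
  obtain ⟨x, hx, s, hs⟩ := h
  rw [IsLocalizedModule.mk'_eq_iff] at hs
  -- `g x = s • g m`
  have h1 : g x = g ((s : R) • m) := by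
    rw [hs, map_smul]; rfl
  obtain ⟨c, hc⟩ := IsLocalizedModule.exists_of_eq (S := Submonoid.powers f) h1
  obtain ⟨a, ha⟩ := c.2
  obtain ⟨b, hb⟩ := s.2
  refine ⟨a + b, ?_⟩
  have h2 : f ^ (a + b) • m = (c : R) • x := by
    have : (c : R) • x = (c : R) • ((s : R) • m) := hc
    rw [this, pow_add, mul_smul, ← ha, ← hb]
  rw [h2]
  exact N.smul_mem _ hx

theorem exists_finset_localized'_eq (N : Submodule R M)
    (h : (N.localized' Rf (Submonoid.powers f) g).FG) :
    ∃ t : Finset M, (↑t : Set M) ⊆ N ∧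
      N.localized' Rf (Submonoid.powers f) g ≤
        (span R (t : Set M)).localized' Rf (Submonoid.powers f) g := by
  classical
  obtain ⟨Z, hZ⟩ := h
  have hz : ∀ z ∈ Z, ∃ x ∈ N, ∃ s : Submonoid.powers f, IsLocalizedModule.mk' g x s = z := by
    intro z hz
    have : z ∈ N.localized' Rf (Submonoid.powers f) g := by
      rw [← hZ]; exact subset_span hz
    exact this
  choose! x hxN s hs using hz
  refine ⟨Z.image x, ?_, ?_⟩
  · intro y hy
    simp only [Finset.coe_image, Set.mem_image, Finset.mem_coe] at hy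
    obtain ⟨z, hz, rfl⟩ := hy
    exact hxN z hz
  · rw [← hZ, span_le]
    intro z hz
    refine ⟨x z, subset_span ?_, s z, hs z hz⟩
    simp only [Finset.coe_image, Set.mem_image, Finset.mem_coe]
    exact ⟨z, hz, rfl⟩

include Rf g in
/-- If `M_f` is a finite `R_f`-module, finitely many elements of `M` generate `M` up to powers of
`f`. -/
theorem exists_finset_span_of_finite [Module.Finite Rf Mf] :
    ∃ t : Finset M, ∀ m : M, ∃ k : ℕ, f ^ k • m ∈ span R (t : Set M) := by
  have h : ((⊤ : Submodule R M).localized' Rf (Submonoid.powers f) g).FG := by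
    rw [localized'_top]; exact Module.Finite.fg_top
  obtain ⟨t, -, ht⟩ := exists_finset_localized'_eq f Rf g ⊤ h
  refine ⟨t, fun m => exists_pow_smul_mem_of_mem_localized' f Rf g _ m (ht ?_)⟩
  rw [localized'_top]; trivial

include Rf g in
/-- If `M_f` is finitely presented over `R_f` and `φ : R^n → M` is surjective up to powers of `f`,
finitely many elements of `ker φ` generate `ker φ` up to powers of `f`. -/
theorem exists_finset_ker_of_finitePresentation [Module.FinitePresentation Rf Mf] {n : ℕ}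
    (φ : (Fin n → R) →ₗ[R] M) (hφ : ∀ m : M, ∃ (k : ℕ) (x : Fin n → R), f ^ k • m = φ x) :
    ∃ t : Finset (Fin n → R), (∀ x ∈ t, φ x = 0) ∧
      ∀ x, φ x = 0 → ∃ k : ℕ, f ^ k • x ∈ span R (t : Set (Fin n → R)) := by
  let S := Submonoid.powers f
  let gF : (Fin n → R) →ₗ[R] (Fin n → Rf) :=
    LinearMap.pi fun i => (Algebra.linearMap R Rf) ∘ₗ LinearMap.proj i
  have : IsLocalizedModule S gF := IsLocalizedModule.pi S (fun _ : Fin n => Algebra.linearMap R Rf)
  let φf : (Fin n → Rf) →ₗ[Rf] Mf :=
    (IsLocalizedModule.map S gF g φ).extendScalarsOfIsLocalization S Rf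
  have hsurj : Function.Surjective φf := by
    intro y
    obtain ⟨⟨m, s⟩, hy⟩ := IsLocalizedModule.surj S g y
    obtain ⟨k, x, hk⟩ := hφ m
    let c : S := ⟨f ^ k, k, rfl⟩
    refine ⟨IsLocalizedModule.mk' gF x (s * c), ?_⟩
    change IsLocalizedModule.map S gF g φ (IsLocalizedModule.mk' gF x (s * c)) = y
    rw [IsLocalizedModule.map_mk', ← hk]
    have : f ^ k • m = c • m := rfl
    rw [this, IsLocalizedModule.mk'_cancel_right, IsLocalizedModule.mk'_eq_iff]
    exact hy.symm
  have hker : (LinearMap.ker φf).FG := Module.FinitePresentation.fg_ker φf hsurj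
  have hloc : (LinearMap.ker φ).localized' Rf S gF = LinearMap.ker φf :=
    LinearMap.localized'_ker_eq_ker_localizedMap Rf S gF g φ
  rw [← hloc] at hker
  obtain ⟨t, htN, ht⟩ := exists_finset_localized'_eq f Rf gF (LinearMap.ker φ) hker
  refine ⟨t, fun x hx => htN hx, fun x hx => ?_⟩
  apply exists_pow_smul_mem_of_mem_localized' f Rf gF
  apply ht
  exact ⟨x, hx, 1, IsLocalizedModule.mk'_one _ _ _⟩

end single

/-- **Finitely presented approximation.** Let `M` be an `R`-module and `s` a finite set of elements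
of `R` such that `M_f` is a finitely presented `R_f`-module for `f ∈ s`. Then there are a finitely
generated submodule `K` of a finite free module `R^n` and a linear map `R^n/K → M` whose kernel and
cokernel are killed, elementwise, by powers of each `f ∈ s`. -/
theorem exists_fp_approx {R : Type*} [CommRing R] {M : Type*} [AddCommGroup M] [Module R M]
    (Rf : R → Type*) [∀ f, CommRing (Rf f)] [∀ f, Algebra R (Rf f)]
    [∀ f, IsLocalization.Away f (Rf f)]
    (Mf : R → Type*) [∀ f, AddCommGroup (Mf f)] [∀ f, Module R (Mf f)]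
    [∀ f, Module (Rf f) (Mf f)] [∀ f, IsScalarTower R (Rf f) (Mf f)]
    (g : ∀ f, M →ₗ[R] Mf f) [∀ f, IsLocalizedModule (Submonoid.powers f) (g f)]
    (s : Finset R) (hfp : ∀ f ∈ s, Module.FinitePresentation (Rf f) (Mf f)) :
    ∃ (n : ℕ) (K : Submodule R (Fin n → R)) (π : ((Fin n → R) ⧸ K) →ₗ[R] M), K.FG ∧
      ∀ f ∈ s, (∀ x, π x = 0 → ∃ k : ℕ, f ^ k • x = 0) ∧
        ∀ m, ∃ (k : ℕ) (x : (Fin n → R) ⧸ K), f ^ k • m = π x := by
  classical
  -- generators
  have h1 : ∀ f ∈ s, ∃ t : Finset M, ∀ m : M, ∃ k : ℕ, f ^ k • m ∈ span R (t : Set M) := by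
    intro f hf
    have := hfp f hf
    exact exists_finset_span_of_finite f (Rf f) (g f)
  choose! t ht using h1
  let T : Finset M := s.biUnion t
  let n := T.card
  let v : Fin n → M := fun i => (T.equivFin.symm i : M)
  let φ : (Fin n → R) →ₗ[R] M := Fintype.linearCombination R v
  have hrange : LinearMap.range φ = span R (T : Set M) := by
    rw [Fintype.range_linearCombination]
    congr 1
    ext m
    constructor
    · rintro ⟨i, rfl⟩; exact (T.equivFin.symm i).2
    · intro hm; exact ⟨T.equivFin ⟨m, hm⟩, by simp [v]⟩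
  have hφ : ∀ f ∈ s, ∀ m : M, ∃ (k : ℕ) (x : Fin n → R), f ^ k • m = φ x := by
    intro f hf m
    obtain ⟨k, hk⟩ := ht f hf m
    have : f ^ k • m ∈ LinearMap.range φ := by
      rw [hrange]
      refine span_mono ?_ hk
      intro y hy
      exact Finset.mem_biUnion.mpr ⟨f, hf, hy⟩
    obtain ⟨x, hx⟩ := this
    exact ⟨k, x, hx.symm⟩
  -- relations
  have h2 : ∀ f ∈ s, ∃ z : Finset (Fin n → R), (∀ x ∈ z, φ x = 0) ∧
      ∀ x, φ x = 0 → ∃ k : ℕ, f ^ k • x ∈ span R (z : Set (Fin n → R)) := by
    intro f hf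
    have := hfp f hf
    exact exists_finset_ker_of_finitePresentation f (Rf f) (g f) φ (hφ f hf)
  choose! z hz0 hz using h2
  let Z : Finset (Fin n → R) := s.biUnion z
  let K : Submodule R (Fin n → R) := span R (Z : Set (Fin n → R))
  have hK : K ≤ LinearMap.ker φ := by
    rw [span_le]
    intro x hx
    obtain ⟨f, hf, hxf⟩ := Finset.mem_biUnion.mp hx
    exact hz0 f hf x hxf
  refine ⟨n, K, K.liftQ φ hK, ⟨Z, rfl⟩, fun f hf => ⟨fun x hx => ?_, fun m => ?_⟩⟩
  · obtain ⟨x, rfl⟩ := K.mkQ_surjective x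
    have hx' : φ x = 0 := by simpa using hx
    obtain ⟨k, hk⟩ := hz f hf x hx'
    refine ⟨k, ?_⟩
    have : f ^ k • x ∈ K := by
      refine span_mono ?_ hk
      intro y hy
      exact Finset.mem_biUnion.mpr ⟨f, hf, hy⟩
    rw [mkQ_apply, ← Quotient.mk_smul, Quotient.mk_eq_zero]
    exact this
  · obtain ⟨k, x, hx⟩ := hφ f hf m
    exact ⟨k, K.mkQ x, by simpa using hx⟩

/-- A linear map between localizations away from `f`, induced by a linear map whose kernel and
cokernel are killed elementwise by powers of `f`, is bijective. -/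
theorem bijective_of_localized {R : Type*} [CommRing R] (f : R)
    {M' M M'f Mf : Type*} [AddCommGroup M'] [AddCommGroup M] [AddCommGroup M'f] [AddCommGroup Mf]
    [Module R M'] [Module R M] [Module R M'f] [Module R Mf]
    (a : M' →ₗ[R] M'f) (ρ : M →ₗ[R] Mf) [IsLocalizedModule (Submonoid.powers f) a]
    [IsLocalizedModule (Submonoid.powers f) ρ] (π : M' →ₗ[R] M) (Q : M'f →ₗ[R] Mf)
    (hQ : ∀ x, Q (a x) = ρ (π x))
    (hinj : ∀ x, π x = 0 → ∃ k : ℕ, f ^ k • x = 0)
    (hsurj : ∀ m, ∃ (k : ℕ) (x : M'), f ^ k • m = π x) : Function.Bijective Q := by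
  let S := Submonoid.powers f
  have hmk : ∀ (x : M') (c : S), Q (IsLocalizedModule.mk' a x c) =
      IsLocalizedModule.mk' ρ (π x) c := by
    intro x c
    symm
    rw [IsLocalizedModule.mk'_eq_iff, ← hQ]
    have : c • Q (IsLocalizedModule.mk' a x c) = Q (c • IsLocalizedModule.mk' a x c) := by
      rw [Submonoid.smul_def, Submonoid.smul_def, map_smul]
    rw [this, IsLocalizedModule.mk'_cancel']
  constructor
  · rw [injective_iff_map_eq_zero]
    intro y hy
    obtain ⟨⟨x, c⟩, rfl⟩ := IsLocalizedModule.mk'_surjective S a y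
    simp only [Function.uncurry_apply_pair] at hy ⊢
    rw [hmk, IsLocalizedModule.mk'_eq_zero'] at hy
    obtain ⟨c', hc'⟩ := hy
    have h1 : π ((c' : R) • x) = 0 := by rw [map_smul]; exact hc'
    obtain ⟨k, hk⟩ := hinj _ h1
    rw [IsLocalizedModule.mk'_eq_zero']
    refine ⟨⟨f ^ k, k, rfl⟩ * c', ?_⟩
    rw [Submonoid.smul_def, Submonoid.coe_mul, mul_smul]
    exact hk
  · intro z
    obtain ⟨⟨m, c⟩, rfl⟩ := IsLocalizedModule.mk'_surjective S ρ z
    obtain ⟨k, x, hk⟩ := hsurj m
    let d : S := ⟨f ^ k, k, rfl⟩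
    refine ⟨IsLocalizedModule.mk' a x (c * d), ?_⟩
    simp only [Function.uncurry_apply_pair]
    rw [hmk, ← hk]
    have : f ^ k • m = d • m := rfl
    rw [this, IsLocalizedModule.mk'_cancel_right]

end Groth.Agent.Lib.Helper18.FPAlg
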