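import Mathlib
import Groth.Agent.Lib.Helper18.FPAlg
import Groth.Agent.Lib.Helper45.FiniteType
import Groth.Agent.Lib.Helper49.FinitePresentation2
import Groth.Agent.Lib.Helper42.QCohAffineSections
import Groth.Agent.Lib.Helper49.StalkKerCoker

/-!
# Finitely presented approximation of a quasi-coherent module over an affine open

`exists_fp_tilde_approx`: if `H` is quasi-coherent on `X`, `V` is an affine open and `H` has finitely
presented sections over finitely many basic opens `D(f) ⊆ V`, then there is a finitely presented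
module on `Spec Γ(X, V)` mapping to `H|_V`, bijectively on stalks over the `D(f)`.
-/
universe u
open CategoryTheory CategoryTheory.Limits AlgebraicGeometry TopologicalSpace Opposite

namespace Groth.Agent.Lib.Helper18.FPM

open Groth.Agent.Lib.Helper49 Groth.Agent.Lib.Helper45

attribute [local instance] Groth.Agent.Lib.Helper45.sectionsBasicOpenModule

variable {X : Scheme.{u}}

set_option backward.isDefEq.respectTransparency false in
/-- On `Spec R`, a morphism from `M'^~` to a quasi-coherent module `N` induced by a linear map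
`M' → Γ(N)` whose kernel and cokernel are killed by powers of `f` is bijective on sections over
`D(f)`. -/
theorem app_basicOpen_bijective_of_tilde (R : CommRingCat.{u}) (N : (Spec R).Modules)
    [N.IsQuasicoherent] (M' : ModuleCat.{u} R)
    (π' : M' ⟶ (modulesSpecToSheaf.obj N).presheaf.obj (.op ⊤)) (f : R)
    (hinj : ∀ x, π'.hom x = 0 → ∃ k : ℕ, f ^ k • x = 0)
    (hsurj : ∀ m, ∃ (k : ℕ) (x : M'), f ^ k • m = π'.hom x) :
    Function.Bijective (((tilde.functor R).map π' ≫ N.fromTildeΓ).app (PrimeSpectrum.basicOpen f)) := by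
  let D : (Spec R).Opens := PrimeSpectrum.basicOpen f
  let ΓN := (modulesSpecToSheaf.obj N).presheaf.obj (.op ⊤)
  let a := (tilde.toOpen M' D).hom
  let G : (Spec R).Modules ⥤ ModuleCat R :=
    modulesSpecToSheaf ⋙ TopCat.Sheaf.forget _ _ ⋙ (evaluation _ _).obj (.op D)
  let B := G.map N.fromTildeΓ
  have hB0 : IsIso N.fromTildeΓ := inferInstance
  have hB : IsIso B := Functor.map_isIso G N.fromTildeΓ
  let e := (asIso B).toLinearEquiv
  let ρ := e.toLinearMap ∘ₗ (tilde.toOpen ΓN D).hom
  have hρloc : IsLocalizedModule (Submonoid.powers f) ρ :=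
    IsLocalizedModule.of_linearEquiv (Submonoid.powers f) (tilde.toOpen ΓN D).hom e
  let pt := (tilde.functor R).map π' ≫ N.fromTildeΓ
  let Q := (G.map pt).hom
  have hQ : ∀ x, Q (a x) = ρ (π'.hom x) := by
    intro x
    have h0 : tilde.toOpen M' D ≫ G.map ((tilde.functor R).map π') = π' ≫ tilde.toOpen ΓN D :=
      tilde.toOpen_map_app π' D
    have h1 : tilde.toOpen M' D ≫ G.map pt = π' ≫ tilde.toOpen ΓN D ≫ B := by
      simp only [pt, B, Functor.map_comp]
      rw [← Category.assoc, h0, Category.assoc]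
    exact congrFun (congrArg (fun t => ⇑(ModuleCat.Hom.hom t)) h1) x
  have hbij : Function.Bijective Q :=
    FPAlg.bijective_of_localized f a ρ π'.hom Q hQ hinj hsurj
  exact hbij

set_option backward.isDefEq.respectTransparency false in
/-- **Affine case.** Let `H` be quasi-coherent on `X`, `V` an affine open and `s` a finite set of
functions on `V` such that `H` has finitely presented sections over each `D(f)`, `f ∈ s`. Then there
is a finitely presented module `N'` on `Spec Γ(X, V)` with a map to `H|_V` which is bijective on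
stalks at all points of the `D(f)`. -/
theorem exists_fp_tilde_approx (H : X.Modules) [H.IsQuasicoherent] {V : X.Opens}
    (hV : IsAffineOpen V) (s : Finset Γ(X, V))
    (hfp : ∀ f ∈ s, Module.FinitePresentation Γ(X, X.basicOpen f) Γ(H, X.basicOpen f)) :
    ∃ (N' : (Spec Γ(X, V)).Modules) (π : N' ⟶ H.restrict hV.fromSpec),
      SheafOfModules.IsFinitePresentation (R := (Spec Γ(X, V)).ringCatSheaf) N' ∧
      N'.IsQuasicoherent ∧
      ∀ f ∈ s, ∀ x : Spec Γ(X, V), x ∈ PrimeSpectrum.basicOpen f →
        Function.Bijective (Helper49.stalkMap π x).hom := by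
  have : ∀ f : Γ(X, V), IsLocalization.Away f Γ(X, X.basicOpen f) :=
    fun f => hV.isLocalization_basicOpen f
  have : ∀ f : Γ(X, V), IsLocalizedModule (Submonoid.powers f) (restrictBasicOpenₗ H f) :=
    fun f => isLocalizedModule_restrictBasicOpenₗ hV H f
  obtain ⟨n, K, π₀, hK, hπ⟩ := FPAlg.exists_fp_approx (R := Γ(X, V)) (M := Γ(H, V))
    (fun f => Γ(X, X.basicOpen f)) (fun f => Γ(H, X.basicOpen f))
    (fun f => restrictBasicOpenₗ H f) s hfp
  let N : (Spec Γ(X, V)).Modules := H.restrict hV.fromSpec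
  have hN : N.IsQuasicoherent := Scheme.Modules.isQuasicoherent_restrictFunctor _ _
  let M' : ModuleCat.{u} Γ(X, V) := ModuleCat.of Γ(X, V) ((Fin n → Γ(X, V)) ⧸ K)
  have hM' : Module.FinitePresentation Γ(X, V) M' :=
    Module.finitePresentation_of_surjective K.mkQ (Submodule.mkQ_surjective K)
      (by rw [Submodule.ker_mkQ]; exact hK)
  let e := sectionsFromSpecTopEquiv hV H
  let ΓN : ModuleCat.{u} Γ(X, V) := (modulesSpecToSheaf.obj N).presheaf.obj (.op ⊤)
  let π'' : ((Fin n → Γ(X, V)) ⧸ K) →ₗ[Γ(X, V)] ΓN := e.symm.toLinearMap ∘ₗ π₀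
  let π' : M' ⟶ ΓN := ModuleCat.ofHom (Y := ΓN) π''
  have hqc : ((tilde.functor Γ(X, V)).obj M').IsQuasicoherent := inferInstance
  refine ⟨(tilde.functor Γ(X, V)).obj M', (tilde.functor Γ(X, V)).map π' ≫ N.fromTildeΓ,
    (isFinitePresentation_tilde_iff Γ(X, V) M').mpr hM', hqc, fun f hf x hx => ?_⟩
  have hbij := app_basicOpen_bijective_of_tilde Γ(X, V) N M' π' f ?_ ?_
  · have hD : IsAffineOpen (X := Spec Γ(X, V)) (PrimeSpectrum.basicOpen f) :=
      IsAffineOpen.Spec_basicOpen f
    exact Groth.Agent.Lib.Helper42.stalkMap_bijective_of_app_bijective _ hD ⟨x, hx⟩ hbij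
  · intro y hy
    have h1 : π₀ y = 0 := by
      have : e.symm (π₀ y) = 0 := hy
      simpa using this
    exact (hπ f hf).1 y h1
  · intro m
    obtain ⟨k, y, hy⟩ := (hπ f hf).2 (e m)
    refine ⟨k, y, ?_⟩
    change f ^ k • m = e.symm (π₀ y)
    rw [← hy, map_smul, LinearEquiv.symm_apply_apply]

end Groth.Agent.Lib.Helper18.FPM
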