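import Groth.Agent.Lib.Helper18.LSubRestrict

/-!
# The canonical extension of a quasi-coherent submodule along a quasi-compact open immersion

Shared library of helper18 (namespace `Groth.Agent.Lib.Helper18.LSubM`).
For a quasi-compact open immersion `j : Y ⟶ X`, a quasi-coherent `F` on `X` and a monomorphism
`i : G ⟶ F|_Y` with `G` quasi-coherent, the canonical extension `(ofMono i).toModules ⊆ F` is
quasi-coherent and restricts to `G` (EGA I 9.4.2). `exists_qcoh_extension_with_map` is the version
for arbitrary maps `φ : G ⟶ F|_Y`.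
-/

set_option autoImplicit false
universe u v
open CategoryTheory CategoryTheory.Limits AlgebraicGeometry TopologicalSpace Opposite
open Groth.Agent.Lib.Helper49 Groth.Agent.Lib.Helper45

namespace Groth.Agent.Lib.Helper18.LSubM

variable {X Y : Scheme.{u}} {j : Y ⟶ X} [IsOpenImmersion j] {F : X.Modules} {G : Y.Modules}
  (i : G ⟶ F.restrict j)

/-- The canonical extension of a quasi-coherent submodule is good on the images of the affine opens
of `Y`. -/
theorem ofMono_good [Mono i] [G.IsQuasicoherent]
    (hF : ∀ T : X.Opens, IsAffineOpen T → IsLocalizingOn F T)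
    {T' : Y.Opens} (hT' : IsAffineOpen T') : (ofMono i).Good (j ''ᵁ T') := by
  obtain ⟨e, -⟩ := exists_restrict_iso i (ofMono i) (fun _ _ => rfl)
  have hq : ((ofMono i).toModules.restrict j).IsQuasicoherent := isQuasicoherent_of_iso e.symm ‹_›
  have hTaff : IsAffineOpen (j ''ᵁ T') := hT'.image_of_isOpenImmersion j
  apply LSub.good_of_isLocalizingOn _ (hF _ hTaff)
  apply isLocalizingOn_of_restrict j
  exact isLocalizingOn_of_isQuasicoherent hT' _

/-- For a quasi-compact open immersion the canonical extension is good on every affine open. -/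
theorem ofMono_good_of_quasiCompact [QuasiCompact j] [Mono i] [G.IsQuasicoherent]
    (hF : ∀ T : X.Opens, IsAffineOpen T → IsLocalizingOn F T)
    {T : X.Opens} (hT : IsAffineOpen T) : (ofMono i).Good T := by
  apply (ofMono_sat i).good
  have hc : IsCompact ((T ⊓ j.opensRange : X.Opens) : Set X) := by
    have h1 : IsCompact (j ⁻¹' (T : Set X)) :=
      QuasiCompact.isCompact_preimage (f := j) _ T.2 hT.isCompact
    have h2 := h1.image j.continuous
    rw [Set.image_preimage_eq_inter_range] at h2
    exact h2
  refine LSub.Good.of_cover _ hc ?_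
  rintro x ⟨hxT, y, rfl⟩
  obtain ⟨_, ⟨T', hT', rfl⟩, hyT', hT'le⟩ :=
    Y.isBasis_affineOpens.exists_subset_of_mem_open (show y ∈ j ⁻¹ᵁ T from hxT) (j ⁻¹ᵁ T).2
  refine ⟨j ''ᵁ T', le_inf ?_ (j.image_le_opensRange T'), ⟨y, hyT', rfl⟩, ofMono_good i hF hT'⟩
  exact (j.image_mono hT'le).trans (j.image_preimage_le T)

/-- EGA I 9.4.2: the canonical extension along a quasi-compact open immersion of a quasi-coherent
submodule of `F|_Y` is a quasi-coherent submodule of `F` restricting to the given one. -/
theorem exists_canonical_extension [QuasiCompact j] [F.IsQuasicoherent] [Mono i]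
    [G.IsQuasicoherent] :
    ∃ (H : X.Modules) (ψ : H ⟶ F) (e : H.restrict j ≅ G), Mono ψ ∧ H.IsQuasicoherent ∧
      e.hom ≫ i = (Scheme.Modules.restrictFunctor j).map ψ := by
  have hF : ∀ T : X.Opens, IsAffineOpen T → IsLocalizingOn F T :=
    fun T hT => isLocalizingOn_of_isQuasicoherent hT F
  obtain ⟨e, he⟩ := exists_restrict_iso i (ofMono i) (fun _ _ => rfl)
  have hq : (ofMono i).toModules.IsQuasicoherent := by
    refine (ofMono i).isQuasicoherent_toModules hF {T | IsAffineOpen T} (fun T hT => hT) ?_
      (fun T hT => ofMono_good_of_quasiCompact i hF hT)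
    intro x
    obtain ⟨_, ⟨T, hT, rfl⟩, hxT, -⟩ :=
      X.isBasis_affineOpens.exists_subset_of_mem_open (Set.mem_univ x) isOpen_univ
    exact ⟨T, hT, hxT⟩
  exact ⟨(ofMono i).toModules, (ofMono i).ι, e, inferInstance, hq, he⟩

end Groth.Agent.Lib.Helper18.LSubM

namespace Groth.Agent.Lib.Helper18.LSubM

variable {X Y : Scheme.{u}} {j : Y ⟶ X} [IsOpenImmersion j] {F : X.Modules} {G : Y.Modules}

theorem isQuasicoherent_biprod (M N : X.Modules) [M.IsQuasicoherent] [N.IsQuasicoherent] :
    (M ⊞ N).IsQuasicoherent := by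
  refine isQuasicoherent_of_iso (biprod.isoProd M N).symm ?_
  refine isQuasicoherent_finite_limit (pair M N) ?_
  rintro ⟨_ | _⟩
  · exact ‹M.IsQuasicoherent›
  · exact ‹N.IsQuasicoherent›

/-- EGA I 9.4.2 for arbitrary maps: a quasi-coherent module `G` on `Y` with a map to `F|_Y` extends,
along a quasi-compact open immersion, to a quasi-coherent module on `X` with a map to `F`. -/
theorem exists_qcoh_extension_with_map [QuasiCompact j] [F.IsQuasicoherent] [G.IsQuasicoherent]
    (φ : G ⟶ F.restrict j) :
    ∃ (H : X.Modules) (ψ : H ⟶ F) (e : H.restrict j ≅ G), H.IsQuasicoherent ∧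
      e.hom ≫ φ = (Scheme.Modules.restrictFunctor j).map ψ := by
  let R := Scheme.Modules.restrictFunctor j
  let P : X.Modules := (Scheme.Modules.pushforward j).obj G
  have hP : P.IsQuasicoherent := isQuasicoherent_pushforward G j
  have hFP : (F ⊞ P).IsQuasicoherent := isQuasicoherent_biprod F P
  let c : G ⟶ R.obj P := ((Scheme.Modules.restrictFunctorAdjCounitIso j).app G).inv
  have hc : IsIso c := inferInstance
  let φ' : G ⟶ (F ⊞ P).restrict j := φ ≫ R.map biprod.inl + c ≫ R.map biprod.inr
  have h1 : φ' ≫ R.map biprod.fst = φ := by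
    simp only [φ', Preadditive.add_comp, Category.assoc, ← R.map_comp, biprod.inl_fst,
      biprod.inr_fst, R.map_id, R.map_zero, comp_zero, add_zero]
    exact Category.comp_id φ
  have h2 : φ' ≫ R.map biprod.snd = c := by
    simp only [φ', Preadditive.add_comp, Category.assoc, ← R.map_comp, biprod.inl_snd,
      biprod.inr_snd, R.map_id, R.map_zero, comp_zero, zero_add]
    exact Category.comp_id c
  have hmono : Mono φ' := by
    have : Mono (φ' ≫ R.map biprod.snd) := by rw [h2]; infer_instance
    exact mono_of_mono φ' (R.map biprod.snd)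
  obtain ⟨H, ψ, e, -, hq, he⟩ := exists_canonical_extension φ'
  refine ⟨H, ψ ≫ biprod.fst, e, hq, ?_⟩
  rw [R.map_comp, ← he, Category.assoc, h1]

end Groth.Agent.Lib.Helper18.LSubM
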