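import Mathlib
import Groth.Agent.Lib.Helper18.FPAffine
import Groth.Agent.Lib.Helper45.ModulesExact
import Groth.Agent.Lib.Helper49.QcqsModules
import Groth.Agent.Lib.Helper49.QCohLocal
import Groth.Agent.Lib.Helper49.PushforwardFP
import Groth.Agent.Lib.Helper18.LSubCanExt

/-!
# Extending finitely presented modules from a quasi-compact open (Stacks 01PE)

Shared library of helper18 (namespace `Groth.Agent.Lib.Helper18.FPM`).

* `FPOn H W`: `H` has finitely presented sections over small affine neighbourhoods of points of `W`.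
* `IsoOn ψ W`: `ψ` is bijective on stalks at the points of `W`.
* `exists_step`: the gluing step `W ↦ W ∪ V` (`V` affine), realised as the fibre product
  `H ×_{j_* j^* H} j_* N'` for a finitely presented approximation `N' → j^* H` on `V`.
* `exists_fp_isoOn`: on a qcqs scheme, a quasi-coherent `H` with `H|_U` finitely presented receives
  a map from a finitely presented module which is an isomorphism over `U`.
* `exists_fp_extension_with_map`: Stacks 01PE.
-/
set_option autoImplicit false
universe u
open CategoryTheory CategoryTheory.Limits AlgebraicGeometry TopologicalSpace Opposite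

namespace Groth.Agent.Lib.Helper18.FPM

open Groth.Agent.Lib.Helper49 Groth.Agent.Lib.Helper45

attribute [local instance] Groth.Agent.Lib.Helper45.sectionsBasicOpenModule

variable {X : Scheme.{u}}

/-- `H` has finitely presented sections over small affine neighbourhoods of the points of `W`. -/
def FPOn (H : X.Modules) (W : X.Opens) : Prop :=
  ∀ x ∈ W, ∃ T : X.Opens, IsAffineOpen T ∧ x ∈ T ∧ T ≤ W ∧
    Module.FinitePresentation Γ(X, T) Γ(H, T)

/-- `ψ` is bijective on the stalks at the points of `W`. -/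
def IsoOn {A B : X.Modules} (ψ : A ⟶ B) (W : X.Opens) : Prop :=
  ∀ x ∈ W, Function.Bijective (Helper49.stalkMap ψ x).hom

theorem IsoOn.comp {A B C : X.Modules} {ψ : A ⟶ B} {φ : B ⟶ C} {W : X.Opens}
    (h1 : IsoOn ψ W) (h2 : IsoOn φ W) : IsoOn (ψ ≫ φ) W := by
  intro x hx
  have : (Helper49.stalkMap (ψ ≫ φ) x).hom =
      (Helper49.stalkMap φ x).hom ∘ (Helper49.stalkMap ψ x).hom := by
    funext a
    exact Helper49.stalkMap_comp_apply' ψ φ x a
  rw [this]
  exact (h2 x hx).comp (h1 x hx)

theorem IsoOn.mono {A B : X.Modules} {ψ : A ⟶ B} {W W' : X.Opens} (h : IsoOn ψ W) (hle : W' ≤ W) :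
    IsoOn ψ W' := fun x hx => h x (hle hx)

theorem IsoOn.app_bijective {A B : X.Modules} {ψ : A ⟶ B} {W : X.Opens} (h : IsoOn ψ W)
    {T : X.Opens} (hT : T ≤ W) : Function.Bijective (ψ.app T) :=
  TopCat.Presheaf.app_bijective_of_stalkFunctor_map_bijective
    (F := Helper49.toSheafAb A) (G := Helper49.toSheafAb B) ⟨ψ.mapPresheaf⟩ T
    fun x hx => h x (hT hx)

theorem isoOn_of_isIso {A B : X.Modules} (ψ : A ⟶ B) [IsIso ψ] (W : X.Opens) : IsoOn ψ W :=
  fun x _ => Helper49.stalkMap_bijective_of_isIso ψ x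

theorem FPOn.of_isoOn {H' H : X.Modules} {ψ : H' ⟶ H} {W : X.Opens} (hψ : IsoOn ψ W)
    (hH : FPOn H W) : FPOn H' W := by
  intro x hx
  obtain ⟨T, hT, hxT, hTW, hfp⟩ := hH x hx
  refine ⟨T, hT, hxT, hTW, ?_⟩
  let e : Γ(H', T) ≃ₗ[Γ(X, T)] Γ(H, T) :=
    LinearEquiv.ofBijective (Helper45.appₗ ψ T) (hψ.app_bijective hTW)
  exact Module.FinitePresentation.of_equiv e.symm

theorem finitePresentation_of_isLocalizedModule {R A M N : Type*} [CommRing R] [CommRing A]
    [Algebra R A] (S : Submonoid R) [IsLocalization S A] [AddCommGroup M] [Module R M]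
    [AddCommGroup N] [Module R N] [Module A N] [IsScalarTower R A N] (g : M →ₗ[R] N)
    [IsLocalizedModule S g] [Module.FinitePresentation R M] : Module.FinitePresentation A N :=
  FinitePresentation.of_isBaseChange g ((isLocalizedModule_iff_isBaseChange S A g).mp inferInstance)

/-- Sections over a basic open of an affine open with finitely presented sections are finitely
presented. -/
theorem finitePresentation_basicOpen (H : X.Modules) [H.IsQuasicoherent] {T : X.Opens}
    (hT : IsAffineOpen T) (g : Γ(X, T)) (h : Module.FinitePresentation Γ(X, T) Γ(H, T)) :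
    Module.FinitePresentation Γ(X, X.basicOpen g) Γ(H, X.basicOpen g) := by
  have : IsLocalization.Away g Γ(X, X.basicOpen g) := hT.isLocalization_basicOpen g
  have : IsLocalizedModule (Submonoid.powers g) (restrictBasicOpenₗ H g) :=
    isLocalizedModule_restrictBasicOpenₗ hT H g
  exact finitePresentation_of_isLocalizedModule (Submonoid.powers g) (restrictBasicOpenₗ H g)

theorem FPOn.exists_basicOpen {H : X.Modules} [H.IsQuasicoherent] {W : X.Opens} (hH : FPOn H W)
    {V : X.Opens} (hV : IsAffineOpen V) {x : X} (hxW : x ∈ W) (hxV : x ∈ V) :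
    ∃ f : Γ(X, V), x ∈ X.basicOpen f ∧ X.basicOpen f ≤ W ∧
      Module.FinitePresentation Γ(X, X.basicOpen f) Γ(H, X.basicOpen f) := by
  obtain ⟨T, hT, hxT, hTW, hfp⟩ := hH x hxW
  obtain ⟨g, f, hgf, hxg⟩ := exists_basicOpen_le_affine_inter hT hV x ⟨hxT, hxV⟩
  have h1 := finitePresentation_basicOpen H hT g hfp
  refine ⟨f, hgf ▸ hxg, ?_, ?_⟩
  · rw [← hgf]; exact (X.basicOpen_le g).trans hTW
  · rw [← hgf]; exact h1

theorem FPOn.exists_finset {H : X.Modules} [H.IsQuasicoherent] [QuasiSeparatedSpace X]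
    {W : X.Opens} (hW : IsCompact (W : Set X)) (hH : FPOn H W) {V : X.Opens} (hV : IsAffineOpen V) :
    ∃ s : Finset Γ(X, V), (∀ f ∈ s, Module.FinitePresentation Γ(X, X.basicOpen f)
        Γ(H, X.basicOpen f)) ∧ ∀ x ∈ W ⊓ V, ∃ f ∈ s, x ∈ X.basicOpen f := by
  classical
  have hc : IsCompact ((W ⊓ V : X.Opens) : Set X) :=
    QuasiSeparatedSpace.inter_isCompact _ _ W.2 hW V.2 hV.isCompact
  have h : ∀ x : (W ⊓ V : X.Opens), ∃ f : Γ(X, V), (x : X) ∈ X.basicOpen f ∧
      Module.FinitePresentation Γ(X, X.basicOpen f) Γ(H, X.basicOpen f) := by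
    intro x
    obtain ⟨f, h1, -, h3⟩ := hH.exists_basicOpen hV x.2.1 x.2.2
    exact ⟨f, h1, h3⟩
  choose f hf1 hf2 using h
  obtain ⟨t, ht⟩ := hc.elim_finite_subcover (fun x : (W ⊓ V : X.Opens) => (X.basicOpen (f x) : Set X))
    (fun x => (X.basicOpen (f x)).2) (fun x hx => Set.mem_iUnion.mpr ⟨⟨x, hx⟩, hf1 ⟨x, hx⟩⟩)
  refine ⟨t.image f, fun g hg => ?_, fun x hx => ?_⟩
  · obtain ⟨y, -, rfl⟩ := Finset.mem_image.mp hg
    exact hf2 y
  · obtain ⟨y, hy⟩ := Set.mem_iUnion.mp (ht hx)
    obtain ⟨hyt, hxy⟩ := Set.mem_iUnion.mp hy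
    exact ⟨f y, Finset.mem_image_of_mem f hyt, hxy⟩

theorem restrictFunctor_map_app {Y : Scheme.{u}} (f : Y ⟶ X) [IsOpenImmersion f] {A B : X.Modules}
    (φ : A ⟶ B) (U : Y.Opens) :
    ((Scheme.Modules.restrictFunctor f).map φ).app U = φ.app (f ''ᵁ U) := rfl

/-- **One step.** Let `H` be quasi-coherent on a quasi-separated scheme, with finitely presented
sections near the points of a quasi-compact open `W`, and let `V` be an affine open. Then there is a
quasi-coherent `H'` with a map to `H` which is an isomorphism over `W`, such that `H'` has finitely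
presented sections near the points of `W ∪ V`. -/
theorem exists_step [QuasiSeparatedSpace X] (H : X.Modules) [H.IsQuasicoherent] {W : X.Opens}
    (hW : IsCompact (W : Set X)) (hH : FPOn H W) {V : X.Opens} (hV : IsAffineOpen V) :
    ∃ (H' : X.Modules) (ψ : H' ⟶ H), H'.IsQuasicoherent ∧ IsoOn ψ W ∧ FPOn H' (W ⊔ V) := by
  obtain ⟨s, hs, hcov⟩ := hH.exists_finset hW hV
  obtain ⟨N', π, hN'fp, hN'qc, hπ⟩ := exists_fp_tilde_approx H hV s hs
  let j := hV.fromSpec
  let N := H.restrict j
  have hNqc : N.IsQuasicoherent := Scheme.Modules.isQuasicoherent_restrictFunctor _ _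
  let P' := (Scheme.Modules.pushforward j).obj N'
  let P := (Scheme.Modules.pushforward j).obj N
  have hP' : P'.IsQuasicoherent := isQuasicoherent_pushforward N' j
  have hP : P.IsQuasicoherent := isQuasicoherent_pushforward N j
  let η : H ⟶ P := (Scheme.Modules.restrictAdjunction j).unit.app H
  let q : P' ⟶ P := (Scheme.Modules.pushforward j).map π
  let H' := pullback η q
  let ψ : H' ⟶ H := pullback.fst η q
  have hpb : IsPullback ψ (pullback.snd η q) η q := IsPullback.of_hasPullback η q
  -- `π` is bijective on sections over opens inside `j⁻¹ W`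
  have hπW : ∀ T' : (Spec Γ(X, V)).Opens, T' ≤ j ⁻¹ᵁ W → Function.Bijective (π.app T') := by
    intro T' hT'
    refine TopCat.Presheaf.app_bijective_of_stalkFunctor_map_bijective
      (F := Helper49.toSheafAb N') (G := Helper49.toSheafAb N) ⟨π.mapPresheaf⟩ T' fun x hx => ?_
    have hxW : j x ∈ W := hT' hx
    have hxV : j x ∈ V := by
      have : j x ∈ Set.range j := ⟨x, rfl⟩
      rw [hV.range_fromSpec] at this
      exact this
    obtain ⟨f, hf, hxf⟩ := hcov (j x) ⟨hxW, hxV⟩
    refine hπ f hf x ?_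
    have : x ∈ j ⁻¹ᵁ X.basicOpen f := hxf
    rw [hV.fromSpec_preimage_basicOpen] at this
    exact this
  have hH'qc : H'.IsQuasicoherent := by
    refine isQuasicoherent_finite_limit (cospan η q) ?_
    rintro (_ | _ | _)
    · exact hP
    · exact ‹H.IsQuasicoherent›
    · exact hP'
  have hψW : IsoOn ψ W := by
    have h1 : IsIso ((Scheme.Modules.restrictFunctor W.ι).map q) := by
      rw [Scheme.Modules.Hom.isIso_iff_isIso_app]
      intro T''
      have h2 : W.ι ''ᵁ T'' ≤ W := by
        conv_rhs => rw [← W.opensRange_ι]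
        exact W.ι.image_le_opensRange T''
      have h3 : Function.Bijective (q.app (W.ι ''ᵁ T'')) :=
        hπW (j ⁻¹ᵁ (W.ι ''ᵁ T'')) fun x hx => h2 hx
      have h4 : IsIso (q.app (W.ι ''ᵁ T'')) := (ConcreteCategory.isIso_iff_bijective _).mpr h3
      exact h4
    have h2 : IsIso ((Scheme.Modules.restrictFunctor W.ι).map ψ) :=
      (hpb.map (Scheme.Modules.restrictFunctor W.ι)).isIso_fst_of_isIso h1
    exact (Helper49.isIso_restrict_iff ψ W).mp h2
  refine ⟨H', ψ, hH'qc, hψW, ?_⟩
  intro x hx
  by_cases hxW : x ∈ W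
  · obtain ⟨T, hT, hxT, hTW, hfp⟩ := (FPOn.of_isoOn hψW hH) x hxW
    exact ⟨T, hT, hxT, hTW.trans le_sup_left, hfp⟩
  · have hxV : x ∈ V := by
      rcases hx with h | h
      · exact absurd h hxW
      · exact h
    refine ⟨V, hV, hxV, le_sup_right, ?_⟩
    let Rj := Scheme.Modules.restrictFunctor j
    have h1 : IsIso (Rj.map η) := by
      have htri := (Scheme.Modules.restrictAdjunction j).left_triangle_components H
      have : Rj.map η = inv ((Scheme.Modules.restrictAdjunction j).counit.app (Rj.obj H)) := by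
        rw [← cancel_mono ((Scheme.Modules.restrictAdjunction j).counit.app (Rj.obj H)), htri,
          IsIso.inv_hom_id]
      rw [this]
      infer_instance
    have h2 : IsIso (Rj.map (pullback.snd η q)) := (hpb.map Rj).isIso_snd_of_isIso h1
    let e : H'.restrict j ≅ N' :=
      asIso (Rj.map (pullback.snd η q)) ≪≫ (Scheme.Modules.restrictFunctorAdjCounitIso j).app N'
    have h3 : SheafOfModules.IsFinitePresentation (R := (Spec Γ(X, V)).ringCatSheaf)
        (H'.restrict j) := isFinitePresentation_of_iso e.symm hN'fp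
    have h4 : (H'.restrict j).IsQuasicoherent :=
      Scheme.Modules.isQuasicoherent_restrictFunctor _ _
    have h5 : Module.FinitePresentation Γ(X, V)
        Γ(H'.restrict hV.fromSpec, (⊤ : (Spec Γ(X, V)).Opens)) :=
      (isFinitePresentation_iff_finitePresentation_Γ Γ(X, V) (H'.restrict j)).mp h3
    exact Module.FinitePresentation.of_equiv (sectionsFromSpecTopEquiv hV H')

theorem FPOn.mono_sup {H : X.Modules} {W W' : X.Opens} (h : FPOn H W) (h' : FPOn H W') :
    FPOn H (W ⊔ W') := by
  intro x hx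
  rcases hx with hx | hx
  · obtain ⟨T, hT, hxT, hTW, hfp⟩ := h x hx
    exact ⟨T, hT, hxT, hTW.trans le_sup_left, hfp⟩
  · obtain ⟨T, hT, hxT, hTW, hfp⟩ := h' x hx
    exact ⟨T, hT, hxT, hTW.trans le_sup_right, hfp⟩

/-- A quasi-coherent module with finitely presented sections near every point is of finite
presentation. -/
theorem FPOn.isFinitePresentation {H : X.Modules} [H.IsQuasicoherent] (h : FPOn H ⊤) :
    SheafOfModules.IsFinitePresentation (R := X.ringCatSheaf) H := by
  choose T hT hxT _ hfp using fun x : X => h x (Opens.mem_top x)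
  exact isFinitePresentation_of_finitePresentation_sections_cover H T hT
    (fun x => ⟨x, hxT x⟩) hfp

/-- **Stacks 01PE, key step.** On a quasi-compact quasi-separated scheme, a quasi-coherent module
`H` which has finitely presented sections near the points of a quasi-compact open `U` receives a
map from a finitely presented module which is an isomorphism over `U`. -/
theorem exists_fp_isoOn [CompactSpace X] [QuasiSeparatedSpace X] (H : X.Modules)
    [H.IsQuasicoherent] {U : X.Opens} (hU : IsCompact (U : Set X)) (hH : FPOn H U) :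
    ∃ (G : X.Modules) (ψ : G ⟶ H),
      SheafOfModules.IsFinitePresentation (R := X.ringCatSheaf) G ∧ IsoOn ψ U := by
  have key : ∀ S : X.Opens, IsCompact (S : Set X) →
      ∃ (G : X.Modules) (ψ : G ⟶ H), G.IsQuasicoherent ∧ IsoOn ψ U ∧ FPOn G (U ⊔ S) := by
    intro S hS
    refine compact_open_induction_on (P := fun S => ∃ (G : X.Modules) (ψ : G ⟶ H),
      G.IsQuasicoherent ∧ IsoOn ψ U ∧ FPOn G (U ⊔ S)) S hS ?_ ?_
    · refine ⟨H, 𝟙 H, inferInstance, isoOn_of_isIso _ _, ?_⟩
      rw [sup_bot_eq]; exact hH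
    · intro S hS V ih
      obtain ⟨G, ψ, hG, hψ, hfp⟩ := ih
      obtain ⟨G', ψ', hG', hψ', hfp'⟩ := exists_step G (hU.union hS) hfp V.2
      refine ⟨G', ψ' ≫ ψ, hG', (hψ'.mono le_sup_left).comp hψ, ?_⟩
      rw [← sup_assoc]; exact hfp'
  obtain ⟨G, ψ, hG, hψ, hfp⟩ := key ⊤ isCompact_univ
  rw [sup_top_eq] at hfp
  exact ⟨G, ψ, hfp.isFinitePresentation, hψ⟩

/-- If `H|_U` is of finite presentation then `H` has finitely presented sections near the points
of `U`. -/
theorem fpOn_of_isFinitePresentation_restrict (H : X.Modules) [H.IsQuasicoherent] (U : X.Opens)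
    (h : SheafOfModules.IsFinitePresentation (R := (U : Scheme.{u}).ringCatSheaf)
      (H.restrict U.ι)) : FPOn H U := by
  intro x hx
  obtain ⟨_, ⟨T, hT, rfl⟩, hxT, hTU⟩ :=
    X.isBasis_affineOpens.exists_subset_of_mem_open hx U.2
  refine ⟨T, hT, hxT, hTU, ?_⟩
  have hT : IsAffineOpen T := hT
  have hr : Set.range hT.fromSpec ⊆ Set.range U.ι := by
    rw [hT.range_fromSpec]
    simpa using hTU
  have h1 : IsOpenImmersion (IsOpenImmersion.lift U.ι hT.fromSpec hr ≫ U.ι) := by
    rw [IsOpenImmersion.lift_fac]; infer_instance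
  have : IsOpenImmersion (IsOpenImmersion.lift U.ι hT.fromSpec hr) :=
    IsOpenImmersion.of_comp _ U.ι
  have h2 := isFinitePresentation_restrict (H.restrict U.ι)
    (IsOpenImmersion.lift U.ι hT.fromSpec hr) h
  have h3 : SheafOfModules.IsFinitePresentation (R := (Spec Γ(X, T)).ringCatSheaf)
      (H.restrict hT.fromSpec) :=
    isFinitePresentation_of_iso
      (((Scheme.Modules.restrictFunctorComp _ _).symm ≪≫
        Scheme.Modules.restrictFunctorCongr (IsOpenImmersion.lift_fac U.ι hT.fromSpec hr)).app H) h2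
  have h4 : (H.restrict hT.fromSpec).IsQuasicoherent :=
    Scheme.Modules.isQuasicoherent_restrictFunctor _ _
  have h5 : Module.FinitePresentation Γ(X, T)
      Γ(H.restrict hT.fromSpec, (⊤ : (Spec Γ(X, T)).Opens)) :=
    (isFinitePresentation_iff_finitePresentation_Γ Γ(X, T) (H.restrict hT.fromSpec)).mp h3
  exact Module.FinitePresentation.of_equiv (sectionsFromSpecTopEquiv hT H)

/-- **Stacks 01PE.** Let `X` be quasi-compact and quasi-separated, `F` quasi-coherent on `X`,
`U` a quasi-compact open and `G` a finitely presented module on `U` with a map `φ : G ⟶ F|_U`.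
Then `(G, φ)` extends to a finitely presented module on `X` with a map to `F`. -/
theorem exists_fp_extension_with_map [CompactSpace X] [QuasiSeparatedSpace X] (F : X.Modules)
    [F.IsQuasicoherent] (U : X.Opens) (hU : IsCompact (U : Set X)) (G : (U : Scheme.{u}).Modules)
    (hG : SheafOfModules.IsFinitePresentation (R := (U : Scheme.{u}).ringCatSheaf) G)
    (φ : G ⟶ F.restrict U.ι) :
    ∃ (G' : X.Modules) (φ' : G' ⟶ F) (e : G'.restrict U.ι ≅ G),
      SheafOfModules.IsFinitePresentation (R := X.ringCatSheaf) G' ∧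
        e.hom ≫ φ = (Scheme.Modules.restrictFunctor U.ι).map φ' := by
  have : CompactSpace (U : Scheme.{u}) := isCompact_iff_compactSpace.mp hU
  have : QuasiCompact U.ι := inferInstance
  have hGq : G.IsQuasicoherent := by
    obtain ⟨σ, -⟩ := SheafOfModules.IsFinitePresentation.exists_quasicoherentData
      (R := (U : Scheme.{u}).ringCatSheaf) G
    exact σ.isQuasicoherent
  obtain ⟨H, ψ₀, e₀, hHqc, hcomp⟩ :=
    LSubM.exists_qcoh_extension_with_map (j := U.ι) (F := F) (G := G) φ
  have hfpU : FPOn H U :=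
    fpOn_of_isFinitePresentation_restrict H U (isFinitePresentation_of_iso e₀.symm hG)
  obtain ⟨G', ψ, hfp, hψ⟩ := exists_fp_isoOn H hU hfpU
  have hiso : IsIso ((Scheme.Modules.restrictFunctor U.ι).map ψ) :=
    (Helper49.isIso_restrict_iff ψ U).mpr hψ
  refine ⟨G', ψ ≫ ψ₀, asIso ((Scheme.Modules.restrictFunctor U.ι).map ψ) ≪≫ e₀, hfp, ?_⟩
  rw [Iso.trans_hom, asIso_hom, Category.assoc, hcomp, Functor.map_comp]

end Groth.Agent.Lib.Helper18.FPM
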