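import Mathlib

/-!
# Finite type approximation of quasi-coherent ideal sheaves (helper18)

On a quasi-separated scheme, a finitely generated ideal `𝔞 ≤ I.ideal W` over an affine open `W` extends to an ideal sheaf
`K ≤ I` with `K.ideal W = 𝔞` whose ideals over any prescribed finite family of affine opens are finitely generated
(EGA I 9.4.7 / Stacks 01PD for ideal sheaves).  Construction: intersect with the ideal sheaf `ext V N` of the scheme-theoretic
image of `Spec (Γ(X,V)/N) ⟶ X`, one affine open at a time.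
-/

set_option autoImplicit false
universe u
open CategoryTheory AlgebraicGeometry TopologicalSpace

namespace Groth.Agent.Lib.Helper18.FTApprox

variable {X : Scheme.{u}}

/-- The closed subscheme `Spec (Γ(X,V)/N)` of the affine open `V`, mapped to `X`. -/
noncomputable def extMap (V : X.affineOpens) (N : Ideal Γ(X, V)) :
    Spec (CommRingCat.of (Γ(X, V) ⧸ N)) ⟶ X :=
  Spec.map (CommRingCat.ofHom (Ideal.Quotient.mk N)) ≫ V.2.fromSpec

theorem extMap_app_self (V : X.affineOpens) (N : Ideal Γ(X, V)) :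
    ∃ e : CommRingCat.of (Γ(X, V) ⧸ N) ≅ Γ(Spec (CommRingCat.of (Γ(X, V) ⧸ N)), extMap V N ⁻¹ᵁ V.1),
      (extMap V N).app V.1 = CommRingCat.ofHom (Ideal.Quotient.mk N) ≫ e.hom := by
  have h1 : extMap V N ⁻¹ᵁ V.1 = ⊤ := by
    unfold extMap
    rw [Scheme.Hom.comp_preimage, V.2.fromSpec_preimage_self]
    rfl
  refine ⟨(Scheme.ΓSpecIso _).symm ≪≫
    (Spec (CommRingCat.of (Γ(X, V) ⧸ N))).presheaf.mapIso (eqToIso h1).op, ?_⟩
  unfold extMap
  rw [Scheme.Hom.comp_app, V.2.fromSpec_app_self, Category.assoc]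
  erw [Scheme.Hom.naturality]
  simp only [Iso.trans_hom, Iso.symm_hom, Functor.mapIso_hom, Iso.op_hom]
  rw [← Category.assoc, ← Category.assoc]
  congr 1
  exact (Scheme.ΓSpecIso_inv_naturality (CommRingCat.ofHom (Ideal.Quotient.mk N))).symm
  
theorem ker_extMap_app_self (V : X.affineOpens) (N : Ideal Γ(X, V)) :
    RingHom.ker ((extMap V N).app V.1).hom = N := by
  obtain ⟨e, he⟩ := extMap_app_self V N
  rw [he]
  ext x
  rw [RingHom.mem_ker]
  change e.hom.hom (Ideal.Quotient.mk N x) = 0 ↔ _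
  rw [map_eq_zero_iff _ (ConcreteCategory.bijective_of_isIso e.hom).1, Ideal.Quotient.eq_zero_iff_mem]

instance (V : X.affineOpens) (N : Ideal Γ(X, V)) [QuasiSeparatedSpace X] :
    QuasiCompact (extMap V N) := by
  unfold extMap
  infer_instance

/-- The ideal sheaf of the scheme-theoretic image of `Spec (Γ(X,V)/N)` in `X`. -/
noncomputable def ext (V : X.affineOpens) (N : Ideal Γ(X, V)) : X.IdealSheafData :=
  (extMap V N).ker

theorem ext_ideal_self [QuasiSeparatedSpace X] (V : X.affineOpens) (N : Ideal Γ(X, V)) :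
    (ext V N).ideal V = N := by
  unfold ext
  rw [Scheme.Hom.ker_apply, ker_extMap_app_self]

/-- Membership criterion in `ext V N` over another affine open. -/
theorem mem_ext_ideal [QuasiSeparatedSpace X] (V : X.affineOpens) (N : Ideal Γ(X, V))
    (U : X.affineOpens) (t : Γ(X, U))
    (H : ∀ x ∈ U.1 ⊓ V.1, ∃ (W : X.Opens) (hWU : W ≤ U.1) (hWV : W ≤ V.1), x ∈ W ∧
      X.presheaf.map (homOfLE hWU).op t ∈ N.map (X.presheaf.map (homOfLE hWV).op).hom) :
    t ∈ (ext V N).ideal U := by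
  unfold ext
  rw [Scheme.Hom.ker_apply, RingHom.mem_ker]
  apply (Spec (CommRingCat.of (Γ(X, V) ⧸ N))).IsSheaf.section_ext
  rintro x hxU
  have hxV : (extMap V N) x ∈ V.1 := by
    have : Set.range (extMap V N) ⊆ V.1 := by
      unfold extMap
      rw [Scheme.Hom.comp_base, TopCat.coe_comp, Set.range_comp]
      rintro _ ⟨y, _, rfl⟩
      rw [← V.2.range_fromSpec]
      exact ⟨y, rfl⟩
    exact this ⟨x, rfl⟩
  obtain ⟨W, hWU, hWV, hxW, hnt⟩ := H _ ⟨hxU, hxV⟩
  refine ⟨extMap V N ⁻¹ᵁ W, (Scheme.Hom.preimage_mono _ hWU), hxW, ?_⟩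
  rw [map_zero]
  have h1 := (extMap V N).naturality (homOfLE hWU).op
  have h2 := (extMap V N).naturality (homOfLE hWV).op
  have hle : N.map (X.presheaf.map (homOfLE hWV).op).hom ≤ RingHom.ker ((extMap V N).app W).hom := by
    rw [Ideal.map_le_iff_le_comap]
    intro n hn
    rw [Ideal.mem_comap, RingHom.mem_ker]
    have h3 : ((extMap V N).app V.1).hom n = 0 := by
      rw [← RingHom.mem_ker, ker_extMap_app_self]; exact hn
    have h5 := congrArg (fun f => f.hom n) h2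
    simp only [CommRingCat.hom_comp, RingHom.comp_apply] at h5
    rw [h5, h3, map_zero]
  have h4 := congrArg (fun f => f.hom t) h1
  simp only [CommRingCat.hom_comp, RingHom.comp_apply] at h4
  rw [RingHom.mem_ker.mp (hle hnt)] at h4
  exact h4.symm

theorem construct [QuasiSeparatedSpace X] (K : X.IdealSheafData) (V : X.affineOpens)
    (N : Ideal Γ(X, V)) (hN : N ≤ K.ideal V) :
    (K ⊓ ext V N).ideal V = N ∧
    ∀ U : X.affineOpens, (∀ x ∈ U.1 ⊓ V.1, ∃ g : Γ(X, V), x ∈ X.basicOpen g ∧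
        ∃ hgU : X.basicOpen g ≤ U.1,
        (K.ideal U).map (X.presheaf.map (homOfLE hgU).op).hom ≤
          N.map (X.presheaf.map (homOfLE (X.basicOpen_le g)).op).hom) →
      (K ⊓ ext V N).ideal U = K.ideal U := by
  refine ⟨?_, fun U H => ?_⟩
  · rw [Scheme.IdealSheafData.ideal_inf, Pi.inf_apply, ext_ideal_self]
    exact inf_eq_right.mpr hN
  · rw [Scheme.IdealSheafData.ideal_inf, Pi.inf_apply]
    refine inf_eq_left.mpr fun t ht => ?_
    apply mem_ext_ideal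
    intro x hx
    obtain ⟨g, hxg, hgU, hle⟩ := H x hx
    exact ⟨X.basicOpen g, hgU, X.basicOpen_le g, hxg, hle (Ideal.mem_map_of_mem _ ht)⟩

theorem exists_fg_le_map_eq {R R' : Type*} [CommRing R] [CommRing R'] (f : R →+* R') (N : Ideal R)
    (h : (N.map f).FG) : ∃ N₀ : Ideal R, N₀ ≤ N ∧ N₀.FG ∧ N₀.map f = N.map f := by
  classical
  unfold Ideal.map at h
  obtain ⟨s', hs', hspan⟩ := (Submodule.fg_span_iff_fg_span_finset_subset _).mp h
  obtain ⟨s'', hs'', rfl⟩ := Finset.subset_set_image_iff.mp hs'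
  refine ⟨Ideal.span (s'' : Set R), Ideal.span_le.mpr hs'', ⟨s'', rfl⟩, ?_⟩
  rw [Ideal.map_span]
  unfold Ideal.map
  change Submodule.span R' _ = Submodule.span R' _
  rw [hspan]
  simp

theorem exists_fg_cover [QuasiSeparatedSpace X] (K : X.IdealSheafData) (V U : X.affineOpens)
    (hU : (K.ideal U).FG) :
    ∃ N₁ : Ideal Γ(X, V), N₁ ≤ K.ideal V ∧ N₁.FG ∧
      ∀ x ∈ U.1 ⊓ V.1, ∃ g : Γ(X, V), x ∈ X.basicOpen g ∧
        ∃ hgU : X.basicOpen g ≤ U.1,
        (K.ideal U).map (X.presheaf.map (homOfLE hgU).op).hom ≤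
          N₁.map (X.presheaf.map (homOfLE (X.basicOpen_le g)).op).hom := by
  classical
  -- choose basic opens
  have h1 : ∀ x : ↥(U.1 ⊓ V.1), ∃ g : Γ(X, V), X.basicOpen g ≤ U.1 ⊓ V.1 ∧ x.1 ∈ X.basicOpen g :=
    fun x => V.2.exists_basicOpen_le x x.2.2
  choose g hgle hxg using h1
  have hgU : ∀ x, X.basicOpen (g x) ≤ U.1 := fun x => (hgle x).trans inf_le_left
  -- the ideals
  have h2 : ∀ x : ↥(U.1 ⊓ V.1), ∃ N₀ : Ideal Γ(X, V), N₀ ≤ K.ideal V ∧ N₀.FG ∧
      N₀.map (X.presheaf.map (homOfLE (X.basicOpen_le (g x))).op).hom =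
        (K.ideal U).map (X.presheaf.map (homOfLE (hgU x)).op).hom := by
    intro x
    have e1 : (K.ideal V).map (X.presheaf.map (homOfLE (X.basicOpen_le (g x))).op).hom =
        K.ideal (X.affineBasicOpen (g x)) := K.map_ideal_basicOpen V (g x)
    have e2 : (K.ideal U).map (X.presheaf.map (homOfLE (hgU x)).op).hom =
        K.ideal (X.affineBasicOpen (g x)) :=
      K.map_ideal (U := X.affineBasicOpen (g x)) (V := U) (hgU x)
    have hfg : ((K.ideal V).map (X.presheaf.map (homOfLE (X.basicOpen_le (g x))).op).hom).FG := by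
      rw [e1, ← e2]
      exact hU.map _
    obtain ⟨N₀, hle, hfg0, hmap⟩ := exists_fg_le_map_eq _ _ hfg
    exact ⟨N₀, hle, hfg0, by rw [hmap, e1, e2]⟩
  choose N₀ hN₀le hN₀fg hN₀map using h2
  -- compactness
  have hc : IsCompact ((U.1 : Set X) ∩ (V.1 : Set X)) :=
    QuasiSeparatedSpace.inter_isCompact _ _ U.1.2 U.2.isCompact V.1.2 V.2.isCompact
  obtain ⟨t, ht⟩ := hc.elim_finite_subcover (fun x : ↥(U.1 ⊓ V.1) => (X.basicOpen (g x) : Set X))
    (fun x => (X.basicOpen (g x)).2) (fun x hx => Set.mem_iUnion.mpr ⟨⟨x, hx⟩, hxg ⟨x, hx⟩⟩)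
  refine ⟨⨆ x ∈ t, N₀ x, iSup₂_le fun x _ => hN₀le x, Submodule.fg_biSup t _ (fun x _ => hN₀fg x),
    fun x hx => ?_⟩
  obtain ⟨y, hy⟩ := Set.mem_iUnion.mp (ht hx)
  obtain ⟨hyt, hxy⟩ := Set.mem_iUnion.mp hy
  refine ⟨g y, hxy, hgU y, ?_⟩
  rw [← hN₀map y]
  exact Ideal.map_mono (le_iSup₂_of_le y hyt le_rfl)

theorem exists_fg_cover_finset [QuasiSeparatedSpace X] (K : X.IdealSheafData) (V : X.affineOpens)
    (S : Finset X.affineOpens) (hS : ∀ U ∈ S, (K.ideal U).FG) :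
    ∃ N₁ : Ideal Γ(X, V), N₁ ≤ K.ideal V ∧ N₁.FG ∧
      ∀ U ∈ S, ∀ x ∈ U.1 ⊓ V.1, ∃ g : Γ(X, V), x ∈ X.basicOpen g ∧
        ∃ hgU : X.basicOpen g ≤ U.1,
        (K.ideal U).map (X.presheaf.map (homOfLE hgU).op).hom ≤
          N₁.map (X.presheaf.map (homOfLE (X.basicOpen_le g)).op).hom := by
  classical
  induction S using Finset.induction_on with
  | empty => exact ⟨⊥, bot_le, Submodule.fg_bot, fun U hU => absurd hU (Finset.notMem_empty U)⟩
  | insert U₀ S hU₀ ih =>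
    obtain ⟨N₁, hN₁le, hN₁fg, hN₁⟩ := ih (fun U hU => hS U (Finset.mem_insert_of_mem hU))
    obtain ⟨N₂, hN₂le, hN₂fg, hN₂⟩ := exists_fg_cover K V U₀ (hS U₀ (Finset.mem_insert_self _ _))
    refine ⟨N₁ ⊔ N₂, sup_le hN₁le hN₂le, Submodule.FG.sup hN₁fg hN₂fg, fun U hU x hx => ?_⟩
    rcases Finset.mem_insert.mp hU with rfl | hU
    · obtain ⟨g, hxg, hgU, hle⟩ := hN₂ x hx
      exact ⟨g, hxg, hgU, hle.trans (Ideal.map_mono le_sup_right)⟩
    · obtain ⟨g, hxg, hgU, hle⟩ := hN₁ U hU x hx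
      exact ⟨g, hxg, hgU, hle.trans (Ideal.map_mono le_sup_left)⟩

theorem step [QuasiSeparatedSpace X] (K : X.IdealSheafData) (S : Finset X.affineOpens)
    (hS : ∀ U ∈ S, (K.ideal U).FG) (V : X.affineOpens) :
    ∃ K' : X.IdealSheafData, K' ≤ K ∧ (K'.ideal V).FG ∧ ∀ U ∈ S, K'.ideal U = K.ideal U := by
  obtain ⟨N₁, hN₁le, hN₁fg, hN₁⟩ := exists_fg_cover_finset K V S hS
  obtain ⟨h1, h2⟩ := construct K V N₁ hN₁le
  exact ⟨K ⊓ ext V N₁, inf_le_left, h1.symm ▸ hN₁fg, fun U hU => h2 U (hN₁ U hU)⟩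

theorem exists_le_ideal_eq [QuasiSeparatedSpace X] (I : X.IdealSheafData) (W : X.affineOpens)
    (𝔞 : Ideal Γ(X, W)) (hle : 𝔞 ≤ I.ideal W) :
    ∃ K : X.IdealSheafData, K ≤ I ∧ K.ideal W = 𝔞 :=
  ⟨I ⊓ ext W 𝔞, inf_le_left, (construct I W 𝔞 hle).1⟩

/-- Finite type approximation relative to a finite family of affine opens. -/
theorem exists_le_fg_on [QuasiSeparatedSpace X] (I : X.IdealSheafData) (W : X.affineOpens)
    (𝔞 : Ideal Γ(X, W)) (h𝔞 : 𝔞.FG) (hle : 𝔞 ≤ I.ideal W) (T : Finset X.affineOpens) :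
    ∃ K : X.IdealSheafData, K ≤ I ∧ K.ideal W = 𝔞 ∧ ∀ U ∈ T, (K.ideal U).FG := by
  classical
  induction T using Finset.induction_on with
  | empty =>
    obtain ⟨K, hK, hKW⟩ := exists_le_ideal_eq I W 𝔞 hle
    exact ⟨K, hK, hKW, fun U hU => absurd hU (Finset.notMem_empty U)⟩
  | insert V T hV ih =>
    obtain ⟨K, hK, hKW, hKT⟩ := ih
    obtain ⟨K', hK', hK'V, hK'S⟩ := step K (insert W T) (fun U hU => by
      rcases Finset.mem_insert.mp hU with rfl | hU
      · rw [hKW]; exact h𝔞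
      · exact hKT U hU) V
    refine ⟨K', hK'.trans hK, ?_, fun U hU => ?_⟩
    · rw [hK'S W (Finset.mem_insert_self _ _), hKW]
    · rcases Finset.mem_insert.mp hU with rfl | hU
      · exact hK'V
      · rw [hK'S U (Finset.mem_insert_of_mem hU)]; exact hKT U hU

theorem exists_finite_affine_cover (X : Scheme.{u}) [CompactSpace X] :
    ∃ T : Finset X.affineOpens, (⨆ U : ↥T, (U.1 : X.affineOpens).1) = ⊤ := by
  obtain ⟨t, ht⟩ := isCompact_univ.elim_finite_subcover (fun U : X.affineOpens => (U.1 : Set X))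
    (fun U => U.1.2) (fun x _ => by
      obtain ⟨_, ⟨U, hU, rfl⟩, hxU, -⟩ :=
        X.isBasis_affineOpens.exists_subset_of_mem_open (Set.mem_univ x) isOpen_univ
      exact Set.mem_iUnion.mpr ⟨⟨U, hU⟩, hxU⟩)
  refine ⟨t, eq_top_iff.mpr fun x _ => ?_⟩
  obtain ⟨U, hU⟩ := Set.mem_iUnion.mp (ht (Set.mem_univ x))
  obtain ⟨hUt, hxU⟩ := Set.mem_iUnion.mp hU
  exact Opens.mem_iSup.mpr ⟨⟨U, hUt⟩, hxU⟩

/-- Finite type approximation: every local section of an ideal sheaf on a quasi-separated scheme lies in a sub-ideal sheaf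
whose ideals on a prescribed finite family of affine opens are finitely generated. -/
theorem exists_le_fg_mem [QuasiSeparatedSpace X] (I : X.IdealSheafData) (T : Finset X.affineOpens)
    (W : X.affineOpens) (s : Γ(X, W)) (hs : s ∈ I.ideal W) :
    ∃ K : X.IdealSheafData, K ≤ I ∧ s ∈ K.ideal W ∧ ∀ U ∈ T, (K.ideal U).FG := by
  obtain ⟨K, hK, hKW, hKT⟩ := exists_le_fg_on I W (Ideal.span {s}) ⟨{s}, by simp⟩
    ((Ideal.span_singleton_le_iff_mem _).mpr hs) T
  exact ⟨K, hK, hKW ▸ Ideal.subset_span (Set.mem_singleton s), hKT⟩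

end Groth.Agent.Lib.Helper18.FTApprox
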