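import Groth.Agent.Lib.Helper18.LSub
import Groth.Agent.Lib.Helper45.ModulesExact

/-!
# Factoring morphisms of modules through monomorphisms, locally on sections

Shared library of helper18 (namespace `Groth.Agent.Lib.Helper18.LSubM`).
`exists_factor`, `exists_iso_of_factor`.
-/

set_option autoImplicit false
universe u v
open CategoryTheory CategoryTheory.Limits AlgebraicGeometry TopologicalSpace Opposite
open Groth.Agent.Lib.Helper49 Groth.Agent.Lib.Helper45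

namespace Groth.Agent.Lib.Helper18.LSubM

section


variable {X : Scheme.{u}}

theorem app_mres {M N : X.Modules} (φ : M ⟶ N) {U V : X.Opens} (h : V ≤ U) (s : Γ(M, U)) :
    φ.app V (mres M h s) = mres N h (φ.app U s) := by
  have := φ.mapPresheaf.naturality (homOfLE h).op
  exact congrArg (fun g => (ConcreteCategory.hom g) s) this

/-- Sections of an `O_X`-module which agree locally are equal. -/
theorem eq_of_locally_eq (M : X.Modules) {U : X.Opens} (s t : Γ(M, U))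
    (h : ∀ x ∈ U, ∃ (V : X.Opens) (hV : V ≤ U), x ∈ V ∧ mres M hV s = mres M hV t) : s = t := by
  have h' : ∀ x : U, ∃ (V : X.Opens) (hV : V ≤ U), x.1 ∈ V ∧ mres M hV s = mres M hV t :=
    fun x => h x.1 x.2
  choose V hV hxV heq using h'
  apply TopCat.Sheaf.eq_of_locally_eq' ⟨M.presheaf, M.isSheaf⟩ V U (fun x => homOfLE (hV x))
  · intro x hx
    exact Opens.mem_iSup.mpr ⟨⟨x, hx⟩, hxV ⟨x, hx⟩⟩
  · intro x
    exact heq x

/-- A morphism factors through a monomorphism as soon as it does so locally on sections. -/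
theorem exists_factor {A B C : X.Modules} (m₁ : A ⟶ C) (m₂ : B ⟶ C) [Mono m₂]
    (H : ∀ (W : X.Opens) (a : Γ(A, W)), ∀ y ∈ W, ∃ (W₁ : X.Opens) (h : W₁ ≤ W), y ∈ W₁ ∧
      ∃ b : Γ(B, W₁), m₂.app W₁ b = mres C h (m₁.app W a)) :
    ∃ φ : A ⟶ B, φ ≫ m₂ = m₁ := by
  have hz : m₁ ≫ cokernel.π m₂ = 0 := by
    apply Scheme.Modules.hom_ext
    intro W
    ext a
    change (cokernel.π m₂).app W (m₁.app W a) = 0
    apply eq_of_locally_eq
    intro y hy
    obtain ⟨W₁, h, hy₁, b, hb⟩ := H W a y hy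
    refine ⟨W₁, h, hy₁, ?_⟩
    rw [map_zero, ← app_mres, ← hb]
    change (m₂ ≫ cokernel.π m₂).app W₁ b = 0
    rw [cokernel.condition]
    rfl
  exact ⟨Abelian.monoLift m₂ m₁ hz, Abelian.monoLift_comp _ _ _⟩

/-- Two subobjects with locally the same sections are isomorphic. -/
theorem exists_iso_of_factor {A B C : X.Modules} (m₁ : A ⟶ C) (m₂ : B ⟶ C) [Mono m₁] [Mono m₂]
    (H₁ : ∀ (W : X.Opens) (a : Γ(A, W)), ∀ y ∈ W, ∃ (W₁ : X.Opens) (h : W₁ ≤ W), y ∈ W₁ ∧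
      ∃ b : Γ(B, W₁), m₂.app W₁ b = mres C h (m₁.app W a))
    (H₂ : ∀ (W : X.Opens) (b : Γ(B, W)), ∀ y ∈ W, ∃ (W₁ : X.Opens) (h : W₁ ≤ W), y ∈ W₁ ∧
      ∃ a : Γ(A, W₁), m₁.app W₁ a = mres C h (m₂.app W b)) :
    ∃ e : A ≅ B, e.hom ≫ m₂ = m₁ := by
  obtain ⟨φ, hφ⟩ := exists_factor m₁ m₂ H₁
  obtain ⟨ψ, hψ⟩ := exists_factor m₂ m₁ H₂
  refine ⟨⟨φ, ψ, ?_, ?_⟩, hφ⟩
  · rw [← cancel_mono m₁, Category.assoc, hψ, hφ, Category.id_comp]
  · rw [← cancel_mono m₂, Category.assoc, hφ, hψ, Category.id_comp]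


end

end Groth.Agent.Lib.Helper18.LSubM
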