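import Groth.Agent.Lib.Helper18.LSubZorn
import Groth.Agent.Lib.Helper18.LSubFactor

/-!
# Extension of quasi-coherent submodules of finite type from an open subscheme (EGA I 9.4.7)

Shared library of helper18 (namespace `Groth.Agent.Lib.Helper18.LSubM`).
Transfer lemmas for restrictions along open immersions (`isLocalizingOn_of_restrict`, `finite_of_restrict`), the canonical extension `ofMono i` of the image of `i : G ⟶ F|_Y`, `exists_restrict_iso`, and the main theorem `exists_extension_of_mono`.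
-/

set_option autoImplicit false
universe u v
open CategoryTheory CategoryTheory.Limits AlgebraicGeometry TopologicalSpace Opposite
open Groth.Agent.Lib.Helper49 Groth.Agent.Lib.Helper45

namespace Groth.Agent.Lib.Helper18.LSubM

section


variable {X Y : Scheme.{u}} (j : Y ⟶ X) [IsOpenImmersion j] (M : X.Modules)

/-- Scalar multiplication on sections of a restriction. -/
theorem restrict_smul (W' : Y.Opens) (r' : Γ(Y, W')) (m : Γ(M.restrict j, W')) :
    r' • m = (show Γ(M.restrict j, W') from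
      ((j.appIso W').inv r' • (show Γ(M, j ''ᵁ W') from m) : Γ(M, j ''ᵁ W'))) := rfl

theorem restrict_mres {W'' W' : Y.Opens} (h : W'' ≤ W') (m : Γ(M.restrict j, W')) :
    mres (M.restrict j) h m = (show Γ(M.restrict j, W'') from
      mres M (j.image_mono h) (show Γ(M, j ''ᵁ W') from m)) := rfl

theorem appIso_inv_fres {W'' W' : Y.Opens} (h : W'' ≤ W') (r' : Γ(Y, W')) :
    (j.appIso W'').inv (fres h r') = fres (j.image_mono h) ((j.appIso W').inv r') := by
  have := j.appIso_inv_naturality (homOfLE h).op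
  exact congrArg (fun g => (ConcreteCategory.hom g) r') this


end


section


variable {X Y : Scheme.{u}} (j : Y ⟶ X) [IsOpenImmersion j] (M : X.Modules)

theorem image_basicOpen_appIso_hom (T' : Y.Opens) (f : Γ(X, j ''ᵁ T')) :
    j ''ᵁ (Y.basicOpen ((j.appIso T').hom f)) = X.basicOpen f := by
  rw [Scheme.image_basicOpen]
  congr 1
  exact Iso.hom_inv_id_apply _ _

/-- Transfer of the localizing property from a restriction along an open immersion. -/
theorem isLocalizingOn_of_restrict (T' : Y.Opens) (h : IsLocalizingOn (M.restrict j) T') :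
    IsLocalizingOn M (j ''ᵁ T') := by
  constructor
  · intro f s
    set f' := (j.appIso T').hom f with hf'
    have e : j ''ᵁ (Y.basicOpen f') = X.basicOpen f := image_basicOpen_appIso_hom j T' f
    have hinv : (j.appIso T').inv f' = f := Iso.hom_inv_id_apply _ _
    let s' : Γ(M.restrict j, Y.basicOpen f') := mres M e.le s
    obtain ⟨n, b, hb⟩ := h.exists_restrict_eq_pow_smul f' s'
    let b₀ : Γ(M, j ''ᵁ T') := b
    have hb₀ : mres M (j.image_mono (Y.basicOpen_le f')) b₀ =
        ((j.appIso (Y.basicOpen f')).inv ((fres (Y.basicOpen_le f') f') ^ n)) • mres M e.le s := hb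
    refine ⟨n, b₀, ?_⟩
    change mres M (X.basicOpen_le f) b₀ = (fres (X.basicOpen_le f) f) ^ n • s
    apply mres_injective_of_eq M e
    rw [mres_mres, mres_smul, map_pow, fres_fres, hb₀, map_pow, appIso_inv_fres, hinv]
  · intro f t ht
    set f' := (j.appIso T').hom f with hf'
    have e : j ''ᵁ (Y.basicOpen f') = X.basicOpen f := image_basicOpen_appIso_hom j T' f
    have hinv : (j.appIso T').inv f' = f := Iso.hom_inv_id_apply _ _
    let t' : Γ(M.restrict j, T') := t
    change mres M (X.basicOpen_le f) t = 0 at ht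
    have ht' : mres (M.restrict j) (Y.basicOpen_le f') t' = 0 := by
      have h1 : mres M (j.image_mono (Y.basicOpen_le f')) t = 0 := by
        have := congrArg (mres M e.le) ht
        rwa [mres_mres, map_zero] at this
      exact h1
    obtain ⟨n, hn⟩ := h.exists_pow_smul_eq_zero f' t' ht'
    have hn' : ((j.appIso T').inv (f' ^ n)) • t = 0 := hn
    refine ⟨n, ?_⟩
    rw [map_pow, hinv] at hn'
    exact hn'

/-- Transfer of finiteness of sections from a restriction along an open immersion. -/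
theorem finite_of_restrict (T' : Y.Opens) (h : Module.Finite Γ(Y, T') Γ(M.restrict j, T')) :
    Module.Finite Γ(X, j ''ᵁ T') Γ(M, j ''ᵁ T') := by
  obtain ⟨S, hS⟩ := h.fg_top
  let S₀ : Finset Γ(M, j ''ᵁ T') := S
  have key : ∀ m' : Γ(M.restrict j, T'),
      m' ∈ Submodule.span Γ(Y, T') (S : Set Γ(M.restrict j, T')) →
      (show Γ(M, j ''ᵁ T') from m') ∈ Submodule.span Γ(X, j ''ᵁ T') (S₀ : Set Γ(M, j ''ᵁ T')) := by
    intro m' hm
    induction hm using Submodule.span_induction with
    | mem x hx => exact Submodule.subset_span hx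
    | zero => exact Submodule.zero_mem _
    | add x y _ _ hx hy => exact Submodule.add_mem _ hx hy
    | smul a x _ hx => exact Submodule.smul_mem _ ((j.appIso T').inv a) hx
  refine ⟨⟨S₀, ?_⟩⟩
  rw [eq_top_iff]
  intro m _
  exact key m (by rw [hS]; trivial)


end


section


variable {X Y : Scheme.{u}} {j : Y ⟶ X} [IsOpenImmersion j] {F : X.Modules} {G : Y.Modules}
  (i : G ⟶ F.restrict j)

/-- The map on sections of a morphism into a restriction, with values in sections over the image. -/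
noncomputable def appX (W' : Y.Opens) : Γ(G, W') →+ Γ(F, j ''ᵁ W') := (i.app W').hom

theorem appX_apply (W' : Y.Opens) (b : Γ(G, W')) :
    appX i W' b = (show Γ(F, j ''ᵁ W') from i.app W' b) := rfl

theorem appX_mres {W'' W' : Y.Opens} (hle : W'' ≤ W') (b : Γ(G, W')) :
    appX i W'' (mres G hle b) = mres F (j.image_mono hle) (appX i W' b) :=
  app_mres i hle b

theorem appX_smul (W' : Y.Opens) (r' : Γ(Y, W')) (b : Γ(G, W')) :
    appX i W' (r' • b) = ((j.appIso W').inv r') • appX i W' b :=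
  Scheme.Modules.Hom.app_smul i r' b

theorem appX_injective [Mono i] (W' : Y.Opens) : Function.Injective (appX i W') :=
  app_injective_of_mono i W'

theorem mem_image_inf {W₁ W₂ : Y.Opens} {x : X} (h₁ : x ∈ j ''ᵁ W₁) (h₂ : x ∈ j ''ᵁ W₂) :
    x ∈ j ''ᵁ (W₁ ⊓ W₂) := by
  obtain ⟨y₁, hy₁, rfl⟩ := h₁
  obtain ⟨y₂, hy₂, he⟩ := h₂
  have : y₂ = y₁ := j.isOpenEmbedding.injective he
  subst this
  exact ⟨y₂, ⟨hy₁, hy₂⟩, rfl⟩

theorem mem_image_inf_preimage {W' : Y.Opens} {T : X.Opens} {x : X} (h₁ : x ∈ j ''ᵁ W')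
    (h₂ : x ∈ T) : x ∈ j ''ᵁ (W' ⊓ j ⁻¹ᵁ T) := by
  obtain ⟨y, hy, rfl⟩ := h₁
  exact ⟨y, ⟨hy, h₂⟩, rfl⟩

/-- The canonical extension to `X` of the image of `i : G ⟶ F|_Y`: sections of `F` whose
restriction to the image of `Y` lies locally in the image of `i`. -/
noncomputable def ofMono : LSub F where
  obj T :=
    { carrier := {t | ∀ x ∈ T ⊓ j.opensRange, ∃ (W' : Y.Opens) (h : j ''ᵁ W' ≤ T), x ∈ j ''ᵁ W' ∧
        ∃ b : Γ(G, W'), appX i W' b = mres F h t}
      zero_mem' := by
        intro x hx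
        refine ⟨j ⁻¹ᵁ T, j.image_preimage_le T, ?_, 0, by rw [map_zero, map_zero]⟩
        rw [j.image_preimage_eq_opensRange_inf]
        exact ⟨hx.2, hx.1⟩
      add_mem' := by
        intro a b ha hb x hx
        obtain ⟨W₁, h₁, hx₁, b₁, hb₁⟩ := ha x hx
        obtain ⟨W₂, h₂, hx₂, b₂, hb₂⟩ := hb x hx
        refine ⟨W₁ ⊓ W₂, (j.image_mono inf_le_left).trans h₁, mem_image_inf hx₁ hx₂,
          mres G inf_le_left b₁ + mres G inf_le_right b₂, ?_⟩
        rw [map_add, map_add, appX_mres, appX_mres, hb₁, hb₂, mres_mres, mres_mres]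
      smul_mem' := by
        intro c a ha x hx
        obtain ⟨W', h, hxW', b, hb⟩ := ha x hx
        refine ⟨W', h, hxW', ((j.appIso W').hom (fres h c)) • b, ?_⟩
        rw [appX_smul, hb, mres_smul]
        congr 1
        exact Iso.hom_inv_id_apply _ _ }
  res_mem := by
    intro U T h t ht x hx
    obtain ⟨W', hW', hxW', b, hb⟩ := ht x ⟨h hx.1, hx.2⟩
    refine ⟨W' ⊓ j ⁻¹ᵁ T, (j.image_mono inf_le_right).trans (j.image_preimage_le T),
      mem_image_inf_preimage hxW' hx.1, mres G inf_le_left b, ?_⟩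
    rw [appX_mres, hb, mres_mres, mres_mres]
  isLocal := by
    intro U t H x hx
    obtain ⟨T, hTU, hxT, hm⟩ := H x hx.1
    obtain ⟨W', hW', hxW', b, hb⟩ := hm x ⟨hxT, hx.2⟩
    refine ⟨W', hW'.trans hTU, hxW', b, ?_⟩
    rw [hb, mres_mres]

theorem mem_ofMono_obj {T : X.Opens} {t : Γ(F, T)} :
    t ∈ (ofMono i).obj T ↔ ∀ x ∈ T ⊓ j.opensRange, ∃ (W' : Y.Opens) (h : j ''ᵁ W' ≤ T),
      x ∈ j ''ᵁ W' ∧ ∃ b : Γ(G, W'), appX i W' b = mres F h t := Iff.rfl

theorem ofMono_sat : (ofMono i).Sat j.opensRange := by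
  intro T t ht x hx
  obtain ⟨W', hW', hxW', b, hb⟩ := ht x ⟨hx, hx.2⟩
  refine ⟨W', hW'.trans inf_le_left, hxW', b, ?_⟩
  rw [hb, mres_mres]

theorem appX_mem_ofMono (W' : Y.Opens) (b : Γ(G, W')) : appX i W' b ∈ (ofMono i).obj (j ''ᵁ W') := by
  intro x hx
  exact ⟨W', le_rfl, hx.1, b, by rw [mres_self]⟩


end


section


namespace LSub

variable {X : Scheme.{u}} {F : X.Modules} (S : LSub F)

/-- Converse of `isLocalizingOn_toModules`. -/
theorem good_of_isLocalizingOn {T : X.Opens} (hF : IsLocalizingOn F T)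
    (h : IsLocalizingOn S.toModules T) : S.Good T := by
  intro f t ht
  obtain ⟨n, t₁, ht₁⟩ := h.exists_restrict_eq_pow_smul f (S.sec _ _ ht)
  change mres S.toModules _ t₁ = (fres (X.basicOpen_le f) f) ^ n • S.sec _ _ ht at ht₁
  have h1 : mres F (X.basicOpen_le f) (S.ι.app T t₁ - f ^ n • t) = 0 := by
    rw [map_sub, ← S.ι_app_mres, ht₁, S.ι_app_smul, S.ι_app_sec, mres_smul, map_pow, sub_self]
  obtain ⟨m, hm⟩ := hF.exists_pow_smul_eq_zero f _ h1
  refine ⟨m + n, ?_⟩
  rw [smul_sub, sub_eq_zero, smul_smul, ← pow_add] at hm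
  rw [← hm]
  exact Submodule.smul_mem _ _ (S.ι_app_mem T t₁)

theorem fg_of_finite_sections (U : X.Opens) (h : Module.Finite Γ(X, U) Γ(S.toModules, U)) :
    (S.obj U).FG := by
  rw [← Module.Finite.iff_fg]
  let φ : Γ(S.toModules, U) →ₗ[Γ(X, U)] ↥(S.obj U) :=
    { toFun := fun s => ⟨S.ι.app U s, S.ι_app_mem U s⟩
      map_add' := fun _ _ => rfl
      map_smul' := fun _ _ => rfl }
  refine Module.Finite.of_surjective φ fun t => ?_
  exact ⟨S.sec U t.1 t.2, rfl⟩

end LSub

variable {X Y : Scheme.{u}} {j : Y ⟶ X} [IsOpenImmersion j] {F : X.Modules} {G : Y.Modules}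
  (i : G ⟶ F.restrict j)

instance (K : LSub F) : Mono ((Scheme.Modules.restrictFunctor j).map K.ι) := inferInstance

theorem restrictFunctor_map_app {M N : X.Modules} (φ : M ⟶ N) (W' : Y.Opens) (a : Γ(M.restrict j, W')) :
    ((Scheme.Modules.restrictFunctor j).map φ).app W' a = φ.app (j ''ᵁ W') a := rfl

/-- A family which agrees with the canonical extension `ofMono i` inside the image of `Y` restricts
to `G` on `Y`. -/
theorem exists_restrict_iso [Mono i] (K : LSub F)
    (hK : ∀ T ≤ j.opensRange, K.obj T = (ofMono i).obj T) :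
    ∃ e : K.toModules.restrict j ≅ G,
      e.hom ≫ i = (Scheme.Modules.restrictFunctor j).map K.ι := by
  apply exists_iso_of_factor
  · intro W' a y hy
    let t : Γ(F, j ''ᵁ W') := K.ι.app (j ''ᵁ W') a
    have ht : t ∈ (ofMono i).obj (j ''ᵁ W') := by
      rw [← hK _ (j.image_le_opensRange W')]
      exact K.ι_app_mem _ a
    obtain ⟨W'', h'', hxW'', b, hb⟩ := ht (j y) ⟨⟨y, hy, rfl⟩, ⟨y, rfl⟩⟩
    have hle : W'' ≤ W' := (j.image_le_image_iff W'' W').mp h''
    have hy'' : y ∈ W'' := by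
      obtain ⟨y', hy', he⟩ := hxW''
      have : y' = y := j.isOpenEmbedding.injective he
      exact this ▸ hy'
    exact ⟨W'', hle, hy'', b, hb⟩
  · intro W' b y hy
    have hmem : appX i W' b ∈ K.obj (j ''ᵁ W') := by
      rw [hK _ (j.image_le_opensRange W')]
      exact appX_mem_ofMono i W' b
    refine ⟨W', le_rfl, hy, K.sec (j ''ᵁ W') (appX i W' b) hmem, ?_⟩
    rw [mres_self]
    rfl


end


section


variable {X Y : Scheme.{u}} {j : Y ⟶ X} [IsOpenImmersion j] {F : X.Modules} {G : Y.Modules}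
  (i : G ⟶ F.restrict j)

/-- The canonical extension of a quasi-coherent submodule of finite type is good and finitely
generated on the images of the affine opens of `Y`. -/
theorem ofMono_good_fg [Mono i] [G.IsQuasicoherent]
    (hG : SheafOfModules.IsFiniteType (R := Y.ringCatSheaf) G)
    (hF : ∀ T : X.Opens, IsAffineOpen T → IsLocalizingOn F T)
    {T' : Y.Opens} (hT' : IsAffineOpen T') :
    (ofMono i).Good (j ''ᵁ T') ∧ ((ofMono i).obj (j ''ᵁ T')).FG := by
  obtain ⟨e, -⟩ := exists_restrict_iso i (ofMono i) (fun _ _ => rfl)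
  have hq : ((ofMono i).toModules.restrict j).IsQuasicoherent := isQuasicoherent_of_iso e.symm ‹_›
  have hft : SheafOfModules.IsFiniteType (R := Y.ringCatSheaf) ((ofMono i).toModules.restrict j) :=
    isFiniteType_of_iso e.symm hG
  have hTaff : IsAffineOpen (j ''ᵁ T') := hT'.image_of_isOpenImmersion j
  constructor
  · apply LSub.good_of_isLocalizingOn _ (hF _ hTaff)
    apply isLocalizingOn_of_restrict j
    exact isLocalizingOn_of_isQuasicoherent hT' _
  · apply LSub.fg_of_finite_sections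
    apply finite_of_restrict j
    exact finite_sections_of_isFiniteType _ hft hT'

theorem ofMono_locally_good_fg [Mono i] [G.IsQuasicoherent]
    (hG : SheafOfModules.IsFiniteType (R := Y.ringCatSheaf) G)
    (hF : ∀ T : X.Opens, IsAffineOpen T → IsLocalizingOn F T) :
    ∀ x ∈ j.opensRange, ∃ T : X.Opens, IsAffineOpen T ∧ x ∈ T ∧ T ≤ j.opensRange ∧
      (ofMono i).Good T ∧ ((ofMono i).obj T).FG := by
  rintro _ ⟨y, rfl⟩
  obtain ⟨_, ⟨T', hT', rfl⟩, hyT', -⟩ :=
    Y.isBasis_affineOpens.exists_subset_of_mem_open (Set.mem_univ y) isOpen_univ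
  obtain ⟨h1, h2⟩ := ofMono_good_fg i hG hF hT'
  exact ⟨j ''ᵁ T', hT'.image_of_isOpenImmersion j, ⟨y, hyT', rfl⟩, j.image_le_opensRange T', h1, h2⟩

/-- EGA I 9.4.7 in general form (well-ordered affine cover): a quasi-coherent submodule of finite
type of `F|_Y` extends to a quasi-coherent submodule of finite type of `F`. -/
theorem exists_extension_of_mono [F.IsQuasicoherent] [Mono i] [G.IsQuasicoherent]
    (hG : SheafOfModules.IsFiniteType (R := Y.ringCatSheaf) G)
    {L : Type v} [LinearOrder L] [WellFoundedLT L]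
    (V : L → X.Opens) (hV : ∀ l, IsAffineOpen (V l)) (hcov : ⨆ l, V l = ⊤)
    (hW : ∀ l, IsCompact ((V l : Set X) ∩ ⋃ m ∈ Set.Iio l, (V m : Set X)))
    (hW₀ : ∀ l, IsCompact ((V l : Set X) ∩ (j.opensRange : Set X))) :
    ∃ (G' : X.Modules) (i' : G' ⟶ F) (e : G'.restrict j ≅ G), Mono i' ∧ G'.IsQuasicoherent ∧
      SheafOfModules.IsFiniteType (R := X.ringCatSheaf) G' ∧
      e.hom ≫ i = (Scheme.Modules.restrictFunctor j).map i' := by
  have hF : ∀ T : X.Opens, IsAffineOpen T → IsLocalizingOn F T :=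
    fun T hT => isLocalizingOn_of_isQuasicoherent hT F
  obtain ⟨K, hK₀, hKV⟩ := LSub.exists_extension (V := V) (W₀ := j.opensRange) (K₀ := ofMono i)
    hF hV hW hW₀ (ofMono_sat i) (ofMono_locally_good_fg i hG hF)
  obtain ⟨e, he⟩ := exists_restrict_iso i K hK₀
  have hcov' : ∀ x : X, ∃ T ∈ Set.range V, x ∈ T := by
    intro x
    have hx : x ∈ (⨆ l, V l : X.Opens) := by rw [hcov]; trivial
    obtain ⟨l, hl⟩ := Opens.mem_iSup.mp hx
    exact ⟨V l, ⟨l, rfl⟩, hl⟩
  have hq : K.toModules.IsQuasicoherent :=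
    K.isQuasicoherent_toModules hF (Set.range V) (by rintro _ ⟨l, rfl⟩; exact hV l) hcov'
      (by rintro _ ⟨l, rfl⟩; exact (hKV l).1)
  have hft : SheafOfModules.IsFiniteType (R := X.ringCatSheaf) K.toModules :=
    K.isFiniteType_toModules (Set.range V) (by rintro _ ⟨l, rfl⟩; exact hV l) hcov'
      (by rintro _ ⟨l, rfl⟩; exact (hKV l).2)
  exact ⟨K.toModules, K.ι, e, inferInstance, hq, hft, he⟩


end

end Groth.Agent.Lib.Helper18.LSubM
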