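import Mathlib
import Groth.Agent.Lib.Helper18.FPExtend
import Groth.Agent.S10848

/-!
# Finitely presented quotients on qcqs schemes (Stacks 01PI-type results)

Shared library of helper18 (namespace `Groth.Agent.Lib.Helper18.FPM`).

* `epi_of_stalkMap_surjective`, `biprodSectionsEquiv`, `isFinitePresentation_biprod`,
  `isFiniteType_kernel_of_epi`, `isFinitePresentation_cokernel_of_mono`.
* `exists_fp_epi`: on a qcqs scheme a quasi-coherent module of finite type is a quotient of a
  finitely presented module.
* `exists_fp_quotient_isoOn`, `exists_fp_epi_isoOn`: the quotient can be taken to be an isomorphism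
  over a quasi-compact open where the module is finitely presented.
-/
set_option autoImplicit false
universe u
open CategoryTheory CategoryTheory.Limits AlgebraicGeometry TopologicalSpace Opposite

namespace Groth.Agent.Lib.Helper18.FPM

open Groth.Agent.Lib.Helper49 Groth.Agent.Lib.Helper45

variable {X : Scheme.{u}}

/-- A morphism of modules which is surjective on all stalks is an epimorphism. -/
theorem epi_of_stalkMap_surjective {A B : X.Modules} (φ : A ⟶ B)
    (h : ∀ x : X, Function.Surjective (Helper49.stalkMap φ x).hom) : Epi φ := by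
  have h1 : IsZero (cokernel φ) := by
    rw [Helper45.isZero_iff_stalk_subsingleton]
    intro x
    exact (Helper49.subsingleton_stalk_cokernel_iff φ x).mpr (h x)
  exact Preadditive.epi_of_isZero_cokernel φ h1

theorem stalkMap_surjective_of_comp {A B C : X.Modules} (α : A ⟶ B) (β : B ⟶ C) (x : X)
    (h : Function.Surjective (Helper49.stalkMap (α ≫ β) x).hom) :
    Function.Surjective (Helper49.stalkMap β x).hom := by
  intro c
  obtain ⟨a, rfl⟩ := h c
  exact ⟨(Helper49.stalkMap α x).hom a, (Helper49.stalkMap_comp_apply' α β x a).symm⟩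

/-- Sections of a binary biproduct. -/
noncomputable def biprodSectionsEquiv (A B : X.Modules) (T : X.Opens) :
    Γ(A ⊞ B, T) ≃ₗ[Γ(X, T)] (Γ(A, T) × Γ(B, T)) where
  toFun m := (Helper45.appₗ biprod.fst T m, Helper45.appₗ biprod.snd T m)
  map_add' a b := by simp
  map_smul' r a := by simp
  invFun p := Helper45.appₗ biprod.inl T p.1 + Helper45.appₗ biprod.inr T p.2
  left_inv m := by
    change ((biprod.fst ≫ biprod.inl + biprod.snd ≫ biprod.inr : A ⊞ B ⟶ A ⊞ B).app T) m = m
    rw [biprod.total]; rfl
  right_inv p := by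
    obtain ⟨a, b⟩ := p
    have h1 : (((biprod.inl : A ⟶ A ⊞ B) ≫ biprod.fst : A ⟶ A).app T) a = a := by
      rw [biprod.inl_fst]; rfl
    have h2 : (((biprod.inr : B ⟶ A ⊞ B) ≫ biprod.fst : B ⟶ A).app T) b = 0 := by
      rw [biprod.inr_fst]; rfl
    have h3 : (((biprod.inl : A ⟶ A ⊞ B) ≫ biprod.snd : A ⟶ B).app T) a = 0 := by
      rw [biprod.inl_snd]; rfl
    have h4 : (((biprod.inr : B ⟶ A ⊞ B) ≫ biprod.snd : B ⟶ B).app T) b = b := by
      rw [biprod.inr_snd]; rfl
    refine Prod.ext ?_ ?_
    · change ((biprod.fst : A ⊞ B ⟶ A).app T)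
        (((biprod.inl : A ⟶ A ⊞ B).app T) a + ((biprod.inr : B ⟶ A ⊞ B).app T) b) = a
      rw [map_add]
      change (((biprod.inl : A ⟶ A ⊞ B) ≫ biprod.fst : A ⟶ A).app T) a +
        (((biprod.inr : B ⟶ A ⊞ B) ≫ biprod.fst : B ⟶ A).app T) b = a
      rw [h1, h2, add_zero]
    · change ((biprod.snd : A ⊞ B ⟶ B).app T)
        (((biprod.inl : A ⟶ A ⊞ B).app T) a + ((biprod.inr : B ⟶ A ⊞ B).app T) b) = b
      rw [map_add]
      change (((biprod.inl : A ⟶ A ⊞ B) ≫ biprod.snd : A ⟶ B).app T) a +
        (((biprod.inr : B ⟶ A ⊞ B) ≫ biprod.snd : B ⟶ B).app T) b = b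
      rw [h3, h4, zero_add]

theorem isFinitePresentation_biprod {A B : X.Modules}
    (hA : SheafOfModules.IsFinitePresentation (R := X.ringCatSheaf) A)
    (hB : SheafOfModules.IsFinitePresentation (R := X.ringCatSheaf) B) :
    SheafOfModules.IsFinitePresentation (R := X.ringCatSheaf) (A ⊞ B : X.Modules) := by
  have hAq : A.IsQuasicoherent := by
    obtain ⟨σ, -⟩ := SheafOfModules.IsFinitePresentation.exists_quasicoherentData
      (R := X.ringCatSheaf) A
    exact σ.isQuasicoherent
  have hBq : B.IsQuasicoherent := by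
    obtain ⟨σ, -⟩ := SheafOfModules.IsFinitePresentation.exists_quasicoherentData
      (R := X.ringCatSheaf) B
    exact σ.isQuasicoherent
  have hq : (A ⊞ B).IsQuasicoherent := LSubM.isQuasicoherent_biprod A B
  refine isFinitePresentation_of_finitePresentation_sections (A ⊞ B) fun T => ?_
  have h1 := finitePresentation_sections_of_isFinitePresentation A hA T.2
  have h2 := finitePresentation_sections_of_isFinitePresentation B hB T.2
  exact Module.FinitePresentation.of_equiv (biprodSectionsEquiv A B T.1).symm

theorem isQuasicoherent_of_isFinitePresentation {A : X.Modules}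
    (hA : SheafOfModules.IsFinitePresentation (R := X.ringCatSheaf) A) : A.IsQuasicoherent := by
  obtain ⟨σ, -⟩ := SheafOfModules.IsFinitePresentation.exists_quasicoherentData
    (R := X.ringCatSheaf) A
  exact σ.isQuasicoherent

/-- The kernel of an epimorphism from a quasi-coherent module with finite sections onto one with
finitely presented sections is of finite type. -/
theorem isFiniteType_kernel_of_epi {A B : X.Modules} (φ : A ⟶ B) [Epi φ] [A.IsQuasicoherent]
    [B.IsQuasicoherent] (hA : ∀ T : X.affineOpens, Module.Finite Γ(X, T.1) Γ(A, T.1))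
    (hB : ∀ T : X.affineOpens, Module.FinitePresentation Γ(X, T.1) Γ(B, T.1)) :
    SheafOfModules.IsFiniteType (R := X.ringCatSheaf) (kernel φ) := by
  have hK : (kernel φ).IsQuasicoherent := isQuasicoherent_kernel φ inferInstance inferInstance
  refine isFiniteType_of_finite_sections (kernel φ) fun T => ?_
  have hS : (ShortComplex.mk (kernel.ι φ) φ (kernel.condition φ)).ShortExact :=
    ⟨ShortComplex.exact_of_f_is_kernel _ (kernelIsKernel φ)⟩
  have hex := Helper45.app_exact_of_shortExact _ hS T.1
  have hsurj : Function.Surjective (Helper45.appₗ φ T.1) :=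
    Groth.Agent.Lib.Helper42.app_surjective_of_epi φ T.2
  have := hA T
  have := hB T
  have hfg : (LinearMap.ker (Helper45.appₗ φ T.1)).FG :=
    Module.FinitePresentation.fg_ker (Helper45.appₗ φ T.1) hsurj
  have hinj : Function.Injective (Helper45.appₗ (kernel.ι φ) T.1) :=
    Helper45.app_injective_of_mono (kernel.ι φ) T.1
  have hrange : LinearMap.range (Helper45.appₗ (kernel.ι φ) T.1) =
      LinearMap.ker (Helper45.appₗ φ T.1) := by
    ext b
    exact (hex b).symm
  have : Module.Finite Γ(X, T.1) ↥(LinearMap.range (Helper45.appₗ (kernel.ι φ) T.1)) := by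
    rw [hrange]; exact Module.Finite.iff_fg.mpr hfg
  exact Module.Finite.equiv (LinearEquiv.ofInjective _ hinj).symm

/-- The cokernel of a monomorphism from a quasi-coherent module of finite type into a finitely
presented module is finitely presented. -/
theorem isFinitePresentation_cokernel_of_mono {A B : X.Modules} (i : A ⟶ B) [Mono i]
    [A.IsQuasicoherent] (hA : SheafOfModules.IsFiniteType (R := X.ringCatSheaf) A)
    (hB : SheafOfModules.IsFinitePresentation (R := X.ringCatSheaf) B) :
    SheafOfModules.IsFinitePresentation (R := X.ringCatSheaf) (cokernel i) := by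
  have hBq : B.IsQuasicoherent := isQuasicoherent_of_isFinitePresentation hB
  have hC : (cokernel i).IsQuasicoherent := isQuasicoherent_cokernel i inferInstance hBq
  refine isFinitePresentation_of_finitePresentation_sections (cokernel i) fun T => ?_
  have hS : (ShortComplex.mk i (cokernel.π i) (cokernel.condition i)).ShortExact :=
    ⟨ShortComplex.exact_of_g_is_cokernel _ (cokernelIsCokernel i)⟩
  have hex := Helper45.app_exact_of_shortExact _ hS T.1
  have hsurj : Function.Surjective (Helper45.appₗ (cokernel.π i) T.1) :=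
    Groth.Agent.Lib.Helper42.app_surjective_of_epi (cokernel.π i) T.2
  have := finitePresentation_sections_of_isFinitePresentation B hB T.2
  have hAfin : Module.Finite Γ(X, T.1) Γ(A, T.1) := finite_sections_of_isFiniteType A hA T.2
  have hker : LinearMap.ker (Helper45.appₗ (cokernel.π i) T.1) =
      LinearMap.range (Helper45.appₗ i T.1) := by
    ext b
    exact hex b
  refine Module.finitePresentation_of_surjective (Helper45.appₗ (cokernel.π i) T.1) hsurj ?_
  rw [hker, LinearMap.range_eq_map]
  exact Module.Finite.fg_top.map _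

set_option backward.isDefEq.respectTransparency false in
/-- On a qcqs scheme, a quasi-coherent module of finite type receives a map from a finitely
presented module which is surjective on stalks over a given affine open. -/
theorem exists_fp_surjOn_affine [CompactSpace X] [QuasiSeparatedSpace X] (F : X.Modules)
    [F.IsQuasicoherent] (hF : SheafOfModules.IsFiniteType (R := X.ringCatSheaf) F) {V : X.Opens}
    (hV : IsAffineOpen V) :
    ∃ (G : X.Modules) (φ : G ⟶ F), SheafOfModules.IsFinitePresentation (R := X.ringCatSheaf) G ∧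
      ∀ x ∈ V, Function.Surjective (Helper49.stalkMap φ x).hom := by
  have hfin : Module.Finite Γ(X, V) Γ(F, V) := finite_sections_of_isFiniteType F hF hV
  obtain ⟨b, p, hp⟩ := Module.Finite.exists_fin' Γ(X, V) Γ(F, V)
  let N : (Spec Γ(X, V)).Modules := F.restrict hV.fromSpec
  have hN : N.IsQuasicoherent := Scheme.Modules.isQuasicoherent_restrictFunctor _ _
  let ΓN : ModuleCat.{u} Γ(X, V) := (modulesSpecToSheaf.obj N).presheaf.obj (.op ⊤)
  let e := sectionsFromSpecTopEquiv hV F
  let p'' : (Fin b → Γ(X, V)) →ₗ[Γ(X, V)] ΓN := e.symm.toLinearMap ∘ₗ p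
  let M₀ : ModuleCat.{u} Γ(X, V) := ModuleCat.of Γ(X, V) (Fin b → Γ(X, V))
  let p' : M₀ ⟶ ΓN := ModuleCat.ofHom (Y := ΓN) p''
  have hp' : Epi p' := by
    rw [ModuleCat.epi_iff_surjective]
    exact e.symm.surjective.comp hp
  let N₀ := (tilde.functor Γ(X, V)).obj M₀
  have hN₀ : SheafOfModules.IsFinitePresentation (R := (Spec Γ(X, V)).ringCatSheaf) N₀ :=
    (isFinitePresentation_tilde_iff Γ(X, V) M₀).mpr inferInstance
  let π₀ : N₀ ⟶ N := (tilde.functor Γ(X, V)).map p' ≫ N.fromTildeΓ
  have hπ₀ : Epi π₀ := by
    have : Epi ((tilde.functor Γ(X, V)).map p') := inferInstance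
    exact epi_comp _ _
  let ι₀ := hV.isoSpec.hom
  let G₀ : (V : Scheme.{u}).Modules := N₀.restrict ι₀
  have hG₀ : SheafOfModules.IsFinitePresentation (R := (V : Scheme.{u}).ringCatSheaf) G₀ :=
    isFinitePresentation_restrict N₀ ι₀ hN₀
  let c : N.restrict ι₀ ≅ F.restrict V.ι :=
    ((Scheme.Modules.restrictFunctorComp ι₀ hV.fromSpec).symm ≪≫
      Scheme.Modules.restrictFunctorCongr hV.isoSpec_hom_fromSpec).app F
  let φ₀ : G₀ ⟶ F.restrict V.ι := (Scheme.Modules.restrictFunctor ι₀).map π₀ ≫ c.hom
  have hφ₀ : Epi φ₀ := by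
    have : Epi ((Scheme.Modules.restrictFunctor ι₀).map π₀) := inferInstance
    exact epi_comp _ _
  obtain ⟨G', φ', e', hfp, hcomp⟩ :=
    exists_fp_extension_with_map F V hV.isCompact G₀ hG₀ φ₀
  have hepi : Epi ((Scheme.Modules.restrictFunctor V.ι).map φ') := by
    rw [← hcomp]
    exact epi_comp _ _
  refine ⟨G', φ', hfp, fun x hx => ?_⟩
  exact Helper49.stalkMap_surjective_of_restrict V.ι φ' ⟨x, hx⟩
    (Helper49.stalkMap_surjective_of_epi _ _)

/-- On a qcqs scheme, every quasi-coherent module of finite type is a quotient of a finitely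
presented module. -/
theorem exists_fp_epi [CompactSpace X] [QuasiSeparatedSpace X] (F : X.Modules)
    [F.IsQuasicoherent] (hF : SheafOfModules.IsFiniteType (R := X.ringCatSheaf) F) :
    ∃ (P : X.Modules) (ε : P ⟶ F),
      SheafOfModules.IsFinitePresentation (R := X.ringCatSheaf) P ∧ Epi ε := by
  have key : ∀ S : X.Opens, IsCompact (S : Set X) → ∃ (P : X.Modules) (ε : P ⟶ F),
      SheafOfModules.IsFinitePresentation (R := X.ringCatSheaf) P ∧
        ∀ x ∈ S, Function.Surjective (Helper49.stalkMap ε x).hom := by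
    intro S hS
    refine compact_open_induction_on (P := fun S => ∃ (P : X.Modules) (ε : P ⟶ F),
      SheafOfModules.IsFinitePresentation (R := X.ringCatSheaf) P ∧
        ∀ x ∈ S, Function.Surjective (Helper49.stalkMap ε x).hom) S hS ?_ ?_
    · obtain ⟨G, ψ, hG, -⟩ := exists_fp_isoOn F (U := ⊥) (by simp)
        (fun x hx => absurd hx (by simp))
      exact ⟨G, ψ, hG, fun x hx => absurd hx (by simp)⟩
    · intro S hS V ih
      obtain ⟨P, ε, hP, hε⟩ := ih
      obtain ⟨G, φ, hG, hφ⟩ := exists_fp_surjOn_affine F hF V.2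
      refine ⟨(P ⊞ G : X.Modules), biprod.desc ε φ, isFinitePresentation_biprod hP hG, ?_⟩
      intro x hx
      rcases hx with hx | hx
      · refine stalkMap_surjective_of_comp (biprod.inl : P ⟶ P ⊞ G) (biprod.desc ε φ) x ?_
        rw [biprod.inl_desc]; exact hε x hx
      · refine stalkMap_surjective_of_comp (biprod.inr : G ⟶ P ⊞ G) (biprod.desc ε φ) x ?_
        rw [biprod.inr_desc]; exact hφ x hx
  obtain ⟨P, ε, hP, hε⟩ := key ⊤ isCompact_univ
  exact ⟨P, ε, hP, epi_of_stalkMap_surjective ε fun x => hε x (Opens.mem_top x)⟩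

/-- Given an epimorphism `ε : P ⟶ F` from a finitely presented module onto a quasi-coherent
module whose restriction to a quasi-compact open `U` is finitely presented, `ε` factors through a
finitely presented quotient `G` of `P` with `G ⟶ F` an epimorphism, an isomorphism over `U`. -/
theorem exists_fp_quotient_isoOn [CompactSpace X] [QuasiSeparatedSpace X] {P F : X.Modules}
    [F.IsQuasicoherent] (ε : P ⟶ F) [Epi ε]
    (hP : SheafOfModules.IsFinitePresentation (R := X.ringCatSheaf) P)
    (U : X.Opens) (hU : IsCompact (U : Set X))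
    (hFU : SheafOfModules.IsFinitePresentation (R := (U : Scheme.{u}).ringCatSheaf)
      (F.restrict U.ι)) :
    ∃ (K' : X.Modules) (i : K' ⟶ P) (φ : cokernel i ⟶ F), Mono i ∧ K'.IsQuasicoherent ∧
      SheafOfModules.IsFiniteType (R := X.ringCatSheaf) K' ∧ i ≫ ε = 0 ∧
      cokernel.π i ≫ φ = ε ∧
      SheafOfModules.IsFinitePresentation (R := X.ringCatSheaf) (cokernel i) ∧ Epi φ ∧
      IsoOn φ U := by
  have hPq : P.IsQuasicoherent := isQuasicoherent_of_isFinitePresentation hP
  let K := kernel ε
  let κ : K ⟶ P := kernel.ι ε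
  have hK : K.IsQuasicoherent := isQuasicoherent_kernel ε hPq inferInstance
  let R := Scheme.Modules.restrictFunctor U.ι
  -- `K|_U` is of finite type
  have hPU : SheafOfModules.IsFinitePresentation (R := (U : Scheme.{u}).ringCatSheaf)
      (P.restrict U.ι) := isFinitePresentation_restrict P U.ι hP
  have hPUq : (P.restrict U.ι).IsQuasicoherent := Scheme.Modules.isQuasicoherent_restrictFunctor _ _
  have hFUq : (F.restrict U.ι).IsQuasicoherent := Scheme.Modules.isQuasicoherent_restrictFunctor _ _
  have hεU : Epi (R.map ε) := inferInstance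
  have hker : SheafOfModules.IsFiniteType (R := (U : Scheme.{u}).ringCatSheaf)
      (kernel (R.map ε)) := by
    refine isFiniteType_kernel_of_epi (R.map ε) (fun T => ?_) (fun T => ?_)
    · have := finitePresentation_sections_of_isFinitePresentation _ hPU T.2
      infer_instance
    · exact finitePresentation_sections_of_isFinitePresentation _ hFU T.2
  have hKU : SheafOfModules.IsFiniteType (R := (U : Scheme.{u}).ringCatSheaf)
      (K.restrict U.ι) := isFiniteType_of_iso (PreservesKernel.iso R ε).symm hker
  have hKUq : (K.restrict U.ι).IsQuasicoherent := Scheme.Modules.isQuasicoherent_restrictFunctor _ _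
  obtain ⟨K', i, e, hi, hK'q, hK'ft, hcomp⟩ :=
    Groth.Agent.S10848.result U hU K (K.restrict U.ι) hKU (𝟙 _)
  have hK'q' : K'.IsQuasicoherent := hK'q
  have hiU : IsIso (R.map i) := by
    rw [← hcomp, Category.comp_id]; infer_instance
  have hix : ∀ x ∈ U, Function.Bijective (Helper49.stalkMap i x).hom :=
    (Helper49.isIso_restrict_iff i U).mp hiU
  let iP : K' ⟶ P := i ≫ κ
  have hiP : Mono iP := mono_comp _ _
  have hzero : iP ≫ ε = 0 := by
    rw [Category.assoc, kernel.condition, comp_zero]
  let φ : cokernel iP ⟶ F := cokernel.desc iP ε hzero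
  have hfac : cokernel.π iP ≫ φ = ε := cokernel.π_desc _ _ _
  have hφ : Epi φ := epi_of_epi_fac hfac
  refine ⟨K', iP, φ, hiP, hK'q', hK'ft, hzero, hfac,
    isFinitePresentation_cokernel_of_mono iP hK'ft hP, hφ, fun x hx => ⟨?_, ?_⟩⟩
  · rw [injective_iff_map_eq_zero]
    intro g hg
    obtain ⟨p, rfl⟩ := Helper49.stalkMap_surjective_of_epi (cokernel.π iP) x g
    have h1 : (Helper49.stalkMap ε x).hom p = 0 := by
      rw [← hg, ← Helper49.stalkMap_comp_apply', hfac]
    have hS : (ShortComplex.mk κ ε (kernel.condition ε)).ShortExact :=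
      ⟨ShortComplex.exact_of_f_is_kernel _ (kernelIsKernel ε)⟩
    obtain ⟨k, rfl⟩ := (Helper49.stalkMap_exact_of_shortExact _ hS x p).mp h1
    obtain ⟨k', rfl⟩ := (hix x hx).2 k
    have h2 : (Helper49.stalkMap κ x).hom ((Helper49.stalkMap i x).hom k') =
        (Helper49.stalkMap iP x).hom k' := (Helper49.stalkMap_comp_apply' i κ x k').symm
    rw [h2]
    exact Helper49.stalkMap_eq_zero_of_comp_eq_zero iP (cokernel.π iP) (cokernel.condition iP) x k'
  · exact Helper49.stalkMap_surjective_of_epi φ x

/-- **Stacks 01PI-type statement.** On a qcqs scheme, a quasi-coherent module of finite type whose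
restriction to a quasi-compact open `U` is finitely presented is a quotient of a finitely
presented module by a map which is an isomorphism over `U`. -/
theorem exists_fp_epi_isoOn [CompactSpace X] [QuasiSeparatedSpace X] (F : X.Modules)
    [F.IsQuasicoherent] (hF : SheafOfModules.IsFiniteType (R := X.ringCatSheaf) F)
    (U : X.Opens) (hU : IsCompact (U : Set X))
    (hFU : SheafOfModules.IsFinitePresentation (R := (U : Scheme.{u}).ringCatSheaf)
      (F.restrict U.ι)) :
    ∃ (G : X.Modules) (φ : G ⟶ F), SheafOfModules.IsFinitePresentation (R := X.ringCatSheaf) G ∧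
      Epi φ ∧ IsIso ((Scheme.Modules.restrictFunctor U.ι).map φ) := by
  obtain ⟨P, ε, hP, hε⟩ := exists_fp_epi F hF
  obtain ⟨K', i, φ, -, -, -, -, -, hfp, hφ, hiso⟩ := exists_fp_quotient_isoOn ε hP U hU hFU
  exact ⟨cokernel i, φ, hfp, hφ, (Helper49.isIso_restrict_iff φ U).mpr hiso⟩

end Groth.Agent.Lib.Helper18.FPM
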