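import Groth.Agent.Lib.Helper18.LSubSup
import Groth.Agent.Lib.Helper18.LSubRestrict
import Groth.Agent.Lib.Helper18.FTApprox

/-!
# Finite type quasi-coherent subsheaves on quasi-compact quasi-separated schemes

Shared library of helper18 (namespace `Groth.Agent.Lib.Helper18.LSubM`).
`LSub.IsQFT K`: the family is good and finitely generated on every affine open (equivalently
`K.toModules` is quasi-coherent of finite type, when `F` is quasi-coherent).
-/

set_option autoImplicit false
universe u v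
open CategoryTheory CategoryTheory.Limits AlgebraicGeometry TopologicalSpace Opposite
open Groth.Agent.Lib.Helper49 Groth.Agent.Lib.Helper45

namespace Groth.Agent.Lib.Helper18.LSubM

variable {X : Scheme.{u}} {F : X.Modules}

/-- A finite well-ordered affine cover of a quasi-compact quasi-separated scheme, in the form
needed by `LSub.exists_extension`. -/
theorem exists_fin_cover (X : Scheme.{u}) [CompactSpace X] [QuasiSeparatedSpace X] :
    ∃ (n : ℕ) (V : Fin n → X.Opens), (∀ l, IsAffineOpen (V l)) ∧ (⨆ l, V l = ⊤) ∧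
      (∀ l, IsCompact ((V l : Set X) ∩ ⋃ m ∈ Set.Iio l, (V m : Set X))) ∧
      ∀ (U : X.Opens), IsCompact (U : Set X) → ∀ l, IsCompact ((V l : Set X) ∩ (U : Set X)) := by
  classical
  obtain ⟨T, hT⟩ := FTApprox.exists_finite_affine_cover X
  let ε := T.equivFin
  let V : Fin T.card → X.Opens := fun k => ((ε.symm k : ↥T) : X.affineOpens).1
  have hV : ∀ l, IsAffineOpen (V l) := fun l => ((ε.symm l : ↥T) : X.affineOpens).2
  refine ⟨T.card, V, hV, ?_, ?_, ?_⟩
  · rw [← hT]
    exact ε.symm.iSup_comp (g := fun W : ↥T => (W.1 : X.affineOpens).1)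
  · intro l
    rw [Set.inter_iUnion₂]
    refine (Set.finite_Iio l).isCompact_biUnion fun m _ => ?_
    exact QuasiSeparatedSpace.inter_isCompact _ _ (V l).2 (hV l).isCompact (V m).2 (hV m).isCompact
  · intro U hU l
    exact QuasiSeparatedSpace.inter_isCompact _ _ (V l).2 (hV l).isCompact U.2 hU

namespace LSub

/-- Good and finitely generated on every affine open. -/
def IsQFT (K : LSub F) : Prop := ∀ T : X.Opens, IsAffineOpen T → K.Good T ∧ (K.obj T).FG

theorem isQFT_of_qcoh_ft [F.IsQuasicoherent] (K : LSub F) (hq : K.toModules.IsQuasicoherent)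
    (hft : SheafOfModules.IsFiniteType (R := X.ringCatSheaf) K.toModules) : K.IsQFT := by
  intro T hT
  exact ⟨K.good_of_isLocalizingOn (isLocalizingOn_of_isQuasicoherent hT F)
      (isLocalizingOn_of_isQuasicoherent hT K.toModules),
    K.fg_of_finite_sections T (finite_sections_of_isFiniteType K.toModules hft hT)⟩

theorem IsQFT.isQuasicoherent [F.IsQuasicoherent] {K : LSub F} (hK : K.IsQFT) :
    K.toModules.IsQuasicoherent := by
  refine K.isQuasicoherent_toModules (fun T hT => isLocalizingOn_of_isQuasicoherent hT F)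
    {T | IsAffineOpen T} (fun T hT => hT) ?_ (fun T hT => (hK T hT).1)
  intro x
  obtain ⟨_, ⟨T, hT, rfl⟩, hxT, -⟩ :=
    X.isBasis_affineOpens.exists_subset_of_mem_open (Set.mem_univ x) isOpen_univ
  exact ⟨T, hT, hxT⟩

theorem IsQFT.isFiniteType [F.IsQuasicoherent] {K : LSub F} (hK : K.IsQFT) :
    SheafOfModules.IsFiniteType (R := X.ringCatSheaf) K.toModules := by
  have := hK.isQuasicoherent
  refine K.isFiniteType_toModules {T | IsAffineOpen T} (fun T hT => hT) ?_ (fun T hT => (hK T hT).2)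
  intro x
  obtain ⟨_, ⟨T, hT, rfl⟩, hxT, -⟩ :=
    X.isBasis_affineOpens.exists_subset_of_mem_open (Set.mem_univ x) isOpen_univ
  exact ⟨T, hT, hxT⟩

theorem IsQFT.sup [F.IsQuasicoherent] {K₁ K₂ : LSub F} (h₁ : K₁.IsQFT) (h₂ : K₂.IsQFT) :
    (K₁.sup K₂).IsQFT := by
  intro T hT
  have hF := isLocalizingOn_of_isQuasicoherent hT F
  refine ⟨sup_good hT hF (h₁ T hT).1 (h₂ T hT).1, ?_⟩
  rw [sup_obj_affine hT hF (h₁ T hT).1 (h₂ T hT).1]
  exact (h₁ T hT).2.sup (h₂ T hT).2

end LSub

/-- EGA I 9.4.9 on a quasi-compact quasi-separated scheme. -/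
theorem exists_isQFT_through_section [CompactSpace X] [QuasiSeparatedSpace X] [F.IsQuasicoherent]
    {U : X.Opens} (hU : IsAffineOpen U) (s : Γ(F, U)) :
    ∃ K : LSub F, K.IsQFT ∧ s ∈ K.obj U := by
  obtain ⟨n, V, hV, hcov, hW, hW₀⟩ := exists_fin_cover X
  obtain ⟨K, hq, hft, hs⟩ := exists_sub_through_section (F := F) V hV hcov hW hU
    (hW₀ U hU.isCompact) s
  exact ⟨K, K.isQFT_of_qcoh_ft hq hft, hs⟩

/-- Finitely many sections over affine opens lie in a common quasi-coherent submodule of finite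
type. -/
theorem exists_isQFT_through_sections [CompactSpace X] [QuasiSeparatedSpace X]
    [F.IsQuasicoherent] {ι : Type*} (S : Finset ι) (U : ι → X.Opens)
    (hU : ∀ k, IsAffineOpen (U k)) (b : ∀ k, Γ(F, U k)) :
    ∃ K : LSub F, K.IsQFT ∧ ∀ k ∈ S, b k ∈ K.obj (U k) := by
  classical
  induction S using Finset.induction_on with
  | empty =>
    obtain ⟨K, hK, -⟩ := exists_isQFT_through_section (F := F) (isAffineOpen_bot X) 0
    exact ⟨K, hK, fun k hk => absurd hk (Finset.notMem_empty k)⟩
  | insert k S hk ih =>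
    obtain ⟨K₁, hK₁, h₁⟩ := ih
    obtain ⟨K₂, hK₂, h₂⟩ := exists_isQFT_through_section (F := F) (hU k) (b k)
    refine ⟨K₁.sup K₂, hK₁.sup hK₂, fun k' hk' => ?_⟩
    rcases Finset.mem_insert.mp hk' with rfl | hk'
    · exact LSub.le_sup_right K₁ K₂ _ h₂
    · exact LSub.le_sup_left K₁ K₂ _ (h₁ k' hk')

end Groth.Agent.Lib.Helper18.LSubM
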