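import Mathlib
import Groth.Agent.Lib.Helper42.FPLocal
import Groth.Agent.Lib.Helper45.QCohStalk
import Groth.Agent.Lib.Helper49.QcqsModules
import Groth.Agent.Lib.Helper49.FinitePresentation2

/-!
# Local generators and relations of a quasi-coherent module on an affine open

For a quasi-coherent module `F` on a scheme `Y` and an affine open `U`: generators of the
`Γ(Y, U)`-module `Γ(F, U)` generate `F` locally on `U` (`isLocGen_of_span`), and generators of the
module of relations generate the relations locally (`isLocRel_of_span`), in the sense of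
`Helper42.FTLocal.IsLocGen`, `Helper42.FPLocal.IsLocRel`.
-/

set_option autoImplicit false
universe u
open AlgebraicGeometry CategoryTheory Limits TopologicalSpace Opposite

namespace Groth.Agent.Lib.Helper18.LocPresAffine

open Groth.Agent.Lib.Helper42.FTLocal Groth.Agent.Lib.Helper42.FPLocal
  Groth.Agent.Lib.Helper49 Groth.Agent.Lib.Helper45

variable {Y : Scheme.{u}} (F : Y.Modules)

theorem rs_eq_mres {V W : Y.Opens} (h : W ≤ V) (m : Γ(F, V)) :
    rs (R := Y.ringCatSheaf) F (homOfLE h) m = mres F h m := rfl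

theorem rr_eq_fres {V W : Y.Opens} (h : W ≤ V) (a : Γ(Y, V)) :
    rr Y.ringCatSheaf (homOfLE h) a = fres h a := rfl

variable [F.IsQuasicoherent] {U : Y.Opens} (hU : IsAffineOpen U)

omit [F.IsQuasicoherent] in
/-- a unit inverse of `f` on `D(f)` -/
theorem exists_inv_basicOpen {U : Y.Opens} (f : Γ(Y, U)) :
    ∃ g : Γ(Y, Y.basicOpen f), g * fres (Y.basicOpen_le f) f = 1 := by
  have hunit : IsUnit (fres (Y.basicOpen_le f) f) :=
    RingedSpace.isUnit_res_basicOpen Y.toRingedSpace f
  obtain ⟨v, hv⟩ := hunit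
  exact ⟨(↑v⁻¹ : Γ(Y, Y.basicOpen f)), by rw [← hv]; simp⟩

include hU in
theorem isLocGen_of_span {N : Type u} [Fintype N] (s : N → Γ(F, U))
    (hs : Submodule.span Γ(Y, U) (Set.range s) = ⊤) :
    IsLocGen (R := Y.ringCatSheaf) F U s := by
  intro V hV m y hy
  obtain ⟨f, hfV, hyf⟩ := hU.exists_basicOpen_le (V := V) ⟨y, hy⟩ (hV hy)
  obtain ⟨k, t, ht⟩ := exists_restrict_eq_pow_smul hU F f (mres F hfV m)
  obtain ⟨g, hg⟩ := exists_inv_basicOpen f
  have ht' : t ∈ Submodule.span Γ(Y, U) (Set.range s) := by rw [hs]; trivial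
  obtain ⟨c, hc⟩ := (Submodule.mem_span_range_iff_exists_fun _).mp ht'
  refine ⟨Y.basicOpen f, hfV, hyf, fun n => g ^ k * fres (Y.basicOpen_le f) (c n), ?_⟩
  change mres F hfV m = ∑ n, (g ^ k * fres (Y.basicOpen_le f) (c n)) •
    mres F (hfV.trans hV) (s n)
  have e1 : mres F (Y.basicOpen_le f) t = (fres (Y.basicOpen_le f) f) ^ k • mres F hfV m := ht
  have e2 : mres F hfV m = g ^ k • mres F (Y.basicOpen_le f) t := by
    rw [e1, smul_smul, ← mul_pow, hg, one_pow, one_smul]
  rw [e2, ← hc, map_sum, Finset.smul_sum]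
  refine Finset.sum_congr rfl (fun n _ => ?_)
  rw [mres_smul, smul_smul]

include hU in
theorem isLocRel_aux {N L : Type u} [Fintype N] [Fintype L] (s : N → Γ(F, U))
    (r : L → N → Γ(Y, U))
    (hr : ∀ a : N → Γ(Y, U), ∑ n, a n • s n = 0 → a ∈ Submodule.span Γ(Y, U) (Set.range r))
    (V : Y.Opens) (hV : V ≤ U) (a : N → Γ(Y, V)) (ha : ∑ n, a n • mres F hV (s n) = 0)
    (y : Y) (hy : y ∈ V) :
    ∃ (W : Y.Opens) (hW : W ≤ V), y ∈ W ∧ ∃ b : L → Γ(Y, W),
      ∀ n, fres hW (a n) = ∑ l, b l * fres (hW.trans hV) (r l n) := by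
  classical
  obtain ⟨f, hfV, hyf⟩ := hU.exists_basicOpen_le (V := V) ⟨y, hy⟩ (hV hy)
  obtain ⟨g, hg⟩ := exists_inv_basicOpen f
  have hloc : IsLocalization.Away f Γ(Y, Y.basicOpen f) := hU.isLocalization_basicOpen f
  -- common denominator for the coefficients
  have h1 : ∀ n, ∃ (k : ℕ) (a' : Γ(Y, U)),
      fres (Y.basicOpen_le f) a' = (fres (Y.basicOpen_le f) f) ^ k * fres hfV (a n) := by
    intro n
    obtain ⟨⟨a', ⟨_, k, rfl⟩⟩, h⟩ := IsLocalization.surj (Submonoid.powers f) (fres hfV (a n))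
    refine ⟨k, a', ?_⟩
    have h' : fres hfV (a n) * fres (Y.basicOpen_le f) (f ^ k) = fres (Y.basicOpen_le f) a' := h
    rw [← h', map_pow, mul_comm]
  choose k a' ha' using h1
  let k₀ := Finset.univ.sup k
  let a'' : N → Γ(Y, U) := fun n => f ^ (k₀ - k n) * a' n
  have ha'' : ∀ n, fres (Y.basicOpen_le f) (a'' n) =
      (fres (Y.basicOpen_le f) f) ^ k₀ * fres hfV (a n) := by
    intro n
    have hk : k n ≤ k₀ := Finset.le_sup (Finset.mem_univ n)
    simp only [a'', map_mul, map_pow]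
    rw [ha', ← mul_assoc, ← pow_add, Nat.sub_add_cancel hk]
  -- the corresponding combination vanishes on `D(f)`
  have h2 : mres F (Y.basicOpen_le f) (∑ n, a'' n • s n) = 0 := by
    rw [map_sum]
    have : ∀ n, mres F (Y.basicOpen_le f) (a'' n • s n) =
        (fres (Y.basicOpen_le f) f) ^ k₀ • mres F hfV (a n • mres F hV (s n)) := by
      intro n
      rw [mres_smul, ha'', mres_smul, mres_mres, smul_smul]
    simp only [this]
    rw [← Finset.smul_sum, ← map_sum, ha, map_zero, smul_zero]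
  obtain ⟨e, he⟩ := exists_pow_smul_eq_zero_of_restrict_eq_zero hU F f _ h2
  have h3 : ∑ n, (f ^ e * a'' n) • s n = 0 := by
    rw [← he, Finset.smul_sum]
    exact Finset.sum_congr rfl (fun n _ => by rw [smul_smul])
  obtain ⟨b, hb⟩ := (Submodule.mem_span_range_iff_exists_fun _).mp (hr _ h3)
  refine ⟨Y.basicOpen f, hfV, hyf, fun l => g ^ (e + k₀) * fres (Y.basicOpen_le f) (b l),
    fun n => ?_⟩
  have hbn : ∑ l, b l * r l n = f ^ e * a'' n := by
    have := congrFun hb n
    simpa [Finset.sum_apply, Pi.smul_apply, smul_eq_mul] using this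
  have e1 : ∑ l, (g ^ (e + k₀) * fres (Y.basicOpen_le f) (b l)) * fres (hfV.trans hV) (r l n) =
      g ^ (e + k₀) * fres (Y.basicOpen_le f) (∑ l, b l * r l n) := by
    rw [map_sum, Finset.mul_sum]
    refine Finset.sum_congr rfl (fun l _ => ?_)
    rw [map_mul, mul_assoc]
  have hgf : g ^ (e + k₀) * ((fres (Y.basicOpen_le f) f) ^ e * (fres (Y.basicOpen_le f) f) ^ k₀) =
      1 := by
    rw [← pow_add, ← mul_pow, hg, one_pow]
  rw [e1, hbn, map_mul, ha'', map_pow, ← mul_assoc, ← mul_assoc, mul_assoc (g ^ (e + k₀)), hgf,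
    one_mul]

include hU in
theorem isLocRel_of_span {N L : Type u} [Fintype N] [Fintype L] (s : N → Γ(F, U))
    (r : L → N → Γ(Y, U)) (hr0 : ∀ l, ∑ n, r l n • s n = 0)
    (hr : ∀ a : N → Γ(Y, U), ∑ n, a n • s n = 0 → a ∈ Submodule.span Γ(Y, U) (Set.range r)) :
    IsLocRel (R := Y.ringCatSheaf) F U s r :=
  ⟨hr0, fun V hV a ha y hy => isLocRel_aux F hU s r hr V hV a ha y hy⟩

end Groth.Agent.Lib.Helper18.LocPresAffine

namespace Groth.Agent.Lib.Helper18.LocPresAffine

open Groth.Agent.Lib.Helper42.FTLocal Groth.Agent.Lib.Helper42.FPLocal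

theorem gen_rel_of_exact {R : Type*} [CommRing R] {M : Type*} [AddCommGroup M] [Module R M]
    {N L : Type*} [Fintype N] [Fintype L] [DecidableEq N] [DecidableEq L]
    (f : (N → R) →ₗ[R] M) (g : (L → R) →ₗ[R] (N → R)) (hf : Function.Surjective f)
    (hfg : Function.Exact g f) :
    Submodule.span R (Set.range fun n => f (Pi.single n 1)) = ⊤ ∧
      (∀ l, ∑ n, g (Pi.single l 1) n • f (Pi.single n 1) = 0) ∧
      ∀ a : N → R, ∑ n, a n • f (Pi.single n 1) = 0 →
        a ∈ Submodule.span R (Set.range fun l => g (Pi.single l 1)) := by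
  have hfa : ∀ a : N → R, f a = ∑ n, a n • f (Pi.single n 1) := by
    intro a
    rw [LinearMap.pi_apply_eq_sum_univ f a]
    refine Finset.sum_congr rfl (fun n _ => ?_)
    congr 2
    ext j
    simp [Pi.single_apply, eq_comm]
  have hgb : ∀ b : L → R, g b = ∑ l, b l • g (Pi.single l 1) := by
    intro b
    rw [LinearMap.pi_apply_eq_sum_univ g b]
    refine Finset.sum_congr rfl (fun n _ => ?_)
    congr 2
    ext j
    simp [Pi.single_apply, eq_comm]
  refine ⟨?_, ?_, ?_⟩
  · rw [eq_top_iff]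
    intro m _
    obtain ⟨a, rfl⟩ := hf m
    rw [hfa]
    exact Submodule.sum_mem _ (fun n _ => Submodule.smul_mem _ _ (Submodule.subset_span ⟨n, rfl⟩))
  · intro l
    rw [← hfa]
    exact (hfg _).mpr ⟨_, rfl⟩
  · intro a ha
    rw [← hfa] at ha
    obtain ⟨b, rfl⟩ := (hfg a).mp ha
    rw [hgb]
    exact Submodule.sum_mem _ (fun l _ => Submodule.smul_mem _ _ (Submodule.subset_span ⟨l, rfl⟩))

/-- generators and relations of a finitely presented module, indexed by types in `Type u` -/
theorem exists_gen_rel (R : Type u) [CommRing R] (M : Type u) [AddCommGroup M] [Module R M]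
    [Module.FinitePresentation R M] :
    ∃ (N L : Type u) (_ : Fintype N) (_ : Fintype L) (s : N → M) (r : L → N → R),
      Submodule.span R (Set.range s) = ⊤ ∧ (∀ l, ∑ n, r l n • s n = 0) ∧
      ∀ a : N → R, ∑ n, a n • s n = 0 → a ∈ Submodule.span R (Set.range r) := by
  classical
  obtain ⟨n, m, f, g, hf, hfg⟩ := Module.FinitePresentation.exists_fin' R M
  let eN : (Fin n → R) ≃ₗ[R] (ULift.{u} (Fin n) → R) := LinearEquiv.funCongrLeft R R Equiv.ulift
  let eL : (Fin m → R) ≃ₗ[R] (ULift.{u} (Fin m) → R) := LinearEquiv.funCongrLeft R R Equiv.ulift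
  let f' : (ULift.{u} (Fin n) → R) →ₗ[R] M := f ∘ₗ eN.symm.toLinearMap
  let g' : (ULift.{u} (Fin m) → R) →ₗ[R] (ULift.{u} (Fin n) → R) :=
    eN.toLinearMap ∘ₗ g ∘ₗ eL.symm.toLinearMap
  have hf' : Function.Surjective f' := hf.comp eN.symm.surjective
  have hfg' : Function.Exact g' f' := by
    intro a
    constructor
    · intro ha
      obtain ⟨b, hb⟩ := (hfg (eN.symm a)).mp ha
      refine ⟨eL b, ?_⟩
      simp only [g', LinearMap.comp_apply, LinearEquiv.coe_coe, LinearEquiv.symm_apply_apply, hb,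
        LinearEquiv.apply_symm_apply]
    · rintro ⟨b, rfl⟩
      simp only [f', g', LinearMap.comp_apply, LinearEquiv.coe_coe, LinearEquiv.symm_apply_apply]
      exact (hfg _).mpr ⟨_, rfl⟩
  obtain ⟨h1, h2, h3⟩ := gen_rel_of_exact f' g' hf' hfg'
  exact ⟨ULift.{u} (Fin n), ULift.{u} (Fin m), inferInstance, inferInstance,
    fun k => f' (Pi.single k 1), fun l => g' (Pi.single l 1), h1, h2, h3⟩

/-- a finitely presented quasi-coherent module has, on every affine open, finitely many
generating sections with finitely many relations generating all relations locally -/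
theorem exists_locPres {Y : Scheme.{u}} (F : Y.Modules) [F.IsQuasicoherent]
    (hF : SheafOfModules.IsFinitePresentation (R := Y.ringCatSheaf) F) {U : Y.Opens}
    (hU : IsAffineOpen U) :
    ∃ (N L : Type u) (_ : Fintype N) (_ : Fintype L) (s : N → Γ(F, U)) (r : L → N → Γ(Y, U)),
      IsLocGen (R := Y.ringCatSheaf) F U s ∧ IsLocRel (R := Y.ringCatSheaf) F U s r := by
  have : Module.FinitePresentation Γ(Y, U) Γ(F, U) :=
    Groth.Agent.Lib.Helper49.finitePresentation_sections_of_isFinitePresentation F hF hU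
  obtain ⟨N, L, hN, hL, s, r, h1, h2, h3⟩ := exists_gen_rel Γ(Y, U) Γ(F, U)
  exact ⟨N, L, hN, hL, s, r, isLocGen_of_span F hU s h1, isLocRel_of_span F hU s r h2 h3⟩

end Groth.Agent.Lib.Helper18.LocPresAffine
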