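import Mathlib
import Groth.Agent.Lib.Helper18.FPQuot
import Groth.Agent.Lib.Helper18.LSubQcqs
import Groth.Agent.Lib.Helper18.LocPresAffine
import Groth.Agent.Lib.Helper18.FTApprox
import Groth.Agent.Lib.Helper42.QCohAffineSections
import Groth.Agent.Lib.Helper11.PullbackBasis

/-!
# Finite type modules upstairs are quotients of pullbacks of finitely presented modules

* `isFinitePresentation_cokernel`: the cokernel of a morphism from a quasi-coherent module of finite
  type to a finitely presented module is finitely presented.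
* `epi_of_app_surjective_affine`: a morphism to a quasi-coherent module which is surjective on the
  sections over the members of an affine open cover is an epimorphism.
* `exists_fp_epi_pullback`: for an affine morphism `π : S ⟶ Y` to a qcqs scheme, every
  quasi-coherent `O_S`-module of finite type is a quotient of the pullback of a finitely presented
  `O_Y`-module.
* `exists_iso_map_cokernel`: transport of cokernels along a colimit preserving functor.
-/

set_option autoImplicit false
universe u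
open AlgebraicGeometry CategoryTheory Limits TopologicalSpace Opposite

namespace Groth.Agent.Lib.Helper18.FPPullEpi

open Groth.Agent.Lib.Helper49 Groth.Agent.Lib.Helper45 Groth.Agent.Lib.Helper18.FPM
  Groth.Agent.Lib.Helper18.LSubM
  Groth.Agent.Lib.Helper18.LocPresAffine Groth.Agent.Lib.Helper11.PullbackBasis

section Coker

variable {X : Scheme.{u}}

/-- The cokernel of a morphism from a quasi-coherent module of finite type to a finitely presented
module is finitely presented. -/
theorem isFinitePresentation_cokernel {A B : X.Modules} (φ : A ⟶ B) [A.IsQuasicoherent]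
    (hA : SheafOfModules.IsFiniteType (R := X.ringCatSheaf) A)
    (hB : SheafOfModules.IsFinitePresentation (R := X.ringCatSheaf) B) :
    SheafOfModules.IsFinitePresentation (R := X.ringCatSheaf) (cokernel φ) := by
  have hBq : B.IsQuasicoherent := isQuasicoherent_of_isFinitePresentation hB
  have hCq : (cokernel φ).IsQuasicoherent := isQuasicoherent_cokernel φ inferInstance hBq
  have hIq : (Abelian.image φ).IsQuasicoherent := isQuasicoherent_kernel _ hBq hCq
  have hepi : Epi (Abelian.factorThruImage φ) := inferInstance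
  have hI : SheafOfModules.IsFiniteType (R := X.ringCatSheaf) (Abelian.image φ) :=
    @isFiniteType_of_epi _ _ _ (Abelian.factorThruImage φ) hepi hA
  have h1 := isFinitePresentation_cokernel_of_mono (Abelian.image.ι φ) hI hB
  have e : cokernel (Abelian.image.ι φ) ≅ cokernel φ := by
    have h2 : Abelian.factorThruImage φ ≫ Abelian.image.ι φ = φ := Abelian.image.fac φ
    exact (cokernelEpiComp (Abelian.factorThruImage φ) (Abelian.image.ι φ)).symm ≪≫
      cokernelIsoOfEq h2
  exact isFinitePresentation_of_iso e h1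

/-- A morphism to a quasi-coherent module which is surjective on the sections over the members of
an affine open cover is an epimorphism. -/
theorem epi_of_app_surjective_affine {A F : X.Modules} [F.IsQuasicoherent] (φ : A ⟶ F)
    (h : ∀ x : X, ∃ V : X.Opens, IsAffineOpen V ∧ x ∈ V ∧ Function.Surjective (φ.app V).hom) :
    Epi φ := by
  rw [epi_iff_isLocallySurjective, TopCat.Presheaf.isLocallySurjective_iff]
  intro W t y hy
  obtain ⟨V, hV, hyV, hsurj⟩ := h y
  obtain ⟨f, hfW, hyf⟩ := hV.exists_basicOpen_le (V := W ⊓ V) ⟨y, ⟨hy, hyV⟩⟩ hyV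
  have hfW' : X.basicOpen f ≤ W := hfW.trans inf_le_left
  obtain ⟨k, t₀, ht₀⟩ := exists_restrict_eq_pow_smul hV F f (mres F hfW' t)
  obtain ⟨a₀, ha₀⟩ := hsurj t₀
  obtain ⟨g, hg⟩ := exists_inv_basicOpen f
  refine ⟨X.basicOpen f, hfW', ⟨g ^ k • mres A (X.basicOpen_le f) a₀, ?_⟩, hyf⟩
  have e1 : (φ.app (X.basicOpen f)).hom (g ^ k • mres A (X.basicOpen_le f) a₀) =
      g ^ k • mres F (X.basicOpen_le f) t₀ := by
    have h1 := Scheme.Modules.Hom.app_smul φ (g ^ k) (mres A (X.basicOpen_le f) a₀)
    refine h1.trans ?_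
    congr 1
    have h2 := Groth.Agent.Lib.Helper11.GenLocus.app_res φ (X.basicOpen_le f) a₀
    rw [← ha₀]
    exact h2.symm
  have e2 : mres F (X.basicOpen_le f) t₀ = (fres (X.basicOpen_le f) f) ^ k • mres F hfW' t := ht₀
  refine e1.trans ?_
  rw [e2, smul_smul, ← mul_pow, hg, one_pow, one_smul]
  rfl

end Coker

section Transport

/-- transport of a cokernel along a functor preserving it -/
theorem exists_iso_map_cokernel {C C' : Type*} [Category C] [Category C'] [Abelian C] [Abelian C']
    (Lf : C' ⥤ C) [Lf.PreservesZeroMorphisms] {A' B' : C'} (u' : A' ⟶ B')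
    [PreservesColimit (parallelPair u' 0) Lf]
    {A B G : C} (u : A ⟶ B) (p : B ⟶ G) (w : u ≫ p = 0)
    (hG : IsColimit (CokernelCofork.ofπ p w))
    (α : Lf.obj A' ≅ A) (β : Lf.obj B' ≅ B) (hu : α.inv ≫ Lf.map u' ≫ β.hom = u) :
    ∃ e : Lf.obj (cokernel u') ≅ G, β.inv ≫ Lf.map (cokernel.π u') ≫ e.hom = p := by
  have hw : Lf.map u' ≫ β.hom = α.hom ≫ u := by
    rw [← hu, Iso.hom_inv_id_assoc]
  let e₁ : cokernel (Lf.map u') ≅ Lf.obj (cokernel u') := (PreservesCokernel.iso Lf u').symm
  let e₂ : cokernel (Lf.map u') ≅ cokernel u := cokernel.mapIso (Lf.map u') u α β hw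
  let e₃ : cokernel u ≅ G := IsColimit.coconePointUniqueUpToIso (cokernelIsCokernel u) hG
  refine ⟨e₁.symm ≪≫ e₂ ≪≫ e₃, ?_⟩
  have h1 : Lf.map (cokernel.π u') ≫ e₁.symm.hom = cokernel.π (Lf.map u') := by
    have h0 : cokernel.π (Lf.map u') ≫ (PreservesCokernel.iso Lf u').inv =
        Lf.map (cokernel.π u') := by
      rw [PreservesCokernel.iso_inv]
      exact π_comp_cokernelComparison u' Lf
    change Lf.map (cokernel.π u') ≫ (PreservesCokernel.iso Lf u').hom = _
    rw [← h0, Category.assoc, Iso.inv_hom_id, Category.comp_id]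
  have h2 : cokernel.π (Lf.map u') ≫ e₂.hom = β.hom ≫ cokernel.π u := by
    simp [e₂]
  have h3 : cokernel.π u ≫ e₃.hom = p :=
    IsColimit.comp_coconePointUniqueUpToIso_hom (cokernelIsCokernel u) hG WalkingParallelPair.one
  simp only [Iso.trans_hom]
  rw [← Category.assoc (Lf.map (cokernel.π u')), h1, ← Category.assoc (cokernel.π (Lf.map u')), h2,
    Category.assoc, h3, Iso.inv_hom_id_assoc]

end Transport

section PullEpi

variable {S Y : Scheme.{u}}

/-- For an affine morphism `π : S ⟶ Y` to a qcqs scheme, every quasi-coherent `O_S`-module of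
finite type is a quotient of the pullback of a finitely presented `O_Y`-module. -/
theorem exists_fp_epi_pullback (π : S ⟶ Y) [IsAffineHom π] [CompactSpace Y]
    [QuasiSeparatedSpace Y] (F : S.Modules) [F.IsQuasicoherent]
    (hF : SheafOfModules.IsFiniteType (R := S.ringCatSheaf) F) :
    ∃ (H₀ : Y.Modules) (q : (Scheme.Modules.pullback π).obj H₀ ⟶ F),
      SheafOfModules.IsFinitePresentation (R := Y.ringCatSheaf) H₀ ∧ Epi q := by
  classical
  let P : Y.Modules := (Scheme.Modules.pushforward π).obj F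
  have hP : P.IsQuasicoherent := isQuasicoherent_pushforward F π
  obtain ⟨T, hT⟩ := Groth.Agent.Lib.Helper18.FTApprox.exists_finite_affine_cover Y
  -- generators over each chart
  have hfin : ∀ U : ↥T, Module.Finite Γ(S, π ⁻¹ᵁ U.1.1) Γ(F, π ⁻¹ᵁ U.1.1) := fun U =>
    finite_sections_of_isFiniteType F hF (U.1.2.preimage π)
  choose g hg using fun U : ↥T => (hfin U).fg_top
  let E := Σ U : ↥T, ↥(g U)
  let UE : E → Y.Opens := fun e => e.1.1.1
  let b : ∀ e : E, Γ(P, UE e) := fun e => e.2.1
  obtain ⟨K, hK, hb⟩ := exists_isQFT_through_sections (F := P) (Finset.univ : Finset E) UE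
    (fun e => e.1.1.2) b
  have hKq : K.toModules.IsQuasicoherent := hK.isQuasicoherent
  obtain ⟨H₀, ε, hH₀, hε⟩ := exists_fp_epi K.toModules hK.isFiniteType
  have hH₀q : H₀.IsQuasicoherent := isQuasicoherent_of_isFinitePresentation hH₀
  let ψ : H₀ ⟶ P := ε ≫ K.ι
  let q := ((Scheme.Modules.pullbackPushforwardAdjunction π).homEquiv H₀ F).symm ψ
  have hq : (Scheme.Modules.pullbackPushforwardAdjunction π).homEquiv H₀ F q = ψ :=
    Equiv.apply_symm_apply _ _
  refine ⟨H₀, q, hH₀, ?_⟩
  apply epi_of_app_surjective_affine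
  intro x
  obtain ⟨U, hxU⟩ : ∃ U : ↥T, π.base x ∈ U.1.1 := by
    have : π.base x ∈ (⨆ U : ↥T, (U.1 : Y.affineOpens).1) := by rw [hT]; trivial
    exact Opens.mem_iSup.mp this
  refine ⟨π ⁻¹ᵁ U.1.1, U.1.2.preimage π, hxU, ?_⟩
  let Rg : Submodule Γ(S, π ⁻¹ᵁ U.1.1) Γ(F, π ⁻¹ᵁ U.1.1) :=
    LinearMap.range (Groth.Agent.Lib.Helper45.appₗ q (π ⁻¹ᵁ U.1.1))
  have hgen : ∀ y ∈ g U, y ∈ Rg := by
    intro y hy
    have h1 : b ⟨U, ⟨y, hy⟩⟩ ∈ K.obj U.1.1 := hb ⟨U, ⟨y, hy⟩⟩ (Finset.mem_univ _)
    have hsurj := Groth.Agent.Lib.Helper42.app_surjective_of_epi ε U.1.2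
    obtain ⟨h₀, hh₀⟩ := hsurj (K.sec U.1.1 _ h1)
    refine ⟨pullS π H₀ U.1.1 h₀, ?_⟩
    have h2 : (ψ.app U.1.1).hom h₀ = y := by
      change (K.ι.app U.1.1).hom ((ε.app U.1.1).hom h₀) = y
      have hh₀' : (ε.app U.1.1).hom h₀ = K.sec U.1.1 _ h1 := hh₀
      rw [hh₀']
      rfl
    rw [← h2, ← hq, Adjunction.homEquiv_unit]
    rfl
  have htop : Rg = ⊤ := by
    rw [eq_top_iff, ← hg U]
    exact Submodule.span_le.mpr hgen
  intro y
  have hy : y ∈ Rg := by rw [htop]; trivial
  obtain ⟨a, ha⟩ := hy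
  exact ⟨a, ha⟩

end PullEpi

end Groth.Agent.Lib.Helper18.FPPullEpi
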