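import Groth.Agent.Lib.Helper18.SubschemeIncl

/-!
# Pulling back a pushed-forward ideal sheaf along a closed immersion

`comap_map_of_isClosedImmersion`: for a closed immersion `j : Y ⟶ X` and an ideal sheaf `I` on `Y`,
`(I.map j).comap j = I`.  Consequences: `ker_eq_comap_ker_comp` (`i.ker = (i ≫ j).ker.comap j`) and
`comap_ker_self` (`j.ker.comap j = ⊥`).
-/

universe u
open CategoryTheory CategoryTheory.Limits AlgebraicGeometry

namespace Groth.Agent.Lib.Helper18

variable {X Y Z : Scheme.{u}}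

/-- affine-local description of `I.comap j` on `j ⁻¹ᵁ V` -/
theorem ideal_comap_preimage (j : Y ⟶ X) [IsAffineHom j] (K : X.IdealSheafData)
    (V : X.affineOpens) :
    (K.comap j).ideal ⟨j ⁻¹ᵁ V.1, V.2.preimage j⟩ = (K.ideal V).map (j.app V.1).hom := by
  rw [ideal_comap_of_le j K ⟨j ⁻¹ᵁ V.1, V.2.preimage j⟩ V le_rfl, Scheme.Hom.appLE_eq_app]

theorem iSup_preimage_affineOpens_eq_top (j : Y ⟶ X) :
    ⨆ V : X.affineOpens, j ⁻¹ᵁ V.1 = ⊤ := by
  rw [eq_top_iff]
  intro y _
  obtain ⟨V, hV, hyV, -⟩ := TopologicalSpace.Opens.isBasis_iff_nbhd.mp X.isBasis_affineOpens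
    (show j y ∈ (⊤ : X.Opens) from trivial)
  exact TopologicalSpace.Opens.mem_iSup.mpr ⟨⟨V, hV⟩, hyV⟩

theorem comap_map_of_isClosedImmersion (j : Y ⟶ X) [IsClosedImmersion j]
    (I : Y.IdealSheafData) : (I.map j).comap j = I := by
  refine Scheme.IdealSheafData.ext_of_iSup_eq_top
    (fun V : X.affineOpens => (⟨j ⁻¹ᵁ V.1, V.2.preimage j⟩ : Y.affineOpens))
    (iSup_preimage_affineOpens_eq_top j) (fun V => ?_)
  rw [ideal_comap_preimage, Scheme.IdealSheafData.ideal_map_of_isAffineHom]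
  exact Ideal.map_comap_of_surjective _ (j.app_surjective V.1 V.2) _

theorem ker_eq_comap_ker_comp (i : Z ⟶ Y) (j : Y ⟶ X) [IsClosedImmersion j] :
    i.ker = (i ≫ j).ker.comap j := by
  rw [Scheme.Hom.ker_comp, comap_map_of_isClosedImmersion]

theorem comap_ker_self (j : Y ⟶ X) [IsClosedImmersion j] : j.ker.comap j = ⊥ := by
  rw [← Scheme.IdealSheafData.map_bot, comap_map_of_isClosedImmersion]

end Groth.Agent.Lib.Helper18
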