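import Groth.Agent.Lib.Helper18.IdealComap
import Mathlib.AlgebraicGeometry.Morphisms.ClosedImmersion
import Mathlib.AlgebraicGeometry.Noetherian

/-!
# Inclusions of closed subschemes `J.subscheme ⟶ I.subscheme` for `I ≤ J`
-/

universe u
open CategoryTheory CategoryTheory.Limits AlgebraicGeometry

namespace Groth.Agent.Lib.Helper18

variable {X Y : Scheme.{u}}

/-- The inverse image of a power of an ideal sheaf is the power of the inverse image. -/
theorem comap_pow (f : X ⟶ Y) (K : Y.IdealSheafData) (n : ℕ) :
    (K ^ n).comap f = (K.comap f) ^ n := by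
  induction n with
  | zero =>
    rw [pow_zero, pow_zero]
    exact Scheme.IdealSheafData.comap_top f
  | succ n ih => rw [pow_succ, pow_succ, comap_mul, ih]

theorem isClosedImmersion_inclusion {I J : X.IdealSheafData} (h : I ≤ J) :
    IsClosedImmersion (Scheme.IdealSheafData.inclusion h) := by
  have : IsClosedImmersion (Scheme.IdealSheafData.inclusion h ≫ I.subschemeι) := by
    rw [Scheme.IdealSheafData.inclusion_subschemeι]; infer_instance
  exact IsClosedImmersion.of_comp_isClosedImmersion (Scheme.IdealSheafData.inclusion h)
    I.subschemeι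

theorem inclusion_surjective {I J : X.IdealSheafData} (h : I ≤ J) (hs : I.support = J.support) :
    Function.Surjective (Scheme.IdealSheafData.inclusion h).base := by
  intro x
  have hx : I.subschemeι x ∈ (I.support : Set X) := by
    rw [← Scheme.IdealSheafData.range_subschemeι]; exact ⟨x, rfl⟩
  rw [hs, ← Scheme.IdealSheafData.range_subschemeι] at hx
  obtain ⟨y, hy⟩ := hx
  refine ⟨y, ?_⟩
  apply I.subschemeι.isClosedEmbedding.injective
  rw [← hy, ← Scheme.IdealSheafData.inclusion_subschemeι h]
  rfl

/-- The kernel of `J.subscheme ⟶ I.subscheme` is the inverse image of `J` on `I.subscheme`. -/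
theorem ker_inclusion {I J : X.IdealSheafData} (h : I ≤ J) :
    (Scheme.IdealSheafData.inclusion h).ker = J.comap I.subschemeι := by
  have hpb : IsPullback (Scheme.IdealSheafData.inclusion h) (𝟙 J.subscheme) I.subschemeι
      J.subschemeι := by
    refine ⟨⟨by simp⟩, ⟨PullbackCone.IsLimit.mk _ (fun s => s.snd) (fun s => ?_) (fun s => ?_)
      (fun s m h1 h2 => ?_)⟩⟩
    · rw [← cancel_mono I.subschemeι, Category.assoc,
        Scheme.IdealSheafData.inclusion_subschemeι, s.condition]
    · exact Category.comp_id _
    · rw [← h2]; exact (Category.comp_id _).symm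
  unfold Scheme.IdealSheafData.comap
  rw [← hpb.isoPullback_hom_fst, Scheme.Hom.ker_comp_of_isIso]

end Groth.Agent.Lib.Helper18
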