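import Groth.Agent.Lib.Helper18.SqZeroAffine
import Groth.Agent.Lib.Helper18.SubschemeIncl
import Groth.Agent.Lib.Helper18.ClosedImmComap

/-!
# A nilpotent thickening of an affine scheme is affine

If `t : X ⟶ X'` is a closed immersion with nilpotent kernel ideal sheaf and `X` is affine, then `X'`
is affine.  (Induction on the order of nilpotency from the square-zero case
`SqZero.isAffine_of_sqZero`.)
-/

set_option autoImplicit false
universe u
open AlgebraicGeometry CategoryTheory Limits Opposite TopologicalSpace

namespace Groth.Agent.Lib.Helper18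

theorem idealSheaf_pow_le_pow {X : Scheme.{u}} (I : X.IdealSheafData) {m n : ℕ} (h : m ≤ n) :
    I ^ n ≤ I ^ m := by
  intro U
  simp only [Scheme.IdealSheafData.ideal_pow]
  exact Ideal.pow_le_pow_right h

/-- If `I ^ n = ⊥` and `V(I)` is affine then `X` is affine. -/
theorem isAffine_of_pow_eq_bot : ∀ (n : ℕ) (X : Scheme.{u}) (I : X.IdealSheafData),
    I ^ n = ⊥ → IsAffine I.subscheme → IsAffine X := by
  intro n
  induction n with
  | zero =>
    intro X I hn _
    apply SqZero.isAffine_of_sqZero I
    apply le_bot_iff.mp
    rw [← hn, pow_zero]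
    exact le_top
  | succ n ih =>
    intro X I hn hZ
    rcases Nat.eq_zero_or_pos n with rfl | hpos
    · apply SqZero.isAffine_of_sqZero I
      rw [zero_add, pow_one] at hn
      apply le_bot_iff.mp
      rw [hn]
      intro U
      simp
    · have hJI : I ^ n ≤ I := by
        have := idealSheaf_pow_le_pow I (m := 1) (n := n) hpos
        rwa [pow_one] at this
      let g := Scheme.IdealSheafData.inclusion hJI
      have hg : IsClosedImmersion g := isClosedImmersion_inclusion hJI
      have hker : g.ker ^ n = ⊥ := by
        rw [ker_inclusion, ← comap_pow]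
        have := comap_ker_self (I ^ n).subschemeι
        rwa [Scheme.IdealSheafData.ker_subschemeι] at this
      have h1 : IsAffine g.ker.subscheme := IsAffine.of_isIso (inv g.toImage)
      have h2 : IsAffine (I ^ n).subscheme := ih _ g.ker hker h1
      apply SqZero.isAffine_of_sqZero (I ^ n)
      apply le_bot_iff.mp
      rw [← hn, ← pow_add]
      exact idealSheaf_pow_le_pow I (by omega)

/-- **A nilpotent thickening of an affine scheme is affine.** -/
theorem isAffine_of_isClosedImmersion_of_ker_pow_eq_bot {X X' : Scheme.{u}} (t : X ⟶ X')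
    [IsClosedImmersion t] [IsAffine X] (n : ℕ) (hn : t.ker ^ n = ⊥) : IsAffine X' :=
  isAffine_of_pow_eq_bot n X' t.ker hn (IsAffine.of_isIso (inv t.toImage))

theorem isAffine_of_isClosedImmersion_of_isNilpotent_ker {X X' : Scheme.{u}} (t : X ⟶ X')
    [IsClosedImmersion t] [IsAffine X] (hn : IsNilpotent t.ker) : IsAffine X' := by
  obtain ⟨n, hn⟩ := hn
  exact isAffine_of_isClosedImmersion_of_ker_pow_eq_bot t n hn

end Groth.Agent.Lib.Helper18
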