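import Groth.Agent.Lib.Helper18.FTApprox
import Groth.Agent.Lib.Helper18.NilpAffine
import Groth.Agent.Lib.Helper18.SubschemeIncl

/-!
# A thickening of an affine scheme is affine (helper18)

`isAffine_of_isClosedImmersion_of_surjective`: if `t : X ⟶ X'` is a surjective closed immersion and `X` is affine then `X'` is
affine (Stacks 06AD), without any finiteness hypothesis on the ideal.  Proof: the kernel `I` is the directed union of its
finite type sub-ideal sheaves `K` (`FTApprox`), `V(I) = lim V(K)`, so some `V(K)` is affine (Mathlib's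
`Scheme.exists_isAffine_of_isLimit`), and `K` is nilpotent, so `X'` is affine by `NilpAffine`.
-/

set_option autoImplicit false
universe u
open CategoryTheory AlgebraicGeometry TopologicalSpace Opposite Limits

namespace Groth.Agent.Lib.Helper18.ThickAffine

open Groth.Agent.Lib.Helper18.FTApprox

variable {X : Scheme.{u}} (I : X.IdealSheafData) (T : Finset X.affineOpens)

/-- The finite type (relative to `T`) sub-ideal sheaves of `I`. -/
abbrev Sub : Type u := {K : X.IdealSheafData // K ≤ I ∧ ∀ U ∈ T, (K.ideal U).FG}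

instance : Nonempty (Sub I T) :=
  ⟨⟨⊥, bot_le, fun U _ => by
    rw [Scheme.IdealSheafData.ideal_bot]; exact Submodule.fg_bot⟩⟩

instance : IsDirected (Sub I T) (· ≤ ·) :=
  ⟨fun a b => ⟨⟨a.1 ⊔ b.1, sup_le a.2.1 b.2.1, fun U hU => by
    rw [Scheme.IdealSheafData.ideal_sup]
    exact Submodule.FG.sup (a.2.2 U hU) (b.2.2 U hU)⟩,
    (le_sup_left : a.1 ≤ a.1 ⊔ b.1), (le_sup_right : b.1 ≤ a.1 ⊔ b.1)⟩⟩

/-- The diagram of closed subschemes `V(K)`, `K` a finite type sub-ideal of `I`. -/
noncomputable def diag : (Sub I T)ᵒᵖ ⥤ Scheme.{u} where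
  obj K := K.unop.1.subscheme
  map {K K'} h := Scheme.IdealSheafData.inclusion (show K'.unop.1 ≤ K.unop.1 from leOfHom h.unop)
  map_id _ := Scheme.IdealSheafData.inclusion_id _
  map_comp f g := (Scheme.IdealSheafData.inclusion_comp (leOfHom g.unop) (leOfHom f.unop)).symm

/-- The cone with vertex `V(I)`. -/
noncomputable def cone : Cone (diag I T) where
  pt := I.subscheme
  π :=
    { app := fun K => Scheme.IdealSheafData.inclusion K.unop.2.1
      naturality := fun K K' h => by
        change 𝟙 I.subscheme ≫ Scheme.IdealSheafData.inclusion K'.unop.2.1 =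
          Scheme.IdealSheafData.inclusion K.unop.2.1 ≫
            Scheme.IdealSheafData.inclusion (show K'.unop.1 ≤ K.unop.1 from leOfHom h.unop)
        rw [Category.id_comp]
        exact (Scheme.IdealSheafData.inclusion_comp (leOfHom h.unop) K.unop.2.1).symm }

/-- `I` is the supremum of its finite type sub-ideals. -/
theorem le_of_forall_sub_le [QuasiSeparatedSpace X] (J : X.IdealSheafData)
    (h : ∀ K : Sub I T, K.1 ≤ J) : I ≤ J := by
  intro W s hs
  obtain ⟨K, hK, hsK, hKT⟩ := exists_le_fg_mem I T W s hs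
  exact h ⟨K, hK, hKT⟩ W hsK

/-- The bottom element of `Sub I T`. -/
def subBot : Sub I T :=
  ⟨⊥, bot_le, fun U _ => by rw [Scheme.IdealSheafData.ideal_bot]; exact Submodule.fg_bot⟩

theorem comp_subschemeι_of_comp_inclusion {Y : Scheme.{u}} {K₀ K : X.IdealSheafData} (hle : K₀ ≤ K)
    (a : Y ⟶ K.subscheme) (b : Y ⟶ K₀.subscheme)
    (h : a ≫ Scheme.IdealSheafData.inclusion hle = b) :
    a ≫ K.subschemeι = b ≫ K₀.subschemeι := by
  rw [← h, Category.assoc, Scheme.IdealSheafData.inclusion_subschemeι]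

theorem comp_inclusion_of_comp_subschemeι {Y : Scheme.{u}} {K₀ K : X.IdealSheafData} (hle : K₀ ≤ K)
    (a : Y ⟶ K.subscheme) (b : Y ⟶ K₀.subscheme)
    (h : a ≫ K.subschemeι = b ≫ K₀.subschemeι) :
    a ≫ Scheme.IdealSheafData.inclusion hle = b := by
  rw [← cancel_mono K₀.subschemeι, Category.assoc, Scheme.IdealSheafData.inclusion_subschemeι, h]

variable {I T} in
theorem cone_π_subschemeι (s : Cone (diag I T)) (K : Sub I T) :
    s.π.app (op K) ≫ K.1.subschemeι = s.π.app (op (subBot I T)) ≫ (subBot I T).1.subschemeι :=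
  have hle : subBot I T ≤ K := (bot_le : (⊥ : X.IdealSheafData) ≤ K.1)
  comp_subschemeι_of_comp_inclusion (show (subBot I T).1 ≤ K.1 from hle) _ _ (s.w (homOfLE hle).op)

variable {I T} in
theorem le_ker_cone [QuasiSeparatedSpace X] (s : Cone (diag I T)) :
    I.subschemeι.ker ≤ (s.π.app (op (subBot I T)) ≫ (subBot I T).1.subschemeι).ker := by
  rw [Scheme.IdealSheafData.ker_subschemeι]
  refine le_of_forall_sub_le I T _ fun K => ?_
  rw [← cone_π_subschemeι s K]
  conv_lhs => rw [← K.1.ker_subschemeι]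
  exact Scheme.Hom.le_ker_comp _ _

variable {I T} in
/-- The lift of a cone to `V(I)`. -/
noncomputable def coneLift [QuasiSeparatedSpace X] (s : Cone (diag I T)) : s.pt ⟶ I.subscheme :=
  IsClosedImmersion.lift I.subschemeι
    (s.π.app (op (subBot I T)) ≫ (subBot I T).1.subschemeι) (le_ker_cone s)

variable {I T} in
theorem coneLift_subschemeι [QuasiSeparatedSpace X] (s : Cone (diag I T)) :
    coneLift s ≫ I.subschemeι = s.π.app (op (subBot I T)) ≫ (subBot I T).1.subschemeι :=
  IsClosedImmersion.lift_fac _ _ _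

/-- `V(I)` is the limit of the `V(K)`. -/
noncomputable def isLimitCone [QuasiSeparatedSpace X] : IsLimit (cone I T) where
  lift s := coneLift s
  fac s K := comp_inclusion_of_comp_subschemeι K.unop.2.1 (coneLift s) (s.π.app K)
    ((coneLift_subschemeι s).trans (cone_π_subschemeι s K.unop).symm)
  uniq s m hm := by
    have h1 : m ≫ I.subschemeι = s.π.app (op (subBot I T)) ≫ (subBot I T).1.subschemeι :=
      comp_subschemeι_of_comp_inclusion (subBot I T).2.1 m _ (hm (op (subBot I T)))
    exact (cancel_mono I.subschemeι).mp (h1.trans (coneLift_subschemeι s).symm)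

/-- If `V(I)` is affine then `V(K)` is affine for some finite type sub-ideal `K ≤ I`. -/
theorem exists_isAffine_sub [CompactSpace X] [QuasiSeparatedSpace X] [hI : IsAffine I.subscheme] :
    ∃ K : Sub I T, IsAffine K.1.subscheme := by
  have h1 : ∀ {i j : (Sub I T)ᵒᵖ} (f : i ⟶ j), IsAffineHom ((diag I T).map f) := fun {i j} f => by
    have := Groth.Agent.Lib.Helper18.isClosedImmersion_inclusion
      (show j.unop.1 ≤ i.unop.1 from leOfHom f.unop)
    change IsAffineHom (Scheme.IdealSheafData.inclusion _)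
    infer_instance
  have h2 : ∀ i, CompactSpace ((diag I T).obj i) := fun i => by
    change CompactSpace i.unop.1.subscheme
    exact QuasiCompact.compactSpace_of_compactSpace i.unop.1.subschemeι
  have h3 : ∀ i, QuasiSeparatedSpace ((diag I T).obj i) := fun i => by
    change QuasiSeparatedSpace i.unop.1.subscheme
    exact quasiSeparatedSpace_of_quasiSeparated i.unop.1.subschemeι
  have h4 : IsAffine (cone I T).pt := hI
  obtain ⟨i, hi⟩ := Scheme.exists_isAffine_of_isLimit (diag I T) (cone I T) (isLimitCone I T)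
  exact ⟨i.unop, hi⟩

/-- A sub-ideal sheaf of a locally nil ideal sheaf that is finitely generated on a finite affine cover is nilpotent. -/
theorem exists_pow_eq_bot (hT : (⨆ U : ↥T, (U.1 : X.affineOpens).1) = ⊤)
    (hI : ∀ U : X.affineOpens, I.ideal U ≤ nilradical Γ(X, U.1)) (K : Sub I T) :
    ∃ n : ℕ, K.1 ^ n = ⊥ := by
  classical
  have h1 : ∀ U : ↥T, ∃ n : ℕ, (K.1.ideal U.1) ^ n = ⊥ := fun U => by
    have hle : K.1.ideal U.1 ≤ nilradical Γ(X, U.1.1) := (K.2.1 U.1).trans (hI U.1)
    have hnil : IsNilpotent (K.1.ideal U.1) :=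
      Ideal.FG.isNilpotent_iff_le_nilradical (K.2.2 U.1 U.2) |>.mpr hle
    obtain ⟨n, hn⟩ := hnil
    exact ⟨n, hn⟩
  choose n hn using h1
  refine ⟨Finset.univ.sup n, ?_⟩
  refine Scheme.IdealSheafData.ext_of_iSup_eq_top (fun U : ↥T => U.1) hT fun U => ?_
  rw [Scheme.IdealSheafData.ideal_pow, Pi.pow_apply, Scheme.IdealSheafData.ideal_bot, Pi.bot_apply,
    ← le_bot_iff, ← hn U]
  exact Ideal.pow_le_pow_right (Finset.le_sup (Finset.mem_univ U))

/-- The kernel of a surjective closed immersion is locally nil. -/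
theorem ker_le_nilradical_of_surjective {Y₀ Y : Scheme.{u}} (i : Y₀ ⟶ Y) [IsClosedImmersion i]
    (hi : Function.Surjective i) (U : Y.affineOpens) : i.ker.ideal U ≤ nilradical Γ(Y, U.1) := by
  intro a ha
  rw [Scheme.Hom.ker_apply, RingHom.mem_ker] at ha
  rw [mem_nilradical, Scheme.isNilpotent_iff_basicOpen_eq_bot_of_isCompact U.2.isCompact]
  have h1 : i ⁻¹ᵁ Y.basicOpen a = ⊥ := by
    rw [Scheme.preimage_basicOpen]
    have : (i.app U.1) a = 0 := ha
    rw [this, Scheme.basicOpen_zero]
  ext y
  simp only [TopologicalSpace.Opens.coe_bot, Set.mem_empty_iff_false, iff_false]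
  intro hy
  obtain ⟨y₀, rfl⟩ := hi y
  have : y₀ ∈ i ⁻¹ᵁ Y.basicOpen a := hy
  rw [h1] at this
  exact this

/-- **A thickening of an affine scheme is affine** (Stacks 06AD): if a scheme receives a surjective closed immersion
from an affine scheme, it is affine. -/
theorem isAffine_of_isClosedImmersion_of_surjective {X X' : Scheme.{u}} (t : X ⟶ X')
    [IsClosedImmersion t] (ht : Function.Surjective t) [IsAffine X] : IsAffine X' := by
  let e : X ≃ₜ X' := t.isClosedEmbedding.isEmbedding.toHomeomorphOfSurjective ht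
  have hc : CompactSpace X' := e.compactSpace
  have hqs : QuasiSeparatedSpace X' := QuasiSeparatedSpace.of_isOpenEmbedding e.symm.isOpenEmbedding
  have hI : IsAffine t.ker.subscheme := IsAffine.of_isIso (inv t.toImage)
  obtain ⟨T, hT⟩ := exists_finite_affine_cover X'
  obtain ⟨K, hK⟩ := exists_isAffine_sub t.ker T
  obtain ⟨n, hn⟩ := exists_pow_eq_bot t.ker T hT (ker_le_nilradical_of_surjective t ht) K
  exact Groth.Agent.Lib.Helper18.isAffine_of_pow_eq_bot n X' K.1 hn hK

end Groth.Agent.Lib.Helper18.ThickAffine
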