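import Groth.Agent.Lib.Helper18.ClosedImmComap
import Mathlib.AlgebraicGeometry.Morphisms.Proper
import Mathlib.AlgebraicGeometry.Morphisms.Immersion

/-!
# Properness through nilpotent thickenings

Setting: a cartesian square `i ≫ f = f₀ ≫ j` with `j : Y₀ ⟶ Y` a closed immersion with nilpotent
kernel (locally) and `i : X₀ ⟶ X` surjective.  Then `f₀` proper implies `f` proper.

* `submodule_eq_top_of_sup_smul_top`: nilpotent Nakayama for submodules.
* `finiteType_of_nilpotent`: finite type can be checked modulo a nilpotent ideal.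
* `isSeparated_of_comp_surjective`: Stacks 09MQ.
* `thickening_affine_setup`: the affine-local ring picture of a cartesian square over a closed
  immersion.
* `locallyOfFiniteType_of_thickening`, `isProper_of_thickening`.
-/

universe u
open CategoryTheory CategoryTheory.Limits AlgebraicGeometry

namespace Groth.Agent.Lib.Helper18

section Ring

theorem submodule_eq_top_of_sup_smul_top {A M : Type*} [CommRing A] [AddCommGroup M] [Module A M]
    (K : Ideal A) (m : ℕ) (hK : K ^ m = ⊥) (E : Submodule A M)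
    (h : ⊤ ≤ E ⊔ K • (⊤ : Submodule A M)) : E = ⊤ := by
  have key : ∀ j : ℕ, ⊤ ≤ E ⊔ (K ^ j) • (⊤ : Submodule A M) := by
    intro j
    induction j with
    | zero => simp
    | succ j ih =>
      calc ⊤ ≤ E ⊔ K • (⊤ : Submodule A M) := h
        _ ≤ E ⊔ K • (E ⊔ (K ^ j) • (⊤ : Submodule A M)) :=
          sup_le_sup le_rfl (Submodule.smul_mono le_rfl ih)
        _ = E ⊔ (K • E ⊔ K • (K ^ j) • (⊤ : Submodule A M)) := by rw [Submodule.smul_sup]
        _ ≤ E ⊔ (K ^ (j + 1)) • (⊤ : Submodule A M) := by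
          refine sup_le le_sup_left (sup_le (Submodule.smul_le_right.trans le_sup_left) ?_)
          rw [← Submodule.mul_smul, ← pow_succ']
          exact le_sup_right
  have := key m
  rw [hK, Submodule.bot_smul, sup_bot_eq] at this
  exact top_le_iff.mp this

theorem finiteType_of_nilpotent {A B B₀ : Type*} [CommRing A] [CommRing B] [CommRing B₀]
    (f : A →+* B) (K : Ideal A) (m : ℕ) (hK : K ^ m = ⊥) (p : B →+* B₀)
    (hp : Function.Surjective p) (hker : RingHom.ker p = K.map f)
    (h : (p.comp f).FiniteType) : f.FiniteType := by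
  classical
  algebraize [f, p.comp f]
  let pA : B →ₐ[A] B₀ := { p with commutes' := fun a => rfl }
  obtain ⟨s₀, hs₀⟩ := (h : Algebra.FiniteType A B₀).out
  choose g hg using hp
  let s : Finset B := s₀.image g
  have hmap : (Algebra.adjoin A (s : Set B)).map pA = ⊤ := by
    rw [AlgHom.map_adjoin, ← hs₀]
    congr 1
    ext x
    simp only [s, Finset.coe_image, Set.mem_image, Finset.mem_coe]
    constructor
    · rintro ⟨_, ⟨y, hy, rfl⟩, rfl⟩
      rw [show pA (g y) = p (g y) from rfl, hg]; exact hy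
    · intro hx
      exact ⟨g x, ⟨x, hx, rfl⟩, hg x⟩
  have hsup : (⊤ : Submodule A B) ≤
      Subalgebra.toSubmodule (Algebra.adjoin A (s : Set B)) ⊔ K • (⊤ : Submodule A B) := by
    intro b _
    have : pA b ∈ (Algebra.adjoin A (s : Set B)).map pA := by rw [hmap]; trivial
    obtain ⟨b', hb', hbb'⟩ := this
    have hk : b - b' ∈ RingHom.ker p := by
      rw [RingHom.mem_ker, map_sub, sub_eq_zero]
      exact hbb'.symm
    rw [hker] at hk
    refine Submodule.mem_sup.mpr ⟨b', hb', b - b', ?_, by ring⟩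
    rw [Ideal.smul_top_eq_map]
    exact hk
  have htop := submodule_eq_top_of_sup_smul_top K m hK _ hsup
  refine ⟨⟨s, ?_⟩⟩
  exact Subalgebra.toSubmodule_injective (by rw [htop]; rfl)

end Ring

section Scheme

variable {X₀ X Y₀ Y : Scheme.{u}}

/-- Stacks 09MQ: if `i` is surjective and universally closed and `i ≫ f` is separated, then `f`
is separated. -/
theorem isSeparated_of_comp_surjective (i : X₀ ⟶ X) (f : X ⟶ Y) [Surjective i]
    [UniversallyClosed i] [IsSeparated (i ≫ f)] : IsSeparated f := by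
  let g : pullback (i ≫ f) (i ≫ f) ⟶ pullback f f :=
    pullback.map (i ≫ f) (i ≫ f) f f i i (𝟙 Y) ((Category.comp_id _).trans rfl)
      ((Category.comp_id _).trans rfl)
  have hg : UniversallyClosed g :=
    MorphismProperty.pullbackMap (P := @UniversallyClosed) ‹_› ‹_› rfl rfl
  have hcomm : pullback.diagonal (i ≫ f) ≫ g = i ≫ pullback.diagonal f := by
    apply pullback.hom_ext
    · simp only [g, Category.assoc, pullback.lift_fst, pullback.diagonal_fst,
        pullback.diagonal_fst_assoc, Category.comp_id]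
    · simp only [g, Category.assoc, pullback.lift_snd, pullback.diagonal_snd,
        pullback.diagonal_snd_assoc, Category.comp_id]
  have hrange : Set.range (pullback.diagonal f) = g '' Set.range (pullback.diagonal (i ≫ f)) := by
    ext z
    constructor
    · rintro ⟨x, rfl⟩
      obtain ⟨x₀, rfl⟩ := (‹Surjective i›).surj x
      refine ⟨pullback.diagonal (i ≫ f) x₀, ⟨x₀, rfl⟩, ?_⟩
      rw [← Scheme.Hom.comp_apply, ← Scheme.Hom.comp_apply, hcomm]
    · rintro ⟨_, ⟨x₀, rfl⟩, rfl⟩
      refine ⟨i x₀, ?_⟩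
      rw [← Scheme.Hom.comp_apply, ← Scheme.Hom.comp_apply, hcomm]
  have hclosed : IsClosed (Set.range (pullback.diagonal f)) := by
    rw [hrange]
    exact g.isClosedMap _ (pullback.diagonal (i ≫ f)).isClosedEmbedding.isClosed_range
  exact ⟨IsClosedImmersion.of_isPreimmersion _ hclosed⟩

variable {i : X₀ ⟶ X} {f₀ : X₀ ⟶ Y₀} {f : X ⟶ Y} {j : Y₀ ⟶ Y}

theorem appLE_congr_hom' {X Y : Scheme.{u}} {g g' : X ⟶ Y} (h : g = g') (U : Y.Opens)
    (V : X.Opens) (e : V ≤ g ⁻¹ᵁ U) : g.appLE U V e = g'.appLE U V (h ▸ e) := by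
  subst h; rfl

/-- The affine-local ring picture of a cartesian square over a closed immersion. -/
theorem thickening_affine_setup (hsq : IsPullback i f₀ f j) [IsClosedImmersion j]
    (U : Y.affineOpens) (V : X.affineOpens) (e : V.1 ≤ f ⁻¹ᵁ U.1) :
    ∃ (e₀ : i ⁻¹ᵁ V.1 ≤ f₀ ⁻¹ᵁ (j ⁻¹ᵁ U.1)),
      IsAffineOpen (i ⁻¹ᵁ V.1) ∧ IsAffineOpen (j ⁻¹ᵁ U.1) ∧
      Function.Surjective (i.app V.1).hom ∧
      RingHom.ker (i.app V.1).hom = (j.ker.ideal U).map (f.appLE U.1 V.1 e).hom ∧
      (i.app V.1).hom.comp (f.appLE U.1 V.1 e).hom =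
        (f₀.appLE (j ⁻¹ᵁ U.1) (i ⁻¹ᵁ V.1) e₀).hom.comp (j.app U.1).hom := by
  have hi : IsClosedImmersion i := MorphismProperty.of_isPullback hsq.flip ‹_›
  have e₀ : i ⁻¹ᵁ V.1 ≤ f₀ ⁻¹ᵁ (j ⁻¹ᵁ U.1) := by
    intro x hx
    have h1 : f (i x) ∈ U.1 := e hx
    have h2 : f (i x) = j (f₀ x) := by
      rw [← Scheme.Hom.comp_apply, ← Scheme.Hom.comp_apply, hsq.w]
    rw [h2] at h1
    exact h1
  refine ⟨e₀, V.2.preimage i, U.2.preimage j, i.app_surjective V.1 V.2, ?_, ?_⟩
  · rw [← Scheme.Hom.ker_apply, ← hsq.isoPullback_hom_fst, Scheme.Hom.ker_comp_of_isIso,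
      Scheme.IdealSheafData.ker_fst_of_isClosedImmersion, ideal_comap_of_le _ _ V U e]
  · rw [← CommRingCat.hom_comp, ← CommRingCat.hom_comp]
    congr 1
    rw [← Scheme.Hom.appLE_eq_app, ← Scheme.Hom.appLE_eq_app, Scheme.Hom.appLE_comp_appLE,
      Scheme.Hom.appLE_comp_appLE]
    exact appLE_congr_hom' hsq.w _ _ _

theorem locallyOfFiniteType_of_thickening (hsq : IsPullback i f₀ f j) [IsClosedImmersion j]
    (hnil : ∀ U : Y.affineOpens, ∃ m : ℕ, (j.ker.ideal U) ^ m = ⊥) [LocallyOfFiniteType f₀] :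
    LocallyOfFiniteType f := by
  rw [HasRingHomProperty.iff_appLE (P := @LocallyOfFiniteType)]
  intro U V e
  obtain ⟨e₀, hV₀, hU₀, hsurj, hker, hcomp⟩ := thickening_affine_setup hsq U V e
  obtain ⟨m, hm⟩ := hnil U
  refine finiteType_of_nilpotent _ (j.ker.ideal U) m hm _ hsurj hker ?_
  rw [hcomp]
  refine RingHom.FiniteType.comp ?_
    (RingHom.FiniteType.of_surjective _ (j.app_surjective U.1 U.2))
  exact HasRingHomProperty.appLE (P := @LocallyOfFiniteType) _ inferInstance ⟨_, hU₀⟩ ⟨_, hV₀⟩ e₀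

theorem isProper_of_thickening (hsq : IsPullback i f₀ f j) [IsClosedImmersion j] [Surjective i]
    (hnil : ∀ U : Y.affineOpens, ∃ m : ℕ, (j.ker.ideal U) ^ m = ⊥) [IsProper f₀] :
    IsProper f := by
  have hi : IsClosedImmersion i := MorphismProperty.of_isPullback hsq.flip ‹_›
  have h1 : IsProper (i ≫ f) := by rw [hsq.w]; infer_instance
  have h2 : UniversallyClosed f := UniversallyClosed.of_comp_surjective i f
  have h3 : IsSeparated f := isSeparated_of_comp_surjective i f
  have h4 : LocallyOfFiniteType f := locallyOfFiniteType_of_thickening hsq hnil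
  exact { }

end Scheme

end Groth.Agent.Lib.Helper18
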