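import Mathlib
import Groth.Agent.Lib.Helper18.ThickProper

/-!
# Formal unramifiedness along thickenings (helper18)

Ring-level: if `A → B` is a ring map, `K ⊆ A` an ideal and `B / K B` is formally unramified over `A`,
then `Ω[B/A] = K Ω[B/A]`; hence `A → B` is formally unramified when `K` is nilpotent, or when `K` is
nil and `B` is of finite type.  Scheme-level: descent of `FormallyUnramified` along a cartesian square
over a thickening.
-/

open TensorProduct CategoryTheory CategoryTheory.Limits AlgebraicGeometry

namespace Groth.Agent.Lib.Helper18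

universe u

section Ring

/-- If `B ⧸ I` is formally unramified over `A`, where `I = K B` is an extended ideal,
then `Ω[B⁄A] = I Ω[B⁄A]`. -/
theorem kaehler_eq_smul_top {A B : Type u} [CommRing A] [CommRing B] [Algebra A B]
    (K : Ideal A)
    [Algebra.FormallyUnramified A (B ⧸ K.map (algebraMap A B))] :
    (K.map (algebraMap A B)) • (⊤ : Submodule B Ω[B⁄A]) = ⊤ := by
  set I := K.map (algebraMap A B) with hI
  have hsurj : Function.Surjective (algebraMap B (B ⧸ I)) := Ideal.Quotient.mk_surjective
  set N : Submodule B Ω[B⁄A] := I • ⊤ with hN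
  have hD : ∀ x ∈ I, KaehlerDifferential.D A B x ∈ N := by
    intro x hx
    rw [hI, Ideal.map] at hx
    refine Submodule.span_induction ?_ ?_ ?_ ?_ hx
    · rintro _ ⟨k, hk, rfl⟩
      simp
    · simp
    · intro x y _ _ hx hy
      rw [map_add]
      exact N.add_mem hx hy
    · intro b x hx' hx
      rw [smul_eq_mul, Derivation.leibniz]
      refine N.add_mem (N.smul_mem b hx) (Submodule.smul_mem_smul ?_ trivial)
      exact hx'
  rw [eq_top_iff]
  intro ω _
  have hex := KaehlerDifferential.exact_kerCotangentToTensor_mapBaseChange A B (B ⧸ I) hsurj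
  have h0 : KaehlerDifferential.mapBaseChange A B (B ⧸ I) (1 ⊗ₜ ω) = 0 := Subsingleton.elim _ _
  obtain ⟨c, hc⟩ := (hex _).mp h0
  obtain ⟨x, rfl⟩ := Ideal.toCotangent_surjective _ c
  rw [KaehlerDifferential.kerCotangentToTensor_toCotangent] at hc
  have h1 : (TensorProduct.mk B (B ⧸ I) Ω[B⁄A] 1) (ω - KaehlerDifferential.D A B x.1) = 0 := by
    rw [map_sub, TensorProduct.mk_apply, TensorProduct.mk_apply, hc, sub_self]
  have h2 : ω - KaehlerDifferential.D A B x.1 ∈ I • (⊤ : Submodule B Ω[B⁄A]) := by
    rw [← LinearMap.ker_tensorProductMk]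
    exact h1
  have hx : x.1 ∈ I := by
    have h3 : algebraMap B (B ⧸ I) x.1 = 0 := x.2
    exact Ideal.Quotient.eq_zero_iff_mem.mp h3
  have := N.add_mem h2 (hD _ hx)
  simpa using this

/-- Transport of formal unramifiedness to the literal quotient. -/
theorem formallyUnramified_quotient_of_ker_eq_map {A B B₀ : Type u} [CommRing A] [CommRing B]
    [CommRing B₀] [Algebra A B] (K : Ideal A) (p : B →+* B₀)
    (hp : Function.Surjective p) (hker : RingHom.ker p = K.map (algebraMap A B))
    (h : (p.comp (algebraMap A B)).FormallyUnramified) :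
    Algebra.FormallyUnramified A (B ⧸ K.map (algebraMap A B)) := by
  algebraize [p.comp (algebraMap A B)]
  let pA : B →ₐ[A] B₀ := { p with commutes' := fun a => rfl }
  have hkerA : RingHom.ker pA = K.map (algebraMap A B) := hker
  have hpA : Function.Surjective pA := hp
  let e : (B ⧸ K.map (algebraMap A B)) ≃ₐ[A] B₀ :=
    (Ideal.quotientEquivAlgOfEq A hkerA.symm).trans (Ideal.quotientKerAlgEquivOfSurjective hpA)
  exact Algebra.FormallyUnramified.of_equiv e.symm

theorem formallyUnramified_of_nilpotent {A B B₀ : Type u} [CommRing A] [CommRing B] [CommRing B₀]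
    (f : A →+* B) (K : Ideal A) (m : ℕ) (hK : K ^ m = ⊥) (p : B →+* B₀)
    (hp : Function.Surjective p) (hker : RingHom.ker p = K.map f)
    (h : (p.comp f).FormallyUnramified) : f.FormallyUnramified := by
  algebraize [f]
  have := formallyUnramified_quotient_of_ker_eq_map K p hp hker h
  have htop := kaehler_eq_smul_top (A := A) (B := B) K
  have key : ∀ j : ℕ, (K.map (algebraMap A B)) ^ j • (⊤ : Submodule B Ω[B⁄A]) = ⊤ := by
    intro j
    induction j with
    | zero => simp
    | succ j ih => rw [pow_succ, mul_smul, htop, ih]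
  have hm := key m
  rw [← Ideal.map_pow, hK, Ideal.map_bot, Submodule.bot_smul] at hm
  change Algebra.FormallyUnramified A B
  rw [Algebra.formallyUnramified_iff]
  exact (Submodule.subsingleton_iff B).mp (subsingleton_of_bot_eq_top hm)

theorem formallyUnramified_of_nil_of_finiteType {A B B₀ : Type u} [CommRing A] [CommRing B]
    [CommRing B₀] (f : A →+* B) (hf : f.FiniteType) (K : Ideal A) (hK : K ≤ nilradical A)
    (p : B →+* B₀) (hp : Function.Surjective p) (hker : RingHom.ker p = K.map f)
    (h : (p.comp f).FormallyUnramified) : f.FormallyUnramified := by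
  algebraize [f]
  have := formallyUnramified_quotient_of_ker_eq_map K p hp hker h
  have htop := kaehler_eq_smul_top (A := A) (B := B) K
  have hfin : Module.Finite B Ω[B⁄A] := inferInstance
  have hle : K.map (algebraMap A B) ≤ (⊥ : Ideal B).jacobson := by
    refine le_trans ?_ (Ideal.jacobson_bot (R := B) ▸ nilradical_le_jacobson B)
    rw [Ideal.map_le_iff_le_comap]
    intro k hk
    have h1 : IsNilpotent k := mem_nilradical.mp (hK hk)
    exact mem_nilradical.mpr (h1.map (algebraMap A B))
  have hbot : (⊤ : Submodule B Ω[B⁄A]) = ⊥ :=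
    Submodule.eq_bot_of_le_smul_of_le_jacobson_bot _ _ hfin.fg_top htop.ge hle
  change Algebra.FormallyUnramified A B
  rw [Algebra.formallyUnramified_iff]
  exact (Submodule.subsingleton_iff B).mp (subsingleton_of_bot_eq_top hbot.symm)

end Ring

section Scheme

variable {X₀ X Y₀ Y : Scheme.{u}} {i : X₀ ⟶ X} {f₀ : X₀ ⟶ Y₀} {f : X ⟶ Y} {j : Y₀ ⟶ Y}

/-- The kernel of a surjective closed immersion consists of nilpotent sections. -/
theorem ker_le_nilradical_of_surjective {Y₀ Y : Scheme.{u}} (i : Y₀ ⟶ Y)
    [IsClosedImmersion i] [Surjective i] (U : Y.affineOpens) :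
    i.ker.ideal U ≤ nilradical Γ(Y, U.1) := by
  intro a ha
  rw [Scheme.Hom.ker_apply, RingHom.mem_ker] at ha
  rw [mem_nilradical, Scheme.isNilpotent_iff_basicOpen_eq_bot_of_isCompact U.2.isCompact]
  have h1 : i ⁻¹ᵁ Y.basicOpen a = ⊥ := by
    rw [Scheme.preimage_basicOpen]
    have : (i.app U.1) a = 0 := ha
    rw [this, Scheme.basicOpen_zero]
  ext y
  simp only [TopologicalSpace.Opens.coe_bot, Set.mem_empty_iff_false, iff_false]
  intro hy
  obtain ⟨y₀, rfl⟩ := (‹Surjective i›).surj y
  have : y₀ ∈ i ⁻¹ᵁ Y.basicOpen a := hy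
  rw [h1] at this
  exact this

/-- Formal unramifiedness descends along a cartesian square over a (locally) nilpotent closed
immersion. -/
theorem formallyUnramified_of_thickening (hsq : IsPullback i f₀ f j) [IsClosedImmersion j]
    (hnil : ∀ U : Y.affineOpens, ∃ m : ℕ, (j.ker.ideal U) ^ m = ⊥) [FormallyUnramified f₀] :
    FormallyUnramified f := by
  rw [HasRingHomProperty.iff_appLE (P := @FormallyUnramified)]
  intro U V e
  obtain ⟨e₀, hV₀, hU₀, hsurj, hker, hcomp⟩ := thickening_affine_setup hsq U V e
  obtain ⟨m, hm⟩ := hnil U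
  refine formallyUnramified_of_nilpotent _ (j.ker.ideal U) m hm _ hsurj hker ?_
  rw [hcomp]
  refine RingHom.FormallyUnramified.stableUnderComposition _ _ ?_ ?_
  · exact RingHom.FormallyUnramified.of_surjective (j.app_surjective U.1 U.2)
  · exact HasRingHomProperty.appLE (P := @FormallyUnramified) _ inferInstance ⟨_, hU₀⟩ ⟨_, hV₀⟩ e₀

/-- Formal unramifiedness of a morphism locally of finite type descends along a cartesian square
over a surjective closed immersion. -/
theorem formallyUnramified_of_thickening_of_lft (hsq : IsPullback i f₀ f j) [IsClosedImmersion j]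
    [Surjective j] [LocallyOfFiniteType f] [FormallyUnramified f₀] :
    FormallyUnramified f := by
  rw [HasRingHomProperty.iff_appLE (P := @FormallyUnramified)]
  intro U V e
  obtain ⟨e₀, hV₀, hU₀, hsurj, hker, hcomp⟩ := thickening_affine_setup hsq U V e
  have hft : (f.appLE U.1 V.1 e).hom.FiniteType :=
    HasRingHomProperty.appLE (P := @LocallyOfFiniteType) _ inferInstance U V e
  refine formallyUnramified_of_nil_of_finiteType _ hft (j.ker.ideal U)
    (ker_le_nilradical_of_surjective j U) _ hsurj hker ?_
  rw [hcomp]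
  refine RingHom.FormallyUnramified.stableUnderComposition _ _ ?_ ?_
  · exact RingHom.FormallyUnramified.of_surjective (j.app_surjective U.1 U.2)
  · exact HasRingHomProperty.appLE (P := @FormallyUnramified) _ inferInstance ⟨_, hU₀⟩ ⟨_, hV₀⟩ e₀

end Scheme

end Groth.Agent.Lib.Helper18
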