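import Groth.Prelude.Def_CInt

/-!
# Schematically dense opens (`CInt.IsSchematicallyDense`): basic facts

* `dense_of_isSchematicallyDense`: schematically dense opens are dense.
* `isSchematicallyDense_of_dense`: on a reduced scheme dense opens are schematically dense.
* `exists_open_subset_irreducibleComponent`: with locally finite irreducible components, every
  irreducible component contains a nonempty open subset of the space.
-/

universe u
open CategoryTheory AlgebraicGeometry TopologicalSpace

namespace Groth.Agent.Lib.Helper18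

theorem dense_of_isSchematicallyDense {X : Scheme.{u}} (V : X.Opens)
    (hV : CInt.IsSchematicallyDense V) : Dense (V : Set X) := by
  rw [dense_iff_inter_open]
  intro W hW hne
  by_contra hemp
  rw [Set.not_nonempty_iff_eq_empty] at hemp
  let W' : X.Opens := ⟨W, hW⟩
  have hbot : W' ⊓ V = ⊥ := by
    ext x
    simp only [Opens.coe_inf, Opens.coe_bot, Set.mem_empty_iff_false, iff_false]
    intro hx
    have : x ∈ W ∩ (V : Set X) := hx
    rw [hemp] at this
    exact this
  have hinj := hV W'
  have hsub : Subsingleton Γ(X, W' ⊓ V) := by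
    rw [hbot]; infer_instance
  have : Subsingleton Γ(X, W') := hinj.subsingleton
  have hne' : Nonempty W' := by
    obtain ⟨x, hx⟩ := hne
    exact ⟨⟨x, hx⟩⟩
  have := X.component_nontrivial W'
  exact not_subsingleton Γ(X, W') ‹_›

theorem isSchematicallyDense_of_dense {X : Scheme.{u}} [IsReduced X] (U : X.Opens)
    (hU : Dense (U : Set X)) : CInt.IsSchematicallyDense U := by
  intro V
  rw [injective_iff_map_eq_zero]
  intro s hs
  have h1 : X.basicOpen (X.presheaf.map (homOfLE (inf_le_left : V ⊓ U ≤ V)).op s) =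
      (V ⊓ U) ⊓ X.basicOpen s := X.basicOpen_res _ _
  rw [hs, Scheme.basicOpen_zero] at h1
  rw [← AlgebraicGeometry.basicOpen_eq_bot_iff]
  by_contra hne
  have hne' : (X.basicOpen s : Set X).Nonempty := by
    rw [Set.nonempty_iff_ne_empty]
    intro h
    exact hne (Opens.ext h)
  obtain ⟨x, hxs, hxU⟩ := hU.inter_open_nonempty _ (X.basicOpen s).2 hne'
  have hxV : x ∈ V := X.basicOpen_le s hxs
  have : x ∈ ((V ⊓ U) ⊓ X.basicOpen s : X.Opens) := ⟨⟨hxV, hxU⟩, hxs⟩
  rw [← h1] at this
  exact this

/-- With locally finitely many irreducible components, each irreducible component contains a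
nonempty open subset of the whole space. -/
theorem exists_open_subset_irreducibleComponent {T : Type*} [TopologicalSpace T]
    (hfin : ∀ x : T, ∃ W : Set T, IsOpen W ∧ x ∈ W ∧
      {Z ∈ irreducibleComponents T | (Z ∩ W).Nonempty}.Finite)
    (Z : Set T) (hZ : Z ∈ irreducibleComponents T) :
    ∃ O : Set T, IsOpen O ∧ O.Nonempty ∧ O ⊆ Z := by
  obtain ⟨z, hz⟩ := hZ.1.1
  obtain ⟨W, hWo, hzW, hfinW⟩ := hfin z
  set S : Set (Set T) := {C ∈ irreducibleComponents T | (C ∩ W).Nonempty} \ {Z} with hS
  have hSfin : S.Finite := hfinW.sdiff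
  have hSsub : S ⊆ irreducibleComponents T := fun C hC => hC.1.1
  have hclosed : IsClosed (⋃₀ S) := by
    rw [Set.sUnion_eq_biUnion]
    exact hSfin.isClosed_biUnion fun C hC => isClosed_of_mem_irreducibleComponents C (hSsub hC)
  refine ⟨W ∩ (⋃₀ S)ᶜ, hWo.inter hclosed.isOpen_compl, ?_, ?_⟩
  · by_contra hemp
    rw [Set.not_nonempty_iff_eq_empty] at hemp
    have hWS : W ⊆ ⋃₀ S := by
      intro x hx
      by_contra hxS
      have : x ∈ W ∩ (⋃₀ S)ᶜ := ⟨hx, hxS⟩
      rw [hemp] at this
      exact this
    have hZS : Z ⊆ ⋃₀ S := by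
      have h1 : Z ⊆ closure (Z ∩ W) :=
        subset_closure_inter_of_isPreirreducible_of_isOpen hZ.1.2 hWo ⟨z, hz, hzW⟩
      refine h1.trans ((closure_minimal ?_ hclosed))
      exact fun x hx => hWS hx.2
    have := mem_of_subset_sUnion_irreducibleComponents Z hZ S hSfin hSsub hZS
    exact this.2 rfl
  · rintro x ⟨hxW, hxS⟩
    have hC := irreducibleComponent_mem_irreducibleComponents x
    have hxC : x ∈ irreducibleComponent x := mem_irreducibleComponent
    by_contra hxZ
    apply hxS
    refine ⟨irreducibleComponent x, ⟨⟨hC, ⟨x, hxC, hxW⟩⟩, ?_⟩, hxC⟩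
    intro h
    rw [Set.mem_singleton_iff] at h
    rw [h] at hxC
    exact hxZ hxC

/-- Topological part: density of the preimage of a dense open when irreducible components
dominate irreducible components. -/
theorem dense_preimage_of_components_dominate {T T' : Type*} [TopologicalSpace T]
    [TopologicalSpace T'] (f : T' → T) (hf : Continuous f)
    (hfin : ∀ x : T, ∃ W : Set T, IsOpen W ∧ x ∈ W ∧
      {Z ∈ irreducibleComponents T | (Z ∩ W).Nonempty}.Finite)
    (hdom : ∀ Z' ∈ irreducibleComponents T', closure (f '' Z') ∈ irreducibleComponents T)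
    (V : Set T) (hVo : IsOpen V) (hV : Dense V) : Dense (f ⁻¹' V) := by
  intro x'
  have hZ' := irreducibleComponent_mem_irreducibleComponents x'
  have hxZ' : x' ∈ irreducibleComponent x' := mem_irreducibleComponent
  obtain ⟨O, hOo, hOne, hOZ⟩ := exists_open_subset_irreducibleComponent hfin _ (hdom _ hZ')
  obtain ⟨y, hyO, hyV⟩ := hV.inter_open_nonempty O hOo hOne
  have hycl : y ∈ closure (f '' irreducibleComponent x') := hOZ hyO
  obtain ⟨_, ⟨hy1, hy2⟩, ⟨y', hy'Z, rfl⟩⟩ :=
    mem_closure_iff.mp hycl (O ∩ V) (hOo.inter hVo) ⟨hyO, hyV⟩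
  have hsub : irreducibleComponent x' ⊆ closure (irreducibleComponent x' ∩ f ⁻¹' V) :=
    subset_closure_inter_of_isPreirreducible_of_isOpen hZ'.1.2 (hVo.preimage hf)
      ⟨y', hy'Z, hy2⟩
  exact closure_mono Set.inter_subset_right (hsub hxZ')

end Groth.Agent.Lib.Helper18
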