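import Groth.Agent.Lib.Helper18.LSubZorn

/-!
# Quasi-coherent submodules of finite type through a given section (EGA I 9.4.9)

Shared library of helper18 (namespace `Groth.Agent.Lib.Helper18.LSubM`).
-/

set_option autoImplicit false
universe u v
open CategoryTheory CategoryTheory.Limits AlgebraicGeometry TopologicalSpace Opposite
open Groth.Agent.Lib.Helper49 Groth.Agent.Lib.Helper45

namespace Groth.Agent.Lib.Helper18.LSubM

variable {X : Scheme.{u}} {F : X.Modules}

/-- Every section of a quasi-coherent module over an affine open lies in a quasi-coherent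
submodule of finite type (for a scheme with a well-ordered affine cover as in EGA I 9.4.7). -/
theorem exists_sub_through_section [F.IsQuasicoherent]
    {L : Type v} [LinearOrder L] [WellFoundedLT L]
    (V : L → X.Opens) (hV : ∀ l, IsAffineOpen (V l)) (hcov : ⨆ l, V l = ⊤)
    (hW : ∀ l, IsCompact ((V l : Set X) ∩ ⋃ m ∈ Set.Iio l, (V m : Set X)))
    {U : X.Opens} (hU : IsAffineOpen U) (hW₀ : ∀ l, IsCompact ((V l : Set X) ∩ (U : Set X)))
    (s : Γ(F, U)) :
    ∃ K : LSub F, K.toModules.IsQuasicoherent ∧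
      SheafOfModules.IsFiniteType (R := X.ringCatSheaf) K.toModules ∧ s ∈ K.obj U := by
  have hF : ∀ T : X.Opens, IsAffineOpen T → IsLocalizingOn F T :=
    fun T hT => isLocalizingOn_of_isQuasicoherent hT F
  let N : Submodule Γ(X, U) Γ(F, U) := Submodule.span Γ(X, U) {s}
  have hN : (ext U N).obj U = N := ext_obj_self hU (hF U hU) N
  have hK₀ : ∀ x ∈ U, ∃ T : X.Opens, IsAffineOpen T ∧ x ∈ T ∧ T ≤ U ∧ (ext U N).Good T ∧
      ((ext U N).obj T).FG := by
    intro x hx
    refine ⟨U, hU, hx, le_rfl, ?_, ?_⟩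
    · intro f t ht
      obtain ⟨m, hm⟩ := exists_pow_smul_mem_of_mres_mem_ext hU (hF U hU) N f t ht
      exact ⟨m, by rw [hN]; exact hm⟩
    · rw [hN]
      exact Submodule.fg_span_singleton s
  obtain ⟨K, hK₀', hKV⟩ := LSub.exists_extension (V := V) (W₀ := U) (K₀ := ext U N)
    hF hV hW hW₀ (ext_sat U N) hK₀
  have hcov' : ∀ x : X, ∃ T ∈ Set.range V, x ∈ T := by
    intro x
    have hx : x ∈ (⨆ l, V l : X.Opens) := by rw [hcov]; trivial
    obtain ⟨l, hl⟩ := Opens.mem_iSup.mp hx
    exact ⟨V l, ⟨l, rfl⟩, hl⟩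
  have hq : K.toModules.IsQuasicoherent :=
    K.isQuasicoherent_toModules hF (Set.range V) (by rintro _ ⟨l, rfl⟩; exact hV l) hcov'
      (by rintro _ ⟨l, rfl⟩; exact (hKV l).1)
  have hft : SheafOfModules.IsFiniteType (R := X.ringCatSheaf) K.toModules :=
    K.isFiniteType_toModules (Set.range V) (by rintro _ ⟨l, rfl⟩; exact hV l) hcov'
      (by rintro _ ⟨l, rfl⟩; exact (hKV l).2)
  refine ⟨K, hq, hft, ?_⟩
  rw [hK₀' U le_rfl, hN]
  exact Submodule.mem_span_singleton_self s

end Groth.Agent.Lib.Helper18.LSubM
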