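import Mathlib

/-!
# Tensor products and elementwise filtered colimits of algebras

`IsColimSystem A τ B t` says, elementwise, that the `R`-algebra `B` is the colimit of the system of
`R`-algebras `A j` (indexed contravariantly by a cofiltered category `J`).  Main result
`IsColimSystem.exists_forall_one_tmul_eq_zero`: if `u : M → N` is a map of `R`-modules with `M`
finite and `B ⊗ u = 0`, then `A j ⊗ u = 0` for some `j`.
-/

set_option autoImplicit false
universe u v w
open CategoryTheory TensorProduct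

namespace Groth.Agent.Lib.Helper18.LimTensor

variable {R : Type u} [CommRing R] {J : Type v} [Category.{w} J]
  (A : J → Type u) [∀ j, CommRing (A j)] [∀ j, Algebra R (A j)]
  (τ : ∀ {j' j : J}, (j' ⟶ j) → (A j →ₐ[R] A j'))
  (B : Type u) [CommRing B] [Algebra R B] (t : ∀ j, A j →ₐ[R] B)

/-- `B` is "the colimit" of the system `(A, τ)` of `R`-algebras, elementwise. -/
structure IsColimSystem : Prop where
  τ_comp : ∀ {j'' j' j : J} (g : j'' ⟶ j') (f : j' ⟶ j) (x : A j), τ (g ≫ f) x = τ g (τ f x)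
  t_τ : ∀ {j' j : J} (f : j' ⟶ j) (x : A j), t j' (τ f x) = t j x
  surj : ∀ b : B, ∃ (j : J) (y : A j), t j y = b
  inj : ∀ (j : J) (y y' : A j), t j y = t j y' → ∃ (j' : J) (f : j' ⟶ j), τ f y = τ f y'

variable {A τ B t}

omit [Category.{w} J] in
theorem one_tmul_eq_zero_of_hom {S S' : Type*} [CommRing S] [CommRing S'] [Algebra R S]
    [Algebra R S'] {N : Type*} [AddCommGroup N] [Module R N]
    (φ : S →ₐ[R] S') (n : N) (h0 : (1 : S) ⊗ₜ[R] n = 0) : (1 : S') ⊗ₜ[R] n = 0 := by
  have := congrArg (φ.toLinearMap.rTensor N) h0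
  simpa using this

variable [IsCofiltered J]

theorem IsColimSystem.exists_lift (h : IsColimSystem A τ B t) {ι : Type*} [Finite ι]
    (q : ι → B) : ∃ (j : J) (y : ι → A j), ∀ i, t j (y i) = q i := by
  classical
  cases nonempty_fintype ι
  choose j₀ y₀ hy₀ using fun i => h.surj (q i)
  obtain ⟨j, hj⟩ := IsCofiltered.inf_objs_exists (Finset.univ.image j₀)
  have f : ∀ i, j ⟶ j₀ i := fun i => (hj (Finset.mem_image_of_mem _ (Finset.mem_univ i))).some
  exact ⟨j, fun i => τ (f i) (y₀ i), fun i => by rw [h.t_τ, hy₀]⟩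

omit [IsCofiltered J] in
theorem IsColimSystem.exists_eq (h : IsColimSystem A τ B t) (j : J) (s : Finset (A j × A j))
    (hs : ∀ p ∈ s, t j p.1 = t j p.2) :
    ∃ (j' : J) (f : j' ⟶ j), ∀ p ∈ s, τ f p.1 = τ f p.2 := by
  classical
  induction s using Finset.induction_on with
  | empty => exact ⟨j, 𝟙 j, by simp⟩
  | insert p s hp ih =>
    obtain ⟨j', f, hf⟩ := ih (fun q hq => hs q (Finset.mem_insert_of_mem hq))
    have h1 : t j' (τ f p.1) = t j' (τ f p.2) := by
      rw [h.t_τ, h.t_τ]; exact hs p (Finset.mem_insert_self _ _)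
    obtain ⟨j'', g, hg⟩ := h.inj j' _ _ h1
    refine ⟨j'', g ≫ f, fun q hq => ?_⟩
    rw [h.τ_comp, h.τ_comp]
    rcases Finset.mem_insert.mp hq with rfl | hq
    · exact hg
    · rw [hf q hq]

theorem IsColimSystem.exists_one_tmul_eq_zero (h : IsColimSystem A τ B t) {N : Type*}
    [AddCommGroup N] [Module R N] (n : N) (h0 : (1 : B) ⊗ₜ[R] n = 0) :
    ∃ j : J, (1 : A j) ⊗ₜ[R] n = 0 := by
  classical
  let P : Submodule R B := Submodule.span R {1}
  have hP : P.FG := Submodule.fg_span_singleton 1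
  let one : P := ⟨1, Submodule.mem_span_singleton_self 1⟩
  have h1 : LinearMap.rTensor N P.subtype (one ⊗ₜ[R] n) = 0 := by
    rw [LinearMap.rTensor_tmul]; exact h0
  obtain ⟨Q, hPQ, hQ, h2⟩ := TensorProduct.eq_zero_of_fg_of_subtype_eq_zero hP h1
  obtain ⟨s, hs⟩ := hQ
  let q : s → Q := fun i => ⟨i.1, hs ▸ Submodule.subset_span i.2⟩
  have hq : Submodule.span R (Set.range q) = ⊤ := by
    rw [eq_top_iff]
    rintro ⟨x, hx⟩ -
    have hx' : x ∈ Submodule.span R (s : Set B) := hs ▸ hx
    have key : ∀ x (hx : x ∈ Submodule.span R (s : Set B)),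
        (⟨x, hs ▸ hx⟩ : Q) ∈ Submodule.span R (Set.range q) := by
      intro x hx
      induction hx using Submodule.span_induction with
      | mem x hx => exact Submodule.subset_span ⟨⟨x, hx⟩, rfl⟩
      | zero => exact Submodule.zero_mem _
      | add x y _ _ hx hy => exact Submodule.add_mem _ hx hy
      | smul r x _ hx => exact Submodule.smul_mem _ r hx
    exact key x hx'
  have hone : Submodule.inclusion hPQ one ∈ Submodule.span R (Set.range q) := by
    rw [hq]; trivial
  obtain ⟨r, hr⟩ := (Submodule.mem_span_range_iff_exists_fun R).mp hone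
  have hsum : ∑ i, q i ⊗ₜ[R] (r i • n) = 0 := by
    rw [LinearMap.rTensor_tmul] at h2
    simp_rw [← smul_tmul]
    rw [← sum_tmul, hr]
    exact h2
  obtain ⟨k, a, y, hy, ha⟩ := vanishesTrivially_of_sum_tmul_eq_zero R hq hsum
  obtain ⟨j, z, hz⟩ := h.exists_lift (fun i : s => (i.1 : B))
  let eqs : Finset (A j × A j) :=
    insert (∑ i, r i • z i, 1) (Finset.univ.image fun κ : Fin k => (∑ i, a i κ • z i, 0))
  have heqs : ∀ p ∈ eqs, t j p.1 = t j p.2 := by
    intro p hp
    rcases Finset.mem_insert.mp hp with rfl | hp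
    · simp only [map_sum, map_smul, hz, map_one]
      have := congrArg (fun x : Q => (x : B)) hr
      simpa [q] using this
    · obtain ⟨κ, -, rfl⟩ := Finset.mem_image.mp hp
      simp only [map_sum, map_smul, hz, map_zero]
      have := congrArg (fun x : Q => (x : B)) (ha κ)
      simpa [q] using this
  obtain ⟨j', f, hf⟩ := h.exists_eq j eqs heqs
  refine ⟨j', ?_⟩
  have e1 : ∑ i, r i • τ f (z i) = 1 := by
    have := hf _ (Finset.mem_insert_self _ _)
    simpa using this
  have e2 : ∀ κ, ∑ i, a i κ • τ f (z i) = 0 := by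
    intro κ
    have := hf (∑ i, a i κ • z i, 0)
      (Finset.mem_insert_of_mem (Finset.mem_image_of_mem _ (Finset.mem_univ κ)))
    simpa using this
  calc (1 : A j') ⊗ₜ[R] n = (∑ i, r i • τ f (z i)) ⊗ₜ[R] n := by rw [e1]
    _ = ∑ i, τ f (z i) ⊗ₜ[R] (r i • n) := by rw [sum_tmul]; simp_rw [smul_tmul]
    _ = 0 := sum_tmul_eq_zero_of_vanishesTrivially R ⟨k, a, y, hy, e2⟩

theorem IsColimSystem.exists_forall_one_tmul_eq_zero (h : IsColimSystem A τ B t)
    {M N : Type*} [AddCommGroup M] [Module R M] [AddCommGroup N] [Module R N]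
    [Module.Finite R M] (u : M →ₗ[R] N) (h0 : ∀ m, (1 : B) ⊗ₜ[R] u m = 0) :
    ∃ j : J, ∀ m, (1 : A j) ⊗ₜ[R] u m = 0 := by
  classical
  obtain ⟨s, hs⟩ := (Module.Finite.fg_top : (⊤ : Submodule R M).FG)
  choose j₀ hj₀ using fun m : s => h.exists_one_tmul_eq_zero (u m.1) (h0 m.1)
  obtain ⟨j, hj⟩ := IsCofiltered.inf_objs_exists (Finset.univ.image j₀)
  refine ⟨j, fun m => ?_⟩
  have hm : m ∈ Submodule.span R (s : Set M) := by rw [hs]; trivial
  induction hm using Submodule.span_induction with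
  | mem x hx =>
    exact one_tmul_eq_zero_of_hom
      (τ (hj (Finset.mem_image_of_mem _ (Finset.mem_univ ⟨x, hx⟩))).some) _ (hj₀ ⟨x, hx⟩)
  | zero => simp
  | add x y _ _ hx hy => rw [map_add, tmul_add, hx, hy, add_zero]
  | smul r x _ hx => rw [map_smul, tmul_smul, hx, smul_zero]

end Groth.Agent.Lib.Helper18.LimTensor
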