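import Mathlib
import Groth.Agent.Lib.Helper13.LimSections
import Groth.Agent.Lib.Helper18.LimTensor

/-!
# The system of section rings over an affine open of a stage of a cofiltered limit of schemes

For a cofiltered diagram `D : I ⥤ Scheme` with affine transition maps, limit cone `c`, a stage `i₀`
and an affine open `U ⊆ D.obj i₀`, the rings `Γ(D.obj j, (D.map j.hom)⁻¹ U)` (`j : Over i₀`) form
a system of `Γ(D.obj i₀, U)`-algebras whose "colimit" (in the elementwise sense of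
`LimTensor.IsColimSystem`) is `Γ(c.pt, (c.π.app i₀)⁻¹ U)`.
-/

set_option autoImplicit false
universe u
open CategoryTheory CategoryTheory.Limits AlgebraicGeometry

namespace Groth.Agent.Lib.Helper18.LimSystem

open Groth.Agent.Lib.Helper18.LimTensor Groth.Agent.Lib.Helper13.LimSections

theorem appLE_of_eq {X Y : Scheme.{u}} {f g : X ⟶ Y} (e : f = g) (U : Y.Opens) (V : X.Opens)
    (h : V ≤ f ⁻¹ᵁ U) : f.appLE U V h = g.appLE U V (e ▸ h) := by
  subst e; rfl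

variable {I : Type u} [SmallCategory I] (D : I ⥤ Scheme.{u}) (c : Cone D) (i₀ : I)
  (U : (D.obj i₀).Opens)

theorem preimage_le {j' j : Over i₀} (f : j' ⟶ j) :
    D.map j'.hom ⁻¹ᵁ U ≤ D.map f.left ⁻¹ᵁ D.map j.hom ⁻¹ᵁ U := by
  rw [← Scheme.Hom.comp_preimage, ← D.map_comp, Over.w f]

/-- The structure map `Γ(S_{i₀}, U) → Γ(S_j, U_j)`. -/
noncomputable def ρ (j : Over i₀) : Γ(D.obj i₀, U) →+* Γ(D.obj j.left, D.map j.hom ⁻¹ᵁ U) :=
  ((D.map j.hom).appLE U (D.map j.hom ⁻¹ᵁ U) le_rfl).hom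

/-- The structure map `Γ(S_{i₀}, U) → Γ(S, U_∞)`. -/
noncomputable def ρ' : Γ(D.obj i₀, U) →+* Γ(c.pt, c.π.app i₀ ⁻¹ᵁ U) :=
  ((c.π.app i₀).appLE U (c.π.app i₀ ⁻¹ᵁ U) le_rfl).hom

/-- The transition maps. -/
noncomputable def τr {j' j : Over i₀} (f : j' ⟶ j) :
    Γ(D.obj j.left, D.map j.hom ⁻¹ᵁ U) →+* Γ(D.obj j'.left, D.map j'.hom ⁻¹ᵁ U) :=
  ((D.map f.left).appLE (D.map j.hom ⁻¹ᵁ U) (D.map j'.hom ⁻¹ᵁ U) (preimage_le D i₀ U f)).hom

/-- The maps to the limit. -/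
noncomputable def tr (j : Over i₀) :
    Γ(D.obj j.left, D.map j.hom ⁻¹ᵁ U) →+* Γ(c.pt, c.π.app i₀ ⁻¹ᵁ U) :=
  ((c.π.app j.left).appLE (D.map j.hom ⁻¹ᵁ U) (c.π.app i₀ ⁻¹ᵁ U)
    (preimage_preimage_eq D c j U).ge).hom

theorem τr_ρ {j' j : Over i₀} (f : j' ⟶ j) (r : Γ(D.obj i₀, U)) :
    τr D i₀ U f (ρ D i₀ U j r) = ρ D i₀ U j' r := by
  unfold τr ρ
  rw [← RingHom.comp_apply, ← CommRingCat.hom_comp, Scheme.Hom.appLE_comp_appLE]
  have e : D.map f.left ≫ D.map j.hom = D.map j'.hom := by rw [← D.map_comp, Over.w f]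
  rw [appLE_of_eq e]

theorem tr_ρ (j : Over i₀) (r : Γ(D.obj i₀, U)) :
    tr D c i₀ U j (ρ D i₀ U j r) = ρ' D c i₀ U r := by
  unfold tr ρ ρ'
  rw [← RingHom.comp_apply, ← CommRingCat.hom_comp, Scheme.Hom.appLE_comp_appLE]
  rw [appLE_of_eq (c.w j.hom)]

theorem τr_comp {j'' j' j : Over i₀} (g : j'' ⟶ j') (f : j' ⟶ j)
    (x : Γ(D.obj j.left, D.map j.hom ⁻¹ᵁ U)) :
    τr D i₀ U (g ≫ f) x = τr D i₀ U g (τr D i₀ U f x) := by
  unfold τr
  rw [← RingHom.comp_apply, ← CommRingCat.hom_comp, Scheme.Hom.appLE_comp_appLE]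
  have e : D.map (g ≫ f).left = D.map g.left ≫ D.map f.left := by
    rw [Over.comp_left, D.map_comp]
  rw [appLE_of_eq e]

theorem tr_τr {j' j : Over i₀} (f : j' ⟶ j) (x : Γ(D.obj j.left, D.map j.hom ⁻¹ᵁ U)) :
    tr D c i₀ U j' (τr D i₀ U f x) = tr D c i₀ U j x := by
  unfold tr τr
  rw [← RingHom.comp_apply, ← CommRingCat.hom_comp, Scheme.Hom.appLE_comp_appLE]
  rw [appLE_of_eq (c.w f.left)]

/-- The algebra structures. -/
@[reducible] noncomputable def algA (j : Over i₀) :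
    Algebra Γ(D.obj i₀, U) Γ(D.obj j.left, D.map j.hom ⁻¹ᵁ U) := (ρ D i₀ U j).toAlgebra

/-- The algebra structure on the sections of the limit. -/
@[reducible] noncomputable def algB : Algebra Γ(D.obj i₀, U) Γ(c.pt, c.π.app i₀ ⁻¹ᵁ U) :=
  (ρ' D c i₀ U).toAlgebra

attribute [local instance] algA algB

/-- Transition maps as algebra maps. -/
noncomputable def τa {j' j : Over i₀} (f : j' ⟶ j) :
    Γ(D.obj j.left, D.map j.hom ⁻¹ᵁ U) →ₐ[Γ(D.obj i₀, U)]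
      Γ(D.obj j'.left, D.map j'.hom ⁻¹ᵁ U) :=
  { τr D i₀ U f with commutes' := fun r => τr_ρ D i₀ U f r }

/-- Maps to the limit as algebra maps. -/
noncomputable def ta (j : Over i₀) :
    Γ(D.obj j.left, D.map j.hom ⁻¹ᵁ U) →ₐ[Γ(D.obj i₀, U)] Γ(c.pt, c.π.app i₀ ⁻¹ᵁ U) :=
  { tr D c i₀ U j with commutes' := fun r => tr_ρ D c i₀ U j r }

variable [IsCofiltered I] [∀ (i j : I) (f : i ⟶ j), IsAffineHom (D.map f)]

theorem inj_aux (hc : IsLimit c) (hU : IsAffineOpen U) (j : Over i₀)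
    (y y' : Γ(D.obj j.left, D.map j.hom ⁻¹ᵁ U)) (h : tr D c i₀ U j y = tr D c i₀ U j y') :
    ∃ (j' : Over i₀) (f : j' ⟶ j), τr D i₀ U f y = τr D i₀ U f y' := by
  have hV : IsCompact (X := D.obj j.left) (D.map j.hom ⁻¹ᵁ U) :=
    (hU.preimage (D.map j.hom)).isCompact
  have h1 : (c.π.app j.left).app (D.map j.hom ⁻¹ᵁ U) y =
      (c.π.app j.left).app (D.map j.hom ⁻¹ᵁ U) y' := by
    have e : c.π.app j.left ⁻¹ᵁ D.map j.hom ⁻¹ᵁ U = c.π.app i₀ ⁻¹ᵁ U :=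
      preimage_preimage_eq D c j U
    have h2 : ∀ z, tr D c i₀ U j z = c.pt.presheaf.map (homOfLE e.ge).op
        ((c.π.app j.left).app (D.map j.hom ⁻¹ᵁ U) z) := fun z => rfl
    rw [h2, h2] at h
    have hinj : Function.Injective (c.pt.presheaf.map (homOfLE e.ge).op) := by
      have : IsIso (homOfLE e.ge) := ⟨⟨homOfLE e.le, rfl, rfl⟩⟩
      have : IsIso (c.pt.presheaf.map (homOfLE e.ge).op) := inferInstance
      exact ((ConcreteCategory.isIso_iff_bijective _).mp this).1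
    exact hinj h
  obtain ⟨k, f, hf⟩ := exists_app_map_eq_map_of_isLimit D c hc hV y y' h1
  refine ⟨Over.mk (f ≫ j.hom), Over.homMk f rfl, ?_⟩
  have h3 : ∀ z, τr D i₀ U (Over.homMk f rfl : Over.mk (f ≫ j.hom) ⟶ j) z =
      (D.obj k).presheaf.map
        (homOfLE (preimage_le D i₀ U (Over.homMk f rfl : Over.mk (f ≫ j.hom) ⟶ j))).op
        ((D.map f).app (D.map j.hom ⁻¹ᵁ U) z) := fun z => rfl
  rw [h3, h3, hf]

theorem isColimSystem (hc : IsLimit c) (hU : IsAffineOpen U) :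
    IsColimSystem (R := Γ(D.obj i₀, U)) (J := Over i₀)
      (fun j => Γ(D.obj j.left, D.map j.hom ⁻¹ᵁ U)) (fun {j' j} f => τa D i₀ U f)
      Γ(c.pt, c.π.app i₀ ⁻¹ᵁ U) (fun j => ta D c i₀ U j) := by
  refine ⟨?_, ?_, ?_, ?_⟩
  · intro j'' j' j g f x
    exact τr_comp D i₀ U g f x
  · intro j' j f x
    exact tr_τr D c i₀ U f x
  · intro b
    obtain ⟨j, s, hs⟩ := exists_appLE_eq D c hc i₀ U hU b
    exact ⟨j, s, hs.symm⟩
  · intro j y y' h
    exact inj_aux D c i₀ U hc hU j y y' h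

end Groth.Agent.Lib.Helper18.LimSystem
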