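import Mathlib
import Groth.Agent.Lib.Helper18.LimSystem
import Groth.Agent.Lib.Helper11.PullbackChart
import Groth.Agent.Lib.Helper11.GenLocus
import Groth.Agent.Lib.Helper45.FiniteType
import Groth.Agent.Lib.Helper49.StalkNbhd

/-!
# Descent of vanishing of a pulled-back morphism of modules to a finite stage of a limit

`exists_pullback_map_eq_zero`: let `S = lim S_i` be a cofiltered limit of schemes with affine
transition maps, `S_{i₀}` quasi-compact, `u : F₀ ⟶ G₀` a morphism of quasi-coherent modules on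
`S_{i₀}` with `F₀` of finite type.  If the pullback of `u` to `S` vanishes, so does the pullback to
some `S_j`.
-/

set_option autoImplicit false
universe u
open CategoryTheory CategoryTheory.Limits AlgebraicGeometry TopologicalSpace TensorProduct

namespace Groth.Agent.Lib.Helper18.LimModZero

open Groth.Agent.Lib.Helper18.LimTensor Groth.Agent.Lib.Helper18.LimSystem
  Groth.Agent.Lib.Helper11.PullbackChart Groth.Agent.Lib.Helper49

section Algebra

set_option backward.isDefEq.respectTransparency false in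
theorem extendScalars_map_eq_zero_iff {R S : Type u} [CommRing R] [CommRing S] (f : R →+* S)
    {M N : ModuleCat.{u} R} (v : M ⟶ N) :
    letI := f.toAlgebra
    (ModuleCat.extendScalars f).map v = 0 ↔ ∀ m : M, (1 : S) ⊗ₜ[R] v.hom m = 0 := by
  letI := f.toAlgebra
  constructor
  · intro h m
    have h1 : (ModuleCat.extendScalars f).map v ((1 : S) ⊗ₜ[R] m) = 0 := by rw [h]; rfl
    exact h1
  · intro h
    apply ModuleCat.ExtendScalars.hom_ext
    intro m
    exact h m

end Algebra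

section Local

variable {Z : Scheme.{u}} {A B : Z.Modules}

/-- A morphism of modules vanishing on all small opens vanishes. -/
theorem eq_zero_of_forall_app_eq_zero (v : A ⟶ B) {ι : Type*} (W : ι → Z.Opens)
    (hW : ∀ x : Z, ∃ k, x ∈ W k) (h : ∀ k (T : Z.Opens), T ≤ W k → v.app T = 0) : v = 0 := by
  apply Scheme.Modules.hom_ext
  intro O
  ext s
  change (v.app O).hom s = 0
  apply TopCat.Presheaf.section_ext (toSheafAb B) O
  intro x hx
  obtain ⟨k, hk⟩ := hW x
  have hle : O ⊓ W k ≤ O := inf_le_left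
  have h1 := Groth.Agent.Lib.Helper11.GenLocus.app_res v hle s
  rw [h (k := k) (O ⊓ W k) inf_le_right] at h1
  have h2 : (B.presheaf.map (homOfLE hle).op).hom ((v.app O).hom s) = 0 := h1
  rw [map_zero, ← TopCat.Presheaf.germ_res_apply B.presheaf (homOfLE hle) x ⟨hx, hk⟩]
  change B.presheaf.germ (O ⊓ W k) x ⟨hx, hk⟩
    ((B.presheaf.map (homOfLE hle).op).hom ((v.app O).hom s)) = 0
  rw [h2, map_zero]

/-- A morphism of modules whose pullbacks to the members of an affine open cover vanish,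
vanishes. -/
theorem eq_zero_of_forall_pullback_fromSpec_eq_zero (v : A ⟶ B) {ι : Type*} (W : ι → Z.Opens)
    (hWa : ∀ k, IsAffineOpen (W k)) (hW : ∀ x : Z, ∃ k, x ∈ W k)
    (h : ∀ k, (Scheme.Modules.pullback (hWa k).fromSpec).map v = 0) : v = 0 := by
  refine eq_zero_of_forall_app_eq_zero v W hW (fun k T hT => ?_)
  have h1 : (Scheme.Modules.restrictFunctor (hWa k).fromSpec).map v = 0 :=
    eq_zero_of_arrow_iso
      (arrowIsoOfNatIso (Scheme.Modules.restrictFunctorIsoPullback (hWa k).fromSpec).symm v) (h k)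
  have h2 : ((Scheme.Modules.restrictFunctor (hWa k).fromSpec).map v).app
      ((hWa k).fromSpec ⁻¹ᵁ T) = 0 := by rw [h1]; rfl
  have h3 : v.app ((hWa k).fromSpec ''ᵁ ((hWa k).fromSpec ⁻¹ᵁ T)) = 0 := h2
  have e : (hWa k).fromSpec ''ᵁ ((hWa k).fromSpec ⁻¹ᵁ T) = T := by
    rw [Scheme.Hom.image_preimage_eq_opensRange_inf, (hWa k).opensRange_fromSpec]
    exact inf_eq_right.mpr hT
  rw [e] at h3
  exact h3

end Local

section Main

variable {I : Type u} [SmallCategory I] [IsCofiltered I] (D : I ⥤ Scheme.{u}) (c : Cone D)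
  (hc : IsLimit c) [∀ (i j : I) (f : i ⟶ j), IsAffineHom (D.map f)] (i₀ : I)
  {F₀ G₀ : (D.obj i₀).Modules} [F₀.IsQuasicoherent] [G₀.IsQuasicoherent] (u : F₀ ⟶ G₀)

attribute [local instance] algA algB

/-- `u` becomes zero over the preimage of the affine open `U` in the stage `j`. -/
def ZeroOn {U : (D.obj i₀).Opens} (hU : IsAffineOpen U) (j : Over i₀) : Prop :=
  ∀ m : (ΓU hU).obj F₀, (1 : Γ(D.obj j.left, D.map j.hom ⁻¹ᵁ U)) ⊗ₜ[Γ(D.obj i₀, U)]
    ((ΓU hU).map u).hom m = 0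

omit [IsCofiltered I] [∀ (i j : I) (f : i ⟶ j), IsAffineHom (D.map f)] [F₀.IsQuasicoherent]
  [G₀.IsQuasicoherent] in
theorem ZeroOn.of_hom {U : (D.obj i₀).Opens} {hU : IsAffineOpen U} {j j' : Over i₀}
    (h : ZeroOn D i₀ u hU j) (f : j' ⟶ j) : ZeroOn D i₀ u hU j' :=
  fun m => one_tmul_eq_zero_of_hom (τa D i₀ U f) _ (h m)

omit [IsCofiltered I] [∀ (i j : I) (f : i ⟶ j), IsAffineHom (D.map f)] in
theorem ZeroOn.pullback_eq_zero {U : (D.obj i₀).Opens} {hU : IsAffineOpen U} {j : Over i₀}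
    (h : ZeroOn D i₀ u hU j) (hW : IsAffineOpen (D.map j.hom ⁻¹ᵁ U)) :
    (Scheme.Modules.pullback hW.fromSpec).map ((Scheme.Modules.pullback (D.map j.hom)).map u) =
      0 := by
  have h1 : (ModuleCat.extendScalars ((D.map j.hom).appLE U (D.map j.hom ⁻¹ᵁ U) le_rfl).hom).map
      ((ΓU hU).map u) = 0 := (extendScalars_map_eq_zero_iff _ _).mpr h
  have h2 : tilde.map ((ModuleCat.extendScalars
      ((D.map j.hom).appLE U (D.map j.hom ⁻¹ᵁ U) le_rfl).hom).map ((ΓU hU).map u)) = 0 := by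
    rw [h1]; exact tilde.map_zero
  exact eq_zero_of_arrow_iso (chartArrowIso (D.map j.hom) hU hW le_rfl u).symm h2

include hc in
theorem exists_zeroOn (hF : SheafOfModules.IsFiniteType (R := (D.obj i₀).ringCatSheaf) F₀)
    {U : (D.obj i₀).Opens} (hU : IsAffineOpen U)
    (h : (Scheme.Modules.pullback (c.π.app i₀)).map u = 0) : ∃ j : Over i₀, ZeroOn D i₀ u hU j := by
  have : IsAffineHom (c.π.app i₀) := isAffineHom_π_app D c hc i₀
  have hW : IsAffineOpen (c.π.app i₀ ⁻¹ᵁ U) := hU.preimage (c.π.app i₀)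
  have h1 := extendScalars_map_ΓU_eq_zero (c.π.app i₀) hU hW le_rfl u h
  have h2 : ∀ m : (ΓU hU).obj F₀, (1 : Γ(c.pt, c.π.app i₀ ⁻¹ᵁ U)) ⊗ₜ[Γ(D.obj i₀, U)]
      ((ΓU hU).map u).hom m = 0 := (extendScalars_map_eq_zero_iff _ _).mp h1
  haveI := hF
  have hfin : Module.Finite Γ(D.obj i₀, U) Γ(F₀, U) :=
    Groth.Agent.Lib.Helper45.finite_sections_of_isFiniteType hU F₀
  have hfin' : Module.Finite Γ(D.obj i₀, U) ((ΓU hU).obj F₀) :=
    Module.Finite.equiv (sectionsFromSpecTopEquiv hU F₀).symm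
  exact (isColimSystem D c i₀ U hc hU).exists_forall_one_tmul_eq_zero ((ΓU hU).map u).hom h2

include hc in
/-- **Descent of vanishing.** -/
theorem exists_pullback_map_eq_zero [CompactSpace (D.obj i₀)]
    (hF : SheafOfModules.IsFiniteType (R := (D.obj i₀).ringCatSheaf) F₀)
    (h : (Scheme.Modules.pullback (c.π.app i₀)).map u = 0) :
    ∃ (j : I) (φ : j ⟶ i₀), (Scheme.Modules.pullback (D.map φ)).map u = 0 := by
  classical
  -- a finite affine cover of the stage
  obtain ⟨s, hs⟩ := isCompact_univ.elim_finite_subcover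
    (fun V : (D.obj i₀).affineOpens => ((V.1 : (D.obj i₀).Opens) : Set (D.obj i₀)))
    (fun V => V.1.2) (by
      intro x _
      obtain ⟨V, hV, hxV, -⟩ := Opens.isBasis_iff_nbhd.mp (D.obj i₀).isBasis_affineOpens
        (show x ∈ (⊤ : (D.obj i₀).Opens) from trivial)
      exact Set.mem_iUnion.mpr ⟨⟨V, hV⟩, hxV⟩)
  choose j₀ hj₀ using fun V : (D.obj i₀).affineOpens => exists_zeroOn D c hc i₀ u hF V.2 h
  obtain ⟨j, hj⟩ := IsCofiltered.inf_objs_exists (s.image j₀)
  have hz : ∀ V ∈ s, ZeroOn D i₀ u V.2 j := fun V hV =>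
    (hj₀ V).of_hom D i₀ u (hj (Finset.mem_image_of_mem _ hV)).some
  refine ⟨j.left, j.hom, ?_⟩
  have hWa : ∀ V : s, IsAffineOpen (D.map j.hom ⁻¹ᵁ V.1.1) := fun V =>
    V.1.2.preimage (D.map j.hom)
  refine eq_zero_of_forall_pullback_fromSpec_eq_zero _ (fun V : s => D.map j.hom ⁻¹ᵁ V.1.1) hWa
    (fun x => ?_) (fun V => (hz V.1 V.2).pullback_eq_zero D i₀ u (hWa V))
  obtain ⟨V, hV⟩ := Set.mem_iUnion.mp (hs (Set.mem_univ ((D.map j.hom).base x)))
  obtain ⟨hVs, hxV⟩ := Set.mem_iUnion.mp hV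
  exact ⟨⟨V, hVs⟩, hxV⟩

end Main

end Groth.Agent.Lib.Helper18.LimModZero
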