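import Mathlib
import Groth.Agent.Lib.Helper18.LimModZero
import Groth.Agent.Lib.Helper18.FPQuot
import Groth.Agent.Lib.Helper49.QCohLocal
import Groth.Agent.Lib.Helper49.FiniteTypeLocal
import Groth.Agent.Lib.Helper49.FinitePresentation2
import Groth.Agent.Lib.Helper16.FlatPull.Chart
import Groth.Agent.S8872
import Groth.Agent.S8913

/-!
# Descent of epimorphisms and isomorphisms of pulled-back modules to a finite stage of a limit
-/

set_option autoImplicit false
universe u
open CategoryTheory CategoryTheory.Limits AlgebraicGeometry TopologicalSpace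

namespace Groth.Agent.Lib.Helper18.LimModEpi

open Groth.Agent.Lib.Helper18.LimModZero Groth.Agent.Lib.Helper11.PullbackChart
  Groth.Agent.Lib.Helper49

section Generic

variable {C E : Type*} [Category C] [Category E] [Abelian C] [Abelian E] (L : C ⥤ E)
  [L.Additive]

/-- A right exact functor sends `f` to an epimorphism as soon as it kills the cokernel map. -/
theorem epi_map_of_map_π_eq_zero {X Y : C} (f : X ⟶ Y) [PreservesColimit (parallelPair f 0) L]
    (h : L.map (cokernel.π f) = 0) : Epi (L.map f) := by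
  have hcol : IsColimit ((CokernelCofork.ofπ (cokernel.π f) (cokernel.condition f)).map L) :=
    CokernelCofork.mapIsColimit _ (cokernelIsCokernel f) L
  refine Preadditive.epi_of_cancel_zero _ (fun {T} g hg => ?_)
  obtain ⟨l, hl⟩ := CokernelCofork.IsColimit.desc' hcol g hg
  rw [← hl]
  change L.map (cokernel.π f) ≫ l = 0
  rw [h, zero_comp]

/-- A right exact functor sends an epimorphism `f` to an isomorphism as soon as it kills the
kernel map. -/
theorem isIso_map_of_map_ι_eq_zero {X Y : C} (f : X ⟶ Y) [Epi f]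
    [PreservesColimit (parallelPair (kernel.ι f) 0) L] (h : L.map (kernel.ι f) = 0) :
    IsIso (L.map f) := by
  have hcol0 : IsColimit (CokernelCofork.ofπ f (kernel.condition f)) :=
    Abelian.epiIsCokernelOfKernel (KernelFork.ofι (kernel.ι f) (kernel.condition f))
      (kernelIsKernel f)
  have hcol : IsColimit ((CokernelCofork.ofπ f (kernel.condition f)).map L) :=
    CokernelCofork.mapIsColimit _ hcol0 L
  exact CokernelCofork.IsColimit.isIso_π _ hcol h

end Generic

section Stage

variable {X Y Z : Scheme.{u}} (f : X ⟶ Y) (g : Y ⟶ Z) (h : X ⟶ Z) (e : f ≫ g = h)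
  {A B : Z.Modules} (u : A ⟶ B)

/-- Pulling back in two steps or in one gives isomorphic arrows. -/
noncomputable def stageArrowIso :
    Arrow.mk ((Scheme.Modules.pullback f).map ((Scheme.Modules.pullback g).map u)) ≅
      Arrow.mk ((Scheme.Modules.pullback h).map u) :=
  arrowIsoOfNatIso (Scheme.Modules.pullbackComp f g ≪≫ Scheme.Modules.pullbackCongr e) u

include e in
theorem eq_zero_of_stage (h0 : (Scheme.Modules.pullback g).map u = 0) :
    (Scheme.Modules.pullback h).map u = 0 := by
  refine eq_zero_of_arrow_iso (stageArrowIso f g h e u) ?_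
  change (Scheme.Modules.pullback f).map ((Scheme.Modules.pullback g).map u) = 0
  rw [h0, Functor.map_zero]

include e in
theorem epi_of_stage (h0 : Epi ((Scheme.Modules.pullback g).map u)) :
    Epi ((Scheme.Modules.pullback h).map u) := by
  refine epi_of_arrow_iso (stageArrowIso f g h e u) ?_
  change Epi ((Scheme.Modules.pullback f).map ((Scheme.Modules.pullback g).map u))
  infer_instance

include e in
theorem isIso_of_stage (h0 : IsIso ((Scheme.Modules.pullback g).map u)) :
    IsIso ((Scheme.Modules.pullback h).map u) := by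
  refine isIso_of_arrow_iso (stageArrowIso f g h e u) ?_
  change IsIso ((Scheme.Modules.pullback f).map ((Scheme.Modules.pullback g).map u))
  infer_instance

include e in
theorem isIso_stage_iff :
    IsIso ((Scheme.Modules.pullback f).map ((Scheme.Modules.pullback g).map u)) ↔
      IsIso ((Scheme.Modules.pullback h).map u) :=
  ⟨fun h0 => isIso_of_arrow_iso (stageArrowIso f g h e u) h0,
    fun h0 => isIso_of_arrow_iso (stageArrowIso f g h e u).symm h0⟩

include e in
theorem epi_stage_iff :
    Epi ((Scheme.Modules.pullback f).map ((Scheme.Modules.pullback g).map u)) ↔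
      Epi ((Scheme.Modules.pullback h).map u) :=
  ⟨fun h0 => epi_of_arrow_iso (stageArrowIso f g h e u) h0,
    fun h0 => epi_of_arrow_iso (stageArrowIso f g h e u).symm h0⟩

include e in
theorem eq_zero_stage_iff :
    (Scheme.Modules.pullback f).map ((Scheme.Modules.pullback g).map u) = 0 ↔
      (Scheme.Modules.pullback h).map u = 0 :=
  ⟨fun h0 => eq_zero_of_arrow_iso (stageArrowIso f g h e u) h0,
    fun h0 => eq_zero_of_arrow_iso (stageArrowIso f g h e u).symm h0⟩

end Stage

section Main

variable {I : Type u} [SmallCategory I] [IsCofiltered I] (D : I ⥤ Scheme.{u}) (c : Cone D)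
  (hc : IsLimit c) [∀ (i j : I) (f : i ⟶ j), IsAffineHom (D.map f)] (i₀ : I)
  {F₀ G₀ : (D.obj i₀).Modules} [F₀.IsQuasicoherent] [G₀.IsQuasicoherent] (f₀ : F₀ ⟶ G₀)

omit [IsCofiltered I] in
theorem compactSpace_of_hom [CompactSpace (D.obj i₀)] {j : I} (φ : j ⟶ i₀) :
    CompactSpace (D.obj j) :=
  QuasiCompact.compactSpace_of_compactSpace (D.map φ)

instance (X Y : Scheme.{u}) (f : X ⟶ Y) : PreservesColimitsOfSize.{0, 0}
    (Scheme.Modules.pullback f) :=
  (Scheme.Modules.pullbackPushforwardAdjunction f).leftAdjoint_preservesColimits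

include hc in
/-- **Descent of surjectivity.** -/
theorem exists_epi_pullback_map [CompactSpace (D.obj i₀)]
    (hG : SheafOfModules.IsFiniteType (R := (D.obj i₀).ringCatSheaf) G₀)
    (h : Epi ((Scheme.Modules.pullback (c.π.app i₀)).map f₀)) :
    ∃ (j : I) (φ : j ⟶ i₀), Epi ((Scheme.Modules.pullback (D.map φ)).map f₀) := by
  have hC : (cokernel f₀).IsQuasicoherent :=
    isQuasicoherent_cokernel f₀ inferInstance inferInstance
  have h0 : (Scheme.Modules.pullback (c.π.app i₀)).map (cokernel.π f₀) = 0 := by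
    rw [← cancel_epi ((Scheme.Modules.pullback (c.π.app i₀)).map f₀), ← Functor.map_comp,
      cokernel.condition, Functor.map_zero, comp_zero]
  obtain ⟨j, φ, hj⟩ := exists_pullback_map_eq_zero D c hc i₀ (cokernel.π f₀) hG h0
  exact ⟨j, φ, epi_map_of_map_π_eq_zero _ f₀ hj⟩

include hc in
/-- **Descent of bijectivity.** -/
theorem exists_isIso_pullback_map [CompactSpace (D.obj i₀)]
    (hF : SheafOfModules.IsFiniteType (R := (D.obj i₀).ringCatSheaf) F₀)
    (hG : SheafOfModules.IsFinitePresentation (R := (D.obj i₀).ringCatSheaf) G₀)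
    (h : IsIso ((Scheme.Modules.pullback (c.π.app i₀)).map f₀)) :
    ∃ (j : I) (φ : j ⟶ i₀), IsIso ((Scheme.Modules.pullback (D.map φ)).map f₀) := by
  have hGft : SheafOfModules.IsFiniteType (R := (D.obj i₀).ringCatSheaf) G₀ :=
    Groth.Agent.S8913.isFiniteType_of_isFinitePresentation G₀ hG
  obtain ⟨j₁, φ₁, hepi⟩ := exists_epi_pullback_map D c hc i₀ f₀ hGft inferInstance
  -- the modules at stage `j₁`
  have hF₁q : ((Scheme.Modules.pullback (D.map φ₁)).obj F₀).IsQuasicoherent :=
    Groth.Agent.Lib.Helper16.FlatPull.isQuasicoherent_pullback (D.map φ₁) F₀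
  have hG₁q : ((Scheme.Modules.pullback (D.map φ₁)).obj G₀).IsQuasicoherent :=
    Groth.Agent.Lib.Helper16.FlatPull.isQuasicoherent_pullback (D.map φ₁) G₀
  have hF₁ : SheafOfModules.IsFiniteType (R := (D.obj j₁).ringCatSheaf)
      ((Scheme.Modules.pullback (D.map φ₁)).obj F₀) :=
    haveI := hF
    Groth.Agent.S8872.isFiniteType_pullback (D.map φ₁) F₀
  have hG₁ : SheafOfModules.IsFinitePresentation (R := (D.obj j₁).ringCatSheaf)
      ((Scheme.Modules.pullback (D.map φ₁)).obj G₀) :=
    Groth.Agent.S8913.isFinitePresentation_pullback (D.map φ₁) G₀ hG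
  have hK : SheafOfModules.IsFiniteType (R := (D.obj j₁).ringCatSheaf)
      (kernel ((Scheme.Modules.pullback (D.map φ₁)).map f₀)) := by
    haveI := hF₁
    exact Groth.Agent.Lib.Helper18.FPM.isFiniteType_kernel_of_epi _
      (fun T => Groth.Agent.Lib.Helper45.finite_sections_of_isFiniteType T.2 _)
      (fun T => finitePresentation_sections_of_isFinitePresentation _ hG₁ T.2)
  have hKq : (kernel ((Scheme.Modules.pullback (D.map φ₁)).map f₀)).IsQuasicoherent :=
    isQuasicoherent_kernel _ hF₁q hG₁q
  have hcpt : CompactSpace (D.obj j₁) := compactSpace_of_hom D i₀ φ₁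
  -- the kernel dies in the limit
  have hiso₁ : IsIso ((Scheme.Modules.pullback (c.π.app j₁)).map
      ((Scheme.Modules.pullback (D.map φ₁)).map f₀)) :=
    (isIso_stage_iff (c.π.app j₁) (D.map φ₁) (c.π.app i₀) (c.w φ₁) f₀).mpr h
  have h0 : (Scheme.Modules.pullback (c.π.app j₁)).map
      (kernel.ι ((Scheme.Modules.pullback (D.map φ₁)).map f₀)) = 0 := by
    rw [← cancel_mono ((Scheme.Modules.pullback (c.π.app j₁)).map
      ((Scheme.Modules.pullback (D.map φ₁)).map f₀)), ← Functor.map_comp, kernel.condition,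
      Functor.map_zero, zero_comp]
  obtain ⟨j₂, ψ, hj₂⟩ := exists_pullback_map_eq_zero D c hc j₁
    (kernel.ι ((Scheme.Modules.pullback (D.map φ₁)).map f₀)) hK h0
  refine ⟨j₂, ψ ≫ φ₁, ?_⟩
  have h1 : IsIso ((Scheme.Modules.pullback (D.map ψ)).map
      ((Scheme.Modules.pullback (D.map φ₁)).map f₀)) :=
    isIso_map_of_map_ι_eq_zero _ _ hj₂
  exact (isIso_stage_iff (D.map ψ) (D.map φ₁) (D.map (ψ ≫ φ₁)) (D.map_comp ψ φ₁).symm f₀).mp h1

end Main

end Groth.Agent.Lib.Helper18.LimModEpi
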