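import Mathlib
import Groth.Agent.Lib.Helper18.LimTensor

/-!
# Vanishing of sums of tensors in an elementwise filtered colimit of algebras

`IsColimSystem.exists_sum_tmul_eq_zero`: if `∑ t j (a k) ⊗ n k = 0` in `B ⊗ N`, where `B` is the
elementwise colimit of the system `A`, then `∑ τ f (a k) ⊗ n k = 0` in `A j' ⊗ N` at a later stage.
Also `exists_common_stage`: finitely many monotone, eventually true conditions on the stages below a
given one hold simultaneously.
-/

set_option autoImplicit false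
universe u v w
open CategoryTheory TensorProduct

namespace Groth.Agent.Lib.Helper18.LimTensor

variable {R : Type u} [CommRing R] {J : Type v} [Category.{w} J]
  {A : J → Type u} [∀ j, CommRing (A j)] [∀ j, Algebra R (A j)]
  {τ : ∀ {j' j : J}, (j' ⟶ j) → (A j →ₐ[R] A j')}
  {B : Type u} [CommRing B] [Algebra R B] {t : ∀ j, A j →ₐ[R] B}

/-- finitely many conditions on the stages over `j₁`, monotone and eventually true, hold at a
common stage -/
theorem exists_common_stage [IsCofiltered J] (j₁ : J) {E : Type*} [Finite E]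
    (P : E → ∀ j : J, (j ⟶ j₁) → Prop)
    (hmono : ∀ e j (f : j ⟶ j₁), P e j f → ∀ (j' : J) (g : j' ⟶ j), P e j' (g ≫ f))
    (hex : ∀ e, ∃ (j : J) (f : j ⟶ j₁), P e j f) :
    ∃ (j : J) (f : j ⟶ j₁), ∀ e, P e j f := by
  classical
  cases nonempty_fintype E
  suffices H : ∀ s : Finset E, ∃ (j : J) (f : j ⟶ j₁), ∀ e ∈ s, P e j f by
    obtain ⟨j, f, hf⟩ := H Finset.univ
    exact ⟨j, f, fun e => hf e (Finset.mem_univ e)⟩
  intro s
  induction s using Finset.induction_on with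
  | empty => exact ⟨j₁, 𝟙 j₁, by simp⟩
  | insert e s _ ih =>
    obtain ⟨j, f, hf⟩ := ih
    obtain ⟨je, fe, hfe⟩ := hex e
    let j' := IsCofiltered.min j je
    let g : j' ⟶ j := IsCofiltered.minToLeft j je
    let ge : j' ⟶ je := IsCofiltered.minToRight j je
    let j'' := IsCofiltered.eq (g ≫ f) (ge ≫ fe)
    let k : j'' ⟶ j' := IsCofiltered.eqHom (g ≫ f) (ge ≫ fe)
    have hk : k ≫ g ≫ f = k ≫ ge ≫ fe := IsCofiltered.eq_condition _ _
    refine ⟨j'', k ≫ g ≫ f, fun e' he' => ?_⟩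
    rcases Finset.mem_insert.mp he' with rfl | he'
    · rw [hk, ← Category.assoc]
      exact hmono _ _ _ hfe _ _
    · rw [← Category.assoc]
      exact hmono _ _ _ (hf e' he') _ _

theorem IsColimSystem.exists_sum_tmul_eq_zero [IsCofiltered J] (h : IsColimSystem A τ B t)
    {N : Type*} [AddCommGroup N] [Module R N] (j : J) {K : Type*} [Fintype K]
    (a : K → A j) (n : K → N) (h0 : ∑ k, t j (a k) ⊗ₜ[R] n k = (0 : B ⊗[R] N)) :
    ∃ (j' : J) (f : j' ⟶ j), ∑ k, τ f (a k) ⊗ₜ[R] n k = (0 : A j' ⊗[R] N) := by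
  classical
  let P : Submodule R B := Submodule.span R (Set.range fun k => t j (a k))
  have hP : P.FG := Submodule.fg_span (Set.finite_range _)
  let p : K → P := fun k => ⟨t j (a k), Submodule.subset_span ⟨k, rfl⟩⟩
  have h1 : LinearMap.rTensor N P.subtype (∑ k, p k ⊗ₜ[R] n k) = 0 := by
    rw [map_sum]
    simp only [LinearMap.rTensor_tmul]
    exact h0
  obtain ⟨Q, hPQ, hQ, h2⟩ := TensorProduct.eq_zero_of_fg_of_subtype_eq_zero hP h1
  obtain ⟨s, hs⟩ := hQ
  let q : s → Q := fun i => ⟨i.1, hs ▸ Submodule.subset_span i.2⟩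
  have hq : Submodule.span R (Set.range q) = ⊤ := by
    rw [eq_top_iff]
    rintro ⟨x, hx⟩ -
    have hx' : x ∈ Submodule.span R (s : Set B) := hs ▸ hx
    have key : ∀ x (hx : x ∈ Submodule.span R (s : Set B)),
        (⟨x, hs ▸ hx⟩ : Q) ∈ Submodule.span R (Set.range q) := by
      intro x hx
      induction hx using Submodule.span_induction with
      | mem x hx => exact Submodule.subset_span ⟨⟨x, hx⟩, rfl⟩
      | zero => exact Submodule.zero_mem _
      | add x y _ _ hx hy => exact Submodule.add_mem _ hx hy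
      | smul r x _ hx => exact Submodule.smul_mem _ r hx
    exact key x hx'
  have hmem : ∀ k, Submodule.inclusion hPQ (p k) ∈ Submodule.span R (Set.range q) := by
    intro k; rw [hq]; trivial
  choose r hr using fun k => (Submodule.mem_span_range_iff_exists_fun R).mp (hmem k)
  have hsum : ∑ i, q i ⊗ₜ[R] (∑ k, r k i • n k) = 0 := by
    rw [map_sum] at h2
    simp only [LinearMap.rTensor_tmul] at h2
    have e : ∀ k, (Submodule.inclusion hPQ) (p k) ⊗ₜ[R] n k = ∑ i, q i ⊗ₜ[R] (r k i • n k) := by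
      intro k
      rw [← hr k, sum_tmul]
      simp_rw [smul_tmul]
    calc ∑ i, q i ⊗ₜ[R] (∑ k, r k i • n k) = ∑ i, ∑ k, q i ⊗ₜ[R] (r k i • n k) := by
          simp_rw [tmul_sum]
      _ = ∑ k, ∑ i, q i ⊗ₜ[R] (r k i • n k) := Finset.sum_comm
      _ = ∑ k, (Submodule.inclusion hPQ) (p k) ⊗ₜ[R] n k := by simp_rw [e]
      _ = 0 := h2
  obtain ⟨κ, c, y, hy, hc⟩ := vanishesTrivially_of_sum_tmul_eq_zero R hq hsum
  obtain ⟨j₁, z, hz⟩ := h.exists_lift (fun i : s => (i.1 : B))
  let j₂ := IsCofiltered.min j j₁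
  let f₁ : j₂ ⟶ j := IsCofiltered.minToLeft j j₁
  let f₂ : j₂ ⟶ j₁ := IsCofiltered.minToRight j j₁
  let eqs : Finset (A j₂ × A j₂) :=
    (Finset.univ.image fun k : K => (∑ i, r k i • τ f₂ (z i), τ f₁ (a k))) ∪
      (Finset.univ.image fun l : Fin κ => (∑ i, c i l • τ f₂ (z i), 0))
  have heqs : ∀ x ∈ eqs, t j₂ x.1 = t j₂ x.2 := by
    intro x hx
    rcases Finset.mem_union.mp hx with hx | hx
    · obtain ⟨k, -, rfl⟩ := Finset.mem_image.mp hx
      simp only [map_sum, map_smul, h.t_τ, hz]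
      have := congrArg (fun x : Q => (x : B)) (hr k)
      simpa [q, p] using this
    · obtain ⟨l, -, rfl⟩ := Finset.mem_image.mp hx
      simp only [map_sum, map_smul, h.t_τ, hz, map_zero]
      have := congrArg (fun x : Q => (x : B)) (hc l)
      simpa [q] using this
  obtain ⟨j₃, g, hg⟩ := h.exists_eq j₂ eqs heqs
  refine ⟨j₃, g ≫ f₁, ?_⟩
  have e1 : ∀ k, τ (g ≫ f₁) (a k) = ∑ i, r k i • τ g (τ f₂ (z i)) := by
    intro k
    have := hg (∑ i, r k i • τ f₂ (z i), τ f₁ (a k))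
      (Finset.mem_union_left _ (Finset.mem_image_of_mem _ (Finset.mem_univ k)))
    rw [h.τ_comp]
    simpa using this.symm
  have e2 : ∀ l, ∑ i, c i l • τ g (τ f₂ (z i)) = 0 := by
    intro l
    have := hg (∑ i, c i l • τ f₂ (z i), 0)
      (Finset.mem_union_right _ (Finset.mem_image_of_mem _ (Finset.mem_univ l)))
    simpa using this
  calc ∑ k, τ (g ≫ f₁) (a k) ⊗ₜ[R] n k
      = ∑ k, ∑ i, τ g (τ f₂ (z i)) ⊗ₜ[R] (r k i • n k) := by
        refine Finset.sum_congr rfl (fun k _ => ?_)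
        rw [e1, sum_tmul]
        simp_rw [smul_tmul]
    _ = ∑ i, ∑ k, τ g (τ f₂ (z i)) ⊗ₜ[R] (r k i • n k) := Finset.sum_comm
    _ = ∑ i, τ g (τ f₂ (z i)) ⊗ₜ[R] (∑ k, r k i • n k) := by simp_rw [tmul_sum]
    _ = 0 := sum_tmul_eq_zero_of_vanishesTrivially R ⟨κ, c, y, hy, e2⟩

end Groth.Agent.Lib.Helper18.LimTensor
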