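import Mathlib
import Groth.Agent.Lib.Helper49.QcqsModules

/-!
# Building a morphism of `O_X`-modules from its maps on sections

`mkHom F G a hres hsmul : F ⟶ G` for a family of additive maps `a U : Γ(F, U) →+ Γ(G, U)`
compatible with restriction and with scalars; `mkHom_app : (mkHom …).app U s = a U s`.
-/
set_option autoImplicit false
universe u
open CategoryTheory CategoryTheory.Limits AlgebraicGeometry TopologicalSpace Opposite

namespace Groth.Agent.Lib.Helper18.ModHomMk

open Groth.Agent.Lib.Helper49

variable {X : Scheme.{u}} (F G : X.Modules) (a : ∀ U : X.Opens, Γ(F, U) →+ Γ(G, U))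
  (hres : ∀ {U V : X.Opens} (h : V ≤ U) (s : Γ(F, U)), mres G h (a U s) = a V (mres F h s))
  (hsmul : ∀ (U : X.Opens) (r : Γ(X, U)) (s : Γ(F, U)), a U (r • s) = r • a U s)

/-- The underlying morphism of presheaves of abelian groups. -/
noncomputable def mkNat : F.val.presheaf ⟶ G.val.presheaf where
  app U := AddCommGrpCat.ofHom (a U.unop)
  naturality U V g := by
    ext s
    have hle : V.unop ≤ U.unop := g.unop.le
    have e : g = (homOfLE hle).op := rfl
    rw [e]
    exact (hres hle s).symm

/-- A morphism of `O_X`-modules from its maps on sections. -/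
noncomputable def mkHom : F ⟶ G :=
  ⟨PresheafOfModules.homMk (mkNat F G a hres) (fun U r s => hsmul U.unop r s)⟩

theorem mkHom_app (U : X.Opens) (s : Γ(F, U)) : (mkHom F G a hres hsmul).app U s = a U s := rfl

end Groth.Agent.Lib.Helper18.ModHomMk
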