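import Mathlib
import Groth.Agent.Lib.Helper49.UnitChart
import Groth.Agent.Lib.Helper18.ModHomMk

/-!
# Transition maps between direct images of pullbacks

For `σ : X' ⟶ X`, `φ : X ⟶ Y`, `φ' : X' ⟶ Y` with `σ ≫ φ = φ'` and an `O_Y`-module `L`:
`transSec σ φ φ' e L W : Γ(φ^* L, φ⁻¹ W) → Γ(φ'^* L, φ'⁻¹ W)` (pull back along `σ`, then identify
`σ^* φ^* L` with `φ'^* L`), and the corresponding morphism of `O_Y`-modules
`transHom σ φ φ' e L : φ_* φ^* L ⟶ φ'_* φ'^* L`.
-/

set_option autoImplicit false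
universe u
open AlgebraicGeometry CategoryTheory Limits TopologicalSpace Opposite

namespace Groth.Agent.Lib.Helper18.TransSec

open Groth.Agent.Lib.Helper49 Groth.Agent.Lib.Helper49.UnitChart
  Groth.Agent.Lib.Helper11.PullbackBasis

variable {X' X Y : Scheme.{u}} (σ : X' ⟶ X) (φ : X ⟶ Y) (φ' : X' ⟶ Y) (e : σ ≫ φ = φ')
  (L : Y.Modules)

include e in
theorem preimage_le_of_comp (W : Y.Opens) : φ' ⁻¹ᵁ W ≤ σ ⁻¹ᵁ φ ⁻¹ᵁ W := by
  subst e; exact le_rfl

/-- the canonical isomorphism `σ^* φ^* L ≅ φ'^* L` -/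
noncomputable def compIso :
    (Scheme.Modules.pullback σ).obj ((Scheme.Modules.pullback φ).obj L) ≅
      (Scheme.Modules.pullback φ').obj L :=
  (Scheme.Modules.pullbackComp σ φ ≪≫ Scheme.Modules.pullbackCongr e).app L

/-- the transition map on sections -/
noncomputable def transSec (W : Y.Opens) (x : Γ((Scheme.Modules.pullback φ).obj L, φ ⁻¹ᵁ W)) :
    Γ((Scheme.Modules.pullback φ').obj L, φ' ⁻¹ᵁ W) :=
  ((compIso σ φ φ' e L).hom.app (φ' ⁻¹ᵁ W)).hom
    (pullSLE σ ((Scheme.Modules.pullback φ).obj L) (φ ⁻¹ᵁ W) (φ' ⁻¹ᵁ W)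
      (preimage_le_of_comp σ φ φ' e W) x)

theorem transSec_add (W : Y.Opens) (x y : Γ((Scheme.Modules.pullback φ).obj L, φ ⁻¹ᵁ W)) :
    transSec σ φ φ' e L W (x + y) = transSec σ φ φ' e L W x + transSec σ φ φ' e L W y := by
  unfold transSec
  rw [pullSLE_add, map_add]

/-- semilinearity with respect to the functions on the stage `X` -/
theorem transSec_smul (W : Y.Opens) (a : Γ(X, φ ⁻¹ᵁ W))
    (x : Γ((Scheme.Modules.pullback φ).obj L, φ ⁻¹ᵁ W)) :
    transSec σ φ φ' e L W (a • x) =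
      (σ.appLE (φ ⁻¹ᵁ W) (φ' ⁻¹ᵁ W) (preimage_le_of_comp σ φ φ' e W)).hom a •
        transSec σ φ φ' e L W x := by
  unfold transSec
  rw [pullSLE_smul]
  exact Scheme.Modules.Hom.app_smul _ _ _

theorem transSec_mres {W W' : Y.Opens} (h : W' ≤ W)
    (x : Γ((Scheme.Modules.pullback φ).obj L, φ ⁻¹ᵁ W)) :
    mres ((Scheme.Modules.pullback φ').obj L) (φ'.preimage_mono h) (transSec σ φ φ' e L W x) =
      transSec σ φ φ' e L W' (mres ((Scheme.Modules.pullback φ).obj L) (φ.preimage_mono h) x) := by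
  unfold transSec
  rw [← app_mres, mres_pullSLE, pullSLE_mres]

/-- the transition map sends pulled back sections to pulled back sections -/
theorem transSec_pullSLE (W : Y.Opens) (g : Γ(L, W)) :
    transSec σ φ φ' e L W (pullSLE φ L W (φ ⁻¹ᵁ W) le_rfl g) =
      pullSLE φ' L W (φ' ⁻¹ᵁ W) le_rfl g := by
  subst e
  unfold transSec compIso
  rw [pullSLE_comp]
  have h1 : ∀ z, ((((Scheme.Modules.pullbackComp σ φ ≪≫
      Scheme.Modules.pullbackCongr (rfl : σ ≫ φ = σ ≫ φ)).app L).hom).app ((σ ≫ φ) ⁻¹ᵁ W)).hom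
      ((((Scheme.Modules.pullbackComp σ φ).inv.app L).app ((σ ≫ φ) ⁻¹ᵁ W)).hom z) = z := by
    intro z
    have h2 : (Scheme.Modules.pullbackComp σ φ).inv.app L ≫
        ((Scheme.Modules.pullbackComp σ φ ≪≫
          Scheme.Modules.pullbackCongr (rfl : σ ≫ φ = σ ≫ φ)).app L).hom = 𝟙 _ := by
      simp [Scheme.Modules.pullbackCongr]
    have h3 := congrArg (fun k => (Scheme.Modules.Hom.app k ((σ ≫ φ) ⁻¹ᵁ W)).hom z) h2
    exact h3
  exact h1 _

/-- `O_Y`-linearity -/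
theorem transSec_smul_base (W : Y.Opens) (r : Γ(Y, W))
    (x : Γ((Scheme.Modules.pullback φ).obj L, φ ⁻¹ᵁ W)) :
    transSec σ φ φ' e L W ((φ.app W).hom r • x) =
      (φ'.app W).hom r • transSec σ φ φ' e L W x := by
  rw [transSec_smul]
  congr 1
  subst e
  rw [← RingHom.comp_apply, ← CommRingCat.hom_comp, Scheme.Hom.app_eq_appLE,
    Scheme.Hom.appLE_comp_appLE, Scheme.Hom.app_eq_appLE]

/-- the transition morphism `φ_* φ^* L ⟶ φ'_* φ'^* L` of `O_Y`-modules -/
noncomputable def transHom :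
    (Scheme.Modules.pushforward φ).obj ((Scheme.Modules.pullback φ).obj L) ⟶
      (Scheme.Modules.pushforward φ').obj ((Scheme.Modules.pullback φ').obj L) :=
  Groth.Agent.Lib.Helper18.ModHomMk.mkHom _ _
    (fun W => AddMonoidHom.mk' (transSec σ φ φ' e L W) (transSec_add σ φ φ' e L W))
    (fun h s => transSec_mres σ φ φ' e L h s)
    (fun U r s => transSec_smul_base σ φ φ' e L U r s)

theorem transHom_app (W : Y.Opens) (x : Γ((Scheme.Modules.pullback φ).obj L, φ ⁻¹ᵁ W)) :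
    ((transHom σ φ φ' e L).app W).hom x = transSec σ φ φ' e L W x := rfl

theorem transSec_sum_smul_pullSLE (W : Y.Opens) {K : Type*} [Fintype K] (a : K → Γ(X, φ ⁻¹ᵁ W))
    (n : K → Γ(L, W)) :
    transSec σ φ φ' e L W (∑ k, a k • pullSLE φ L W (φ ⁻¹ᵁ W) le_rfl (n k)) =
      ∑ k, (σ.appLE (φ ⁻¹ᵁ W) (φ' ⁻¹ᵁ W) (preimage_le_of_comp σ φ φ' e W)).hom (a k) •
        pullSLE φ' L W (φ' ⁻¹ᵁ W) le_rfl (n k) := by
  have h1 := map_sum (AddMonoidHom.mk' (transSec σ φ φ' e L W) (transSec_add σ φ φ' e L W))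
    (fun k => a k • pullSLE φ L W (φ ⁻¹ᵁ W) le_rfl (n k)) Finset.univ
  refine h1.trans (Finset.sum_congr rfl (fun k _ => ?_))
  change transSec σ φ φ' e L W (a k • pullSLE φ L W (φ ⁻¹ᵁ W) le_rfl (n k)) = _
  rw [transSec_smul, transSec_pullSLE]

theorem pullSLE_self (W : Y.Opens) (m : Γ(L, W)) :
    pullSLE φ L W (φ ⁻¹ᵁ W) le_rfl m = pullS φ L W m := by
  unfold pullSLE
  exact mres_self _ _

/-- the adjoint of the pullback along `σ` of a morphism `φ^* F ⟶ φ^* G` (transported along the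
canonical isomorphisms) is the adjoint of that morphism followed by the transition morphism -/
theorem homEquiv_pullback_map {F G : Y.Modules}
    (Φ : F ⟶ (Scheme.Modules.pushforward φ).obj ((Scheme.Modules.pullback φ).obj G)) :
    (Scheme.Modules.pullbackPushforwardAdjunction φ').homEquiv F _
      ((compIso σ φ φ' e F).inv ≫
        (Scheme.Modules.pullback σ).map
          (((Scheme.Modules.pullbackPushforwardAdjunction φ).homEquiv F _).symm Φ) ≫
        (compIso σ φ φ' e G).hom) = Φ ≫ transHom σ φ φ' e G := by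
  apply Scheme.Modules.hom_ext
  intro W
  ext m
  set hj := ((Scheme.Modules.pullbackPushforwardAdjunction φ).homEquiv F _).symm Φ with hhj
  have hΦ : (Scheme.Modules.pullbackPushforwardAdjunction φ).homEquiv F _ hj = Φ := by
    rw [hhj, Equiv.apply_symm_apply]
  -- left hand side
  have e1 : ((Scheme.Modules.pullbackPushforwardAdjunction φ').homEquiv F _
      ((compIso σ φ φ' e F).inv ≫ (Scheme.Modules.pullback σ).map hj ≫
        (compIso σ φ φ' e G).hom)).app W m =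
      ((compIso σ φ φ' e G).hom.app (φ' ⁻¹ᵁ W)).hom
        ((((Scheme.Modules.pullback σ).map hj).app (φ' ⁻¹ᵁ W)).hom
          (((compIso σ φ φ' e F).inv.app (φ' ⁻¹ᵁ W)).hom (pullS φ' F W m))) := by
    rw [Adjunction.homEquiv_unit]
    rfl
  -- the section `pullS φ' F W m` through the inverse of the canonical isomorphism
  have e2 : ((compIso σ φ φ' e F).inv.app (φ' ⁻¹ᵁ W)).hom (pullS φ' F W m) =
      pullSLE σ ((Scheme.Modules.pullback φ).obj F) (φ ⁻¹ᵁ W) (φ' ⁻¹ᵁ W)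
        (preimage_le_of_comp σ φ φ' e W) (pullS φ F W m) := by
    have h1 := transSec_pullSLE σ φ φ' e F W m
    rw [pullSLE_self, pullSLE_self] at h1
    rw [← h1]
    unfold transSec
    have h2 : (compIso σ φ φ' e F).hom ≫ (compIso σ φ φ' e F).inv = 𝟙 _ := Iso.hom_inv_id _
    exact congrArg (fun k => (Scheme.Modules.Hom.app k (φ' ⁻¹ᵁ W)).hom
      (pullSLE σ ((Scheme.Modules.pullback φ).obj F) (φ ⁻¹ᵁ W) (φ' ⁻¹ᵁ W)
        (preimage_le_of_comp σ φ φ' e W) (pullS φ F W m))) h2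
  -- the adjoint of `hj` on sections
  have e3 : (hj.app (φ ⁻¹ᵁ W)).hom (pullS φ F W m) = (Φ.app W).hom m := by
    rw [← hΦ, Adjunction.homEquiv_unit]
    rfl
  rw [e1, e2, pullSLE_naturality, e3]
  rfl

end Groth.Agent.Lib.Helper18.TransSec
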