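import Mathlib
import Groth.Agent.Lib.Helper18.LimSystem
import Groth.Agent.Lib.Helper18.LimTensor2
import Groth.Agent.Lib.Helper18.FTApprox
import Groth.Agent.Lib.Helper18.TransSec
import Groth.Agent.Lib.Helper18.LimModEpi
import Groth.Agent.H46.LimProj
import Groth.Agent.Lib.Helper49.PullbackSections
import Groth.Agent.Lib.Helper49.FinLocFreeSections
import Groth.Agent.Lib.Helper49.FibreRank
import Groth.Agent.Lib.Helper16.FlatPull.Chart

/-!
# Finite locally free modules and cofiltered limits of schemes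

* `RankAt F n x`: the sections of `F` over some affine open neighbourhood of `x` are free of rank
  `n`; basic API (`isFinLocFree_iff_rankAt`, `isFinLocFreeOfRank_iff_rankAt`, `RankAt.unique`,
  `RankAt.of_iso`, `RankAt.pullback`, `isOpen_setOf_rankAt`).
* `isFinLocFree_pullback`, `isFinLocFreeOfRank_pullback`, `isFinLocFree_of_iso`,
  `isFinLocFreeOfRank_of_iso`.
* `algPathSystem_of_isColimSystem`: an elementwise colimit system is a path system of algebras.
* `exists_isFinLocFree_stage`: if the pullback to the limit of a finitely presented quasi-coherent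
  module on a quasi-compact stage is finite locally free, then so is the pullback to some stage.
* `exists_isFinLocFreeOfRank_stage`: same with prescribed rank.
-/

set_option autoImplicit false
universe u
open AlgebraicGeometry CategoryTheory Limits TopologicalSpace Opposite TensorProduct

namespace Groth.Agent.Lib.Helper18.LimFinLocFree

open Groth.Agent.Lib.Helper49 Groth.Agent.Lib.Helper45

section RankAt

variable {X : Scheme.{u}}

/-- `F` has sections free of rank `n` over some affine open neighbourhood of `x`. -/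
def RankAt (F : X.Modules) (n : ℕ) (x : X) : Prop :=
  ∃ U : X.Opens, IsAffineOpen U ∧ x ∈ U ∧ Nonempty (Γ(F, U) ≃ₗ[Γ(X, U)] (Fin n → Γ(X, U)))

theorem isFinLocFree_iff_rankAt (F : X.Modules) [F.IsQuasicoherent] :
    FlatMod.IsFinLocFree F ↔ ∀ x : X, ∃ n : ℕ, RankAt F n x := by
  rw [isFinLocFree_iff_affine]
  constructor
  · intro h x
    obtain ⟨U, n, hU, hxU, e⟩ := h x
    exact ⟨n, U, hU, hxU, e⟩
  · intro h x
    obtain ⟨n, U, hU, hxU, e⟩ := h x
    exact ⟨U, n, hU, hxU, e⟩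

theorem isFinLocFreeOfRank_iff_rankAt (F : X.Modules) [F.IsQuasicoherent] (n : ℕ) :
    FlatMod.IsFinLocFreeOfRank n F ↔ ∀ x : X, RankAt F n x := by
  constructor
  · intro h x
    obtain ⟨U, hxU, ⟨e⟩⟩ := h x
    obtain ⟨_, ⟨V, hV : IsAffineOpen V, rfl⟩, hxV, hVU⟩ :=
      X.isBasis_affineOpens.exists_subset_of_mem_open hxU U.2
    exact ⟨V, hV, hxV, ⟨sectionsEquivOfIsoFree F n (isoFreeOfLE hVU F n e)⟩⟩
  · intro h x
    obtain ⟨U, hU, hxU, ⟨e⟩⟩ := h x
    exact ⟨U, hxU, nonempty_iso_restrict_freeMod_of_linearEquiv hU F n e⟩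

theorem RankAt.unique {F : X.Modules} [F.IsQuasicoherent] {n m : ℕ} {x : X}
    (h1 : RankAt F n x) (h2 : RankAt F m x) : n = m := by
  obtain ⟨U, hU, hxU, ⟨e⟩⟩ := h1
  obtain ⟨V, hV, hxV, ⟨e'⟩⟩ := h2
  rw [← fibreRank_eq_of_linearEquiv hU F n e ⟨x, hxU⟩,
    ← fibreRank_eq_of_linearEquiv hV F m e' ⟨x, hxV⟩]

/-- the linear equivalence on sections induced by an isomorphism -/
noncomputable def secEquivOfIso {F G : X.Modules} (e : F ≅ G) (U : X.Opens) :
    Γ(F, U) ≃ₗ[Γ(X, U)] Γ(G, U) :=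
  LinearEquiv.ofLinearMap (Helper45.appₗ e.hom U) (Helper45.appₗ e.inv U)
    (by
      ext m
      exact congrArg (fun g : G ⟶ G => (g.app U) m) e.inv_hom_id)
    (by
      ext m
      exact congrArg (fun g : F ⟶ F => (g.app U) m) e.hom_inv_id)

theorem RankAt.of_iso {F G : X.Modules} (e : F ≅ G) {n : ℕ} {x : X} (h : RankAt F n x) :
    RankAt G n x := by
  obtain ⟨U, hU, hxU, ⟨ε⟩⟩ := h
  exact ⟨U, hU, hxU, ⟨(secEquivOfIso e U).symm.trans ε⟩⟩

theorem isOpen_setOf_rankAt (F : X.Modules) (n : ℕ) : IsOpen {x : X | RankAt F n x} := by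
  rw [isOpen_iff_forall_mem_open]
  intro x hx
  obtain ⟨U, hU, hxU, e⟩ := hx
  exact ⟨U, fun y hy => ⟨U, hU, hy, e⟩, U.2, hxU⟩

theorem RankAt.pullback {Y : Scheme.{u}} (f : Y ⟶ X) (F : X.Modules) [F.IsQuasicoherent] {n : ℕ}
    {y : Y} (h : RankAt F n (f y)) : RankAt ((Scheme.Modules.pullback f).obj F) n y := by
  obtain ⟨U, hU, hyU, ⟨e⟩⟩ := h
  obtain ⟨_, ⟨W, hW : IsAffineOpen W, rfl⟩, hyW, hWU⟩ :=
    Y.isBasis_affineOpens.exists_subset_of_mem_open (show y ∈ f ⁻¹ᵁ U from hyU) (f ⁻¹ᵁ U).2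
  letI := (f.appLE U W hWU).hom.toAlgebra
  let e₁ := pullbackSectionsEquiv f hU hW hWU F
  let e₂ : (Γ(Y, W) ⊗[Γ(X, U)] Γ(F, U)) ≃ₗ[Γ(Y, W)] (Γ(Y, W) ⊗[Γ(X, U)] (Fin n → Γ(X, U))) :=
    TensorProduct.AlgebraTensorModule.congr (LinearEquiv.refl Γ(Y, W) Γ(Y, W)) e
  let e₃ : (Γ(Y, W) ⊗[Γ(X, U)] (Fin n → Γ(X, U))) ≃ₗ[Γ(Y, W)] (Fin n → Γ(Y, W)) :=
    TensorProduct.piScalarRight Γ(X, U) Γ(Y, W) Γ(Y, W) (Fin n)
  exact ⟨W, hW, hyW, ⟨e₁.trans (e₂.trans e₃)⟩⟩

end RankAt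

section Pull

variable {X Y : Scheme.{u}}

theorem isFinLocFree_of_iso {M N : X.Modules} (e : M ≅ N) (h : FlatMod.IsFinLocFree M) :
    FlatMod.IsFinLocFree N := by
  intro x
  obtain ⟨U, n, hxU, ⟨φ⟩⟩ := h x
  exact ⟨U, n, hxU, ⟨(Scheme.Modules.restrictFunctor U.ι).mapIso e.symm ≪≫ φ⟩⟩

theorem isFinLocFreeOfRank_of_iso {M N : X.Modules} (e : M ≅ N) {n : ℕ}
    (h : FlatMod.IsFinLocFreeOfRank n M) : FlatMod.IsFinLocFreeOfRank n N := by
  intro x
  obtain ⟨U, hxU, ⟨φ⟩⟩ := h x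
  exact ⟨U, hxU, ⟨(Scheme.Modules.restrictFunctor U.ι).mapIso e.symm ≪≫ φ⟩⟩

theorem isFinLocFree_of_isFinLocFreeOfRank {M : X.Modules} {n : ℕ}
    (h : FlatMod.IsFinLocFreeOfRank n M) : FlatMod.IsFinLocFree M := by
  intro x
  obtain ⟨U, hxU, φ⟩ := h x
  exact ⟨U, n, hxU, φ⟩

theorem isFinLocFree_pullback (f : Y ⟶ X) (E : X.Modules) (hE : FlatMod.IsFinLocFree E) :
    FlatMod.IsFinLocFree ((Scheme.Modules.pullback f).obj E) := by
  have hq := isQuasicoherent_of_isFinLocFree E hE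
  have hq' := Groth.Agent.Lib.Helper16.FlatPull.isQuasicoherent_pullback f E
  rw [isFinLocFree_iff_rankAt]
  intro y
  obtain ⟨n, hn⟩ := (isFinLocFree_iff_rankAt E).mp hE (f y)
  exact ⟨n, hn.pullback f E⟩

theorem isFinLocFreeOfRank_pullback (f : Y ⟶ X) (E : X.Modules) {n : ℕ}
    (hE : FlatMod.IsFinLocFreeOfRank n E) :
    FlatMod.IsFinLocFreeOfRank n ((Scheme.Modules.pullback f).obj E) := by
  have hq := isQuasicoherent_of_isFinLocFree E (isFinLocFree_of_isFinLocFreeOfRank hE)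
  have hq' := Groth.Agent.Lib.Helper16.FlatPull.isQuasicoherent_pullback f E
  rw [isFinLocFreeOfRank_iff_rankAt]
  intro y
  exact ((isFinLocFreeOfRank_iff_rankAt E n).mp hE (f y)).pullback f E

end Pull

section PathSystem

open Groth.Agent.Lib.Helper18.LimTensor Groth.Agent.Lib.Helper48

variable {R : Type u} [CommRing R] {J : Type*} [Category J] [IsCofiltered J]
  {A : J → Type u} [∀ j, CommRing (A j)] [∀ j, Algebra R (A j)]
  {τ : ∀ {j' j : J}, (j' ⟶ j) → (A j →ₐ[R] A j')}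
  {B : Type u} [CommRing B] [Algebra R B] {t : ∀ j, A j →ₐ[R] B}

/-- An elementwise colimit system of algebras is a path system of algebras. -/
theorem algPathSystem_of_isColimSystem (h : IsColimSystem A τ B t) :
    AlgPathSystem R A B t (fun i j φ => ∃ f : j ⟶ i, φ = τ f) where
  comp_eq := by
    rintro i j _ ⟨f, rfl⟩
    ext x
    exact h.t_τ f x
  trans := by
    rintro i j k _ _ ⟨f, rfl⟩ ⟨g, rfl⟩
    refine ⟨g ≫ f, ?_⟩
    ext x
    exact (h.τ_comp g f x).symm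
  dir := fun i j =>
    ⟨IsCofiltered.min i j, τ (IsCofiltered.minToLeft i j), τ (IsCofiltered.minToRight i j),
      ⟨_, rfl⟩, ⟨_, rfl⟩⟩
  surj := h.surj
  ker := by
    intro i x hx
    have h0 : t i x = t i 0 := by rw [hx, map_zero]
    obtain ⟨j, f, hf⟩ := h.inj i x 0 h0
    exact ⟨j, τ f, ⟨f, rfl⟩, by rw [hf, map_zero]⟩

/-- **Descent of projectivity** along an elementwise colimit system. -/
theorem exists_projective_stage (h : IsColimSystem A τ B t) (M : Type u) [AddCommGroup M]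
    [Module R M] [Module.FinitePresentation R M] (hB : Module.Projective B (B ⊗[R] M)) (j₀ : J) :
    ∃ (j : J) (_ : j ⟶ j₀), ∀ (j' : J) (_ : j' ⟶ j), Module.Projective (A j') (A j' ⊗[R] M) := by
  obtain ⟨i, _, ⟨f₀, rfl⟩, hi⟩ := Groth.Agent.H46.LimProj.exists_projective M
    (algPathSystem_of_isColimSystem h) hB j₀
  exact ⟨i, f₀, fun j' g => hi j' (τ g) ⟨g, rfl⟩⟩

end PathSystem

section Main

open Groth.Agent.Lib.Helper18.LimTensor Groth.Agent.Lib.Helper18.LimSystem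
  Groth.Agent.Lib.Helper18.TransSec

variable {I : Type u} [SmallCategory I] [IsCofiltered I] (D : I ⥤ Scheme.{u}) (c : Cone D)
  [∀ (i j : I) (f : i ⟶ j), IsAffineHom (D.map f)] (i₀ : I)

attribute [local instance] algA algB

/-- **Descent of finite local freeness**: if the pullback to the limit of a finitely presented
quasi-coherent module on a quasi-compact stage is finite locally free, then so is its pullback to
some stage. -/
theorem exists_isFinLocFree_stage (hc : IsLimit c) [CompactSpace (D.obj i₀)]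
    (F₀ : (D.obj i₀).Modules) [F₀.IsQuasicoherent]
    (hF₀ : SheafOfModules.IsFinitePresentation (R := (D.obj i₀).ringCatSheaf) F₀)
    (h : FlatMod.IsFinLocFree ((Scheme.Modules.pullback (c.π.app i₀)).obj F₀)) :
    ∃ j : Over i₀, FlatMod.IsFinLocFree ((Scheme.Modules.pullback (D.map j.hom)).obj F₀) := by
  classical
  obtain ⟨T, hT⟩ := Groth.Agent.Lib.Helper18.FTApprox.exists_finite_affine_cover (D.obj i₀)
  have haff : IsAffineHom (c.π.app i₀) := isAffineHom_π_app D c hc i₀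
  -- for each chart, a stage from which on the base change of the sections is projective
  have key : ∀ U : ↥T, ∃ (j : Over i₀) (_ : j ⟶ Over.mk (𝟙 i₀)), ∀ (j' : Over i₀) (_ : j' ⟶ j),
      Module.Projective Γ(D.obj j'.left, D.map j'.hom ⁻¹ᵁ U.1.1)
        (Γ(D.obj j'.left, D.map j'.hom ⁻¹ᵁ U.1.1) ⊗[Γ(D.obj i₀, U.1.1)] Γ(F₀, U.1.1)) := by
    intro U
    have hfp : Module.FinitePresentation Γ(D.obj i₀, U.1.1) Γ(F₀, U.1.1) :=
      finitePresentation_sections_of_isFinitePresentation F₀ hF₀ U.1.2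
    have hsys := isColimSystem D c i₀ U.1.1 hc U.1.2
    have hW : IsAffineOpen (c.π.app i₀ ⁻¹ᵁ U.1.1) := U.1.2.preimage (c.π.app i₀)
    have hproj : Module.Projective Γ(c.pt, c.π.app i₀ ⁻¹ᵁ U.1.1)
        Γ((Scheme.Modules.pullback (c.π.app i₀)).obj F₀, c.π.app i₀ ⁻¹ᵁ U.1.1) :=
      (finite_projective_sections_of_isFinLocFree (X := c.pt) _ h hW).2
    have hB : Module.Projective Γ(c.pt, c.π.app i₀ ⁻¹ᵁ U.1.1)
        (Γ(c.pt, c.π.app i₀ ⁻¹ᵁ U.1.1) ⊗[Γ(D.obj i₀, U.1.1)] Γ(F₀, U.1.1)) :=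
      Module.Projective.of_equiv
        (pullbackSectionsEquiv (X' := c.pt) (c.π.app i₀) U.1.2 hW le_rfl F₀)
    exact exists_projective_stage hsys Γ(F₀, U.1.1) hB (Over.mk (𝟙 i₀))
  obtain ⟨j, -, hj⟩ := exists_common_stage (Over.mk (𝟙 i₀)) (E := ↥T)
    (fun U j _ => ∀ (j' : Over i₀) (_ : j' ⟶ j),
      Module.Projective Γ(D.obj j'.left, D.map j'.hom ⁻¹ᵁ U.1.1)
        (Γ(D.obj j'.left, D.map j'.hom ⁻¹ᵁ U.1.1) ⊗[Γ(D.obj i₀, U.1.1)] Γ(F₀, U.1.1)))
    (fun U j f hP j' g j'' g' => hP j'' (g' ≫ g)) key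
  refine ⟨j, ?_⟩
  have hq := Groth.Agent.Lib.Helper16.FlatPull.isQuasicoherent_pullback (D.map j.hom) F₀
  refine isFinLocFree_of_finite_projective_cover _ fun x => ?_
  obtain ⟨U, hxU⟩ : ∃ U : ↥T, (D.map j.hom) x ∈ U.1.1 := by
    have : (D.map j.hom) x ∈ (⨆ U : ↥T, (U.1 : (D.obj i₀).affineOpens).1) := by rw [hT]; trivial
    exact Opens.mem_iSup.mp this
  have hW : IsAffineOpen (D.map j.hom ⁻¹ᵁ U.1.1) := U.1.2.preimage (D.map j.hom)
  have hfp : Module.FinitePresentation Γ(D.obj i₀, U.1.1) Γ(F₀, U.1.1) :=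
    finitePresentation_sections_of_isFinitePresentation F₀ hF₀ U.1.2
  let e : Γ((Scheme.Modules.pullback (D.map j.hom)).obj F₀, D.map j.hom ⁻¹ᵁ U.1.1)
      ≃ₗ[Γ(D.obj j.left, D.map j.hom ⁻¹ᵁ U.1.1)]
      (Γ(D.obj j.left, D.map j.hom ⁻¹ᵁ U.1.1) ⊗[Γ(D.obj i₀, U.1.1)] Γ(F₀, U.1.1)) :=
    pullbackSectionsEquiv (D.map j.hom) U.1.2 hW le_rfl F₀
  have hP := hj U j (𝟙 j)
  exact ⟨_, hW, hxU, Module.Finite.equiv e.symm, Module.Projective.of_equiv e.symm⟩

/-- **Descent of local freeness of given rank.** -/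
theorem exists_isFinLocFreeOfRank_stage (hc : IsLimit c) [CompactSpace (D.obj i₀)]
    (F₀ : (D.obj i₀).Modules) [F₀.IsQuasicoherent]
    (hF₀ : SheafOfModules.IsFinitePresentation (R := (D.obj i₀).ringCatSheaf) F₀) (n : ℕ)
    (h : FlatMod.IsFinLocFreeOfRank n ((Scheme.Modules.pullback (c.π.app i₀)).obj F₀)) :
    ∃ j : Over i₀,
      FlatMod.IsFinLocFreeOfRank n ((Scheme.Modules.pullback (D.map j.hom)).obj F₀) := by
  obtain ⟨j, hj⟩ := exists_isFinLocFree_stage D c i₀ hc F₀ hF₀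
    (isFinLocFree_of_isFinLocFreeOfRank h)
  have hFjq : ((Scheme.Modules.pullback (D.map j.hom)).obj F₀).IsQuasicoherent :=
    Groth.Agent.Lib.Helper16.FlatPull.isQuasicoherent_pullback (D.map j.hom) F₀
  have hFq : ((Scheme.Modules.pullback (c.π.app i₀)).obj F₀).IsQuasicoherent :=
    Groth.Agent.Lib.Helper16.FlatPull.isQuasicoherent_pullback (c.π.app i₀) F₀
  have hcomp : CompactSpace (D.obj j.left) :=
    QuasiCompact.compactSpace_of_compactSpace (D.map j.hom)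
  let V : (D.obj j.left).Opens :=
    ⟨{y | RankAt ((Scheme.Modules.pullback (D.map j.hom)).obj F₀) n y}, isOpen_setOf_rankAt _ n⟩
  have H : c.π.app j.left ⁻¹ᵁ ⊤ ≤ c.π.app j.left ⁻¹ᵁ V := by
    intro x _
    obtain ⟨m, hm⟩ := (isFinLocFree_iff_rankAt _).mp hj (c.π.app j.left x)
    have h1 := hm.pullback (c.π.app j.left) _
    have h2 := h1.of_iso (compIso (X' := c.pt) (c.π.app j.left) (D.map j.hom) (c.π.app i₀)
      (c.w j.hom) F₀)
    have h3 := (isFinLocFreeOfRank_iff_rankAt _ n).mp h x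
    have hmn : m = n := h2.unique h3
    subst hmn
    exact hm
  obtain ⟨k, f, hk⟩ := exists_map_preimage_le_map_preimage D c hc (U := ⊤) (V := V)
    isCompact_univ H
  refine ⟨Over.mk (f ≫ j.hom), ?_⟩
  have hq : ((Scheme.Modules.pullback (D.map (f ≫ j.hom))).obj F₀).IsQuasicoherent :=
    Groth.Agent.Lib.Helper16.FlatPull.isQuasicoherent_pullback _ F₀
  change FlatMod.IsFinLocFreeOfRank n ((Scheme.Modules.pullback (D.map (f ≫ j.hom))).obj F₀)
  rw [isFinLocFreeOfRank_iff_rankAt]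
  intro y
  have h1 : RankAt ((Scheme.Modules.pullback (D.map j.hom)).obj F₀) n (D.map f y) :=
    hk (show y ∈ D.map f ⁻¹ᵁ ⊤ from trivial)
  have h2 := h1.pullback (D.map f) _
  exact h2.of_iso (compIso (D.map f) (D.map j.hom) (D.map (f ≫ j.hom)) (D.map_comp f j.hom).symm F₀)

end Main

end Groth.Agent.Lib.Helper18.LimFinLocFree
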