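import Groth.Agent.Lib.Helper18.LSubGood
import Groth.Agent.Lib.Helper49.QCohLocal
import Groth.Agent.Lib.Helper49.FiniteTypeLocal

/-!
# Extension of a finitely generated submodule over an affine open to a subsheaf; the successor step

Shared library of helper18 (namespace `Groth.Agent.Lib.Helper18.LSubM`).
`ext V N`, `LSub.step`, criteria for quasi-coherence and finite type of `LSub.toModules`.
-/

set_option autoImplicit false
universe u v
open CategoryTheory CategoryTheory.Limits AlgebraicGeometry TopologicalSpace Opposite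
open Groth.Agent.Lib.Helper49 Groth.Agent.Lib.Helper45

namespace Groth.Agent.Lib.Helper18.LSubM

section


variable {X : Scheme.{u}} {F : X.Modules}

/-- Key lemma: if `t ∈ Γ(F, V)` lies locally on `D(f)` in the span of the restrictions of `N`, then
a power of `f` multiplies `t` into `N`. -/
theorem exists_pow_smul_mem_of_locally_mem_spanRes {V : X.Opens} (hV : IsAffineOpen V)
    (hF : IsLocalizingOn F V) (N : Submodule Γ(X, V) Γ(F, V)) (f : Γ(X, V)) (t : Γ(F, V))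
    (H : ∀ x ∈ X.basicOpen f, ∃ (D : X.Opens) (hD : D ≤ V), x ∈ D ∧ mres F hD t ∈ spanRes N hD) :
    ∃ m : ℕ, f ^ m • t ∈ N := by
  -- choose basic opens
  have H1 : ∀ x : X.basicOpen f, ∃ g : Γ(X, V), x.1 ∈ X.basicOpen g ∧ ∃ k : ℕ, g ^ k • t ∈ N := by
    intro x
    obtain ⟨D, hD, hxD, hmem⟩ := H x.1 x.2
    obtain ⟨g, hgD, hxg⟩ := hV.exists_basicOpen_le (V := D) ⟨x.1, hxD⟩ (X.basicOpen_le f x.2)
    refine ⟨g, hxg, ?_⟩
    apply exists_pow_smul_mem_of_mres_mem_spanRes hV hF N g t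
    have := mres_mem_spanRes_of_mem_spanRes hD hgD hmem
    rwa [mres_mres] at this
  choose g hxg k hk using H1
  -- work on the affine open `D(f)`
  have hDf : IsAffineOpen (X.basicOpen f) := hV.basicOpen f
  let r : X.basicOpen f → Γ(X, X.basicOpen f) := fun x => fres (X.basicOpen_le f) (g x)
  have hcov : X.basicOpen f ≤ ⨆ a : Set.range r, X.basicOpen a.1 := by
    intro x hx
    refine Opens.mem_iSup.mpr ⟨⟨r ⟨x, hx⟩, ⟨x, hx⟩, rfl⟩, ?_⟩
    change x ∈ X.basicOpen (fres (X.basicOpen_le f) (g ⟨x, hx⟩))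
    rw [basicOpen_fres]
    exact ⟨hx, hxg ⟨x, hx⟩⟩
  have hspan : Ideal.span (Set.range r) = ⊤ := hDf.self_le_iSup_basicOpen_iff.mp hcov
  have hmem : mres F (X.basicOpen_le f) t ∈ spanRes N (X.basicOpen_le f) := by
    apply Submodule.mem_of_span_eq_top_of_smul_pow_mem _ (Set.range r) hspan
    rintro ⟨_, x, rfl⟩
    refine ⟨k x, ?_⟩
    change (fres (X.basicOpen_le f) (g x)) ^ k x • mres F (X.basicOpen_le f) t ∈ _
    rw [← map_pow, ← mres_smul]
    exact mres_mem_spanRes _ (hk x)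
  exact exists_pow_smul_mem_of_mres_mem_spanRes hV hF N f t hmem

/-- The extension by saturation of the subsheaf of `F|_V` generated by `N ⊆ Γ(F, V)`: a section
over `T` belongs to it when locally on `T ⊓ V` it lies in the span of the restrictions of `N`. -/
noncomputable def ext (V : X.Opens) (N : Submodule Γ(X, V) Γ(F, V)) : LSub F where
  obj T :=
    { carrier := {t | ∀ x ∈ T ⊓ V, ∃ (D : X.Opens) (hDT : D ≤ T) (hDV : D ≤ V), x ∈ D ∧
        mres F hDT t ∈ spanRes N hDV}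
      zero_mem' := by
        intro x hx
        exact ⟨T ⊓ V, inf_le_left, inf_le_right, hx, by rw [map_zero]; exact Submodule.zero_mem _⟩
      add_mem' := by
        intro a b ha hb x hx
        obtain ⟨D₁, h₁T, h₁V, hx₁, hm₁⟩ := ha x hx
        obtain ⟨D₂, h₂T, h₂V, hx₂, hm₂⟩ := hb x hx
        refine ⟨D₁ ⊓ D₂, inf_le_left.trans h₁T, inf_le_left.trans h₁V, ⟨hx₁, hx₂⟩, ?_⟩
        rw [map_add]
        refine Submodule.add_mem _ ?_ ?_
        · have := mres_mem_spanRes_of_mem_spanRes h₁V (inf_le_left : D₁ ⊓ D₂ ≤ D₁) hm₁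
          rwa [mres_mres] at this
        · have := mres_mem_spanRes_of_mem_spanRes h₂V (inf_le_right : D₁ ⊓ D₂ ≤ D₂) hm₂
          rwa [mres_mres] at this
      smul_mem' := by
        intro c a ha x hx
        obtain ⟨D, hDT, hDV, hxD, hm⟩ := ha x hx
        refine ⟨D, hDT, hDV, hxD, ?_⟩
        rw [mres_smul]
        exact Submodule.smul_mem _ _ hm }
  res_mem := by
    intro U T h t ht x hx
    obtain ⟨D, hDU, hDV, hxD, hm⟩ := ht x ⟨h hx.1, hx.2⟩
    refine ⟨D ⊓ T, inf_le_right, inf_le_left.trans hDV, ⟨hxD, hx.1⟩, ?_⟩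
    have := mres_mem_spanRes_of_mem_spanRes hDV (inf_le_left : D ⊓ T ≤ D) hm
    rw [mres_mres] at this
    rw [mres_mres]
    exact this
  isLocal := by
    intro U t H x hx
    obtain ⟨T, hTU, hxT, hm⟩ := H x hx.1
    obtain ⟨D, hDT, hDV, hxD, hm'⟩ := hm x ⟨hxT, hx.2⟩
    refine ⟨D, hDT.trans hTU, hDV, hxD, ?_⟩
    rw [mres_mres] at hm'
    exact hm'

theorem mem_ext_obj {V : X.Opens} {N : Submodule Γ(X, V) Γ(F, V)} {T : X.Opens} {t : Γ(F, T)} :
    t ∈ (ext V N).obj T ↔ ∀ x ∈ T ⊓ V, ∃ (D : X.Opens) (hDT : D ≤ T) (hDV : D ≤ V), x ∈ D ∧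
        mres F hDT t ∈ spanRes N hDV := Iff.rfl

theorem ext_sat (V : X.Opens) (N : Submodule Γ(X, V) Γ(F, V)) : (ext V N).Sat V := by
  intro T t ht x hx
  obtain ⟨D, hDT, hDV, hxD, hm⟩ := ht x ⟨hx, hx.2⟩
  refine ⟨D, hDT.trans inf_le_left, hDV, hxD, ?_⟩
  rw [mres_mres] at hm
  exact hm

theorem le_ext_obj_self (V : X.Opens) (N : Submodule Γ(X, V) Γ(F, V)) : N ≤ (ext V N).obj V := by
  intro n hn x hx
  exact ⟨V, le_rfl, le_rfl, hx.1, mres_mem_spanRes _ hn⟩

/-- For `V` affine, sections of `ext V N` over `D(f)` are multiplied into `N` by powers of `f`. -/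
theorem exists_pow_smul_mem_of_mres_mem_ext {V : X.Opens} (hV : IsAffineOpen V)
    (hF : IsLocalizingOn F V) (N : Submodule Γ(X, V) Γ(F, V)) (f : Γ(X, V)) (t : Γ(F, V))
    (ht : mres F (X.basicOpen_le f) t ∈ (ext V N).obj (X.basicOpen f)) :
    ∃ m : ℕ, f ^ m • t ∈ N := by
  apply exists_pow_smul_mem_of_locally_mem_spanRes hV hF N f t
  intro x hx
  obtain ⟨D, hDT, hDV, hxD, hm⟩ := ht x ⟨hx, X.basicOpen_le f hx⟩
  refine ⟨D, hDV, hxD, ?_⟩
  rw [mres_mres] at hm
  exact hm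

theorem ext_obj_self {V : X.Opens} (hV : IsAffineOpen V) (hF : IsLocalizingOn F V)
    (N : Submodule Γ(X, V) Γ(F, V)) : (ext V N).obj V = N := by
  refine le_antisymm ?_ (le_ext_obj_self V N)
  intro t ht
  obtain ⟨m, hm⟩ := exists_pow_smul_mem_of_mres_mem_ext hV hF N 1 t
    ((ext V N).res_mem _ ht)
  rwa [one_pow, one_smul] at hm


end


section


variable {X : Scheme.{u}} {F : X.Modules}

namespace LSub

theorem Good.congr {S : LSub F} {T T' : X.Opens} (h : T = T') (hS : S.Good T) : S.Good T' := by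
  subst h; exact hS

/-- The successor step: extend a saturated family which is locally good and of finite type on `W`
across one more affine open `V` with `V ⊓ W` quasi-compact. -/
theorem step (hF : ∀ T : X.Opens, IsAffineOpen T → IsLocalizingOn F T)
    (K : LSub F) (W : X.Opens) (hsat : K.Sat W) {V : X.Opens} (hV : IsAffineOpen V)
    (hc : IsCompact ((V ⊓ W : X.Opens) : Set X))
    (hK : ∀ x ∈ V ⊓ W, ∃ T : X.Opens, IsAffineOpen T ∧ x ∈ T ∧ T ≤ W ∧ K.Good T ∧ (K.obj T).FG) :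
    ∃ K' : LSub F, K'.Sat (W ⊔ V) ∧ (∀ T ≤ W, K'.obj T = K.obj T) ∧ K' ≤ K ∧ K'.Good V ∧
      (K'.obj V).FG := by
  classical
  -- Step 1: good basic opens of `V` inside `W`
  have H1 : ∀ x : ↥(V ⊓ W), ∃ g : Γ(X, V), x.1 ∈ X.basicOpen g ∧ X.basicOpen g ≤ W ∧
      K.Good (X.basicOpen g) ∧ (K.obj (X.basicOpen g)).FG := by
    intro x
    obtain ⟨T, hT, hxT, hTW, hgood, hfg⟩ := hK x.1 x.2
    obtain ⟨h, g, hhg, hxh⟩ := exists_basicOpen_le_affine_inter hT hV x.1 ⟨hxT, x.2.1⟩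
    have hxg : x.1 ∈ X.basicOpen g := by rw [← hhg]; exact hxh
    have hgW : X.basicOpen g ≤ W := by rw [← hhg]; exact (X.basicOpen_le h).trans hTW
    refine ⟨g, hxg, hgW, ?_, ?_⟩
    · exact (hgood.basicOpen K hT (hF T hT) h).congr hhg
    · rw [← hhg]; exact hgood.fg_basicOpen K (hF T hT) hfg h
  choose g hxg hgW hggood hgfg using H1
  -- Step 2: `K` is good at `V`
  have hgoodVW : K.Good (V ⊓ W) := by
    refine Good.of_cover K hc fun x hx => ?_
    exact ⟨X.basicOpen (g ⟨x, hx⟩), le_inf (X.basicOpen_le _) (hgW _), hxg ⟨x, hx⟩, hggood _⟩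
  have hgoodV : K.Good V := hsat.good K hgoodVW
  -- Step 3: finitely generated submodules generating on the basic opens
  have H2 : ∀ x : ↥(V ⊓ W), ∃ N₀ : Submodule Γ(X, V) Γ(F, V), N₀ ≤ K.obj V ∧ N₀.FG ∧
      K.obj (X.basicOpen (g x)) ≤ spanRes N₀ (X.basicOpen_le (g x)) := by
    intro x
    have e := hgoodV.obj_basicOpen_eq K (hF V hV) (g x)
    have hfg' : (spanRes (K.obj V) (X.basicOpen_le (g x))).FG := by rw [← e]; exact hgfg x
    obtain ⟨N₀, hle, hfg, hspan⟩ := exists_fg_le_spanRes_eq (K.obj V) (X.basicOpen_le (g x)) hfg'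
    exact ⟨N₀, hle, hfg, by rw [hspan, e]⟩
  choose N₀ hN₀le hN₀fg hN₀span using H2
  obtain ⟨s, hs⟩ := hc.elim_finite_subcover (fun x : ↥(V ⊓ W) => ((X.basicOpen (g x) : X.Opens) : Set X))
    (fun x => (X.basicOpen (g x)).2) (fun x hx => Set.mem_iUnion.mpr ⟨⟨x, hx⟩, hxg ⟨x, hx⟩⟩)
  have hNle : (⨆ x ∈ s, N₀ x) ≤ K.obj V := iSup₂_le fun x _ => hN₀le x
  have hNfg : (⨆ x ∈ s, N₀ x).FG := Submodule.fg_biSup s N₀ (fun x _ => hN₀fg x)
  have hle0 : ∀ x ∈ s, N₀ x ≤ ⨆ x ∈ s, N₀ x := fun x hx => le_biSup N₀ hx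
  have hNspan : ∀ x ∈ s, K.obj (X.basicOpen (g x)) ≤
      spanRes (⨆ x ∈ s, N₀ x) (X.basicOpen_le (g x)) :=
    fun x hx => (hN₀span x).trans (spanRes_mono (hle0 x hx) _)
  generalize (⨆ x ∈ s, N₀ x) = N at hNle hNfg hNspan
  clear hle0
  -- Step 4: the new family
  have hKV : (K.inf (ext V N)).obj V = N := by
    rw [inf_obj, ext_obj_self hV (hF V hV)]
    exact inf_eq_right.mpr hNle
  refine ⟨K.inf (ext V N), ?_, ?_, fun U => inf_le_left, ?_, by rw [hKV]; exact hNfg⟩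
  · -- saturation
    intro T t ht
    refine ⟨hsat T t ?_, ext_sat V N T t ?_⟩
    · have hle : T ⊓ W ≤ T ⊓ (W ⊔ V) := inf_le_inf_left _ le_sup_left
      have := K.res_mem hle ht.1
      rwa [mres_mres] at this
    · have hle : T ⊓ V ≤ T ⊓ (W ⊔ V) := inf_le_inf_left _ le_sup_right
      have := (ext V N).res_mem hle ht.2
      rwa [mres_mres] at this
  · -- unchanged on `W`
    intro T hTW
    rw [inf_obj]
    refine inf_eq_left.mpr fun t ht => ?_
    intro x hx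
    have hxVW : x ∈ V ⊓ W := ⟨hx.2, hTW hx.1⟩
    obtain ⟨y, hy⟩ := Set.mem_iUnion.mp (hs hxVW)
    obtain ⟨hys, hxy⟩ := Set.mem_iUnion.mp hy
    obtain ⟨g'', hg''le, hxg''⟩ := hV.exists_basicOpen_le (V := T ⊓ X.basicOpen (g y))
      ⟨x, hx.1, hxy⟩ hx.2
    have hDT : X.basicOpen g'' ≤ T := hg''le.trans inf_le_left
    have hDy : X.basicOpen g'' ≤ X.basicOpen (g y) := hg''le.trans inf_le_right
    refine ⟨X.basicOpen g'', hDT, X.basicOpen_le g'', hxg'', ?_⟩
    have h1 : mres F hDT t ∈ K.obj (X.basicOpen g'') := K.res_mem hDT ht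
    rw [hgoodV.obj_basicOpen_eq K (hF V hV) g''] at h1
    refine (Submodule.span_le.mpr ?_ : spanRes (K.obj V) _ ≤ spanRes N (X.basicOpen_le g'')) h1
    rintro _ ⟨n, hn, rfl⟩
    have h2 : mres F (X.basicOpen_le (g y)) n ∈ spanRes N (X.basicOpen_le (g y)) :=
      hNspan y hys (K.res_mem _ hn)
    have := mres_mem_spanRes_of_mem_spanRes (X.basicOpen_le (g y)) hDy h2
    rwa [mres_mres] at this
  · -- good at `V`
    intro f t ht
    obtain ⟨m, hm⟩ := exists_pow_smul_mem_of_mres_mem_ext hV (hF V hV) N f t ht.2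
    exact ⟨m, by rw [hKV]; exact hm⟩

end LSub


end


section


variable {X : Scheme.{u}}

/-- A module which localizes correctly on the members of an affine open cover is
quasi-coherent. -/
theorem isQuasicoherent_of_isLocalizingOn_cover (M : X.Modules) (𝒰 : Set X.Opens)
    (hU : ∀ T ∈ 𝒰, IsAffineOpen T) (hcov : ∀ x : X, ∃ T ∈ 𝒰, x ∈ T)
    (h : ∀ T ∈ 𝒰, IsLocalizingOn M T) : M.IsQuasicoherent := by
  refine isQuasicoherent_of_forall_restrict M (fun T : 𝒰 => Spec Γ(X, T.1))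
    (fun T => (hU T.1 T.2).fromSpec) (fun x => ?_) (fun T => ?_)
  · obtain ⟨T, hT, hxT⟩ := hcov x
    exact ⟨⟨T, hT⟩, by rw [(hU T hT).range_fromSpec]; exact hxT⟩
  · rw [isQuasicoherent_iff_isIso_fromTildeΓ, isIso_fromTildeΓ_iff_isLocalizing]
    intro a
    exact isLocalizedModule_away_of_isLocalizingOn M (hU T.1 T.2) (h T.1 T.2) a

/-- A quasi-coherent module with finite modules of sections over the members of an affine open
cover is of finite type. -/
theorem isFiniteType_of_finite_sections_cover (M : X.Modules) [M.IsQuasicoherent]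
    (𝒰 : Set X.Opens) (hU : ∀ T ∈ 𝒰, IsAffineOpen T) (hcov : ∀ x : X, ∃ T ∈ 𝒰, x ∈ T)
    (h : ∀ T ∈ 𝒰, Module.Finite Γ(X, T) Γ(M, T)) :
    SheafOfModules.IsFiniteType (R := X.ringCatSheaf) M := by
  refine isFiniteType_of_forall_restrict M (fun T : 𝒰 => Spec Γ(X, T.1))
    (fun T => (hU T.1 T.2).fromSpec) (fun x => ?_) (fun T => ?_)
  · obtain ⟨T, hT, hxT⟩ := hcov x
    exact ⟨⟨T, hT⟩, by rw [(hU T hT).range_fromSpec]; exact hxT⟩
  · have : (M.restrict (hU T.1 T.2).fromSpec).IsQuasicoherent :=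
      Scheme.Modules.isQuasicoherent_restrictFunctor _ _
    refine (isFiniteType_iff_finite_Γ Γ(X, T.1) (M.restrict (hU T.1 T.2).fromSpec)).mpr ?_
    have := h T.1 T.2
    exact Module.Finite.equiv (sectionsFromSpecTopEquiv (hU T.1 T.2) M).symm

namespace LSub

variable {F : X.Modules} (S : LSub F)

theorem isQuasicoherent_toModules (hF : ∀ T : X.Opens, IsAffineOpen T → IsLocalizingOn F T)
    (𝒰 : Set X.Opens) (hU : ∀ T ∈ 𝒰, IsAffineOpen T) (hcov : ∀ x : X, ∃ T ∈ 𝒰, x ∈ T)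
    (h : ∀ T ∈ 𝒰, S.Good T) : S.toModules.IsQuasicoherent :=
  isQuasicoherent_of_isLocalizingOn_cover _ 𝒰 hU hcov fun T hT =>
    S.isLocalizingOn_toModules (hF T (hU T hT)) (h T hT)

theorem isFiniteType_toModules [S.toModules.IsQuasicoherent]
    (𝒰 : Set X.Opens) (hU : ∀ T ∈ 𝒰, IsAffineOpen T) (hcov : ∀ x : X, ∃ T ∈ 𝒰, x ∈ T)
    (h : ∀ T ∈ 𝒰, (S.obj T).FG) : SheafOfModules.IsFiniteType (R := X.ringCatSheaf) S.toModules :=
  isFiniteType_of_finite_sections_cover _ 𝒰 hU hcov fun T hT => S.finite_sections T (h T hT)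

end LSub


end

end Groth.Agent.Lib.Helper18.LSubM
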