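import Mathlib
import Groth.Prelude.Def_RelSpec
import Groth.Agent.S9380

/-!
# An affine morphism is the relative spectrum of its direct image algebra (helper18)
-/

set_option autoImplicit false
set_option linter.style.haveILetI false
universe u
open AlgebraicGeometry CategoryTheory Limits TopologicalSpace Opposite

namespace Groth.Agent.Lib.Helper18.AffineCan

open Groth.Agent.S9380 RelSpec

variable {X S : Scheme.{u}} (f : X ⟶ S) [IsAffineHom f]

theorem isQuasiAffineHom : MoreMor.IsQuasiAffineHom f :=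
  ⟨inferInstance, fun V hV => by
    have : IsAffine (f ⁻¹ᵁ V : Scheme.{u}) := hV.preimage f
    infer_instance⟩

instance : IsOpenImmersion (can f) := isOpenImmersion_can f (isQuasiAffineHom f)

theorem surjective_can : Function.Surjective (can f) := by
  intro z
  obtain ⟨_, ⟨U, hU, rfl⟩, hzU, -⟩ :=
    S.isBasis_affineOpens.exists_subset_of_mem_open (Set.mem_univ ((A f).π z)) isOpen_univ
  have hz : z ∈ (A f).π ⁻¹ᵁ U := hzU
  have haff : IsAffineOpen ((A f).π ⁻¹ᵁ U) := hU.preimage (A f).π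
  rw [← haff.opensRange_fromSpec] at hz
  obtain ⟨w, rfl⟩ := hz
  have hfU : IsAffineOpen (f ⁻¹ᵁ U) := hU.preimage f
  have : IsIso ((A f).gammaAff U hU) := isIso_gammaAff (A f) U hU
  have h1 : IsIso (f ⁻¹ᵁ U).toSpecΓ := by
    rw [← hfU.isoSpec_hom]
    infer_instance
  have h1' : IsIso (Spec.map ((A f).gammaAff U hU)) :=
    Functor.map_isIso Scheme.Spec ((A f).gammaAff U hU).op
  let t : (f ⁻¹ᵁ U : Scheme.{u}) ⟶ Spec ((A f).presheaf.obj (op U)) := (f ⁻¹ᵁ U).toSpecΓ
  have ht : IsIso t := h1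
  let g : Spec ((A f).presheaf.obj (op U)) ⟶ Spec Γ((A f).spec, (A f).π ⁻¹ᵁ U) :=
    Spec.map ((A f).gammaAff U hU)
  have hg : IsIso g := h1'
  have h2 : (f ⁻¹ᵁ U).ι ≫ can f = t ≫ g ≫ haff.fromSpec := ι_can f U hU
  have h4 : (inv g ≫ inv t) ≫ (f ⁻¹ᵁ U).ι ≫ can f = haff.fromSpec := by
    rw [h2, Category.assoc, IsIso.inv_hom_id_assoc, IsIso.inv_hom_id_assoc]
  refine ⟨(inv g ≫ inv t ≫ (f ⁻¹ᵁ U).ι) w, ?_⟩
  have h5 := congrArg (fun k : Spec Γ((A f).spec, (A f).π ⁻¹ᵁ U) ⟶ (A f).spec => k w) h4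
  simp only [Category.assoc] at h5
  exact h5

instance isIso_can : IsIso (can f) :=
  (isIso_iff_isOpenImmersion_and_surjective _).mpr ⟨inferInstance, ⟨surjective_can f⟩⟩

end Groth.Agent.Lib.Helper18.AffineCan
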