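import Groth.Agent.Lib.Helper18.FTApprox

/-!
# Finite type ideal sheaves on quasi-compact quasi-separated schemes (helper18)

* `fg_of_fg_on_cover`: an ideal sheaf whose ideals on an affine open cover are finitely generated has finitely generated
  ideals on every affine open.
* `exists_le_ft_mem`: on a qcqs scheme every local section of an ideal sheaf `I` lies in a finite type sub-ideal sheaf
  `K ≤ I` (finitely generated on EVERY affine open).
-/

set_option autoImplicit false
universe u
open CategoryTheory AlgebraicGeometry TopologicalSpace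

namespace Groth.Agent.Lib.Helper18.FTApprox

variable {X : Scheme.{u}}

theorem fg_of_fg_on_cover (K : X.IdealSheafData) {ι : Type*} (U : ι → X.affineOpens)
    (hU : ⨆ i, (U i).1 = ⊤) (hK : ∀ i, (K.ideal (U i)).FG) (V : X.affineOpens) :
    (K.ideal V).FG := by
  have : ∀ x : V.1, ∃ (i : ι) (r : Γ(X, V.1)) (rU : Γ(X, U i)),
      X.basicOpen r = X.basicOpen rU ∧ x.1 ∈ X.basicOpen r := by
    intro ⟨x, hxV⟩
    obtain ⟨i, hi⟩ := TopologicalSpace.Opens.mem_iSup.mp (hU.ge (Set.mem_univ x))
    exact ⟨i, exists_basicOpen_le_affine_inter V.2 (U i).2 _ ⟨hxV, hi⟩⟩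
  choose i r rU e hxr using this
  have hspan : Ideal.span (Set.range r) = ⊤ := by
    rw [← V.2.self_le_iSup_basicOpen_iff]
    exact fun x hxV ↦ TopologicalSpace.Opens.mem_iSup.mpr ⟨⟨_, _, rfl⟩, hxr ⟨x, hxV⟩⟩
  have inst := V.2.isLocalization_basicOpen
  refine Submodule.of_localizationSpan' (Set.range r) hspan
    (Rₚ := fun i ↦ Γ(X, X.basicOpen i.1))
    (fun i ↦ Algebra.linearMap Γ(X, V.1) Γ(X, X.basicOpen i.1)) ?_
  rintro ⟨_, j, rfl⟩
  rw [Ideal.localized'_eq_map]
  simp only [RingHom.algebraMap_toAlgebra]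
  have h1 : (K.ideal V).map (X.presheaf.map (homOfLE (X.basicOpen_le (r j))).op).hom =
      K.ideal (X.affineBasicOpen (r j)) := K.map_ideal_basicOpen V (r j)
  have h2 : X.affineBasicOpen (r j) = X.affineBasicOpen (rU j) := Subtype.ext (e j)
  have h3 : (K.ideal (U (i j))).map (X.presheaf.map (homOfLE (X.basicOpen_le (rU j))).op).hom =
      K.ideal (X.affineBasicOpen (rU j)) := K.map_ideal_basicOpen (U (i j)) (rU j)
  erw [h1]
  have key : ∀ W W' : X.affineOpens, W = W' → (K.ideal W').FG → (K.ideal W).FG := by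
    rintro _ _ rfl h; exact h
  refine key _ _ h2 ?_
  rw [← h3]
  exact (hK (i j)).map _

/-- Finite type approximation on a quasi-compact quasi-separated scheme: every local section of an ideal sheaf lies in
a sub-ideal sheaf of finite type. -/
theorem exists_le_ft_mem [CompactSpace X] [QuasiSeparatedSpace X] (I : X.IdealSheafData)
    (W : X.affineOpens) (s : Γ(X, W)) (hs : s ∈ I.ideal W) :
    ∃ K : X.IdealSheafData, K ≤ I ∧ s ∈ K.ideal W ∧ ∀ V : X.affineOpens, (K.ideal V).FG := by
  obtain ⟨T, hT⟩ := exists_finite_affine_cover X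
  obtain ⟨K, hK, hsK, hKT⟩ := exists_le_fg_mem I T W s hs
  exact ⟨K, hK, hsK, fg_of_fg_on_cover K (fun U : ↥T => U.1) hT (fun U => hKT U.1 U.2)⟩

/-- Finitely many local sections of an ideal sheaf on a qcqs scheme lie in a common finite type sub-ideal sheaf. -/
theorem exists_le_ft_mem_family [CompactSpace X] [QuasiSeparatedSpace X] (I : X.IdealSheafData)
    {ι : Type*} [Finite ι] (W : ι → X.affineOpens) (s : ∀ i, Γ(X, W i)) (hs : ∀ i, s i ∈ I.ideal (W i)) :
    ∃ K : X.IdealSheafData, K ≤ I ∧ (∀ i, s i ∈ K.ideal (W i)) ∧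
      ∀ V : X.affineOpens, (K.ideal V).FG := by
  have h1 := fun i => exists_le_ft_mem I (W i) (s i) (hs i)
  choose K hK hsK hKfg using h1
  refine ⟨⨆ i, K i, iSup_le hK, fun i => ?_, fun V => ?_⟩
  · have : K i ≤ ⨆ i, K i := le_iSup K i
    exact this (W i) (hsK i)
  · rw [Scheme.IdealSheafData.ideal_iSup, iSup_apply]
    exact Submodule.fg_iSup _ (fun i => hKfg i V)

end Groth.Agent.Lib.Helper18.FTApprox
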