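import Mathlib

/-!
# Cutting a finite type algebra down to a finite one (helper18)

If `R → B` is of finite type and `B → C` is a ring map with `R → C` integral, finitely many elements
of the kernel of `B → C` already force every quotient of `B` killing them to be finite over `R`.
-/

set_option autoImplicit false
universe u v w

namespace Groth.Agent.Lib.Helper18.FiniteQuot

theorem exists_finset_finite {R : Type u} {B : Type v} {C : Type w} [CommRing R] [CommRing B]
    [CommRing C] (α : R →+* B) (hα : α.FiniteType) (φ : B →+* C) (hφ : (φ.comp α).IsIntegral) :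
    ∃ s : Finset B, (∀ b ∈ s, φ b = 0) ∧
      ∀ {D : Type v} [CommRing D] (ψ : B →+* D), Function.Surjective ψ → (∀ b ∈ s, ψ b = 0) →
        (ψ.comp α).Finite := by
  classical
  algebraize [α]
  obtain ⟨t, ht⟩ := (inferInstance : Algebra.FiniteType R B).out
  have hint : ∀ b : B, ∃ p : Polynomial R, p.Monic ∧ Polynomial.eval₂ (φ.comp α) (φ b) p = 0 :=
    fun b => hφ (φ b)
  choose p hpm hp using hint
  refine ⟨t.image (fun b => Polynomial.eval₂ α b (p b)), ?_, ?_⟩
  · intro b hb
    obtain ⟨b', -, rfl⟩ := Finset.mem_image.mp hb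
    rw [Polynomial.hom_eval₂]
    exact hp b'
  · intro D _ ψ hψ hs
    let _ : Algebra R D := (ψ.comp α).toAlgebra
    let ψa : B →ₐ[R] D := { ψ with commutes' := fun r => rfl }
    have hint' : ∀ d ∈ (t.image ψ : Finset D), IsIntegral R d := by
      intro d hd
      obtain ⟨b, hb, rfl⟩ := Finset.mem_image.mp hd
      refine ⟨p b, hpm b, ?_⟩
      change Polynomial.eval₂ (ψ.comp α) (ψ b) (p b) = 0
      rw [← Polynomial.hom_eval₂]
      exact hs _ (Finset.mem_image.mpr ⟨b, hb, rfl⟩)
    have hadj : Algebra.adjoin R ((t.image ψ : Finset D) : Set D) = ⊤ := by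
      have h1 : (Algebra.adjoin R (t : Set B)).map ψa = ⊤ := by
        rw [ht, Algebra.map_top]
        exact (AlgHom.range_eq_top ψa).mpr hψ
      rw [← h1, AlgHom.map_adjoin, Finset.coe_image]
      rfl
    have hfg : (Algebra.adjoin R ((t.image ψ : Finset D) : Set D)).toSubmodule.FG :=
      fg_adjoin_of_finite (Finset.finite_toSet _) hint'
    rw [hadj] at hfg
    have : Module.Finite R D := ⟨by simpa using hfg⟩
    exact this

end Groth.Agent.Lib.Helper18.FiniteQuot
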