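import Mathlib
import Groth.Prelude.Def_RelSpec

/-!
# `specMap` of a surjective map of quasi-coherent algebras is a closed immersion (helper18)
-/

set_option autoImplicit false
set_option linter.style.haveILetI false
universe u
open AlgebraicGeometry CategoryTheory Limits TopologicalSpace Opposite

namespace Groth.Agent.Lib.Helper18.SpecMapClosed

open RelSpec

variable {S : Scheme.{u}} {A B : QCAlg S} (ψ : A ⟶ B)

theorem specMap_preimage_π (U : S.Opens) :
    QCAlg.specMap ψ ⁻¹ᵁ (A.π ⁻¹ᵁ U) = B.π ⁻¹ᵁ U := by
  rw [← Scheme.Hom.comp_preimage, QCAlg.specMap_π]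

/-- the chart square of `specMap` is a pullback -/
theorem isPullback_chart (U : S.Opens) (hU : IsAffineOpen U) :
    IsPullback (B.ι U hU) (Spec.map (ψ.hom.app (op U))) (QCAlg.specMap ψ) (A.ι U hU) := by
  refine (IsOpenImmersion.isPullback _ _ _ _ (QCAlg.ι_specMap U hU ψ) ?_).flip
  rw [← A.π_preimage U hU, specMap_preimage_π, B.π_preimage U hU]

/-- a property local on the target can be checked on the charts of `specMap` -/
theorem specMap_of_charts (P : MorphismProperty Scheme.{u}) [IsZariskiLocalAtTarget P]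
    (h : ∀ (U : S.Opens) (_ : IsAffineOpen U), P (Spec.map (ψ.hom.app (op U)))) :
    P (QCAlg.specMap ψ) := by
  refine IsZariskiLocalAtTarget.of_openCover (P := P) A.glueData.cover (fun U => ?_)
  have hpb := isPullback_chart ψ U.1 U.2
  have h1 : hpb.isoPullback.hom ≫ pullback.snd (QCAlg.specMap ψ) (A.ι U.1 U.2) =
      Spec.map (ψ.hom.app (op U.1)) := hpb.isoPullback_hom_snd
  have h2 : P (hpb.isoPullback.hom ≫ pullback.snd (QCAlg.specMap ψ) (A.ι U.1 U.2)) := by
    rw [h1]
    exact h U.1 U.2
  exact (MorphismProperty.cancel_left_of_respectsIso P _ _).mp h2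

theorem isClosedImmersion_specMap
    (h : ∀ (U : S.Opens) (_ : IsAffineOpen U), Function.Surjective (ψ.hom.app (op U)).hom) :
    IsClosedImmersion (QCAlg.specMap ψ) :=
  specMap_of_charts ψ @IsClosedImmersion
    (fun U hU => IsClosedImmersion.spec_of_surjective _ (h U hU))

end Groth.Agent.Lib.Helper18.SpecMapClosed
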