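import Mathlib

/-!
# The symmetric algebra of a finitely presented module is a finitely presented algebra (helper18)
-/

set_option autoImplicit false
universe u v w

namespace Groth.Agent.Lib.Helper18.SymFP

variable {R : Type u} [CommRing R] {F : Type v} {M : Type w} [AddCommGroup F] [Module R F]
  [AddCommGroup M] [Module R M]

/-- the algebra map `Sym(F) → Sym(M)` induced by a linear map -/
noncomputable def symMapₐ (q : F →ₗ[R] M) : SymmetricAlgebra R F →ₐ[R] SymmetricAlgebra R M :=
  SymmetricAlgebra.lift ((SymmetricAlgebra.ι R M).comp q)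

@[simp] theorem symMapₐ_ι (q : F →ₗ[R] M) (x : F) :
    symMapₐ q (SymmetricAlgebra.ι R F x) = SymmetricAlgebra.ι R M (q x) :=
  SymmetricAlgebra.lift_ι_apply _ x

theorem symMapₐ_surjective (q : F →ₗ[R] M) (hq : Function.Surjective q) :
    Function.Surjective (symMapₐ q) := by
  intro y
  induction y using SymmetricAlgebra.induction with
  | algebraMap r => exact ⟨algebraMap R _ r, (symMapₐ q).commutes r⟩
  | ι m =>
    obtain ⟨x, rfl⟩ := hq m
    exact ⟨SymmetricAlgebra.ι R F x, symMapₐ_ι q x⟩
  | mul a b ha hb =>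
    obtain ⟨a', rfl⟩ := ha
    obtain ⟨b', rfl⟩ := hb
    exact ⟨a' * b', map_mul _ _ _⟩
  | add a b ha hb =>
    obtain ⟨a', rfl⟩ := ha
    obtain ⟨b', rfl⟩ := hb
    exact ⟨a' + b', map_add _ _ _⟩

/-- the ideal of `Sym(F)` generated by the kernel of `q` -/
noncomputable def kerIdeal (q : F →ₗ[R] M) : Ideal (SymmetricAlgebra R F) :=
  Ideal.span (SymmetricAlgebra.ι R F '' (LinearMap.ker q : Set F))

theorem kerIdeal_le_ker (q : F →ₗ[R] M) : kerIdeal q ≤ RingHom.ker (symMapₐ q).toRingHom := by
  refine Ideal.span_le.mpr ?_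
  rintro _ ⟨x, hx, rfl⟩
  change symMapₐ q (SymmetricAlgebra.ι R F x) = 0
  rw [symMapₐ_ι, LinearMap.mem_ker.mp hx, map_zero]

/-- the kernel of `Sym(F) → Sym(M)` for surjective `q : F → M` is generated by `ker q` -/
theorem ker_symMapₐ (q : F →ₗ[R] M) (hq : Function.Surjective q) :
    RingHom.ker (symMapₐ q).toRingHom = kerIdeal q := by
  refine le_antisymm ?_ (kerIdeal_le_ker q)
  -- the linear map `M → Sym(F)/J`
  let J := kerIdeal q
  let p : F →ₗ[R] (SymmetricAlgebra R F ⧸ J) :=
    (Ideal.Quotient.mkₐ R J).toLinearMap.comp (SymmetricAlgebra.ι R F)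
  have hp : LinearMap.ker q ≤ LinearMap.ker p := by
    intro x hx
    rw [LinearMap.mem_ker]
    change Ideal.Quotient.mk J (SymmetricAlgebra.ι R F x) = 0
    rw [Ideal.Quotient.eq_zero_iff_mem]
    exact Ideal.subset_span ⟨x, hx, rfl⟩
  let e := LinearMap.quotKerEquivOfSurjective q hq
  let g : M →ₗ[R] (SymmetricAlgebra R F ⧸ J) :=
    ((LinearMap.ker q).liftQ p hp).comp e.symm.toLinearMap
  have hg : ∀ x, g (q x) = p x := by
    intro x
    have h1 : e.symm (q x) = (LinearMap.ker q).mkQ x := by
      rw [LinearEquiv.symm_apply_eq]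
      rfl
    change (LinearMap.ker q).liftQ p hp (e.symm (q x)) = p x
    rw [h1]
    rfl
  let G : SymmetricAlgebra R M →ₐ[R] (SymmetricAlgebra R F ⧸ J) := SymmetricAlgebra.lift g
  have hG : G.comp (symMapₐ q) = Ideal.Quotient.mkₐ R J := by
    refine SymmetricAlgebra.algHom_ext ?_
    ext x
    change G (symMapₐ q (SymmetricAlgebra.ι R F x)) = p x
    rw [symMapₐ_ι, ← hg]
    exact SymmetricAlgebra.lift_ι_apply g (q x)
  intro x hx
  have hx' : symMapₐ q x = 0 := hx
  have h2 : Ideal.Quotient.mk J x = 0 := by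
    have := congrArg (fun k => k x) hG
    change G (symMapₐ q x) = Ideal.Quotient.mk J x at this
    rw [← this, hx', map_zero]
  exact Ideal.Quotient.eq_zero_iff_mem.mp h2

theorem kerIdeal_fg (q : F →ₗ[R] M) (h : (LinearMap.ker q).FG) : (kerIdeal q).FG := by
  classical
  obtain ⟨s, hs⟩ := h
  refine ⟨s.image (SymmetricAlgebra.ι R F), ?_⟩
  rw [kerIdeal, ← hs, Finset.coe_image]
  refine le_antisymm (Ideal.span_mono (Set.image_mono Submodule.subset_span)) ?_
  refine Ideal.span_le.mpr ?_
  rintro _ ⟨x, hx, rfl⟩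
  -- `x` in the span of `s`; `ι x` in the ideal generated by `ι s`
  refine Submodule.span_induction (p := fun x _ => SymmetricAlgebra.ι R F x ∈
    Ideal.span (SymmetricAlgebra.ι R F '' (s : Set F))) ?_ ?_ ?_ ?_ hx
  · intro y hy
    exact Ideal.subset_span ⟨y, hy, rfl⟩
  · rw [map_zero]; exact Ideal.zero_mem _
  · intro a b _ _ ha hb
    rw [map_add]; exact Ideal.add_mem _ ha hb
  · intro r a _ ha
    rw [map_smul, Algebra.smul_def]
    exact Ideal.mul_mem_left _ _ ha

/-- **The symmetric algebra of a finitely presented module is a finitely presented algebra.** -/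
theorem finitePresentation [Module.FinitePresentation R M] :
    Algebra.FinitePresentation R (SymmetricAlgebra R M) := by
  obtain ⟨n, K, e, hK⟩ := Module.FinitePresentation.exists_fin R M
  let q : (Fin n → R) →ₗ[R] M := e.symm.toLinearMap.comp K.mkQ
  have hq : Function.Surjective q := e.symm.surjective.comp K.mkQ_surjective
  have hker : LinearMap.ker q = K := by
    ext x
    simp [q]
  have hfp : Algebra.FinitePresentation R (SymmetricAlgebra R (Fin n → R)) :=
    Algebra.FinitePresentation.equiv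
      (SymmetricAlgebra.equivMvPolynomial (Pi.basisFun R (Fin n))).symm
  refine Algebra.FinitePresentation.of_surjective (f := symMapₐ q) (symMapₐ_surjective q hq) ?_
  rw [ker_symMapₐ q hq]
  exact kerIdeal_fg q (hker ▸ hK)

end Groth.Agent.Lib.Helper18.SymFP
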