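import Mathlib

/-!
# Semilinear functoriality and localization of the symmetric algebra (helper18)

* `symMap σ f hf : Sym_R M →+* Sym_{R'} M'` for `σ : R →+* R'` and a `σ`-semilinear `f : M →+ M'`.
* `ringHom_ext`: ring homs out of `Sym_R M` are determined by their values on `R` and `M`.
* `isLocalization_symMap`: if `R'` is the localization of `R` away from `r` and `M'` the
  localization of `M`, then `Sym_{R'} M'` is the localization of `Sym_R M` away from `r`.
-/

set_option autoImplicit false
set_option linter.style.haveILetI false
universe u v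

namespace Groth.Agent.Lib.Helper18.SymLoc

section Ext

variable {R : Type*} [CommRing R] {M : Type*} [AddCommGroup M] [Module R M]
  {T : Type*} [Semiring T]

theorem ringHom_ext (g h : SymmetricAlgebra R M →+* T)
    (h1 : ∀ r, g (algebraMap R _ r) = h (algebraMap R _ r))
    (h2 : ∀ m, g (SymmetricAlgebra.ι R M m) = h (SymmetricAlgebra.ι R M m)) : g = h := by
  refine RingHom.ext fun x => ?_
  induction x using SymmetricAlgebra.induction with
  | algebraMap r => exact h1 r
  | ι m => exact h2 m
  | mul a b ha hb => rw [map_mul, map_mul, ha, hb]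
  | add a b ha hb => rw [map_add, map_add, ha, hb]

end Ext

section Map

variable {R R' : Type*} [CommRing R] [CommRing R'] (σ : R →+* R')
  {M M' : Type*} [AddCommGroup M] [Module R M] [AddCommGroup M'] [Module R' M']
  (f : M →+ M') (hf : ∀ (r : R) (m : M), f (r • m) = σ r • f m)

/-- semilinear functoriality of the symmetric algebra -/
noncomputable def symMap : SymmetricAlgebra R M →+* SymmetricAlgebra R' M' :=
  letI : Algebra R (SymmetricAlgebra R' M') :=
    ((algebraMap R' (SymmetricAlgebra R' M')).comp σ).toAlgebra
  (SymmetricAlgebra.lift (R := R) (M := M) (A := SymmetricAlgebra R' M')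
    { toFun := fun m => SymmetricAlgebra.ι R' M' (f m)
      map_add' := fun a b => by rw [map_add, map_add]
      map_smul' := fun r m => by
        rw [hf, map_smul, Algebra.smul_def, RingHom.id_apply, Algebra.smul_def]
        rfl }).toRingHom

@[simp] theorem symMap_ι (m : M) :
    symMap σ f hf (SymmetricAlgebra.ι R M m) = SymmetricAlgebra.ι R' M' (f m) := by
  letI : Algebra R (SymmetricAlgebra R' M') :=
    ((algebraMap R' (SymmetricAlgebra R' M')).comp σ).toAlgebra
  unfold symMap
  exact SymmetricAlgebra.lift_ι_apply _ m

@[simp] theorem symMap_algebraMap (r : R) :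
    symMap σ f hf (algebraMap R _ r) = algebraMap R' _ (σ r) := by
  letI : Algebra R (SymmetricAlgebra R' M') :=
    ((algebraMap R' (SymmetricAlgebra R' M')).comp σ).toAlgebra
  unfold symMap
  exact AlgHom.commutes _ r

end Map

section Functoriality

variable {R : Type*} [CommRing R] {M : Type*} [AddCommGroup M] [Module R M]

theorem symMap_id :
    symMap (RingHom.id R) (AddMonoidHom.id M) (fun _ _ => rfl) =
      RingHom.id (SymmetricAlgebra R M) :=
  ringHom_ext _ _ (fun r => by simp) (fun m => by simp)

variable {R' R'' : Type*} [CommRing R'] [CommRing R''] (σ : R →+* R') (σ' : R' →+* R'')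
  {M' M'' : Type*} [AddCommGroup M'] [Module R' M'] [AddCommGroup M''] [Module R'' M'']
  (f : M →+ M') (hf : ∀ (r : R) (m : M), f (r • m) = σ r • f m)
  (f' : M' →+ M'') (hf' : ∀ (r : R') (m : M'), f' (r • m) = σ' r • f' m)

theorem symMap_comp :
    symMap (σ'.comp σ) (f'.comp f) (fun r m => by
      rw [AddMonoidHom.comp_apply, hf, hf']; rfl) =
      (symMap σ' f' hf').comp (symMap σ f hf) :=
  ringHom_ext _ _ (fun r => by simp) (fun m => by simp)

end Functoriality

section Unit

theorem isUnit_algebraMap_end {R A : Type*} [CommRing R] [CommRing A] [Algebra R A] (x : R)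
    (hx : IsUnit (algebraMap R A x)) : IsUnit (algebraMap R (Module.End R A) x) := by
  rw [Module.End.isUnit_iff]
  obtain ⟨v, hv⟩ := hx
  refine ⟨fun a b hab => ?_, fun b => ⟨(↑v⁻¹ : A) * b, ?_⟩⟩
  · rw [Module.algebraMap_end_apply, Module.algebraMap_end_apply, Algebra.smul_def,
      Algebra.smul_def, ← hv] at hab
    have := congrArg (fun z => (↑v⁻¹ : A) * z) hab
    simpa [← mul_assoc] using this
  · rw [Module.algebraMap_end_apply, Algebra.smul_def, ← hv, ← mul_assoc]
    simp

end Unit

section Loc

variable {R R' : Type u} [CommRing R] [CommRing R'] [Algebra R R'] (r : R)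
  [IsLocalization.Away r R']
  {M M' : Type u} [AddCommGroup M] [Module R M] [AddCommGroup M'] [Module R M'] [Module R' M']
  [IsScalarTower R R' M'] (f : M →ₗ[R] M') [IsLocalizedModule (Submonoid.powers r) f]

theorem semilinear (a : R) (m : M) : f.toAddMonoidHom (a • m) = algebraMap R R' a • f.toAddMonoidHom m := by
  show f (a • m) = algebraMap R R' a • f m
  rw [map_smul, algebraMap_smul]

/-- the canonical map `Sym_R M → Sym_{R'} M'` -/
noncomputable abbrev locMap : SymmetricAlgebra R M →+* SymmetricAlgebra R' M' :=
  symMap (algebraMap R R') f.toAddMonoidHom (semilinear f)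

theorem isLocalization_symMap :
    letI := (locMap (R' := R') f).toAlgebra
    IsLocalization.Away (algebraMap R (SymmetricAlgebra R M) r) (SymmetricAlgebra R' M') := by
  letI algS' := (locMap (R' := R') f).toAlgebra
  set s : SymmetricAlgebra R M := algebraMap R (SymmetricAlgebra R M) r with hs_def
  let L := Localization.Away s
  -- map1
  have hsu : IsUnit (locMap (R' := R') f s) := by
    rw [hs_def, symMap_algebraMap]
    exact (IsLocalization.Away.algebraMap_isUnit (S := R') r).map _
  let map1 : L →+* SymmetricAlgebra R' M' := IsLocalization.Away.lift s hsu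
  have hmap1 : ∀ x, map1 (algebraMap (SymmetricAlgebra R M) L x) = locMap f x := fun x =>
    IsLocalization.Away.lift_eq s hsu x
  -- `L` as an `R'`-algebra
  have hru : IsUnit (((algebraMap (SymmetricAlgebra R M) L).comp
      (algebraMap R (SymmetricAlgebra R M))) r) :=
    IsLocalization.Away.algebraMap_isUnit (S := L) s
  let ρ : R' →+* L := IsLocalization.Away.lift r hru
  have hρ : ∀ a : R, ρ (algebraMap R R' a) =
      algebraMap (SymmetricAlgebra R M) L (algebraMap R (SymmetricAlgebra R M) a) := fun a =>
    IsLocalization.Away.lift_eq r hru a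
  letI algR'L : Algebra R' L := ρ.toAlgebra
  haveI : IsScalarTower R R' L := IsScalarTower.of_algebraMap_eq (fun a => by
    rw [IsScalarTower.algebraMap_apply R (SymmetricAlgebra R M) L]
    exact (hρ a).symm)
  -- the linear map `M' → L`
  let ℓ : M →ₗ[R] L :=
    (IsScalarTower.toAlgHom R (SymmetricAlgebra R M) L).toLinearMap ∘ₗ SymmetricAlgebra.ι R M
  have hunits : ∀ x : Submonoid.powers r, IsUnit (algebraMap R (Module.End R L) x) := by
    rintro ⟨_, n, rfl⟩
    have h1 : IsUnit (algebraMap R L (r ^ n)) := by
      rw [map_pow, IsScalarTower.algebraMap_apply R (SymmetricAlgebra R M) L]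
      exact (IsLocalization.Away.algebraMap_isUnit (S := L) s).pow n
    exact isUnit_algebraMap_end _ h1
  let ℓ' : M' →ₗ[R] L := IsLocalizedModule.lift (Submonoid.powers r) f ℓ hunits
  have hℓ' : ∀ m, ℓ' (f m) = ℓ m := fun m =>
    IsLocalizedModule.lift_apply (Submonoid.powers r) f ℓ hunits m
  let ℓ'' : M' →ₗ[R'] L := LinearMap.extendScalarsOfIsLocalization (Submonoid.powers r) R' ℓ'
  let map2 : SymmetricAlgebra R' M' →ₐ[R'] L := SymmetricAlgebra.lift ℓ''
  have hmap2ι : ∀ m', map2 (SymmetricAlgebra.ι R' M' m') = ℓ' m' := fun m' =>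
    SymmetricAlgebra.lift_ι_apply ℓ'' m'
  -- `map2 ∘ locMap = algebraMap`
  have h21 : (map2 : SymmetricAlgebra R' M' →+* L).comp (locMap f) =
      algebraMap (SymmetricAlgebra R M) L := by
    refine ringHom_ext _ _ (fun a => ?_) (fun m => ?_)
    · rw [RingHom.comp_apply, symMap_algebraMap]
      show map2 (algebraMap R' _ (algebraMap R R' a)) = _
      rw [AlgHom.commutes]
      exact hρ a
    · rw [RingHom.comp_apply, symMap_ι]
      show map2 (SymmetricAlgebra.ι R' M' (f m)) = _
      rw [hmap2ι, hℓ']
      rfl
  -- the two composites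
  have hc1 : (map2 : SymmetricAlgebra R' M' →+* L).comp map1 = RingHom.id L := by
    apply IsLocalization.ringHom_ext (Submonoid.powers s)
    rw [RingHom.comp_assoc]
    have : map1.comp (algebraMap (SymmetricAlgebra R M) L) = locMap f := RingHom.ext hmap1
    rw [this, h21, RingHom.id_comp]
  have hc2 : map1.comp (map2 : SymmetricAlgebra R' M' →+* L) =
      RingHom.id (SymmetricAlgebra R' M') := by
    refine ringHom_ext _ _ (fun a' => ?_) (fun m' => ?_)
    · rw [RingHom.comp_apply, RingHom.id_apply]
      show map1 (map2 (algebraMap R' _ a')) = _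
      rw [AlgHom.commutes]
      have h3 : (map1.comp ρ) = algebraMap R' (SymmetricAlgebra R' M') := by
        apply IsLocalization.ringHom_ext (Submonoid.powers r)
        refine RingHom.ext fun a => ?_
        rw [RingHom.comp_apply, RingHom.comp_apply, hρ, hmap1, symMap_algebraMap]
        rfl
      exact congrArg (fun k => k a') h3
    · rw [RingHom.comp_apply, RingHom.id_apply]
      show map1 (map2 (SymmetricAlgebra.ι R' M' m')) = _
      rw [hmap2ι]
      -- compare two `R`-linear maps out of `M'`
      let j1 : M' →ₗ[R] SymmetricAlgebra R' M' :=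
        { toFun := fun m' => map1 (ℓ' m')
          map_add' := fun a b => by rw [map_add, map_add]
          map_smul' := fun a m' => by
            rw [map_smul, RingHom.id_apply, Algebra.smul_def, map_mul, Algebra.smul_def]
            congr 1
            rw [IsScalarTower.algebraMap_apply R (SymmetricAlgebra R M) L, hmap1,
              symMap_algebraMap]
            rfl }
      let j2 : M' →ₗ[R] SymmetricAlgebra R' M' :=
        (SymmetricAlgebra.ι R' M').restrictScalars R
      have hunits' : ∀ x : Submonoid.powers r,
          IsUnit (algebraMap R (Module.End R (SymmetricAlgebra R' M')) x) := by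
        rintro ⟨_, n, rfl⟩
        have h1 : IsUnit (algebraMap R (SymmetricAlgebra R' M') (r ^ n)) := by
          rw [map_pow, IsScalarTower.algebraMap_apply R R' (SymmetricAlgebra R' M')]
          exact ((IsLocalization.Away.algebraMap_isUnit (S := R') r).map
            (algebraMap R' (SymmetricAlgebra R' M'))).pow n
        exact isUnit_algebraMap_end _ h1
      have hj : j1 = j2 := by
        apply IsLocalizedModule.ext (Submonoid.powers r) f hunits'
        refine LinearMap.ext fun m => ?_
        show map1 (ℓ' (f m)) = SymmetricAlgebra.ι R' M' (f m)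
        rw [hℓ']
        show map1 (algebraMap (SymmetricAlgebra R M) L (SymmetricAlgebra.ι R M m)) = _
        rw [hmap1, symMap_ι]
        rfl
      exact LinearMap.congr_fun hj m'
  let e : L ≃ₐ[SymmetricAlgebra R M] SymmetricAlgebra R' M' :=
    { toFun := map1
      invFun := map2
      left_inv := fun x => congrArg (fun k => k x) hc1
      right_inv := fun x => congrArg (fun k => k x) hc2
      map_mul' := map_mul map1
      map_add' := map_add map1
      commutes' := hmap1 }
  exact IsLocalization.isLocalization_of_algEquiv (Submonoid.powers s) e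

end Loc

end Groth.Agent.Lib.Helper18.SymLoc
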