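import Mathlib
import Groth.Prelude.Def_RelSpec
import Groth.Agent.Lib.Helper18.SymLoc
import Groth.Agent.Lib.Helper45.FiniteType

/-!
# The symmetric algebra of a quasi-coherent module: the functor on affine opens (helper18)
-/

set_option autoImplicit false
set_option linter.style.haveILetI false
universe u
open AlgebraicGeometry CategoryTheory Limits TopologicalSpace Opposite

namespace Groth.Agent.Lib.Helper18.SymQC

open Groth.Agent.Lib.Helper18.SymLoc Groth.Agent.Lib.Helper45

variable {S : Scheme.{u}} (E : S.Modules)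

/-- restriction maps of `U ↦ Sym_{O(U)} E(U)` -/
noncomputable def resSym {U V : S.Opens} (h : V ≤ U) :
    SymmetricAlgebra Γ(S, U) Γ(E, U) →+* SymmetricAlgebra Γ(S, V) Γ(E, V) :=
  symMap (S.presheaf.map (homOfLE h).op).hom (E.presheaf.map (homOfLE h).op).hom
    (fun r m => Scheme.Modules.map_smul E (homOfLE h) r m)

@[simp] theorem resSym_algebraMap {U V : S.Opens} (h : V ≤ U) (r : Γ(S, U)) :
    resSym E h (algebraMap _ _ r) = algebraMap _ _ ((S.presheaf.map (homOfLE h).op).hom r) :=
  symMap_algebraMap _ _ _ r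

@[simp] theorem resSym_ι {U V : S.Opens} (h : V ≤ U) (m : Γ(E, U)) :
    resSym E h (SymmetricAlgebra.ι _ _ m) =
      SymmetricAlgebra.ι _ _ ((E.presheaf.map (homOfLE h).op).hom m) :=
  symMap_ι _ _ _ m

theorem resSym_self (U : S.Opens) : resSym E (le_refl U) = RingHom.id _ := by
  refine ringHom_ext _ _ (fun r => ?_) (fun m => ?_)
  · rw [resSym_algebraMap, RingHom.id_apply]
    have : homOfLE (le_refl U) = 𝟙 U := rfl
    rw [this, op_id, S.presheaf.map_id]
    rfl
  · rw [resSym_ι, RingHom.id_apply]
    have : homOfLE (le_refl U) = 𝟙 U := rfl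
    rw [this, op_id, E.presheaf.map_id]
    rfl

theorem resSym_comp {U V W : S.Opens} (h : V ≤ U) (h' : W ≤ V) :
    (resSym E h').comp (resSym E h) = resSym E (h'.trans h) := by
  refine ringHom_ext _ _ (fun r => ?_) (fun m => ?_)
  · rw [RingHom.comp_apply, resSym_algebraMap, resSym_algebraMap, resSym_algebraMap,
      ← CommRingCat.comp_apply, ← Functor.map_comp]
    rfl
  · rw [RingHom.comp_apply, resSym_ι, resSym_ι, resSym_ι, ← ConcreteCategory.comp_apply,
      ← Functor.map_comp]
    rfl

/-- the presheaf of rings `U ↦ Sym_{O(U)} E(U)` on the affine opens -/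
noncomputable def symFunctor : S.AffineZariskiSiteᵒᵖ ⥤ CommRingCat.{u} where
  obj U := CommRingCat.of (SymmetricAlgebra Γ(S, U.unop.1) Γ(E, U.unop.1))
  map {U V} i := CommRingCat.ofHom
    (resSym E (Scheme.AffineZariskiSite.toOpens_mono (leOfHom i.unop)))
  map_id U := by
    ext : 1
    exact resSym_self E U.unop.1
  map_comp {U V W} i j := by
    ext : 1
    exact (resSym_comp E _ _).symm

/-- the structure map -/
noncomputable def symStr : (Scheme.AffineZariskiSite.toOpensFunctor S).op ⋙ S.presheaf ⟶ symFunctor E where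
  app U := CommRingCat.ofHom (algebraMap Γ(S, U.unop.1) (SymmetricAlgebra Γ(S, U.unop.1) Γ(E, U.unop.1)))
  naturality {U V} i := by
    ext r
    exact (resSym_algebraMap E _ r).symm

attribute [local instance] sectionsBasicOpenModule

theorem away_of_eq {A B : Type*} [CommRing A] [CommRing B] (g h : A →+* B) (e : g = h) (x : A)
    (H : @IsLocalization.Away A _ x B _ h.toAlgebra) :
    @IsLocalization.Away A _ x B _ g.toAlgebra := by
  subst e
  exact H

theorem coequifibered_symStr [E.IsQuasicoherent] : (symStr E).Coequifibered := by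
  rw [Scheme.AffineZariskiSite.coequifibered_iff_forall_isLocalizationAway]
  intro U r
  have hloc : IsLocalizedModule.Away r (restrictBasicOpenₗ E r) :=
    isLocalizedModule_restrictBasicOpenₗ U.2 E r
  have hA : IsLocalization.Away r Γ(S, S.basicOpen r) := U.2.isLocalization_basicOpen r
  have key := isLocalization_symMap (R' := Γ(S, S.basicOpen r)) r (restrictBasicOpenₗ E r)
  have e : resSym E (S.basicOpen_le r) =
      locMap (R' := Γ(S, S.basicOpen r)) (restrictBasicOpenₗ E r) := by
    refine ringHom_ext _ _ (fun a => ?_) (fun m => ?_)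
    · rw [resSym_algebraMap, symMap_algebraMap]
      rfl
    · rw [resSym_ι, symMap_ι]
      rfl
  exact away_of_eq (resSym E (S.basicOpen_le r)) _ e
    (algebraMap Γ(S, U.1) (SymmetricAlgebra Γ(S, U.1) Γ(E, U.1)) r) key

end Groth.Agent.Lib.Helper18.SymQC
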