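import Mathlib
import Groth.Prelude.Def_RelSpec
import Groth.Agent.Lib.Helper18.SymQC1

/-!
# The vector bundle `V(E) = Spec Sym(E)` by relative gluing (helper18)
-/

set_option autoImplicit false
set_option linter.style.haveILetI false
universe u
open AlgebraicGeometry CategoryTheory Limits TopologicalSpace Opposite

namespace Groth.Agent.Lib.Helper18.SymQC

variable {S : Scheme.{u}} (E : S.Modules) [E.IsQuasicoherent]

/-- The relative gluing datum: the affine schemes `Spec Sym E(U)` over the affine opens `U`. -/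
noncomputable def glueData : (Scheme.AffineZariskiSite.directedCover S).RelativeGluingData :=
  Scheme.AffineZariskiSite.relativeGluingData (coequifibered_symStr E)

instance : ((glueData E).functor ⋙ Scheme.forget).IsLocallyDirected :=
  Scheme.Cover.RelativeGluingData.instIsLocallyDirectedI₀CompFunctorForgetOfIsThin ..

/-- the vector bundle `V(E)` -/
noncomputable def VV : Scheme.{u} := (glueData E).glued

/-- the structure morphism -/
noncomputable def pp : VV E ⟶ S := (glueData E).toBase

/-- the sections of the symmetric algebra over an affine open -/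
noncomputable abbrev SymU (U : S.Opens) : CommRingCat.{u} :=
  CommRingCat.of (SymmetricAlgebra Γ(S, U) Γ(E, U))

/-- the charts -/
noncomputable def chart (U : S.Opens) (hU : IsAffineOpen U) : Spec (SymU E U) ⟶ VV E :=
  (glueData E).cover.f ⟨U, hU⟩

variable (U : S.Opens) (hU : IsAffineOpen U)

instance : IsOpenImmersion (chart E U hU) := (glueData E).cover.map_prop _

theorem chart_pp : chart E U hU ≫ pp E =
    Spec.map (CommRingCat.ofHom (algebraMap Γ(S, U) (SymmetricAlgebra Γ(S, U) Γ(E, U)))) ≫
      hU.fromSpec :=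
  colimit.ι_desc _ _

theorem pp_preimage : pp E ⁻¹ᵁ U = (chart E U hU).opensRange := by
  simpa using! (glueData E).toBase_preimage_eq_opensRange_ι ⟨U, hU⟩

instance isAffineHom_pp : IsAffineHom (pp E) where
  isAffine_preimage U hU := by
    rw [pp_preimage E U hU]
    exact isAffineOpen_opensRange (chart E U hU)

theorem top_le_preimage : (⊤ : (Spec (SymU E U)).Opens) ≤ chart E U hU ⁻¹ᵁ (pp E ⁻¹ᵁ U) := by
  rw [← Scheme.Hom.comp_preimage, chart_pp, Scheme.Hom.comp_preimage, hU.fromSpec_preimage_self]
  exact le_top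

/-- functions on `π⁻¹ U` are `Sym E(U)` -/
noncomputable def gam : Γ(VV E, pp E ⁻¹ᵁ U) ⟶ SymU E U :=
  (chart E U hU).appLE (pp E ⁻¹ᵁ U) ⊤ (top_le_preimage E U hU) ≫ (Scheme.ΓSpecIso (SymU E U)).hom

theorem chart_res {U V : S.AffineZariskiSite} (i : V ⟶ U) :
    Spec.map (CommRingCat.ofHom (resSym E (Scheme.AffineZariskiSite.toOpens_mono i.le))) ≫
      chart E U.1 U.2 = chart E V.1 V.2 :=
  colimit.w (glueData E).functor i

theorem isIso_appLE_of_eq {Y Z : Scheme.{u}} (g : Y ⟶ Z) [IsOpenImmersion g] (V : Z.Opens)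
    (W : Y.Opens) (h1 : V ≤ g.opensRange) (h2 : W = g ⁻¹ᵁ V) : IsIso (g.appLE V W h2.le) := by
  subst h2
  rw [← Scheme.Hom.app_eq_appLE]
  exact Scheme.Hom.isIso_app g V h1

instance isIso_gam : IsIso (gam E U hU) := by
  have := isIso_appLE_of_eq (chart E U hU) (pp E ⁻¹ᵁ U) ⊤ (by rw [pp_preimage E U hU])
    (by rw [pp_preimage E U hU]; simp)
  unfold gam
  infer_instance

set_option backward.isDefEq.respectTransparency false in
/-- naturality of `gam` in the affine open -/
theorem gam_naturality {U V : S.AffineZariskiSite} (i : V ⟶ U) :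
    (VV E).presheaf.map (homOfLE ((pp E).preimage_mono
        (Scheme.AffineZariskiSite.toOpens_mono i.le))).op ≫ gam E V.1 V.2 =
      gam E U.1 U.2 ≫
        CommRingCat.ofHom (resSym E (Scheme.AffineZariskiSite.toOpens_mono i.le)) := by
  simp only [gam, Category.assoc, ← Scheme.ΓSpecIso_naturality]
  simp only [← Category.assoc]
  congr 1
  simp only [Scheme.Hom.appTop, Scheme.Hom.appLE, Category.assoc]
  have h1 := (Scheme.Hom.comp_app
    (Spec.map (CommRingCat.ofHom (resSym E (Scheme.AffineZariskiSite.toOpens_mono i.le))))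
    (chart E U.1 U.2) (pp E ⁻¹ᵁ U.1)).symm
  rw [Scheme.Hom.naturality_assoc, Scheme.Hom.naturality, reassoc_of% h1,
    Scheme.Hom.congr_app (chart_res E i), Category.assoc, ← Functor.map_comp, ← Functor.map_comp]
  rfl

set_option backward.isDefEq.respectTransparency false in
/-- `gam` is compatible with the structure maps -/
theorem pp_app_gam : (pp E).app U ≫ gam E U hU =
    CommRingCat.ofHom (algebraMap Γ(S, U) (SymmetricAlgebra Γ(S, U) Γ(E, U))) := by
  have h1 := Scheme.Hom.congr_app (chart_pp E U hU) U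
  have h2 := (Scheme.Hom.comp_app (chart E U hU) (pp E) U).symm
  have hk : ∀ k : (op ⊤ : (Spec (SymU E U)).Opensᵒᵖ) ⟶ op ⊤,
      (Spec (SymU E U)).presheaf.map k = 𝟙 _ := fun k => by
    rw [Subsingleton.elim k (𝟙 _)]; exact CategoryTheory.Functor.map_id _ _
  simp only [gam, Scheme.Hom.appLE, Category.assoc]
  rw [reassoc_of% h2, h1, Scheme.Hom.comp_app, hU.fromSpec_app_self]
  simp only [Category.assoc]
  rw [Scheme.Hom.naturality_assoc]
  simp only [← Functor.map_comp_assoc]
  erw [hk, Category.id_comp]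
  rw [← cancel_epi (Scheme.ΓSpecIso Γ(S, U)).hom, Iso.hom_inv_id_assoc]
  erw [Scheme.ΓSpecIso_naturality]
  rfl

end Groth.Agent.Lib.Helper18.SymQC
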