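import Mathlib
import Groth.Prelude.Def_RelSpec
import Groth.Agent.Lib.Helper18.SymQC2
import Groth.Agent.Lib.Helper49.ModGlue

/-!
# The symmetric algebra of a quasi-coherent module as a quasi-coherent algebra (helper18)

`symAlg E := π_* O_{V(E)}` with `jHom E : E ⟶ (symAlg E).toModule`, and the universal property
`isSymAlg E : RelSpec.IsSymAlg E (symAlg E) (jHom E)`.
-/

set_option autoImplicit false
set_option linter.style.haveILetI false
universe u
open AlgebraicGeometry CategoryTheory Limits TopologicalSpace Opposite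

namespace Groth.Agent.Lib.Helper18.SymQC

open Groth.Agent.Lib.Helper18.SymLoc Groth.Agent.Lib.Helper49 RelSpec

variable {S : Scheme.{u}} (E : S.Modules) [E.IsQuasicoherent]

/-- the symmetric algebra `Sym(E)`, as the direct image algebra of `V(E) → S` -/
noncomputable def symAlg : QCAlg S := QCAlg.directImage (pp E)

theorem symAlg_presheaf_obj (U : S.Opens) :
    (symAlg E).presheaf.obj (op U) = Γ(VV E, pp E ⁻¹ᵁ U) := rfl

/-- sections of `A.toModule` are sections of `A` -/
def toSec (A : QCAlg S) (U : S.Opens) (m : Γ(A.toModule, U)) : A.presheaf.obj (op U) := m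

/-- sections of `A` are sections of `A.toModule` -/
def ofSec (A : QCAlg S) (U : S.Opens) (m : A.presheaf.obj (op U)) : Γ(A.toModule, U) := m

theorem toSec_smul (A : QCAlg S) (U : S.Opens) (r : Γ(S, U)) (m : Γ(A.toModule, U)) :
    toSec A U (r • m) = (A.str.app (op U)).hom r * toSec A U m := rfl

theorem toSec_res (A : QCAlg S) {U V : S.Opens} (h : V ≤ U) (m : Γ(A.toModule, U)) :
    toSec A V (ModGlue.res A.toModule h m) = (A.presheaf.map (homOfLE h).op).hom (toSec A U m) :=
  rfl

theorem toSec_toModuleMap {A B : QCAlg S} (ψ : A ⟶ B) (U : S.Opens) (m : Γ(A.toModule, U)) :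
    toSec B U ((QCAlg.Hom.toModuleMap ψ).app U m) = (ψ.hom.app (op U)).hom (toSec A U m) := rfl

/-- `gam` for a basic open inclusion, elementwise -/
theorem gam_res_basic {U W : S.Opens} (hU : IsAffineOpen U) (hW : IsAffineOpen W) (f : Γ(S, U))
    (hf : S.basicOpen f = W) (h : W ≤ U) (x : Γ(VV E, pp E ⁻¹ᵁ U)) :
    (gam E W hW).hom (((VV E).presheaf.map (homOfLE ((pp E).preimage_mono h)).op).hom x) =
      resSym E h ((gam E U hU).hom x) := by
  let U' : S.AffineZariskiSite := ⟨U, hU⟩
  let W' : S.AffineZariskiSite := ⟨W, hW⟩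
  have hle : W' ≤ U' := ⟨f, hf⟩
  exact congrArg (fun k => k.hom x) (gam_naturality E (U := U') (V := W') (homOfLE hle))

/-- naturality of `gam` for an arbitrary inclusion of affine opens -/
theorem gam_res {U V : S.Opens} (hU : IsAffineOpen U) (hV : IsAffineOpen V) (h : V ≤ U)
    (x : Γ(VV E, pp E ⁻¹ᵁ U)) :
    (gam E V hV).hom (((VV E).presheaf.map (homOfLE ((pp E).preimage_mono h)).op).hom x) =
      resSym E h ((gam E U hU).hom x) := by
  set y : Γ(VV E, pp E ⁻¹ᵁ V) := (inv (gam E V hV)).hom (resSym E h ((gam E U hU).hom x)) with hy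
  have hgy : (gam E V hV).hom y = resSym E h ((gam E U hU).hom x) := by
    rw [hy]
    change (inv (gam E V hV) ≫ gam E V hV).hom _ = _
    rw [IsIso.inv_hom_id]
    rfl
  suffices hxy : ((VV E).presheaf.map (homOfLE ((pp E).preimage_mono h)).op).hom x = y by
    rw [hxy, hgy]
  refine TopCat.Sheaf.eq_of_locally_eq' (VV E).sheaf
    (fun i : {p : Γ(S, U) × Γ(S, V) // S.basicOpen p.1 = S.basicOpen p.2} =>
      pp E ⁻¹ᵁ S.basicOpen i.1.2) (pp E ⁻¹ᵁ V)
    (fun i => homOfLE ((pp E).preimage_mono (S.basicOpen_le i.1.2))) ?_ _ _ ?_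
  · intro z hz
    obtain ⟨f, g, hfg, hzf⟩ := exists_basicOpen_le_affine_inter hU hV ((pp E).base z) ⟨h hz, hz⟩
    exact Opens.mem_iSup.mpr ⟨⟨(f, g), hfg⟩, hfg ▸ hzf⟩
  · rintro ⟨⟨f, g⟩, hfg⟩
    have hW : IsAffineOpen (S.basicOpen g) := hV.basicOpen g
    have h1 := gam_res_basic E hV hW g rfl (S.basicOpen_le g) y
    have h2 := gam_res_basic E hU hW f hfg ((S.basicOpen_le g).trans h) x
    have h3 : ((VV E).presheaf.map (homOfLE ((pp E).preimage_mono (S.basicOpen_le g))).op).hom
        (((VV E).presheaf.map (homOfLE ((pp E).preimage_mono h)).op).hom x) =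
        ((VV E).presheaf.map (homOfLE ((pp E).preimage_mono
          ((S.basicOpen_le g).trans h))).op).hom x := by
      rw [← CommRingCat.comp_apply, ← Functor.map_comp]
      rfl
    have hinj : Function.Injective (gam E (S.basicOpen g) hW).hom :=
      ((ConcreteCategory.isIso_iff_bijective (gam E (S.basicOpen g) hW)).mp inferInstance).1
    apply hinj
    change (gam E (S.basicOpen g) hW).hom
      (((VV E).presheaf.map (homOfLE ((pp E).preimage_mono (S.basicOpen_le g))).op).hom
        (((VV E).presheaf.map (homOfLE ((pp E).preimage_mono h)).op).hom x)) =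
      (gam E (S.basicOpen g) hW).hom
        (((VV E).presheaf.map (homOfLE ((pp E).preimage_mono (S.basicOpen_le g))).op).hom y)
    rw [h3, h2, h1, hgy]
    exact (congrArg (fun k => k ((gam E U hU).hom x)) (resSym_comp E h (S.basicOpen_le g))).symm

variable (U : S.Opens) (hU : IsAffineOpen U)

theorem inv_gam_algebraMap (r : Γ(S, U)) :
    (inv (gam E U hU)).hom (algebraMap Γ(S, U) (SymmetricAlgebra Γ(S, U) Γ(E, U)) r) =
      ((pp E).app U).hom r := by
  have h := pp_app_gam E U hU
  have h2 : (pp E).app U = CommRingCat.ofHom (algebraMap Γ(S, U)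
      (SymmetricAlgebra Γ(S, U) Γ(E, U))) ≫ inv (gam E U hU) := by
    rw [← h, Category.assoc, IsIso.hom_inv_id, Category.comp_id]
  rw [h2]
  rfl

theorem inv_gam_res {U V : S.Opens} (hU : IsAffineOpen U) (hV : IsAffineOpen V) (h : V ≤ U)
    (x : SymmetricAlgebra Γ(S, U) Γ(E, U)) :
    ((VV E).presheaf.map (homOfLE ((pp E).preimage_mono h)).op).hom ((inv (gam E U hU)).hom x) =
      (inv (gam E V hV)).hom (resSym E h x) := by
  have h1 : (VV E).presheaf.map (homOfLE ((pp E).preimage_mono h)).op ≫ gam E V hV =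
      gam E U hU ≫ CommRingCat.ofHom (resSym E h) := by
    ext x
    exact gam_res E hU hV h x
  have h2 : inv (gam E U hU) ≫ (VV E).presheaf.map (homOfLE ((pp E).preimage_mono h)).op =
      CommRingCat.ofHom (resSym E h) ≫ inv (gam E V hV) := by
    rw [IsIso.inv_comp_eq, ← Category.assoc, IsIso.eq_comp_inv]
    exact h1
  exact congrArg (fun f => f.hom x) h2

/-- the local components of `j` -/
noncomputable def jLocal : LocalHom E (symAlg E).toModule (S.affineOpens : Set S.Opens) where
  φ V := ((inv (gam E V.1 V.2)).hom : _ →+* _).toAddMonoidHom.comp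
    (SymmetricAlgebra.ι Γ(S, V.1) Γ(E, V.1)).toAddMonoidHom
  smul V r s := by
    change (inv (gam E V.1 V.2)).hom (SymmetricAlgebra.ι Γ(S, V.1) Γ(E, V.1) (r • s)) =
      ((pp E).app V.1).hom r * (inv (gam E V.1 V.2)).hom (SymmetricAlgebra.ι Γ(S, V.1) Γ(E, V.1) s)
    rw [map_smul, Algebra.smul_def, map_mul, inv_gam_algebraMap]
  compat V W h s := by
    change ((VV E).presheaf.map (homOfLE ((pp E).preimage_mono h)).op).hom
      ((inv (gam E V.1 V.2)).hom (SymmetricAlgebra.ι Γ(S, V.1) Γ(E, V.1) s)) =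
      (inv (gam E W.1 W.2)).hom (SymmetricAlgebra.ι Γ(S, W.1) Γ(E, W.1)
        ((E.presheaf.map (homOfLE h).op).hom s))
    rw [inv_gam_res E V.2 W.2 h, resSym_ι]

/-- the canonical map `E ⟶ Sym(E)` -/
noncomputable def jHom : E ⟶ (symAlg E).toModule :=
  (jLocal E).glue S.isBasis_affineOpens

theorem jHom_app (s : Γ(E, U)) :
    toSec (symAlg E) U ((jHom E).app U s) =
      (inv (gam E U hU)).hom (SymmetricAlgebra.ι Γ(S, U) Γ(E, U) s) :=
  (jLocal E).glue_app S.isBasis_affineOpens ⟨U, hU⟩ s

end Groth.Agent.Lib.Helper18.SymQC
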