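import Mathlib
import Groth.Prelude.Def_RelSpec
import Groth.Agent.Lib.Helper18.SymQC3

/-!
# The universal property of the symmetric algebra `symAlg E` (helper18)
-/

set_option autoImplicit false
set_option linter.style.haveILetI false
universe u
open AlgebraicGeometry CategoryTheory Limits TopologicalSpace Opposite

namespace Groth.Agent.Lib.Helper18.SymQC

open Groth.Agent.Lib.Helper18.SymLoc Groth.Agent.Lib.Helper49 RelSpec

variable {S : Scheme.{u}} (E : S.Modules)

section lift

variable (B : QCAlg S) (φ : E ⟶ B.toModule)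

/-- the sections of a quasi-coherent algebra as an algebra over the functions -/
noncomputable abbrev algB (U : S.Opens) : Algebra Γ(S, U) (B.presheaf.obj (op U)) :=
  (B.str.app (op U)).hom.toAlgebra

/-- `φ` over `U` as a linear map to the algebra `B(U)` -/
noncomputable def linU (U : S.Opens) :
    letI := algB B U
    Γ(E, U) →ₗ[Γ(S, U)] B.presheaf.obj (op U) :=
  letI := algB B U
  { toFun := fun m => toSec B U (φ.app U m)
    map_add' := fun a b => by
      change toSec B U (φ.app U (a + b)) = toSec B U (φ.app U a) + toSec B U (φ.app U b)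
      rw [map_add]
      rfl
    map_smul' := fun r m => by
      change toSec B U (φ.app U (r • m)) = (B.str.app (op U)).hom r * toSec B U (φ.app U m)
      rw [Scheme.Modules.Hom.app_smul]
      rfl }

/-- the algebra map `Sym E(U) → B(U)` induced by `φ` -/
noncomputable def liftU (U : S.Opens) :
    SymmetricAlgebra Γ(S, U) Γ(E, U) →+* B.presheaf.obj (op U) :=
  letI := algB B U
  (SymmetricAlgebra.lift (linU E B φ U)).toRingHom

theorem liftU_algebraMap (U : S.Opens) (r : Γ(S, U)) :
    liftU E B φ U (algebraMap _ _ r) = (B.str.app (op U)).hom r := by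
  letI := algB B U
  exact (SymmetricAlgebra.lift (linU E B φ U)).commutes r

theorem liftU_ι (U : S.Opens) (m : Γ(E, U)) :
    liftU E B φ U (SymmetricAlgebra.ι _ _ m) = toSec B U (φ.app U m) := by
  letI := algB B U
  exact SymmetricAlgebra.lift_ι_apply (linU E B φ U) m

theorem liftU_res {U V : S.Opens} (h : V ≤ U) :
    (B.presheaf.map (homOfLE h).op).hom.comp (liftU E B φ U) =
      (liftU E B φ V).comp (resSym E h) := by
  refine ringHom_ext _ _ (fun r => ?_) (fun m => ?_)
  · rw [RingHom.comp_apply, RingHom.comp_apply, liftU_algebraMap, resSym_algebraMap,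
      liftU_algebraMap]
    exact (congrArg (fun ψ => ψ.hom r) (B.str.naturality (homOfLE h).op)).symm
  · rw [RingHom.comp_apply, RingHom.comp_apply, liftU_ι, resSym_ι, liftU_ι]
    have hnat : φ.app V (E.presheaf.map (homOfLE h).op m) =
        B.toModule.presheaf.map (homOfLE h).op (φ.app U m) :=
      congrArg (fun g => g.hom m) (φ.mapPresheaf.naturality (homOfLE h).op)
    change _ = toSec B V (φ.app V (E.presheaf.map (homOfLE h).op m))
    rw [hnat]
    rfl

end lift

section psi

variable [E.IsQuasicoherent] (B : QCAlg S) (φ : E ⟶ B.toModule)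

/-- the algebra map on affine opens -/
noncomputable def psiRestrict :
    (Scheme.AffineZariskiSite.toOpensFunctor S).op ⋙ (symAlg E).presheaf ⟶
      (Scheme.AffineZariskiSite.toOpensFunctor S).op ⋙ B.presheaf where
  app U := gam E U.unop.1 U.unop.2 ≫ CommRingCat.ofHom (liftU E B φ U.unop.1)
  naturality U V i := by
    have hle : V.unop.1 ≤ U.unop.1 := Scheme.AffineZariskiSite.toOpens_mono i.unop.le
    ext x
    change liftU E B φ V.unop.1 ((gam E V.unop.1 V.unop.2).hom
        (((VV E).presheaf.map (homOfLE ((pp E).preimage_mono hle)).op).hom x)) =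
      (B.presheaf.map (homOfLE hle).op).hom (liftU E B φ U.unop.1
        ((gam E U.unop.1 U.unop.2).hom x))
    rw [gam_res E U.unop.2 V.unop.2 hle]
    exact (congrArg (fun k => k ((gam E U.unop.1 U.unop.2).hom x)) (liftU_res E B φ hle)).symm

/-- the algebra map `Sym(E) → B` induced by `φ`, as a map of presheaves of rings -/
noncomputable def psiMap : (symAlg E).presheaf ⟶ B.presheaf :=
  Functor.IsCoverDense.restrictHomEquivHom (G := Scheme.AffineZariskiSite.toOpensFunctor S)
    (K := Opens.grothendieckTopology S) (ℱ := (symAlg E).presheaf)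
    (ℱ' := (⟨B.presheaf, B.isSheaf⟩ : TopCat.Sheaf CommRingCat.{u} S.carrier))
    (psiRestrict E B φ)

theorem psiMap_restrict :
    (Scheme.AffineZariskiSite.toOpensFunctor S).op.whiskerLeft (psiMap E B φ) =
      psiRestrict E B φ :=
  (Functor.IsCoverDense.restrictHomEquivHom (G := Scheme.AffineZariskiSite.toOpensFunctor S)
    (K := Opens.grothendieckTopology S) (ℱ := (symAlg E).presheaf)
    (ℱ' := (⟨B.presheaf, B.isSheaf⟩ : TopCat.Sheaf CommRingCat.{u} S.carrier))).symm_apply_apply _

theorem psiMap_app (U : S.Opens) (hU : IsAffineOpen U) :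
    (psiMap E B φ).app (op U) = gam E U hU ≫ CommRingCat.ofHom (liftU E B φ U) :=
  NatTrans.congr_app (psiMap_restrict E B φ) (op ⟨U, hU⟩)

/-- maps of presheaves of rings into a quasi-coherent algebra are determined on affine opens -/
theorem hom_ext_affine (C : QCAlg S) {P : TopCat.Presheaf CommRingCat.{u} S} (α β : P ⟶ C.presheaf)
    (H : ∀ (U : S.Opens) (_ : IsAffineOpen U), α.app (op U) = β.app (op U)) : α = β := by
  apply (Functor.IsCoverDense.restrictHomEquivHom (G := Scheme.AffineZariskiSite.toOpensFunctor S)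
    (K := Opens.grothendieckTopology S) (ℱ := P)
    (ℱ' := (⟨C.presheaf, C.isSheaf⟩ : TopCat.Sheaf CommRingCat.{u} S.carrier))).symm.injective
  ext U : 2
  exact H U.unop.1 U.unop.2

theorem str_psiMap : (symAlg E).str ≫ psiMap E B φ = B.str := by
  refine hom_ext_affine B _ _ (fun U hU => ?_)
  rw [NatTrans.comp_app, psiMap_app E B φ U hU]
  change (pp E).app U ≫ gam E U hU ≫ CommRingCat.ofHom (liftU E B φ U) = B.str.app (op U)
  rw [← Category.assoc, pp_app_gam]
  ext r
  exact liftU_algebraMap E B φ U r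

/-- the algebra homomorphism `Sym(E) ⟶ B` induced by `φ` -/
noncomputable def psiHom : symAlg E ⟶ B := ⟨psiMap E B φ, str_psiMap E B φ⟩

/-- morphisms of modules are determined on affine opens -/
theorem modHom_ext_affine {M N : S.Modules} (f g : M ⟶ N)
    (H : ∀ (U : S.Opens) (_ : IsAffineOpen U) (s : Γ(M, U)), f.app U s = g.app U s) : f = g := by
  apply Scheme.Modules.hom_ext
  intro U
  ext s
  refine ModGlue.eq_of_basis S.isBasis_affineOpens N _ _ (fun V hV => ?_)
  have hn : ∀ θ : M ⟶ N, ModGlue.res N hV (θ.app U s) = θ.app V.1 (ModGlue.res M hV s) :=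
    fun θ => (congrArg (fun k => k.hom s) (θ.mapPresheaf.naturality (homOfLE hV).op)).symm
  rw [hn f, hn g]
  exact H V.1 V.2 _

theorem jHom_psiHom : jHom E ≫ QCAlg.Hom.toModuleMap (psiHom E B φ) = φ := by
  refine modHom_ext_affine _ _ (fun U hU s => ?_)
  change ofSec B U (((psiMap E B φ).app (op U)).hom (toSec (symAlg E) U ((jHom E).app U s))) = _
  rw [psiMap_app E B φ U hU, jHom_app E U hU]
  change ofSec B U (liftU E B φ U ((gam E U hU).hom ((inv (gam E U hU)).hom _))) = _
  have : (gam E U hU).hom ((inv (gam E U hU)).hom (SymmetricAlgebra.ι Γ(S, U) Γ(E, U) s)) =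
      SymmetricAlgebra.ι Γ(S, U) Γ(E, U) s := by
    change (inv (gam E U hU) ≫ gam E U hU).hom _ = _
    rw [IsIso.inv_hom_id]
    rfl
  rw [this, liftU_ι]
  rfl

/-- components of an algebra map out of `symAlg E`, with the source unfolded -/
noncomputable def compU (ψ : symAlg E ⟶ B) (U : S.Opens) :
    Γ(VV E, pp E ⁻¹ᵁ U) →+* B.presheaf.obj (op U) := (ψ.hom.app (op U)).hom

theorem compU_inv_gam (ψ : symAlg E ⟶ B) (hψ : jHom E ≫ QCAlg.Hom.toModuleMap ψ = φ)
    (U : S.Opens) (hU : IsAffineOpen U) :
    (compU E B ψ U).comp (inv (gam E U hU)).hom = liftU E B φ U := by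
  refine ringHom_ext _ _ (fun r => ?_) (fun m => ?_)
  · rw [RingHom.comp_apply, inv_gam_algebraMap, liftU_algebraMap]
    exact congrArg (fun k => k.hom r) (NatTrans.congr_app ψ.comm (op U))
  · rw [RingHom.comp_apply, ← jHom_app E U hU, liftU_ι, ← hψ]
    rfl

theorem compU_eq (ψ : symAlg E ⟶ B) (hψ : jHom E ≫ QCAlg.Hom.toModuleMap ψ = φ)
    (U : S.Opens) (hU : IsAffineOpen U) (x : Γ(VV E, pp E ⁻¹ᵁ U)) :
    compU E B ψ U x = liftU E B φ U ((gam E U hU).hom x) := by
  have hx : (inv (gam E U hU)).hom ((gam E U hU).hom x) = x := by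
    change (gam E U hU ≫ inv (gam E U hU)).hom x = x
    rw [IsIso.hom_inv_id]
    rfl
  rw [← compU_inv_gam E B φ ψ hψ U hU, RingHom.comp_apply, hx]

theorem psiHom_unique (ψ : symAlg E ⟶ B) (hψ : jHom E ≫ QCAlg.Hom.toModuleMap ψ = φ) :
    ψ = psiHom E B φ := by
  apply QCAlg.hom_ext
  refine hom_ext_affine B _ _ (fun U hU => ?_)
  change ψ.hom.app (op U) = (psiMap E B φ).app (op U)
  rw [psiMap_app E B φ U hU]
  ext x
  exact compU_eq E B φ ψ hψ U hU x

/-- **The symmetric algebra of a quasi-coherent module.** -/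
theorem isSymAlg : IsSymAlg E (symAlg E) (jHom E) := fun B φ =>
  ⟨psiHom E B φ, jHom_psiHom E B φ, fun ψ hψ => psiHom_unique E B φ ψ hψ⟩

end psi

end Groth.Agent.Lib.Helper18.SymQC
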