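import Mathlib
import Groth.Prelude.Def_RelSpec
import Groth.Agent.Lib.Helper18.SymQC4

/-!
# Any symmetric algebra of a quasi-coherent module is `Sym E(U)` over affine opens (helper18)
-/

set_option autoImplicit false
set_option linter.style.haveILetI false
universe u
open AlgebraicGeometry CategoryTheory Limits TopologicalSpace Opposite

namespace Groth.Agent.Lib.Helper18.SymQC

open Groth.Agent.Lib.Helper18.SymLoc Groth.Agent.Lib.Helper49 RelSpec

variable {S : Scheme.{u}}

theorem toModuleMap_id (A : QCAlg S) : QCAlg.Hom.toModuleMap (𝟙 A) = 𝟙 A.toModule := by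
  apply Scheme.Modules.hom_ext
  intro U
  rfl

theorem toModuleMap_comp {A B C : QCAlg S} (f : A ⟶ B) (g : B ⟶ C) :
    QCAlg.Hom.toModuleMap (f ≫ g) = QCAlg.Hom.toModuleMap f ≫ QCAlg.Hom.toModuleMap g := by
  apply Scheme.Modules.hom_ext
  intro U
  rfl

/-- uniqueness part of the universal property, as an extensionality principle -/
theorem IsSymAlg.hom_ext {E : S.Modules} {A : QCAlg S} {j : E ⟶ A.toModule} (hA : IsSymAlg E A j)
    {B : QCAlg S} (f g : A ⟶ B)
    (h : j ≫ QCAlg.Hom.toModuleMap f = j ≫ QCAlg.Hom.toModuleMap g) : f = g :=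
  (hA B (j ≫ QCAlg.Hom.toModuleMap g)).unique h rfl

variable (E : S.Modules) [E.IsQuasicoherent] (A : QCAlg S) (j : E ⟶ A.toModule)

theorem isIso_psiHom (hA : IsSymAlg E A j) : IsIso (psiHom E A j) := by
  obtain ⟨θ, hθ, -⟩ := hA (symAlg E) (jHom E)
  refine ⟨θ, ?_, ?_⟩
  · apply IsSymAlg.hom_ext (isSymAlg E)
    rw [toModuleMap_comp, ← Category.assoc, jHom_psiHom, hθ, toModuleMap_id, Category.comp_id]
  · apply IsSymAlg.hom_ext hA
    rw [toModuleMap_comp, ← Category.assoc, hθ, jHom_psiHom, toModuleMap_id, Category.comp_id]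

theorem isIso_psiMap_app (hA : IsSymAlg E A j) (U : S.Opens) :
    IsIso ((psiMap E A j).app (op U)) := by
  have := isIso_psiHom E A j hA
  refine ⟨(inv (psiHom E A j)).hom.app (op U), ?_, ?_⟩
  · have h1 : psiHom E A j ≫ inv (psiHom E A j) = 𝟙 _ := IsIso.hom_inv_id _
    have h2 := congrArg (fun k : symAlg E ⟶ symAlg E => k.hom.app (op U)) h1
    exact h2
  · have h1 : inv (psiHom E A j) ≫ psiHom E A j = 𝟙 _ := IsIso.inv_hom_id _
    have h2 := congrArg (fun k : A ⟶ A => k.hom.app (op U)) h1
    exact h2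

/-- **For a symmetric algebra `(A, j)` of a quasi-coherent `E`, `A(U) = Sym E(U)` for affine `U`.** -/
theorem bijective_liftU (hA : IsSymAlg E A j) (U : S.Opens) (hU : IsAffineOpen U) :
    Function.Bijective (liftU E A j U) := by
  have h1 := isIso_psiMap_app E A j hA U
  rw [psiMap_app E A j U hU] at h1
  have h2 : IsIso (CommRingCat.ofHom (liftU E A j U)) := by
    have h3 : CommRingCat.ofHom (liftU E A j U) =
        inv (gam E U hU) ≫ (gam E U hU ≫ CommRingCat.ofHom (liftU E A j U)) := by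
      rw [IsIso.inv_hom_id_assoc]
    rw [h3]
    exact IsIso.comp_isIso' inferInstance h1
  exact (ConcreteCategory.isIso_iff_bijective (CommRingCat.ofHom (liftU E A j U))).mp h2

end Groth.Agent.Lib.Helper18.SymQC
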