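import Mathlib
import Groth.Prelude.Def_RelSpec
import Groth.Prelude.Def_Coh
import Groth.Agent.Lib.Helper18.SymQC5
import Groth.Agent.Lib.Helper49.QCAlgModule
import Groth.Agent.Lib.Helper62.SymKaehler

/-!
# Vector bundles of finite type modules are of finite type (helper18)
-/

set_option autoImplicit false
set_option linter.style.haveILetI false
universe u
open AlgebraicGeometry CategoryTheory Limits TopologicalSpace Opposite

namespace Groth.Agent.Lib.Helper18.SymQC

open Groth.Agent.Lib.Helper18.SymLoc Groth.Agent.Lib.Helper49 RelSpec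

variable {S : Scheme.{u}}

/-- the structure morphism of a relative spectrum is `π.app U = str ≫ gammaAff⁻¹` over affines -/
theorem π_app_eq (A : QCAlg S) (U : S.Opens) (hU : IsAffineOpen U) :
    haveI := isIso_gammaAff' A U hU
    A.π.app U = A.str.app (op U) ≫ inv (A.gammaAff U hU) := by
  haveI := isIso_gammaAff' A U hU
  rw [← A.π_app_gammaAff U hU, Category.assoc, IsIso.hom_inv_id, Category.comp_id]

/-- a ring-hom property of the structure maps of `A` over affines passes to `Spec(A) → S` -/
theorem locallyOfFiniteType_π (A : QCAlg S)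
    (h : ∀ (U : S.Opens) (_ : IsAffineOpen U), (A.str.app (op U)).hom.FiniteType) :
    LocallyOfFiniteType A.π := by
  rw [HasRingHomProperty.iff_exists_appLE (P := @LocallyOfFiniteType)
    (RingHom.finiteType_stableUnderComposition.stableUnderCompositionWithLocalizationAway
      RingHom.finiteType_holdsForLocalizationAway).left]
  intro y
  obtain ⟨_, ⟨U, hU, rfl⟩, hyU, -⟩ :=
    S.isBasis_affineOpens.exists_subset_of_mem_open (Set.mem_univ (A.π y)) isOpen_univ
  refine ⟨⟨U, hU⟩, ⟨A.π ⁻¹ᵁ U, hU.preimage A.π⟩, hyU, le_rfl, ?_⟩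
  rw [← Scheme.Hom.app_eq_appLE]
  haveI := isIso_gammaAff' A U hU
  rw [π_app_eq A U hU, CommRingCat.hom_comp]
  refine RingHom.FiniteType.comp ?_ (h U hU)
  exact RingHom.FiniteType.of_surjective _
    ((ConcreteCategory.isIso_iff_bijective (inv (A.gammaAff U hU))).mp inferInstance).2

variable (E : S.Modules) [E.IsQuasicoherent] (A : QCAlg S) (j : E ⟶ A.toModule)

theorem str_eq_liftU_comp (U : S.Opens) :
    (A.str.app (op U)).hom = (liftU E A j U).comp
      (algebraMap Γ(S, U) (SymmetricAlgebra Γ(S, U) Γ(E, U))) := by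
  ext r
  exact (liftU_algebraMap E A j U r).symm

theorem finiteType_str (hA : IsSymAlg E A j) (U : S.Opens) (hU : IsAffineOpen U)
    [Module.Finite Γ(S, U) Γ(E, U)] : (A.str.app (op U)).hom.FiniteType := by
  rw [str_eq_liftU_comp E A j U]
  refine RingHom.FiniteType.comp (RingHom.FiniteType.of_surjective _
    (bijective_liftU E A j hA U hU).2) ?_
  rw [RingHom.finiteType_algebraMap]
  exact Groth.Agent.Lib.Helper62.SymKaehler.finiteType _ _

end Groth.Agent.Lib.Helper18.SymQC
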