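import Mathlib
import Groth.Agent.Lib.Helper49.QcqsModules

/-!
# Subsheaves of `O_X`-modules given by local families of submodules

Shared library of helper18. `LSub F` is a family of submodules `K(U) ⊆ Γ(F, U)` stable under
restriction and local (membership can be checked on an open cover); such families are exactly the
sub-`O_X`-modules of `F`. `LSub.toModules` is the corresponding `X.Modules`, with the
monomorphism `LSub.ι` into `F`.
-/

set_option autoImplicit false
universe u
open CategoryTheory CategoryTheory.Limits AlgebraicGeometry TopologicalSpace Opposite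
open Groth.Agent.Lib.Helper49 Groth.Agent.Lib.Helper45

namespace Groth.Agent.Lib.Helper18.LSubM

variable {X : Scheme.{u}}

/-- A subsheaf of an `O_X`-module, given concretely as a family of submodules of the modules of
sections, stable under restriction and local. -/
structure LSub (F : X.Modules) where
  obj : ∀ U : X.Opens, Submodule Γ(X, U) Γ(F, U)
  res_mem : ∀ {U V : X.Opens} (h : V ≤ U) {t : Γ(F, U)}, t ∈ obj U → mres F h t ∈ obj V
  isLocal : ∀ (U : X.Opens) (t : Γ(F, U)),
    (∀ x ∈ U, ∃ (V : X.Opens) (h : V ≤ U), x ∈ V ∧ mres F h t ∈ obj V) → t ∈ obj U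

namespace LSub

variable {F : X.Modules} (S : LSub F)

/-- The underlying Mathlib submodule family. -/
noncomputable def toPSub : PresheafOfModules.Submodule F.val where
  obj U := S.obj U.unop
  map {U V} f := by
    intro t ht
    exact S.res_mem (leOfHom f.unop) ht

theorem isSheaf : Presheaf.IsSheaf (Opens.grothendieckTopology X)
    S.toPSub.toPresheafOfModules.presheaf := by
  change TopCat.Presheaf.IsSheaf _
  rw [TopCat.Presheaf.isSheaf_iff_isSheafUniqueGluing]
  intro ι U sf hsf
  let sf' : ∀ i, Γ(F, U i) := fun i => (show ↥(S.obj (U i)) from sf i).1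
  have hsf'mem : ∀ i, sf' i ∈ S.obj (U i) := fun i => (show ↥(S.obj (U i)) from sf i).2
  have hcompat : TopCat.Presheaf.IsCompatible F.presheaf U sf' := by
    intro i j
    exact congrArg Subtype.val (hsf i j)
  obtain ⟨s, hs, hsu⟩ := TopCat.Sheaf.existsUnique_gluing ⟨F.presheaf, F.isSheaf⟩ U sf' hcompat
  have hsmem : s ∈ S.obj (iSup U) := by
    apply S.isLocal
    intro x hx
    obtain ⟨i, hi⟩ := Opens.mem_iSup.mp hx
    refine ⟨U i, le_iSup U i, hi, ?_⟩
    have := hs i
    change mres F _ s = sf' i at this
    rw [this]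
    exact hsf'mem i
  refine ⟨(show ↥(S.obj (iSup U)) from ⟨s, hsmem⟩), ?_, ?_⟩
  · intro i
    apply Subtype.ext
    exact hs i
  · intro s' hs'
    apply Subtype.ext
    apply hsu
    intro i
    exact congrArg Subtype.val (hs' i)

/-- The sheaf of modules associated with a local family of submodules. -/
noncomputable def toModules : X.Modules :=
  (⟨S.toPSub.toPresheafOfModules, S.isSheaf⟩ : SheafOfModules X.ringCatSheaf)

/-- The inclusion into the ambient module. -/
noncomputable def ι : S.toModules ⟶ F :=
  (⟨S.toPSub.ι⟩ : SheafOfModules.Hom _ _)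

instance : Mono S.ι := by
  have : Mono ((SheafOfModules.forget _).map S.ι) := by
    change Mono S.toPSub.ι
    infer_instance
  exact Functor.mono_of_mono_map (SheafOfModules.forget _) this

theorem ι_app_mem (U : X.Opens) (s : Γ(S.toModules, U)) : S.ι.app U s ∈ S.obj U :=
  (show ↥(S.obj U) from s).2

/-- Sections of the associated module from sections of the family. -/
noncomputable def sec (U : X.Opens) (t : Γ(F, U)) (ht : t ∈ S.obj U) : Γ(S.toModules, U) :=
  (show ↥(S.obj U) from ⟨t, ht⟩)

@[simp] theorem ι_app_sec (U : X.Opens) (t : Γ(F, U)) (ht : t ∈ S.obj U) :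
    S.ι.app U (S.sec U t ht) = t := rfl

theorem ι_app_injective (U : X.Opens) : Function.Injective (S.ι.app U) := by
  intro a b hab
  exact Subtype.ext hab

theorem range_ι_app (U : X.Opens) : Set.range (S.ι.app U) = (S.obj U : Set Γ(F, U)) := by
  ext t
  constructor
  · rintro ⟨s, rfl⟩
    exact S.ι_app_mem U s
  · intro ht
    exact ⟨S.sec U t ht, rfl⟩

theorem ι_app_mres {U V : X.Opens} (h : V ≤ U) (s : Γ(S.toModules, U)) :
    S.ι.app V (mres S.toModules h s) = mres F h (S.ι.app U s) := rfl

theorem ι_app_smul (U : X.Opens) (r : Γ(X, U)) (s : Γ(S.toModules, U)) :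
    S.ι.app U (r • s) = r • S.ι.app U s := rfl

/-- Sections over `U` of the associated module form a finite module as soon as the submodule
`K(U)` is finitely generated. -/
theorem finite_sections (U : X.Opens) (h : (S.obj U).FG) :
    Module.Finite Γ(X, U) Γ(S.toModules, U) := by
  have : Module.Finite Γ(X, U) ↥(S.obj U) := Module.Finite.iff_fg.mpr h
  let φ : ↥(S.obj U) →ₗ[Γ(X, U)] Γ(S.toModules, U) :=
    { toFun := fun t => S.sec U t.1 t.2
      map_add' := fun _ _ => rfl
      map_smul' := fun _ _ => rfl }
  refine Module.Finite.of_surjective φ fun s => ?_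
  exact ⟨⟨S.ι.app U s, S.ι_app_mem U s⟩, rfl⟩

section Lattice

/-- Two families with the same values are equal. -/
theorem ext' {S T : LSub F} (h : ∀ U, S.obj U = T.obj U) : S = T := by
  cases S; cases T
  congr 1
  funext U
  exact h U

instance : PartialOrder (LSub F) where
  le S T := ∀ U, S.obj U ≤ T.obj U
  le_refl _ _ := le_rfl
  le_trans _ _ _ h₁ h₂ U := (h₁ U).trans (h₂ U)
  le_antisymm _ _ h₁ h₂ := ext' fun U => le_antisymm (h₁ U) (h₂ U)

theorem le_def {S T : LSub F} : S ≤ T ↔ ∀ U, S.obj U ≤ T.obj U := Iff.rfl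

/-- The whole module as a family. -/
noncomputable def top (F : X.Modules) : LSub F where
  obj _ := ⊤
  res_mem _ _ _ := Submodule.mem_top
  isLocal _ _ _ := Submodule.mem_top

/-- Intersection of two families. -/
noncomputable def inf (S T : LSub F) : LSub F where
  obj U := S.obj U ⊓ T.obj U
  res_mem h _ ht := ⟨S.res_mem h ht.1, T.res_mem h ht.2⟩
  isLocal U t H := by
    refine ⟨S.isLocal U t fun x hx => ?_, T.isLocal U t fun x hx => ?_⟩
    · obtain ⟨V, h, hxV, hm⟩ := H x hx
      exact ⟨V, h, hxV, hm.1⟩
    · obtain ⟨V, h, hxV, hm⟩ := H x hx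
      exact ⟨V, h, hxV, hm.2⟩

@[simp] theorem inf_obj (S T : LSub F) (U : X.Opens) : (S.inf T).obj U = S.obj U ⊓ T.obj U := rfl

/-- Intersection of an arbitrary set of families. -/
noncomputable def sInf (c : Set (LSub F)) : LSub F where
  obj U := ⨅ S ∈ c, (S : LSub F).obj U
  res_mem h _ ht := by
    simp only [Submodule.mem_iInf] at ht ⊢
    exact fun S hS => S.res_mem h (ht S hS)
  isLocal U t H := by
    simp only [Submodule.mem_iInf]
    intro S hS
    refine S.isLocal U t fun x hx => ?_
    obtain ⟨V, h, hxV, hm⟩ := H x hx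
    simp only [Submodule.mem_iInf] at hm
    exact ⟨V, h, hxV, hm S hS⟩

theorem mem_sInf_obj {c : Set (LSub F)} {U : X.Opens} {t : Γ(F, U)} :
    t ∈ (sInf c).obj U ↔ ∀ S ∈ c, t ∈ (S : LSub F).obj U := by
  simp only [sInf, Submodule.mem_iInf]

end Lattice

end LSub

end Groth.Agent.Lib.Helper18.LSubM
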