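import Mathlib
import Groth.Agent.Lib.Helper18.LSub
import Groth.Agent.Lib.Helper18.LSubFactor

/-!
# Sections of a coproduct of `O_X`-modules are locally finite sums (helper18)
-/

set_option autoImplicit false
set_option linter.style.haveILetI false
universe u
open AlgebraicGeometry CategoryTheory Limits TopologicalSpace Opposite

namespace Groth.Agent.Lib.Helper18.CoprodLocal

open Groth.Agent.Lib.Helper18.LSubM Groth.Agent.Lib.Helper49 Groth.Agent.Lib.Helper45

variable {X : Scheme.{u}}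

/-- a morphism of modules on sections, as a linear map -/
noncomputable def appL {M N : X.Modules} (φ : M ⟶ N) (U : X.Opens) :
    Γ(M, U) →ₗ[Γ(X, U)] Γ(N, U) where
  toFun := φ.app U
  map_add' := map_add _
  map_smul' r m := Scheme.Modules.Hom.app_smul φ r m

@[simp] theorem appL_apply {M N : X.Modules} (φ : M ⟶ N) (U : X.Opens) (m : Γ(M, U)) :
    appL φ U m = φ.app U m := rfl

variable {κ : Type u} (P : κ → X.Modules)

/-- finite sums of sections of the summands -/
noncomputable def finSub (W : X.Opens) : Submodule Γ(X, W) Γ(∐ P, W) :=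
  ⨆ k, LinearMap.range (appL (Sigma.ι P k) W)

theorem ι_mem_finSub (k : κ) (W : X.Opens) (a : Γ(P k, W)) :
    (Sigma.ι P k).app W a ∈ finSub P W :=
  Submodule.mem_iSup_of_mem k ⟨a, rfl⟩

theorem mres_mem_finSub {V W : X.Opens} (h : W ≤ V) {t : Γ(∐ P, V)} (ht : t ∈ finSub P V) :
    mres (∐ P) h t ∈ finSub P W := by
  refine Submodule.iSup_induction (fun k => LinearMap.range (appL (Sigma.ι P k) V))
    (motive := fun t => mres (∐ P) h t ∈ finSub P W) ht ?_ ?_ ?_
  · rintro k _ ⟨a, rfl⟩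
    have : mres (∐ P) h ((Sigma.ι P k).app V a) = (Sigma.ι P k).app W (mres (P k) h a) :=
      (app_mres (Sigma.ι P k) h a).symm
    rw [appL_apply, this]
    exact ι_mem_finSub P k W _
  · rw [map_zero]
    exact Submodule.zero_mem _
  · intro a b ha hb
    rw [map_add]
    exact Submodule.add_mem _ ha hb

/-- the subsheaf of sections which are locally finite sums -/
noncomputable def G : LSub (∐ P) where
  obj T :=
    { carrier := {t | ∀ x ∈ T, ∃ (D : X.Opens) (hD : D ≤ T), x ∈ D ∧ mres (∐ P) hD t ∈ finSub P D}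
      zero_mem' := fun x hx => ⟨T, le_rfl, hx, by rw [map_zero]; exact Submodule.zero_mem _⟩
      add_mem' := by
        intro s t hs ht x hx
        obtain ⟨D₁, h₁, hx₁, e₁⟩ := hs x hx
        obtain ⟨D₂, h₂, hx₂, e₂⟩ := ht x hx
        refine ⟨D₁ ⊓ D₂, inf_le_left.trans h₁, ⟨hx₁, hx₂⟩, ?_⟩
        have e₁' := mres_mem_finSub P (inf_le_left : D₁ ⊓ D₂ ≤ D₁) e₁
        have e₂' := mres_mem_finSub P (inf_le_right : D₁ ⊓ D₂ ≤ D₂) e₂
        rw [mres_mres] at e₁' e₂'
        rw [map_add]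
        exact Submodule.add_mem _ e₁' e₂'
      smul_mem' := by
        intro c t ht x hx
        obtain ⟨D, h, hxD, e⟩ := ht x hx
        refine ⟨D, h, hxD, ?_⟩
        rw [mres_smul]
        exact Submodule.smul_mem _ _ e }
  res_mem := by
    intro U T h t ht x hx
    obtain ⟨D, hD, hxD, e⟩ := ht x (h hx)
    refine ⟨D ⊓ T, inf_le_right, ⟨hxD, hx⟩, ?_⟩
    have e' := mres_mem_finSub P (inf_le_left : D ⊓ T ≤ D) e
    rw [mres_mres] at e'
    rw [mres_mres]
    exact e'
  isLocal := by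
    intro U t H x hx
    obtain ⟨T, hTU, hxT, hm⟩ := H x hx
    obtain ⟨D, hD, hxD, e⟩ := hm x hxT
    refine ⟨D, hD.trans hTU, hxD, ?_⟩
    rw [mres_mres] at e
    exact e

theorem ι_mem_G (k : κ) (W : X.Opens) (a : Γ(P k, W)) : (Sigma.ι P k).app W a ∈ (G P).obj W :=
  fun x hx => ⟨W, le_rfl, hx, by rw [mres_self]; exact ι_mem_finSub P k W a⟩

/-- **Every section of a coproduct is locally a finite sum of sections of the summands.** -/
theorem mem_G (V : X.Opens) (t : Γ(∐ P, V)) : t ∈ (G P).obj V := by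
  have hfac : ∀ k, ∃ φ : P k ⟶ (G P).toModules, φ ≫ (G P).ι = Sigma.ι P k := by
    intro k
    refine exists_factor (Sigma.ι P k) (G P).ι (fun W a y hy => ?_)
    exact ⟨W, le_rfl, hy, (G P).sec W _ (ι_mem_G P k W a), by rw [LSub.ι_app_sec, mres_self]⟩
  choose φ hφ using hfac
  let σ : ∐ P ⟶ (G P).toModules := Sigma.desc φ
  have hσ : σ ≫ (G P).ι = 𝟙 _ := by
    apply Sigma.hom_ext
    intro k
    rw [← Category.assoc, Sigma.ι_desc, hφ, Category.comp_id]
  have h1 : (G P).ι.app V (σ.app V t) = t := by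
    have := congrArg (fun g => g.app V t) hσ
    exact this
  rw [← h1]
  exact (G P).ι_app_mem V _

theorem exists_finset (V : X.Opens) (t : Γ(∐ P, V)) (x : X) (hx : x ∈ V) :
    ∃ (W : X.Opens) (h : W ≤ V) (T : Finset κ), x ∈ W ∧
      mres (∐ P) h t ∈ ⨆ k ∈ T, LinearMap.range (appL (Sigma.ι P k) W) := by
  obtain ⟨W, h, hxW, hm⟩ := mem_G P V t x hx
  obtain ⟨T, hT⟩ := (Submodule.mem_iSup_iff_exists_finset).mp hm
  exact ⟨W, h, T, hxW, hT⟩

end Groth.Agent.Lib.Helper18.CoprodLocal
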