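import Mathlib
import Groth.Agent.Lib.Helper45.QCohStalk
import Groth.Agent.Lib.Helper49.StalkExact

/-!
# Epimorphisms of quasi-coherent modules are surjective on sections over affine opens (helper18)
-/

set_option autoImplicit false
set_option linter.style.haveILetI false
universe u
open AlgebraicGeometry CategoryTheory Limits TopologicalSpace Opposite

namespace Groth.Agent.Lib.Helper18.EpiAffine

open Groth.Agent.Lib.Helper45 Groth.Agent.Lib.Helper49

variable {X : Scheme.{u}}

attribute [local instance] Helper45.stalkModuleSections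

/-- **An epimorphism of quasi-coherent modules is surjective on sections over affine opens.** -/
theorem app_surjective_of_epi {E F : X.Modules} [E.IsQuasicoherent] [F.IsQuasicoherent]
    (v : E ⟶ F) [Epi v] {U : X.Opens} (hU : IsAffineOpen U) : Function.Surjective (v.app U) := by
  intro s
  let I : Ideal Γ(X, U) :=
    { carrier := {r | ∃ e : Γ(E, U), v.app U e = r • s}
      add_mem' := by
        rintro a b ⟨e₁, h₁⟩ ⟨e₂, h₂⟩
        exact ⟨e₁ + e₂, by rw [map_add, h₁, h₂, add_smul]⟩
      zero_mem' := ⟨0, by rw [map_zero, zero_smul]⟩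
      smul_mem' := by
        rintro c a ⟨e, h⟩
        exact ⟨c • e, by rw [Scheme.Modules.Hom.app_smul, h, smul_eq_mul, mul_smul]⟩ }
  suffices hI : I = ⊤ by
    have h1 : (1 : Γ(X, U)) ∈ I := hI ▸ Submodule.mem_top
    obtain ⟨e, he⟩ := h1
    exact ⟨e, by rw [he, one_smul]⟩
  by_contra hne
  obtain ⟨m, hm, hle⟩ := Ideal.exists_le_maximal _ hne
  obtain ⟨x, hx⟩ := exists_primeIdealOf_eq hU ⟨m, hm.isPrime⟩
  have hxm : (hU.primeIdealOf x).asIdeal = m := congrArg PrimeSpectrum.asIdeal hx
  have hE := isLocalizedModule_germₗ hU E x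
  have hF := isLocalizedModule_germₗ hU F x
  obtain ⟨t, ht⟩ := stalkMap_surjective_of_epi v (x : X) (germₗ F x s)
  obtain ⟨⟨e, c⟩, hec⟩ := IsLocalizedModule.surj (hU.primeIdealOf x).asIdeal.primeCompl
    (germₗ E x) t
  -- `c • t = germ e`
  have h1 : germₗ F x ((c : Γ(X, U)) • s) = germₗ F x (v.app U e) := by
    rw [map_smul, ← ht, ← stalkMapₗ_apply, ← map_smul]
    have : (c : Γ(X, U)) • t = germₗ E x e := hec
    rw [this, stalkMapₗ_apply]
    exact stalkMap_germ v U x x.2 e
  obtain ⟨c', hc'⟩ := (IsLocalizedModule.eq_iff_exists (hU.primeIdealOf x).asIdeal.primeCompl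
    (germₗ F x)).mp h1
  have hmem : (c' : Γ(X, U)) * (c : Γ(X, U)) ∈ I := by
    refine ⟨(c' : Γ(X, U)) • e, ?_⟩
    rw [Scheme.Modules.Hom.app_smul, mul_smul]
    exact hc'.symm
  have hm' : (c' : Γ(X, U)) * (c : Γ(X, U)) ∈ m := hle hmem
  rcases hm.isPrime.mem_or_mem hm' with h | h
  · exact c'.2 (hxm ▸ h)
  · exact c.2 (hxm ▸ h)

end Groth.Agent.Lib.Helper18.EpiAffine
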