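import Mathlib
import Groth.Agent.Lib.Helper18.LSubQcqs
import Groth.Agent.Lib.Helper18.LSubFactor
import Groth.Agent.Lib.Helper49.StalkExact
import Groth.Agent.Lib.Helper49.QCohLocal
import Groth.Agent.Lib.Helper49.FiniteTypeLocal

/-!
# The image subsheaf of a morphism of `O_X`-modules

`LSub.ofImage g` is the image of `g : A ⟶ F` as a local family of submodules of `F`; when `A` is
quasi-coherent of finite type and `F` is quasi-coherent it is quasi-coherent of finite type
(`LSub.ofImage_isQFT`).
-/
set_option autoImplicit false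
universe u
open CategoryTheory CategoryTheory.Limits AlgebraicGeometry TopologicalSpace Opposite

namespace Groth.Agent.Lib.Helper18.LSubM

open Groth.Agent.Lib.Helper49 Groth.Agent.Lib.Helper45

variable {X : Scheme.{u}}

namespace LSub

/-- The image subsheaf of a morphism: sections which are locally in the image. -/
noncomputable def ofImage {A F : X.Modules} (g : A ⟶ F) : LSub F where
  obj T :=
    { carrier := {t | ∀ x ∈ T, ∃ (D : X.Opens) (hD : D ≤ T), x ∈ D ∧
        ∃ a : Γ(A, D), g.app D a = mres F hD t}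
      zero_mem' := fun x hx => ⟨T, le_rfl, hx, 0, by rw [map_zero, map_zero]⟩
      add_mem' := by
        intro s t hs ht x hx
        obtain ⟨D₁, h₁, hx₁, a₁, e₁⟩ := hs x hx
        obtain ⟨D₂, h₂, hx₂, a₂, e₂⟩ := ht x hx
        refine ⟨D₁ ⊓ D₂, inf_le_left.trans h₁, ⟨hx₁, hx₂⟩,
          mres A inf_le_left a₁ + mres A inf_le_right a₂, ?_⟩
        have e₁' := congrArg (mres F (inf_le_left : D₁ ⊓ D₂ ≤ D₁)) e₁
        have e₂' := congrArg (mres F (inf_le_right : D₁ ⊓ D₂ ≤ D₂)) e₂
        rw [mres_mres, ← app_mres] at e₁' e₂'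
        rw [map_add, map_add, e₁', e₂']
      smul_mem' := by
        intro c t ht x hx
        obtain ⟨D, h, hxD, a, e⟩ := ht x hx
        refine ⟨D, h, hxD, fres h c • a, ?_⟩
        rw [mres_smul, ← e, Scheme.Modules.Hom.app_smul] }
  res_mem := by
    intro U T h t ht x hx
    obtain ⟨D, hD, hxD, a, e⟩ := ht x (h hx)
    refine ⟨D ⊓ T, inf_le_right, ⟨hxD, hx⟩, mres A inf_le_left a, ?_⟩
    have e' := congrArg (mres F (inf_le_left : D ⊓ T ≤ D)) e
    rw [mres_mres, ← app_mres] at e'
    rw [mres_mres, e']
  isLocal := by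
    intro U t H x hx
    obtain ⟨T, hTU, hxT, hm⟩ := H x hx
    obtain ⟨D, hD, hxD, a, e⟩ := hm x hxT
    refine ⟨D, hD.trans hTU, hxD, a, ?_⟩
    rw [mres_mres] at e
    exact e

theorem app_mem_ofImage {A F : X.Modules} (g : A ⟶ F) (U : X.Opens) (a : Γ(A, U)) :
    g.app U a ∈ (ofImage g).obj U :=
  fun x hx => ⟨U, le_rfl, hx, a, by rw [mres_self]⟩

theorem mem_ofImage_iff {A F : X.Modules} (g : A ⟶ F) (U : X.Opens) (t : Γ(F, U)) :
    t ∈ (ofImage g).obj U ↔ ∀ x ∈ U, ∃ (D : X.Opens) (hD : D ≤ U), x ∈ D ∧
        ∃ a : Γ(A, D), g.app D a = mres F hD t := Iff.rfl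

/-- The image subsheaf is isomorphic to the categorical image. -/
theorem exists_iso_image {A F : X.Modules} (g : A ⟶ F) :
    ∃ e : (ofImage g).toModules ≅ Abelian.image g, e.hom ≫ Abelian.image.ι g = (ofImage g).ι := by
  apply exists_iso_of_factor
  · intro W a' y hy
    obtain ⟨D, hD, hyD, a, e⟩ := (ofImage g).ι_app_mem W a' y hy
    refine ⟨D, hD, hyD, (Abelian.factorThruImage g).app D a, ?_⟩
    rw [← e]
    change (Abelian.factorThruImage g ≫ Abelian.image.ι g).app D a = g.app D a
    rw [Abelian.image.fac]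
  · intro W b y hy
    have hepi : Epi (Abelian.factorThruImage g) := inferInstance
    obtain ⟨V, hVW, hyV, m, hm⟩ := exists_app_eq_of_epi (Abelian.factorThruImage g) W b y hy
    have hmem : mres F hVW ((Abelian.image.ι g).app W b) ∈ (ofImage g).obj V := by
      have : mres F hVW ((Abelian.image.ι g).app W b) = g.app V m := by
        rw [← app_mres, mres_apply, ← hm]
        change (Abelian.factorThruImage g ≫ Abelian.image.ι g).app V m = g.app V m
        rw [Abelian.image.fac]
      rw [this]
      exact app_mem_ofImage g V m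
    exact ⟨V, hVW, hyV, (ofImage g).sec V _ hmem, (ofImage g).ι_app_sec V _ hmem⟩

/-- The image of a morphism of quasi-coherent modules is quasi-coherent. -/
theorem ofImage_isQuasicoherent {A F : X.Modules} [F.IsQuasicoherent] [A.IsQuasicoherent]
    (g : A ⟶ F) : (ofImage g).toModules.IsQuasicoherent := by
  obtain ⟨e, -⟩ := exists_iso_image g
  have hc : (cokernel g).IsQuasicoherent := isQuasicoherent_cokernel g inferInstance inferInstance
  have hq : (Abelian.image g).IsQuasicoherent :=
    isQuasicoherent_kernel (cokernel.π g) inferInstance hc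
  exact isQuasicoherent_of_iso e.symm hq

/-- The image of a quasi-coherent module of finite type in a quasi-coherent module is
quasi-coherent of finite type. -/
theorem ofImage_isQFT {A F : X.Modules} [F.IsQuasicoherent] [A.IsQuasicoherent]
    (hA : SheafOfModules.IsFiniteType (R := X.ringCatSheaf) A) (g : A ⟶ F) :
    (ofImage g).IsQFT := by
  obtain ⟨e, -⟩ := exists_iso_image g
  have hc : (cokernel g).IsQuasicoherent := isQuasicoherent_cokernel g inferInstance inferInstance
  have hq : (Abelian.image g).IsQuasicoherent :=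
    isQuasicoherent_kernel (cokernel.π g) inferInstance hc
  have hepi : Epi (Abelian.factorThruImage g) := inferInstance
  have hft : SheafOfModules.IsFiniteType (R := X.ringCatSheaf) (Abelian.image g) :=
    @isFiniteType_of_epi X A (Abelian.image g) (Abelian.factorThruImage g) hepi hA
  exact isQFT_of_qcoh_ft _ (isQuasicoherent_of_iso e.symm hq) (isFiniteType_of_iso e.symm hft)

end LSub

end Groth.Agent.Lib.Helper18.LSubM
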