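import Mathlib
import Groth.Agent.Lib.Helper18.CoprodLocal
import Groth.Agent.Lib.Helper18.LSubImage
import Groth.Agent.Lib.Helper18.EpiAffine
import Groth.Agent.Lib.Helper18.FPPullEpi
import Groth.Agent.Lib.Helper49.QCohLocal

/-!
# An epimorphism from a coproduct onto a module of finite type on a quasi-compact scheme
is already an epimorphism on a finite sub-coproduct (helper18)
-/

set_option autoImplicit false
set_option linter.style.haveILetI false
universe u
open AlgebraicGeometry CategoryTheory Limits TopologicalSpace Opposite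

namespace Groth.Agent.Lib.Helper18.CoprodLocal

open Groth.Agent.Lib.Helper18.LSubM Groth.Agent.Lib.Helper49 Groth.Agent.Lib.Helper45

variable {X : Scheme.{u}} {κ : Type u} (P : κ → X.Modules) {F : X.Modules} (π : ∐ P ⟶ F)

/-- `π` restricted to a finite sub-coproduct -/
noncomputable def piT (T : Finset κ) : (∐ fun k : T => P k.1) ⟶ F :=
  Sigma.desc (fun k : T => Sigma.ι P k.1 ≫ π)

theorem ι_piT (T : Finset κ) (k : T) :
    Sigma.ι (fun k : T => P k.1) k ≫ piT P π T = Sigma.ι P k.1 ≫ π :=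
  Sigma.ι_desc _ _

theorem mem_range_piT {T : Finset κ} {W : X.Opens} {t : Γ(∐ P, W)}
    (ht : t ∈ ⨆ k ∈ T, LinearMap.range (appL (Sigma.ι P k) W)) :
    π.app W t ∈ Set.range ((piT P π T).app W) := by
  refine Submodule.iSup_induction (fun k => ⨆ (_ : k ∈ T), LinearMap.range (appL (Sigma.ι P k) W))
    (motive := fun t => π.app W t ∈ Set.range ((piT P π T).app W)) ht ?_ ?_ ?_
  · intro k x hx
    refine Submodule.iSup_induction (fun _ : k ∈ T => LinearMap.range (appL (Sigma.ι P k) W))
      (motive := fun t => π.app W t ∈ Set.range ((piT P π T).app W)) hx ?_ ?_ ?_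
    · rintro hk _ ⟨a, rfl⟩
      refine ⟨(Sigma.ι (fun k : T => P k.1) ⟨k, hk⟩).app W a, ?_⟩
      have := congrArg (fun g => g.app W a) (ι_piT P π T ⟨k, hk⟩)
      exact this
    · exact ⟨0, by rw [map_zero, map_zero]⟩
    · rintro a b ⟨a', ha'⟩ ⟨b', hb'⟩
      exact ⟨a' + b', by rw [map_add, map_add, ha', hb']⟩
  · exact ⟨0, by rw [map_zero, map_zero]⟩
  · rintro a b ⟨a', ha'⟩ ⟨b', hb'⟩
    exact ⟨a' + b', by rw [map_add, map_add, ha', hb']⟩

theorem iSup_mono_finset {T T' : Finset κ} (h : T ⊆ T') (W : X.Opens) :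
    (⨆ k ∈ T, LinearMap.range (appL (Sigma.ι P k) W)) ≤
      ⨆ k ∈ T', LinearMap.range (appL (Sigma.ι P k) W) :=
  biSup_mono (fun _ hk => h hk)

/-- a section of `F` which lifts to the coproduct over a quasi-compact open is locally in the
image of a finite sub-coproduct -/
theorem exists_finset_mem_ofImage {U : X.Opens} (hU : IsCompact (U : Set X)) (t : Γ(∐ P, U)) :
    ∃ T : Finset κ, ∀ T' : Finset κ, T ⊆ T' → π.app U t ∈ (LSub.ofImage (piT P π T')).obj U := by
  classical
  choose W hW T hxW hm using fun x : U => exists_finset P U t x.1 x.2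
  obtain ⟨s, hs⟩ := hU.elim_finite_subcover (fun x : U => ((W x : X.Opens) : Set X))
    (fun x => (W x).2) (fun x hx => Set.mem_iUnion.mpr ⟨⟨x, hx⟩, hxW ⟨x, hx⟩⟩)
  refine ⟨s.biUnion T, fun T' hT' x hx => ?_⟩
  obtain ⟨y, hy⟩ := Set.mem_iUnion.mp (hs hx)
  obtain ⟨hys, hxy⟩ := Set.mem_iUnion.mp hy
  have hsub : T y ⊆ T' := fun k hk => hT' (Finset.mem_biUnion.mpr ⟨y, hys, hk⟩)
  obtain ⟨a, ha⟩ := mem_range_piT P π (iSup_mono_finset P hsub (W y) (hm y))
  refine ⟨W y, hW y, hxy, a, ?_⟩
  rw [ha]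
  exact app_mres π (hW y) t

variable [F.IsQuasicoherent] [∀ k, (P k).IsQuasicoherent]

theorem isQuasicoherent_sigma : (∐ P).IsQuasicoherent :=
  isQuasicoherent_colimit (Discrete.functor P) (fun j => by
    change (P j.as).IsQuasicoherent
    infer_instance)

/-- over an affine open with finitely generated sections, a finite sub-coproduct suffices -/
theorem exists_finset_ofImage_eq_top [Epi π] {U : X.Opens} (hU : IsAffineOpen U)
    [Module.Finite Γ(X, U) Γ(F, U)] :
    ∃ T : Finset κ, ∀ T' : Finset κ, T ⊆ T' → (LSub.ofImage (piT P π T')).obj U = ⊤ := by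
  classical
  have _ : (∐ P).IsQuasicoherent := isQuasicoherent_sigma P
  obtain ⟨S, hS⟩ := (Module.Finite.fg_top : (⊤ : Submodule Γ(X, U) Γ(F, U)).FG)
  have hsurj := EpiAffine.app_surjective_of_epi π hU
  choose lift hlift using hsurj
  choose T hT using fun s : Γ(F, U) => exists_finset_mem_ofImage P π hU.isCompact (lift s)
  refine ⟨S.biUnion T, fun T' hT' => ?_⟩
  rw [eq_top_iff, ← hS, Submodule.span_le]
  intro s hs
  have h1 := hT s T' (fun k hk => hT' (Finset.mem_biUnion.mpr ⟨s, hs, hk⟩))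
  rw [hlift] at h1
  exact h1

omit [∀ k, (P k).IsQuasicoherent] in
/-- a morphism whose image subsheaf is everything on an affine cover is an epimorphism -/
theorem epi_of_ofImage_eq_top {A : X.Modules} (g : A ⟶ F)
    (h : ∀ x : X, ∃ U : X.Opens, IsAffineOpen U ∧ x ∈ U ∧ (LSub.ofImage g).obj U = ⊤) : Epi g := by
  have h1 : Epi (LSub.ofImage g).ι := by
    refine FPPullEpi.epi_of_app_surjective_affine _ (fun x => ?_)
    obtain ⟨U, hU, hxU, htop⟩ := h x
    refine ⟨U, hU, hxU, fun t => ?_⟩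
    have ht : t ∈ (LSub.ofImage g).obj U := htop ▸ Submodule.mem_top
    exact ⟨(LSub.ofImage g).sec U t ht, rfl⟩
  obtain ⟨e, he⟩ := LSub.exists_iso_image g
  have h2 : Epi (Abelian.image.ι g) := by
    have h3 : Abelian.image.ι g = e.inv ≫ (LSub.ofImage g).ι := by
      rw [← he, Iso.inv_hom_id_assoc]
    rw [h3]
    infer_instance
  have h4 : g = Abelian.factorThruImage g ≫ Abelian.image.ι g := (Abelian.image.fac g).symm
  rw [h4]
  infer_instance

/-- **Finiteness.** On a quasi-compact scheme, an epimorphism from a coproduct of quasi-coherent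
modules onto a quasi-coherent module of finite type is already an epimorphism on a finite
sub-coproduct. -/
theorem exists_finset_epi [CompactSpace X] [Epi π]
    (hF : ∀ (U : X.Opens), IsAffineOpen U → Module.Finite Γ(X, U) Γ(F, U)) :
    ∃ T : Finset κ, Epi (piT P π T) := by
  classical
  obtain ⟨C, hC⟩ := FTApprox.exists_finite_affine_cover X
  have hex : ∀ U : X.affineOpens, ∃ T : Finset κ, ∀ T' : Finset κ, T ⊆ T' →
      (LSub.ofImage (piT P π T')).obj U.1 = ⊤ := fun U => by
    have := hF U.1 U.2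
    exact exists_finset_ofImage_eq_top P π U.2
  choose T hT using hex
  refine ⟨C.biUnion T, epi_of_ofImage_eq_top _ (fun x => ?_)⟩
  have hx : x ∈ (⨆ U : ↥C, (U.1 : X.affineOpens).1) := by rw [hC]; trivial
  obtain ⟨U, hxU⟩ := Opens.mem_iSup.mp hx
  exact ⟨U.1.1, U.1.2, hxU, hT U.1 _ (fun k hk => Finset.mem_biUnion.mpr ⟨U.1, U.2, hk⟩)⟩

end Groth.Agent.Lib.Helper18.CoprodLocal
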