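import Groth.Agent.Lib.Helper18.LSubQcqs
import Groth.Agent.Lib.Helper49.QCAlgModule

/-!
# Quasi-coherent algebras generated by a quasi-coherent submodule

Shared library of helper18 (namespace `Groth.Agent.Lib.Helper18.LSubM`).
`gen B E U`: the subring of `B(U)` generated by the functions and the sections of `E ⊆ B`;
`gen_eq_top_of_cover`: generation can be checked on an affine cover;
`exists_isQFT_generating`: on a quasi-compact quasi-separated scheme a quasi-coherent algebra of
finite type is generated by a quasi-coherent submodule of finite type (EGA I 9.6.5).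
-/

set_option autoImplicit false
universe u v
open CategoryTheory CategoryTheory.Limits AlgebraicGeometry TopologicalSpace Opposite
open Groth.Agent.Lib.Helper49 Groth.Agent.Lib.Helper45 RelSpec

namespace Groth.Agent.Lib.Helper18.LSubM

section


variable {X : Scheme.{u}} (B : QCAlg X)

/-- Restriction of sections of a quasi-coherent algebra, as a ring map. -/
noncomputable def bres {V W : X.Opens} (h : V ≤ W) :
    B.presheaf.obj (op W) →+* B.presheaf.obj (op V) :=
  (B.presheaf.map (homOfLE h).op).hom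

/-- The structure map on sections. -/
noncomputable def bstr (U : X.Opens) : Γ(X, U) →+* B.presheaf.obj (op U) :=
  (B.str.app (op U)).hom

theorem bres_bstr {V W : X.Opens} (h : V ≤ W) (r : Γ(X, W)) :
    bres B h (bstr B W r) = bstr B V (fres h r) :=
  (str_res B (homOfLE h) r).symm

theorem bres_bres {V W Z : X.Opens} (h₁ : V ≤ W) (h₂ : W ≤ Z) (c : B.presheaf.obj (op Z)) :
    bres B h₁ (bres B h₂ c) = bres B (h₁.trans h₂) c := by
  unfold bres
  rw [← CommRingCat.comp_apply, ← Functor.map_comp]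
  rfl

/-- Sections of the algebra as sections of the underlying module. -/
def toM {U : X.Opens} (c : B.presheaf.obj (op U)) : Γ(B.toModule, U) := c

theorem toM_bres {V W : X.Opens} (h : V ≤ W) (c : B.presheaf.obj (op W)) :
    toM B (bres B h c) = mres B.toModule h (toM B c) := rfl

theorem smul_toM {U : X.Opens} (r : Γ(X, U)) (c : B.presheaf.obj (op U)) :
    r • toM B c = toM B (bstr B U r * c) := rfl

variable (E : LSub B.toModule)

/-- The subring of `B(U)` generated by the functions and the sections of `E`. -/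
noncomputable def gen (U : X.Opens) : Subring (B.presheaf.obj (op U)) :=
  Subring.closure (Set.range (bstr B U) ∪ {c | toM B c ∈ E.obj U})

theorem bstr_mem_gen (U : X.Opens) (r : Γ(X, U)) : bstr B U r ∈ gen B E U :=
  Subring.subset_closure (Or.inl ⟨r, rfl⟩)

theorem mem_gen_of_mem {U : X.Opens} {c : B.presheaf.obj (op U)} (hc : toM B c ∈ E.obj U) :
    c ∈ gen B E U :=
  Subring.subset_closure (Or.inr hc)

theorem bres_mem_gen {V W : X.Opens} (h : V ≤ W) {c : B.presheaf.obj (op W)}
    (hc : c ∈ gen B E W) : bres B h c ∈ gen B E V := by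
  have : gen B E W ≤ (gen B E V).comap (bres B h) := by
    refine Subring.closure_le.mpr ?_
    rintro c (⟨r, rfl⟩ | hc)
    · change bres B h (bstr B W r) ∈ gen B E V
      rw [bres_bstr]
      exact bstr_mem_gen B E V _
    · exact mem_gen_of_mem B E (E.res_mem h hc)
  exact this hc


end


section


variable {X : Scheme.{u}} (B : QCAlg X) (E : LSub B.toModule)

/-- Step (a): generation passes to basic opens. -/
theorem gen_basicOpen_eq_top {T : X.Opens} (hT : IsAffineOpen T) (h : Γ(X, T))
    (hgen : gen B E T = ⊤) : gen B E (X.basicOpen h) = ⊤ := by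
  rw [eq_top_iff]
  intro c _
  let _ := (B.presheaf.map (homOfLE (X.basicOpen_le h)).op).hom.toAlgebra
  have hloc : IsLocalization.Away (bstr B T h) (B.presheaf.obj (op (X.basicOpen h))) :=
    B.isQC T hT h
  obtain ⟨n, c₀, hc₀⟩ := IsLocalization.Away.surj (bstr B T h) c
  change c * (bres B (X.basicOpen_le h) (bstr B T h)) ^ n = bres B (X.basicOpen_le h) c₀ at hc₀
  rw [bres_bstr] at hc₀
  obtain ⟨u, hu⟩ := isUnit_fres_basicOpen h
  have h1 : c = bres B (X.basicOpen_le h) c₀ * bstr B _ ((↑u⁻¹ : Γ(X, X.basicOpen h)) ^ n) := by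
    rw [← hc₀, mul_assoc, ← map_pow, ← map_mul, ← hu, ← mul_pow, Units.mul_inv, one_pow, map_one,
      mul_one]
  rw [h1]
  refine Subring.mul_mem _ (bres_mem_gen B E _ ?_) (bstr_mem_gen B E _ _)
  rw [hgen]; trivial

/-- Step (b): elements of the generated subring over `D(g)` become restrictions of elements of
the generated subring over `U` after multiplication by a power of `g`. -/
theorem exists_pow_mul_eq_bres_of_mem_gen {U : X.Opens} (hU : IsAffineOpen U)
    (hE : E.Good U) (g : Γ(X, U)) (c : B.presheaf.obj (op (X.basicOpen g)))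
    (hc : c ∈ gen B E (X.basicOpen g)) :
    ∃ (n : ℕ) (a : B.presheaf.obj (op U)), a ∈ gen B E U ∧
      bstr B _ (fres (X.basicOpen_le g) g) ^ n * c = bres B (X.basicOpen_le g) a := by
  induction hc using Subring.closure_induction with
  | mem c hc =>
    rcases hc with ⟨r, rfl⟩ | hc
    · obtain ⟨k, r₀, hr₀⟩ := exists_pow_mul_eq_fres hU g r
      refine ⟨k, bstr B U r₀, bstr_mem_gen B E U r₀, ?_⟩
      rw [bres_bstr, ← hr₀, map_mul, map_pow]
    · have h1 := hE.le_spanRes E (isLocalizingOn_toModule B hU) g hc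
      obtain ⟨k, e, he, hke⟩ := exists_pow_smul_eq_mres_of_mem_spanRes hU (E.obj U) g _ h1
      refine ⟨k, e, mem_gen_of_mem B E he, ?_⟩
      have : toM B (bstr B _ (fres (X.basicOpen_le g) g) ^ k * c) =
          toM B (bres B (X.basicOpen_le g) e) := by
        rw [← map_pow, ← smul_toM]
        exact hke
      exact this
  | zero => exact ⟨0, 0, Subring.zero_mem _, by rw [mul_zero, map_zero]⟩
  | one => exact ⟨0, 1, Subring.one_mem _, by rw [pow_zero, mul_one, map_one]⟩
  | add x y _ _ hx hy =>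
    obtain ⟨n₁, a₁, ha₁, h₁⟩ := hx
    obtain ⟨n₂, a₂, ha₂, h₂⟩ := hy
    refine ⟨n₁ + n₂, bstr B U g ^ n₂ * a₁ + bstr B U g ^ n₁ * a₂,
      Subring.add_mem _ (Subring.mul_mem _ (Subring.pow_mem _ (bstr_mem_gen B E U g) _) ha₁)
        (Subring.mul_mem _ (Subring.pow_mem _ (bstr_mem_gen B E U g) _) ha₂), ?_⟩
    rw [map_add, map_mul, map_mul, map_pow, map_pow, bres_bstr, ← h₁, ← h₂]
    ring
  | neg x _ hx =>
    obtain ⟨n, a, ha, h⟩ := hx
    exact ⟨n, -a, Subring.neg_mem _ ha, by rw [mul_neg, h, map_neg]⟩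
  | mul x y _ _ hx hy =>
    obtain ⟨n₁, a₁, ha₁, h₁⟩ := hx
    obtain ⟨n₂, a₂, ha₂, h₂⟩ := hy
    refine ⟨n₁ + n₂, a₁ * a₂, Subring.mul_mem _ ha₁ ha₂, ?_⟩
    rw [map_mul, ← h₁, ← h₂]
    ring


end


section


variable {X : Scheme.{u}} (B : QCAlg X) (E : LSub B.toModule)

/-- The generated subring as a submodule over the functions. -/
noncomputable def genSub (U : X.Opens) : Submodule Γ(X, U) Γ(B.toModule, U) where
  carrier := {m | toSec' B U m ∈ gen B E U}
  zero_mem' := show (0 : B.presheaf.obj (op U)) ∈ gen B E U from Subring.zero_mem _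
  add_mem' := fun {a b} ha hb =>
    show toSec' B U a + toSec' B U b ∈ gen B E U from Subring.add_mem _ ha hb
  smul_mem' := fun r m hm =>
    show bstr B U r * toSec' B U m ∈ gen B E U from Subring.mul_mem _ (bstr_mem_gen B E U r) hm

theorem mem_genSub {U : X.Opens} {c : B.presheaf.obj (op U)} :
    toM B c ∈ genSub B E U ↔ c ∈ gen B E U := Iff.rfl

/-- Generation is local: if `E` generates `B` over the members of an affine cover, it generates
`B` over every affine open where it is good. -/
theorem gen_eq_top_of_cover (𝒰 : Set X.Opens) (h𝒰 : ∀ T ∈ 𝒰, IsAffineOpen T)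
    (hcov : ∀ x : X, ∃ T ∈ 𝒰, x ∈ T) (hgen : ∀ T ∈ 𝒰, gen B E T = ⊤)
    {U : X.Opens} (hU : IsAffineOpen U) (hE : E.Good U) : gen B E U = ⊤ := by
  rw [eq_top_iff]
  intro b _
  -- for each point a basic open where a power of `g` multiplies `b` into the generated subring
  have H : ∀ x : U, ∃ g : Γ(X, U), x.1 ∈ X.basicOpen g ∧ ∃ n : ℕ, g ^ n • toM B b ∈ genSub B E U := by
    intro x
    obtain ⟨T, hT, hxT⟩ := hcov x.1
    obtain ⟨g, h, hgh, hxg⟩ := exists_basicOpen_le_affine_inter hU (h𝒰 T hT) x.1 ⟨x.2, hxT⟩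
    refine ⟨g, hxg, ?_⟩
    have htop : gen B E (X.basicOpen g) = ⊤ := by
      rw [hgh]; exact gen_basicOpen_eq_top B E (h𝒰 T hT) h (hgen T hT)
    obtain ⟨n, a, ha, hna⟩ := exists_pow_mul_eq_bres_of_mem_gen B E hU hE g
      (bres B (X.basicOpen_le g) b) (by rw [htop]; trivial)
    -- `g^n b - a` vanishes on `D(g)`
    have h0 : mres B.toModule (X.basicOpen_le g) (g ^ n • toM B b - toM B a) = 0 := by
      rw [map_sub, mres_smul, sub_eq_zero, map_pow]
      change toM B (bstr B _ (fres (X.basicOpen_le g) g ^ n) * bres B (X.basicOpen_le g) b) =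
        toM B (bres B (X.basicOpen_le g) a)
      rw [map_pow, hna]
    obtain ⟨m, hm⟩ := (isLocalizingOn_toModule B hU).exists_pow_smul_eq_zero g _ h0
    refine ⟨m + n, ?_⟩
    rw [smul_sub, sub_eq_zero, smul_smul, ← pow_add] at hm
    rw [hm]
    exact Submodule.smul_mem _ _ ((mem_genSub B E).mpr ha)
  choose g hxg n hn using H
  have hcov' : U ≤ ⨆ a : Set.range g, X.basicOpen a.1 := by
    intro x hx
    exact Opens.mem_iSup.mpr ⟨⟨g ⟨x, hx⟩, ⟨x, hx⟩, rfl⟩, hxg ⟨x, hx⟩⟩
  have hspan : Ideal.span (Set.range g) = ⊤ := hU.self_le_iSup_basicOpen_iff.mp hcov'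
  have : toM B b ∈ genSub B E U := by
    apply Submodule.mem_of_span_eq_top_of_smul_pow_mem _ (Set.range g) hspan
    rintro ⟨_, x, rfl⟩
    exact ⟨n x, hn x⟩
  exact this


end


section

variable {X : Scheme.{u}} (B : QCAlg X)

/-- EGA I 9.6.5: on a quasi-compact quasi-separated scheme, a quasi-coherent algebra which is of
finite type over every affine open is generated by a quasi-coherent submodule of finite type. -/
theorem exists_isQFT_generating [CompactSpace X] [QuasiSeparatedSpace X]
    (hB : ∀ U : X.affineOpens, (B.str.app (op (U : X.Opens))).hom.FiniteType) :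
    ∃ E : LSub B.toModule, E.IsQFT ∧ ∀ U : X.Opens, IsAffineOpen U → gen B E U = ⊤ := by
  classical
  obtain ⟨T, hT⟩ := FTApprox.exists_finite_affine_cover X
  -- generators over the members of the cover
  have hgen : ∀ U : X.affineOpens, ∃ s : Finset (B.presheaf.obj (op U.1)),
      Subring.closure (Set.range (bstr B U.1) ∪ (s : Set (B.presheaf.obj (op U.1)))) = ⊤ := by
    intro U
    let _ : Algebra Γ(X, U.1) (B.presheaf.obj (op U.1)) := (B.str.app (op U.1)).hom.toAlgebra
    obtain ⟨s, hs⟩ := hB U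
    refine ⟨s, ?_⟩
    have h1 := congrArg Subalgebra.toSubring hs
    rw [Algebra.adjoin_eq_ring_closure] at h1
    exact h1
  choose s hs using hgen
  let ι := Σ U : X.affineOpens, B.presheaf.obj (op U.1)
  let S : Finset ι := T.sigma s
  obtain ⟨E, hE, hEmem⟩ := exists_isQFT_through_sections (F := B.toModule) S
    (fun k : ι => k.1.1) (fun k => k.1.2) (fun k => toM B k.2)
  refine ⟨E, hE, fun U hU => ?_⟩
  refine gen_eq_top_of_cover B E {W | ∃ U ∈ T, W = (U : X.affineOpens).1} ?_ ?_ ?_ hU (hE U hU).1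
  · rintro _ ⟨U, -, rfl⟩
    exact U.2
  · intro x
    have hx : x ∈ (⨆ U : ↥T, (U.1 : X.affineOpens).1) := by rw [hT]; trivial
    obtain ⟨U, hxU⟩ := Opens.mem_iSup.mp hx
    exact ⟨U.1.1, ⟨U.1, U.2, rfl⟩, hxU⟩
  · rintro _ ⟨U, hUT, rfl⟩
    rw [eq_top_iff, ← hs U]
    refine Subring.closure_mono (Set.union_subset_union_right _ ?_)
    intro c hc
    exact hEmem ⟨U, c⟩ (Finset.mem_sigma.mpr ⟨hUT, hc⟩)

end

end Groth.Agent.Lib.Helper18.LSubM
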