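import Mathlib
import Groth.Prelude.Def_RelSpec
import Groth.Prelude.Def_Coh
import Groth.Agent.Lib.Helper18.SymQC5
import Groth.Agent.Lib.Helper18.SpecMapClosed
import Groth.Agent.Lib.Helper18.AffineCan
import Groth.Agent.Lib.Helper18.QCAlgGen

/-!
# Affine morphisms of finite type embed into vector bundles (EGA II 1.7.?) (helper18)
-/

set_option autoImplicit false
set_option linter.style.haveILetI false
universe u
open AlgebraicGeometry CategoryTheory Limits TopologicalSpace Opposite

namespace Groth.Agent.Lib.Helper18.SymQC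

open Groth.Agent.Lib.Helper18.SymLoc Groth.Agent.Lib.Helper49 RelSpec
  Groth.Agent.Lib.Helper18.LSubM

variable {Y : Scheme.{u}}

/-- a quasi-coherent algebra generated by a quasi-coherent submodule is a quotient of its
symmetric algebra -/
theorem surjective_psiMap_of_gen (B : QCAlg Y) (E : LSub B.toModule) [E.toModules.IsQuasicoherent]
    (U : Y.Opens) (hU : IsAffineOpen U) (hgen : gen B E U = ⊤) :
    Function.Surjective ((psiHom E.toModules B E.ι).hom.app (op U)).hom := by
  intro b
  have hb : b ∈ gen B E U := hgen ▸ Subring.mem_top b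
  let ψ := psiHom E.toModules B E.ι
  have hle : gen B E U ≤ (ψ.hom.app (op U)).hom.range := by
    refine Subring.closure_le.mpr ?_
    rintro c (⟨r, rfl⟩ | hc)
    · refine ⟨((symAlg E.toModules).str.app (op U)).hom r, ?_⟩
      exact congrArg (fun k => k.hom r) (NatTrans.congr_app ψ.comm (op U))
    · have hc' : toM B c ∈ Set.range (E.ι.app U) := by
        rw [E.range_ι_app U]
        exact hc
      obtain ⟨s, hs⟩ := hc'
      refine ⟨toSec (symAlg E.toModules) U ((jHom E.toModules).app U s), ?_⟩
      have h1 := congrArg (fun k => toSec B U (k.app U s)) (jHom_psiHom E.toModules B E.ι)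
      exact h1.trans hs
  exact hle hb

/-- **An affine morphism of finite type to a quasi-compact quasi-separated scheme is a closed
subscheme of a vector bundle `V(E)`, `E` quasi-coherent of finite type.** -/
theorem exists_closedImmersion_vectorBundle [CompactSpace Y] [QuasiSeparatedSpace Y]
    {X : Scheme.{u}} (f : X ⟶ Y) [IsAffineHom f] [LocallyOfFiniteType f] :
    ∃ (E : Y.Modules) (_ : Coh.IsCoh E) (A : QCAlg Y) (j : E ⟶ A.toModule)
      (_ : IsSymAlg E A j) (i : X ⟶ A.spec), IsClosedImmersion i ∧ i ≫ A.π = f := by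
  let B : QCAlg Y := QCAlg.directImage f
  have hB : ∀ U : Y.affineOpens, (B.str.app (op (U : Y.Opens))).hom.FiniteType := by
    intro U
    have h1 := LocallyOfFiniteType.finiteType_appLE f U.2 (U.2.preimage f) le_rfl
    rwa [← Scheme.Hom.app_eq_appLE] at h1
  obtain ⟨E, hE, hgen⟩ := exists_isQFT_generating B hB
  have hq : E.toModules.IsQuasicoherent := hE.isQuasicoherent
  have hft := hE.isFiniteType
  let ψ := psiHom E.toModules B E.ι
  have hcl : IsClosedImmersion (QCAlg.specMap ψ) :=
    SpecMapClosed.isClosedImmersion_specMap ψ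
      (fun U hU => surjective_psiMap_of_gen B E U hU (hgen U hU))
  refine ⟨E.toModules, ⟨hq, hft⟩, symAlg E.toModules, jHom E.toModules, isSymAlg E.toModules,
    Groth.Agent.S9380.can f ≫ QCAlg.specMap ψ, inferInstance, ?_⟩
  rw [Category.assoc, QCAlg.specMap_π]
  exact Groth.Agent.S9380.can_π f

end Groth.Agent.Lib.Helper18.SymQC
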