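import Mathlib
import Groth.Agent.Lib.Helper18.SymLoc

/-!
# The degree-one projection of a symmetric algebra (helper18)

`D : Sym_R M →+* R ⊕ εM` and `deg1 = snd ∘ D`; naturality; and the key lemma: a surjective algebra
map `Sym_R E → R ⊕ εM` restricts to a surjection `E → M`.
-/

set_option autoImplicit false
set_option linter.style.haveILetI false
universe u

namespace Groth.Agent.Lib.Helper18.SymDeg1

open Groth.Agent.Lib.Helper18.SymLoc TrivSqZeroExt

variable (R : Type u) [CommRing R] (M : Type u) [AddCommGroup M] [Module R M]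
  [Module Rᵐᵒᵖ M] [IsCentralScalar R M]

/-- the algebra map `Sym_R M → R ⊕ εM` -/
noncomputable def D : SymmetricAlgebra R M →+* TrivSqZeroExt R M :=
  (SymmetricAlgebra.lift (R := R) (M := M) (A := TrivSqZeroExt R M)
    (TrivSqZeroExt.inrHom R M)).toRingHom

variable {R M}

@[simp] theorem D_algebraMap (r : R) : D R M (algebraMap R _ r) = inl r :=
  AlgHom.commutes _ r

@[simp] theorem D_ι (m : M) : D R M (SymmetricAlgebra.ι R M m) = inr m :=
  SymmetricAlgebra.lift_ι_apply _ m

theorem D_surjective : Function.Surjective (D R M) := by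
  intro x
  refine ⟨algebraMap R _ x.fst + SymmetricAlgebra.ι R M x.snd, ?_⟩
  rw [map_add, D_algebraMap, D_ι, inl_fst_add_inr_snd_eq]

variable (R M) in
/-- the degree-one projection -/
noncomputable def deg1 : SymmetricAlgebra R M →+ M where
  toFun x := (D R M x).snd
  map_zero' := by rw [map_zero]; rfl
  map_add' x y := by rw [map_add]; rfl

theorem deg1_apply (x : SymmetricAlgebra R M) : deg1 R M x = (D R M x).snd := rfl

@[simp] theorem deg1_ι (m : M) : deg1 R M (SymmetricAlgebra.ι R M m) = m := by
  rw [deg1_apply, D_ι, snd_inr]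

theorem deg1_algebraMap_mul (r : R) (x : SymmetricAlgebra R M) :
    deg1 R M (algebraMap R _ r * x) = r • deg1 R M x := by
  rw [deg1_apply, map_mul, D_algebraMap, snd_mul, fst_inl, snd_inl]
  simp [deg1_apply]

section nat

variable {R' : Type u} [CommRing R'] {M' : Type u} [AddCommGroup M'] [Module R' M']
  [Module R'ᵐᵒᵖ M'] [IsCentralScalar R' M']
  (σ : R →+* R') (f : M →+ M') (hf : ∀ (r : R) (m : M), f (r • m) = σ r • f m)

/-- the semilinear map `R ⊕ εM → R' ⊕ εM'` -/
noncomputable def tmap : TrivSqZeroExt R M →+* TrivSqZeroExt R' M' where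
  toFun x := inl (σ x.fst) + inr (f x.snd)
  map_one' := by simp
  map_zero' := by simp
  map_add' x y := by
    simp only [fst_add, snd_add, map_add, inl_add, inr_add]
    abel
  map_mul' x y := by
    ext
    · simp
    · simp only [snd_mul, fst_mul, map_add, hf, snd_add, snd_inl, snd_inr, zero_add, fst_add,
        fst_inl, fst_inr, add_zero]
      simp [hf]

include hf in
theorem D_symMap : (D R' M').comp (symMap σ f hf) = (tmap σ f hf).comp (D R M) := by
  refine ringHom_ext _ _ (fun r => ?_) (fun m => ?_)
  · simp [tmap]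
  · simp [tmap]

include hf in
theorem deg1_symMap (x : SymmetricAlgebra R M) : deg1 R' M' (symMap σ f hf x) = f (deg1 R M x) := by
  have h := congrArg (fun k => (k x).snd) (D_symMap σ f hf)
  simp only [RingHom.comp_apply] at h
  rw [deg1_apply, h, deg1_apply]
  simp [tmap]

end nat

section key

variable {E : Type u} [AddCommGroup E] [Module R E]
  (Φ : SymmetricAlgebra R E →+* TrivSqZeroExt R M) (hΦ : ∀ r, Φ (algebraMap R _ r) = inl r)

include hΦ in
/-- the restriction of `Φ` to degree one, as a linear map `E → M` -/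
theorem exists_linear : ∃ b : E →ₗ[R] M, ∀ e, b e = (Φ (SymmetricAlgebra.ι R E e)).snd :=
  ⟨{ toFun := fun e => (Φ (SymmetricAlgebra.ι R E e)).snd
     map_add' := fun x y => by rw [map_add, map_add]; rfl
     map_smul' := fun r e => by
      rw [map_smul, Algebra.smul_def, map_mul, hΦ, snd_mul, fst_inl, snd_inl]
      simp }, fun e => rfl⟩

include hΦ in
/-- **Key lemma.** A surjective algebra map `Sym_R E → R ⊕ εM` induces a surjection `E → M`. -/
theorem surjective_of_surjective (hs : Function.Surjective Φ) (b : E →ₗ[R] M)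
    (hb : ∀ e, b e = (Φ (SymmetricAlgebra.ι R E e)).snd) : Function.Surjective b := by
  have key : ∀ x : SymmetricAlgebra R E, (Φ x).snd ∈ LinearMap.range b := by
    intro x
    induction x using SymmetricAlgebra.induction with
    | algebraMap r => rw [hΦ, snd_inl]; exact Submodule.zero_mem _
    | ι e => exact ⟨e, hb e⟩
    | mul x y hx hy =>
      rw [map_mul, snd_mul]
      refine Submodule.add_mem _ (Submodule.smul_mem _ _ hy) ?_
      have : MulOpposite.op (Φ y).fst • (Φ x).snd = (Φ y).fst • (Φ x).snd := by simp
      rw [this]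
      exact Submodule.smul_mem _ _ hx
    | add x y hx hy => rw [map_add, snd_add]; exact Submodule.add_mem _ hx hy
  intro m
  obtain ⟨x, hx⟩ := hs (inr m)
  have := key x
  rw [hx, snd_inr] at this
  exact this

end key

end Groth.Agent.Lib.Helper18.SymDeg1
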