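import Mathlib
import Groth.Prelude.Def_RelSpec
import Groth.Agent.Lib.Helper18.SymQC4
import Groth.Agent.Lib.Helper18.SymDeg1

/-!
# The degree-one projection `Sym(M) → M` as a morphism of modules (helper18)
-/

set_option autoImplicit false
set_option linter.style.haveILetI false
universe u
open AlgebraicGeometry CategoryTheory Limits TopologicalSpace Opposite

namespace Groth.Agent.Lib.Helper18.SymQC

open Groth.Agent.Lib.Helper18.SymLoc Groth.Agent.Lib.Helper18.SymDeg1 Groth.Agent.Lib.Helper49 RelSpec

variable {S : Scheme.{u}}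

/-- the right action of functions on sections of a module (for `TrivSqZeroExt`) -/
noncomputable def opModule (F : S.Modules) (U : S.Opens) : Module Γ(S, U)ᵐᵒᵖ Γ(F, U) :=
  Module.compHom _ ((RingHom.id Γ(S, U)).fromOpposite (fun x y => mul_comm x y))

attribute [local instance] opModule

instance isCentral (F : S.Modules) (U : S.Opens) : IsCentralScalar Γ(S, U) Γ(F, U) :=
  ⟨fun _ _ => rfl⟩

variable (M : S.Modules) [M.IsQuasicoherent]

/-- sections of `Sym(M)` as functions on `V(M)` -/
def secV (U : S.Opens) (a : Γ((symAlg M).toModule, U)) : Γ(VV M, pp M ⁻¹ᵁ U) := a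

/-- the local components of the projection -/
noncomputable def pLocal : LocalHom (symAlg M).toModule M (S.affineOpens : Set S.Opens) where
  φ V := (deg1 Γ(S, V.1) Γ(M, V.1)).comp ((gam M V.1 V.2).hom : _ →+* _).toAddMonoidHom
  smul V r s := by
    change deg1 Γ(S, V.1) Γ(M, V.1) ((gam M V.1 V.2).hom
      (((pp M).app V.1).hom r * secV M V.1 s)) = r • deg1 Γ(S, V.1) Γ(M, V.1) _
    rw [map_mul]
    have h1 : (gam M V.1 V.2).hom (((pp M).app V.1).hom r) = algebraMap _ _ r :=
      congrArg (fun k => k.hom r) (pp_app_gam M V.1 V.2)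
    rw [h1, deg1_algebraMap_mul]
    rfl
  compat V W h s := by
    change (M.presheaf.map (homOfLE h).op).hom (deg1 Γ(S, V.1) Γ(M, V.1)
        ((gam M V.1 V.2).hom (secV M V.1 s))) =
      deg1 Γ(S, W.1) Γ(M, W.1) ((gam M W.1 W.2).hom
        (((VV M).presheaf.map (homOfLE ((pp M).preimage_mono h)).op).hom
          (secV M V.1 s)))
    rw [gam_res M V.2 W.2 h]
    exact (deg1_symMap _ _ _ _).symm

/-- the projection `Sym(M) → M` onto the degree-one part -/
noncomputable def pHom : (symAlg M).toModule ⟶ M :=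
  (pLocal M).glue S.isBasis_affineOpens

theorem pHom_app (U : S.Opens) (hU : IsAffineOpen U) (a : Γ((symAlg M).toModule, U)) :
    (pHom M).app U a = deg1 Γ(S, U) Γ(M, U) ((gam M U hU).hom (secV M U a)) :=
  (pLocal M).glue_app S.isBasis_affineOpens ⟨U, hU⟩ a

end Groth.Agent.Lib.Helper18.SymQC
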