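import Mathlib
import Groth.Prelude.Def_RelSpec
import Groth.Agent.Lib.Helper18.SymQC5
import Groth.Agent.Lib.Helper18.SymProj
import Groth.Agent.Lib.Helper18.FPPullEpi
import Groth.Agent.Lib.Helper13.RelSpecFun
import Groth.Agent.Lib.Helper62.SymKaehler

/-!
# A closed immersion `V(M) → V(E)` over `S` gives a surjection `E → M` (helper18)
-/

set_option autoImplicit false
set_option linter.style.haveILetI false
universe u
open AlgebraicGeometry CategoryTheory Limits TopologicalSpace Opposite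

namespace Groth.Agent.Lib.Helper18.SymQC

open Groth.Agent.Lib.Helper18.SymLoc Groth.Agent.Lib.Helper18.SymDeg1 Groth.Agent.Lib.Helper49 RelSpec
  Groth.Agent.Lib.Helper13.RelSpecFun

variable {S : Scheme.{u}}

attribute [local instance] opModule

variable (E M : S.Modules) [E.IsQuasicoherent] [M.IsQuasicoherent]
  (A : QCAlg S) (j : E ⟶ A.toModule) (i : VV M ⟶ A.spec) (w : i ≫ A.π = pp M)

/-- the algebra map `A → Sym(M)` induced by `i : V(M) → Spec A` -/
noncomputable def ofImm : A ⟶ symAlg M where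
  hom := gammaInv A ≫ AffAlg.algHom A.π (pp M) i w
  comm := by
    rw [← Category.assoc, str_gammaInv]
    exact AffAlg.algHom_comm A.π (pp M) i w

/-- the component of `ofImm` with unfolded target -/
noncomputable def ofImmU (U : S.Opens) : A.presheaf.obj (op U) →+* Γ(VV M, pp M ⁻¹ᵁ U) :=
  ((ofImm M A i w).hom.app (op U)).hom

theorem ofImmU_str (U : S.Opens) (r : Γ(S, U)) :
    ofImmU M A i w U ((A.str.app (op U)).hom r) = ((pp M).app U).hom r :=
  congrArg (fun k => k.hom r) (NatTrans.congr_app (ofImm M A i w).comm (op U))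

theorem surjective_ofImmU [IsClosedImmersion i] (U : S.Opens) (hU : IsAffineOpen U) :
    Function.Surjective (ofImmU M A i w U) := by
  have h1 : Function.Bijective ((gammaInv A).app (op U)).hom := by
    have h0 : IsIso (gammaInv A) := Groth.Agent.Lib.Helper13.RelSpecFun.isIso_gammaInv A
    have : IsIso ((gammaInv A).app (op U)) := NatIso.isIso_app_of_isIso (gammaInv A) (op U)
    exact (ConcreteCategory.isIso_iff_bijective ((gammaInv A).app (op U))).mp this
  have h2 : Function.Surjective ((AffAlg.algHom A.π (pp M) i w).app (op U)).hom := by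
    rw [algHom_app_eq_appLE]
    have h3 := Scheme.Hom.app_surjective i (A.π ⁻¹ᵁ U) (hU.preimage A.π)
    have he : pp M ⁻¹ᵁ U = i ⁻¹ᵁ (A.π ⁻¹ᵁ U) := by rw [← w, Scheme.Hom.comp_preimage]
    have h4 : i.appLE (A.π ⁻¹ᵁ U) (pp M ⁻¹ᵁ U) he.le =
        i.app (A.π ⁻¹ᵁ U) ≫ (VV M).presheaf.map (eqToHom he).op := by
      rw [Scheme.Hom.appLE]
      rfl
    rw [h4]
    have h5 : Function.Bijective ((VV M).presheaf.map (eqToHom he).op).hom :=
      (ConcreteCategory.isIso_iff_bijective ((VV M).presheaf.map (eqToHom he).op)).mp inferInstance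
    intro y
    obtain ⟨y', hy'⟩ := h5.2 y
    obtain ⟨z, hz⟩ := h3 y'
    exact ⟨z, by rw [CommRingCat.comp_apply, hz, hy']⟩
  intro y
  obtain ⟨y', hy'⟩ := h2 y
  obtain ⟨z, hz⟩ := h1.2 y'
  refine ⟨z, ?_⟩
  change ((AffAlg.algHom A.π (pp M) i w).app (op U)).hom (((gammaInv A).app (op U)).hom z) = y
  rw [hz, hy']

/-- the induced map `E → M` -/
noncomputable def bHom : E ⟶ M := j ≫ QCAlg.Hom.toModuleMap (ofImm M A i w) ≫ pHom M

theorem bHom_app (U : S.Opens) (hU : IsAffineOpen U) (e : Γ(E, U)) :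
    (bHom E M A j i w).app U e = deg1 Γ(S, U) Γ(M, U)
      ((gam M U hU).hom (ofImmU M A i w U (toSec A U (j.app U e)))) :=
  pHom_app M U hU _

theorem epi_bHom [IsClosedImmersion i] (hA : IsSymAlg E A j) : Epi (bHom E M A j i w) := by
  refine FPPullEpi.epi_of_app_surjective_affine _ (fun x => ?_)
  obtain ⟨_, ⟨U, hU, rfl⟩, hxU, -⟩ :=
    S.isBasis_affineOpens.exists_subset_of_mem_open (Set.mem_univ x) isOpen_univ
  refine ⟨U, hU, hxU, ?_⟩
  let Φ : SymmetricAlgebra Γ(S, U) Γ(E, U) →+* TrivSqZeroExt Γ(S, U) Γ(M, U) :=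
    (D Γ(S, U) Γ(M, U)).comp ((gam M U hU).hom.comp ((ofImmU M A i w U).comp (liftU E A j U)))
  have hΦ : ∀ r, Φ (algebraMap _ _ r) = TrivSqZeroExt.inl r := by
    intro r
    change D Γ(S, U) Γ(M, U) ((gam M U hU).hom (ofImmU M A i w U (liftU E A j U _))) = _
    rw [liftU_algebraMap, ofImmU_str]
    have h1 : (gam M U hU).hom (((pp M).app U).hom r) = algebraMap _ _ r :=
      congrArg (fun k => k.hom r) (pp_app_gam M U hU)
    rw [h1, D_algebraMap]
  have hs : Function.Surjective Φ := by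
    have hg : Function.Surjective (gam M U hU).hom :=
      ((ConcreteCategory.isIso_iff_bijective (gam M U hU)).mp inferInstance).2
    intro t
    obtain ⟨t1, ht1⟩ := D_surjective t
    obtain ⟨t2, ht2⟩ := hg t1
    obtain ⟨t3, ht3⟩ := surjective_ofImmU M A i w U hU t2
    obtain ⟨t4, ht4⟩ := (bijective_liftU E A j hA U hU).2 t3
    refine ⟨t4, ?_⟩
    change D Γ(S, U) Γ(M, U) ((gam M U hU).hom (ofImmU M A i w U (liftU E A j U t4))) = t
    rw [ht4, ht3, ht2, ht1]
  obtain ⟨b, hb⟩ := exists_linear Φ hΦ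
  have hsurj := surjective_of_surjective Φ hΦ hs b hb
  intro m
  obtain ⟨e, he⟩ := hsurj m
  refine ⟨e, ?_⟩
  have h2 : (bHom E M A j i w).app U e = b e := by
    rw [bHom_app E M A j i w U hU, hb]
    change _ = (D Γ(S, U) Γ(M, U) ((gam M U hU).hom (ofImmU M A i w U (liftU E A j U _)))).snd
    rw [liftU_ι]
    rfl
  exact h2.trans he

end Groth.Agent.Lib.Helper18.SymQC

namespace Groth.Agent.Lib.Helper18.SymQC

open Groth.Agent.Lib.Helper18.SymLoc Groth.Agent.Lib.Helper49 RelSpec

variable {S : Scheme.{u}}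

/-- `V(M) → S` is locally of finite type when `M` has finitely generated sections on affines -/
theorem locallyOfFiniteType_pp (M : S.Modules) [M.IsQuasicoherent]
    (h : ∀ (U : S.Opens) (_ : IsAffineOpen U), Module.Finite Γ(S, U) Γ(M, U)) :
    LocallyOfFiniteType (pp M) := by
  rw [HasRingHomProperty.iff_exists_appLE (P := @LocallyOfFiniteType)
    (RingHom.finiteType_stableUnderComposition.stableUnderCompositionWithLocalizationAway
      RingHom.finiteType_holdsForLocalizationAway).left]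
  intro y
  obtain ⟨_, ⟨U, hU, rfl⟩, hyU, -⟩ :=
    S.isBasis_affineOpens.exists_subset_of_mem_open (Set.mem_univ (pp M y)) isOpen_univ
  refine ⟨⟨U, hU⟩, ⟨pp M ⁻¹ᵁ U, hU.preimage (pp M)⟩, hyU, le_rfl, ?_⟩
  rw [← Scheme.Hom.app_eq_appLE]
  have h2 : (pp M).app U = CommRingCat.ofHom (algebraMap Γ(S, U)
      (SymmetricAlgebra Γ(S, U) Γ(M, U))) ≫ inv (gam M U hU) := by
    rw [← pp_app_gam M U hU, Category.assoc, IsIso.hom_inv_id, Category.comp_id]
  rw [h2, CommRingCat.hom_comp]
  have := h U hU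
  refine RingHom.FiniteType.comp ?_ ?_
  · exact RingHom.FiniteType.of_surjective _
      ((ConcreteCategory.isIso_iff_bijective (inv (gam M U hU))).mp inferInstance).2
  · change (algebraMap Γ(S, U) (SymmetricAlgebra Γ(S, U) Γ(M, U))).FiniteType
    rw [RingHom.finiteType_algebraMap]
    exact Groth.Agent.Lib.Helper62.SymKaehler.finiteType _ _

end Groth.Agent.Lib.Helper18.SymQC
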