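import Mathlib
import Groth.Prelude.Def_RelSpec
import Groth.Agent.Lib.Helper18.SymEmbed
import Groth.Agent.Lib.Helper18.SymResol
import Groth.Agent.Lib.Helper18.CoprodFinite

/-!
# Generating families and embeddings into vector bundles (helper18)
-/

set_option autoImplicit false
set_option linter.style.haveILetI false
universe u
open AlgebraicGeometry CategoryTheory Limits TopologicalSpace Opposite

namespace Groth.Agent.Lib.Helper18.SymQC

open Groth.Agent.Lib.Helper18.SymLoc Groth.Agent.Lib.Helper49 RelSpec
  Groth.Agent.Lib.Helper18.LSubM Groth.Agent.Lib.Helper18.CoprodLocal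

variable {X : Scheme.{u}}

/-- an epimorphism onto the underlying module of a quasi-coherent algebra gives a surjection from
the symmetric algebra -/
theorem surjective_psiMap_of_epi (B : QCAlg X) (E' : X.Modules) [E'.IsQuasicoherent]
    (π : E' ⟶ B.toModule) [Epi π] (U : X.Opens) (hU : IsAffineOpen U) :
    Function.Surjective ((psiHom E' B π).hom.app (op U)).hom := by
  intro b
  obtain ⟨s, hs⟩ := EpiAffine.app_surjective_of_epi π hU (ofSec B U b)
  refine ⟨toSec (symAlg E') U ((jHom E').app U s), ?_⟩
  have h1 := congrArg (fun k => toSec B U (k.app U s)) (jHom_psiHom E' B π)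
  exact h1.trans hs

/-- a quasi-coherent algebra generated by a quasi-coherent submodule `F`, which is a quotient of
`E'`, is a quotient of the symmetric algebra of `E'` -/
theorem surjective_psiMap_of_gen_of_epi (B : QCAlg X) (F : LSub B.toModule)
    [F.toModules.IsQuasicoherent] (E' : X.Modules) [E'.IsQuasicoherent] (ρ : E' ⟶ F.toModules)
    [Epi ρ] (U : X.Opens) (hU : IsAffineOpen U) (hgen : gen B F U = ⊤) :
    Function.Surjective ((psiHom E' B (ρ ≫ F.ι)).hom.app (op U)).hom := by
  intro b
  have hb : b ∈ gen B F U := hgen ▸ Subring.mem_top b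
  let ψ := psiHom E' B (ρ ≫ F.ι)
  have hle : gen B F U ≤ (ψ.hom.app (op U)).hom.range := by
    refine Subring.closure_le.mpr ?_
    rintro c (⟨r, rfl⟩ | hc)
    · refine ⟨((symAlg E').str.app (op U)).hom r, ?_⟩
      exact congrArg (fun k => k.hom r) (NatTrans.congr_app ψ.comm (op U))
    · have hc' : toM B c ∈ Set.range (F.ι.app U) := by
        rw [F.range_ι_app U]
        exact hc
      obtain ⟨s, hs⟩ := hc'
      obtain ⟨e, he⟩ := EpiAffine.app_surjective_of_epi ρ hU s
      refine ⟨toSec (symAlg E') U ((jHom E').app U e), ?_⟩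
      have h1 := congrArg (fun k => toSec B U (k.app U e)) (jHom_psiHom E' B (ρ ≫ F.ι))
      refine h1.trans ?_
      change F.ι.app U (ρ.app U e) = c
      rw [he]
      exact hs
  exact hle hb

end Groth.Agent.Lib.Helper18.SymQC
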