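import Mathlib
import Groth.Prelude.Def_RelSpec
import Groth.Agent.Lib.Helper18.SymGenFam
import Groth.Agent.Lib.Helper18.SymFT
import Groth.Agent.Lib.Helper18.AffineCan
import Groth.Agent.Lib.Helper18.SpecMapClosed
import Groth.Agent.Lib.Helper18.SymFP
import Groth.Agent.Lib.Helper18.FiniteQuot
import Groth.Agent.Lib.Helper18.FTIdeal
import Groth.Agent.Lib.Helper18.FPQuot
import Groth.Agent.Lib.Helper18.LSubExt
import Groth.Agent.Lib.Helper13.LimStruct
import Groth.Agent.Lib.Helper49.PushforwardFinLocFree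
import Groth.Agent.Lib.Helper49.PrinPartFP
import Groth.Agent.Lib.Helper49.FinitePresentation2

/-!
# A finite morphism to a qcqs scheme is a closed subscheme of a finite, finitely presented one
(helper18)
-/

set_option autoImplicit false
set_option linter.style.haveILetI false
universe u
open AlgebraicGeometry CategoryTheory Limits TopologicalSpace Opposite

namespace Groth.Agent.Lib.Helper18.SymQC

open Groth.Agent.Lib.Helper18.SymLoc Groth.Agent.Lib.Helper49 RelSpec

variable {S : Scheme.{u}}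

/-- `Spec(A) → S` is locally of finite presentation if the structure maps over affines are -/
theorem locallyOfFinitePresentation_π (A : QCAlg S)
    (h : ∀ (U : S.Opens) (_ : IsAffineOpen U), (A.str.app (op U)).hom.FinitePresentation) :
    LocallyOfFinitePresentation A.π := by
  refine locallyOfFinitePresentation_of_app_of_isAffineHom (f := A.π) (fun V => ?_)
  haveI := isIso_gammaAff' A V.1 V.2
  rw [π_app_eq A V.1 V.2, CommRingCat.hom_comp]
  refine RingHom.FinitePresentation.comp ?_ (h V.1 V.2)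
  exact RingHom.FinitePresentation.of_bijective
    ((ConcreteCategory.isIso_iff_bijective (inv (A.gammaAff V.1 V.2))).mp inferInstance)

variable (E : S.Modules) [E.IsQuasicoherent] (A : QCAlg S) (j : E ⟶ A.toModule)

theorem finitePresentation_str (hA : IsSymAlg E A j) (U : S.Opens) (hU : IsAffineOpen U)
    [Module.FinitePresentation Γ(S, U) Γ(E, U)] : (A.str.app (op U)).hom.FinitePresentation := by
  rw [str_eq_liftU_comp E A j U]
  refine RingHom.FinitePresentation.comp (RingHom.FinitePresentation.of_bijective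
    (bijective_liftU E A j hA U hU)) ?_
  rw [RingHom.finitePresentation_algebraMap]
  exact SymFP.finitePresentation

end Groth.Agent.Lib.Helper18.SymQC

namespace Groth.Agent.Lib.Helper18.SymQC

open Groth.Agent.Lib.Helper18.SymLoc Groth.Agent.Lib.Helper49 RelSpec

variable {S : Scheme.{u}}

/-- **A finite morphism to a qcqs scheme embeds into a vector bundle `W = V(P) → S` of finite
presentation, and a finite type ideal `K₀` of its ideal already cuts out a finite `S`-scheme
(as does every larger ideal).** -/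
theorem exists_embedding_finite {X : Scheme.{u}} (f : X ⟶ S) [IsFinite f] [CompactSpace S]
    [QuasiSeparatedSpace S] :
    ∃ (W : Scheme.{u}) (p : W ⟶ S) (c : X ⟶ W) (K₀ : W.IdealSheafData),
      IsAffineHom p ∧ LocallyOfFinitePresentation p ∧ IsClosedImmersion c ∧ c ≫ p = f ∧
      CompactSpace W ∧ QuasiSeparatedSpace W ∧
      K₀ ≤ c.ker ∧ (∀ V : W.affineOpens, (K₀.ideal V).FG) ∧
      ∀ K : W.IdealSheafData, K₀ ≤ K → IsFinite (K.subschemeι ≫ p) := by
  classical
  let B' : QCAlg S := QCAlg.directImage f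
  have hfinB : ∀ (U : S.Opens), IsAffineOpen U → Module.Finite Γ(S, U) Γ(B'.toModule, U) :=
    fun U hU => IsFinite.finite_app f U hU
  have hft : SheafOfModules.IsFiniteType (R := S.ringCatSheaf) B'.toModule := by
    refine LSubM.isFiniteType_of_finite_sections_cover B'.toModule {T | IsAffineOpen T}
      (fun T hT => hT) (fun x => ?_) (fun T hT => hfinB T hT)
    obtain ⟨_, ⟨U, hU, rfl⟩, hxU, -⟩ :=
      S.isBasis_affineOpens.exists_subset_of_mem_open (Set.mem_univ x) isOpen_univ
    exact ⟨U, hU, hxU⟩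
  obtain ⟨P, ε, hP, hε⟩ := FPM.exists_fp_epi B'.toModule hft
  have hqP : P.IsQuasicoherent := FPM.isQuasicoherent_of_isFinitePresentation hP
  let A : QCAlg S := symAlg P
  have hlfp : LocallyOfFinitePresentation A.π := by
    refine locallyOfFinitePresentation_π A (fun U hU => ?_)
    have := finitePresentation_sections_of_isFinitePresentation P hP hU
    exact finitePresentation_str P A (jHom P) (isSymAlg P) U hU
  let ψ := psiHom P B' ε
  have hcl : IsClosedImmersion (QCAlg.specMap ψ) :=
    SpecMapClosed.isClosedImmersion_specMap ψ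
      (fun U hU => surjective_psiMap_of_epi B' P ε U hU)
  let c : X ⟶ A.spec := Groth.Agent.S9380.can f ≫ QCAlg.specMap ψ
  have hc : IsClosedImmersion c := inferInstance
  have hcf : c ≫ A.π = f := by
    rw [Category.assoc, QCAlg.specMap_π]
    exact Groth.Agent.S9380.can_π f
  have hWc : CompactSpace A.spec := QuasiCompact.compactSpace_of_compactSpace A.π
  have hWq : QuasiSeparatedSpace A.spec := quasiSeparatedSpace_of_quasiSeparated A.π
  have hfin' : IsFinite (c ≫ A.π) := hcf ▸ ‹IsFinite f›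
  obtain ⟨C, hC⟩ := FTApprox.exists_finite_affine_cover S
  -- the data over each member of the cover
  have key : ∀ U : S.affineOpens, ∃ s : Finset Γ(A.spec, A.π ⁻¹ᵁ U.1),
      (∀ b ∈ s, (c.app (A.π ⁻¹ᵁ U.1)).hom b = 0) ∧
      ∀ {D : Type u} [CommRing D] (ψ' : Γ(A.spec, A.π ⁻¹ᵁ U.1) →+* D), Function.Surjective ψ' →
        (∀ b ∈ s, ψ' b = 0) → (ψ'.comp (A.π.app U.1).hom).Finite := by
    intro U
    refine FiniteQuot.exists_finset_finite (A.π.app U.1).hom ?_ (c.app (A.π ⁻¹ᵁ U.1)).hom ?_
    · have h1 := LocallyOfFiniteType.finiteType_appLE A.π U.2 (U.2.preimage A.π) le_rfl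
      rwa [← Scheme.Hom.app_eq_appLE] at h1
    · have h2 : ((c ≫ A.π).app U.1).hom.Finite := IsFinite.finite_app (c ≫ A.π) U.1 U.2
      exact h2.to_isIntegral
  choose s hs0 hsfin using key
  -- the finite type ideal
  let ι' := Σ U : ↥C, ↥(s U.1)
  let Wf : ι' → A.spec.affineOpens := fun k => ⟨A.π ⁻¹ᵁ k.1.1.1, k.1.1.2.preimage A.π⟩
  obtain ⟨K₀, hK₀, hK₀s, hK₀fg⟩ := FTApprox.exists_le_ft_mem_family c.ker Wf (fun k => k.2.1)
    (fun k => by
      rw [Scheme.Hom.ker_apply]
      exact hs0 k.1.1 k.2.1 k.2.2)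
  refine ⟨A.spec, A.π, c, K₀, inferInstance, hlfp, hc, hcf, hWc, hWq, hK₀, hK₀fg, fun K hK => ?_⟩
  refine Groth.Agent.Lib.Helper13.LimStruct.isFinite_of_forall_exists _ (fun y => ?_)
  have hy : y ∈ (⨆ U : ↥C, (U.1 : S.affineOpens).1) := by rw [hC]; trivial
  obtain ⟨U, hyU⟩ := Opens.mem_iSup.mp hy
  refine ⟨U.1.1, hyU, U.1.2, U.1.2.preimage (K.subschemeι ≫ A.π), ?_⟩
  let V : A.spec.affineOpens := ⟨A.π ⁻¹ᵁ U.1.1, U.1.2.preimage A.π⟩
  have h3 : ((K.subschemeι ≫ A.π).app U.1.1).hom =
      (K.subschemeι.app V.1).hom.comp (A.π.app U.1.1).hom := rfl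
  rw [h3]
  refine hsfin U.1 (K.subschemeι.app V.1).hom (K.subschemeι_app_surjective V) (fun b hb => ?_)
  have h4 : b ∈ K₀.ideal V := hK₀s ⟨U, ⟨b, hb⟩⟩
  have h5 : b ∈ K.ideal V := hK V h4
  rw [← K.ker_subschemeι_app V] at h5
  exact h5

end Groth.Agent.Lib.Helper18.SymQC
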