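import Mathlib.RingTheory.AdicCompletion.Completeness

/-!
# Quotients of an adic completion by powers of the extended ideal
-/

namespace Groth.Agent.Lib.Helper18

open AdicCompletion

variable {R : Type*} [CommRing R] (I : Ideal R)

/-- For a finitely generated ideal, the kernel of `Â → R ⧸ I ^ n` is the `n`-th power of `I Â`. -/
theorem ker_evalₐ_eq_map_pow (fg : I.FG) (n : ℕ) :
    RingHom.ker (evalₐ I n).toRingHom = (I.map (algebraMap R (AdicCompletion I R))) ^ n := by
  ext x
  trans x ∈ (AdicCompletion.eval I R n).ker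
  · have eq : I ^ n * ⊤ = I ^ n := by simp
    have : Function.Injective (Ideal.Quotient.factor ((le_of_eq eq))) := by
      simpa [RingHom.injective_iff_ker_eq_bot, Ideal.Quotient.factor_ker]
        using Ideal.map_mk_eq_bot_of_le (le_of_eq eq.symm)
    simpa [← factor_eval_eq_evalₐ] using map_eq_zero_iff _ this
  · rw [← pow_smul_top_eq_ker_eval fg, Ideal.smul_top_eq_map, ← Ideal.map_pow]
    rfl

/-- `Â ⧸ (I Â) ^ n ≃ R ⧸ I ^ n` for a finitely generated ideal. -/
noncomputable def quotPowEquiv (fg : I.FG) (n : ℕ) :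
    AdicCompletion I R ⧸ (I.map (algebraMap R (AdicCompletion I R))) ^ n ≃+* R ⧸ I ^ n :=
  (Ideal.quotEquivOfEq (ker_evalₐ_eq_map_pow I fg n).symm).trans
    (RingHom.quotientKerEquivOfSurjective (f := (evalₐ I n).toRingHom) (surjective_evalₐ I n))

theorem quotPowEquiv_mk (fg : I.FG) (n : ℕ) (x : AdicCompletion I R) :
    quotPowEquiv I fg n (Ideal.Quotient.mk _ x) = evalₐ I n x := rfl

theorem quotPowEquiv_symm_mk (fg : I.FG) (n : ℕ) (r : R) :
    (quotPowEquiv I fg n).symm (Ideal.Quotient.mk _ r) = Ideal.Quotient.mk _ (of I R r) := by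
  rw [RingEquiv.symm_apply_eq, quotPowEquiv_mk, evalₐ_of]

end Groth.Agent.Lib.Helper18
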