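import Mathlib
import Groth.Agent.Lib.Helper42.HomColim

/-!
# Gluing a morphism of sheaves of modules from presented charts

`exists_hom_of_charts`: given opens `V α` covering the space, local generators `s α` and local
relations `r α` of `M` over `V α`, and sections `t α` of `T` over `V α` satisfying the relations,
such that on the overlaps (locally) the `s α` are combinations of the `s β` with coefficients for
which the `t α` are the same combinations of the `t β`, there is a morphism `M ⟶ T` sending
`s α n` to `t α n`.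
-/

set_option autoImplicit false
universe u
open CategoryTheory CategoryTheory.Limits TopologicalSpace Opposite

namespace Groth.Agent.Lib.Helper18.ChartGlue

open Groth.Agent.Lib.Helper42 Groth.Agent.Lib.Helper42.FTLocal Groth.Agent.Lib.Helper42.FPLocal
  Groth.Agent.Lib.Helper42.StalkColim Groth.Agent.Lib.Helper42.HomColim

variable {X : TopCat.{u}} {R : Sheaf (Opens.grothendieckTopology X) RingCat.{u}}

theorem exists_hom_of_charts (M T : SheafOfModules.{u} R) {A : Type u} (V : A → Opens X)
    (N L : A → Type u) [∀ α, Fintype (N α)] [∀ α, Fintype (L α)]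
    (s : ∀ α, N α → M.val.obj (op (V α))) (r : ∀ α, L α → N α → R.obj.obj (op (V α)))
    (t : ∀ α, N α → T.val.obj (op (V α)))
    (hcov : ∀ x : X, ∃ α, x ∈ V α)
    (hgen : ∀ α, IsLocGen M (V α) (s α)) (hrel : ∀ α, IsLocRel M (V α) (s α) (r α))
    (hrelt : ∀ α l, ∑ n, r α l n • t α n = 0)
    (hov : ∀ (α β : A) (y : X), y ∈ V α → y ∈ V β →
      ∃ (W : Opens X) (hα : W ≤ V α) (hβ : W ≤ V β), y ∈ W ∧
        ∃ c : N α → N β → R.obj.obj (op W),
          (∀ n, rs M (homOfLE hα) (s α n) = ∑ m, c n m • rs M (homOfLE hβ) (s β m)) ∧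
          (∀ n, rs T (homOfLE hα) (t α n) = ∑ m, c n m • rs T (homOfLE hβ) (t β m))) :
    ∃ Φ : M ⟶ T, ∀ α n, Φ.val.app (op (V α)) (s α n) = t α n := by
  obtain ⟨φ, -, hφ⟩ := exists_partialHom_of_charts (M := M) (T := T) (Ω := ⊤) (V := V) (N := N)
    (s := s) (t := t) (fun x _ => hcov x) hgen (by
      intro α β W' hα' hβ' a b hab
      refine eq_of_locally T _ _ (fun y hy => ?_)
      obtain ⟨W, hα, hβ, hyW, c, hcs, hct⟩ := hov α β y (hα' hy) (hβ' hy)
      have h1 : W' ⊓ W ≤ W' := inf_le_left
      have h2 : W' ⊓ W ≤ W := inf_le_right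
      refine ⟨W' ⊓ W, h1, ⟨hy, hyW⟩, ?_⟩
      -- the coefficients expressing everything through the chart `β`
      let a' : N β → R.obj.obj (op (W' ⊓ W)) := fun m =>
        ∑ n, rr R (homOfLE h1) (a n) * rr R (homOfLE h2) (c n m)
      have hsα : ∀ n, rs M (homOfLE (h1.trans hα')) (s α n) =
          ∑ m, rr R (homOfLE h2) (c n m) • rs M (homOfLE (h1.trans hβ')) (s β m) := by
        intro n
        have := congrArg (rs M (homOfLE h2)) (hcs n)
        rw [rs_le_le, rs_sum_smul] at this
        simpa only [rs_le_le] using this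
      have htα : ∀ n, rs T (homOfLE (h1.trans hα')) (t α n) =
          ∑ m, rr R (homOfLE h2) (c n m) • rs T (homOfLE (h1.trans hβ')) (t β m) := by
        intro n
        have := congrArg (rs T (homOfLE h2)) (hct n)
        rw [rs_le_le, rs_sum_smul] at this
        simpa only [rs_le_le] using this
      have e1 : rs M (homOfLE h1) (∑ n, a n • rs M (homOfLE hα') (s α n)) =
          ∑ m, a' m • rs M (homOfLE (h1.trans hβ')) (s β m) := by
        rw [rs_sum_smul]
        simp only [rs_le_le, hsα, Finset.smul_sum, smul_smul, a', Finset.sum_smul]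
        exact Finset.sum_comm
      have e2 : rs T (homOfLE h1) (∑ n, a n • rs T (homOfLE hα') (t α n)) =
          ∑ m, a' m • rs T (homOfLE (h1.trans hβ')) (t β m) := by
        rw [rs_sum_smul]
        simp only [rs_le_le, htα, Finset.smul_sum, smul_smul, a', Finset.sum_smul]
        exact Finset.sum_comm
      have e3 : rs M (homOfLE h1) (∑ n, b n • rs M (homOfLE hβ') (s β n)) =
          ∑ m, rr R (homOfLE h1) (b m) • rs M (homOfLE (h1.trans hβ')) (s β m) := by
        rw [rs_sum_smul]
        simp only [rs_le_le]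
      have e4 : rs T (homOfLE h1) (∑ n, b n • rs T (homOfLE hβ') (t β n)) =
          ∑ m, rr R (homOfLE h1) (b m) • rs T (homOfLE (h1.trans hβ')) (t β m) := by
        rw [rs_sum_smul]
        simp only [rs_le_le]
      rw [e2, e4]
      refine sum_smul_eq_of_isLocRel (hrel β) (t β) (hrelt β) (h1.trans hβ') a'
        (fun m => rr R (homOfLE h1) (b m)) ?_
      rw [← e1, ← e3, hab])
  exact ⟨φ.toHom, fun α n => hφ α le_top n⟩

end Groth.Agent.Lib.Helper18.ChartGlue
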