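import Mathlib
import Groth.Agent.Lib.Helper18.ChartGlue
import Groth.Agent.Lib.Helper18.LocPresAffine
import Groth.Agent.Lib.Helper18.LimTensor2
import Groth.Agent.Lib.Helper18.FTApprox

/-!
# Morphisms out of a finitely presented quasi-coherent module into an "affine-elementwise"
filtered colimit, on a quasi-compact quasi-separated scheme

`exists_factor`: on a qcqs scheme `Y`, let `T j` be a system of `O_Y`-modules indexed
(contravariantly) by a cofiltered category, with a compatible family of morphisms to `T'` which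
exhibits, elementwise, the sections of `T'` over every affine open as the colimit of the sections of
the `T j`.  Then every morphism from a finitely presented quasi-coherent module `F` to `T'` factors
through some `T j`.
-/

set_option autoImplicit false
universe u v w
open AlgebraicGeometry CategoryTheory Limits TopologicalSpace Opposite

namespace Groth.Agent.Lib.Helper18.HomColimAffine

open Groth.Agent.Lib.Helper42 Groth.Agent.Lib.Helper42.FTLocal Groth.Agent.Lib.Helper42.FPLocal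
  Groth.Agent.Lib.Helper42.StalkColim Groth.Agent.Lib.Helper42.HomColim
  Groth.Agent.Lib.Helper49 Groth.Agent.Lib.Helper18.LocPresAffine
  Groth.Agent.Lib.Helper18.LimTensor

variable {Y : Scheme.{u}}

/-- on a compact open `V` contained in a chart `Uβ` with local generators `sβ`, finitely many
sections over `V` are combinations of the generators on the members of a finite affine cover -/
theorem exists_overlap_cover (F : Y.Modules) {Nα Nβ : Type u} [Finite Nα] [Fintype Nβ]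
    {V Uβ : Y.Opens} (hV : V ≤ Uβ) (hVc : IsCompact (V : Set Y)) (sβ : Nβ → Γ(F, Uβ))
    (hgen : IsLocGen (R := Y.ringCatSheaf) F Uβ sβ) (m : Nα → Γ(F, V)) :
    ∃ (G : Type u) (_ : Fintype G) (W : G → Y.Opens) (hW : ∀ γ, W γ ≤ V)
      (c : ∀ γ, Nα → Nβ → Γ(Y, W γ)),
      (∀ γ, IsAffineOpen (W γ)) ∧ (∀ y ∈ V, ∃ γ, y ∈ W γ) ∧
        ∀ γ n, mres F (hW γ) (m n) = ∑ i, c γ n i • mres F ((hW γ).trans hV) (sβ i) := by
  classical
  have h1 : ∀ y : V, ∃ (W : Y.Opens) (hW : W ≤ V), y.1 ∈ W ∧ IsAffineOpen W ∧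
      ∃ c : Nα → Nβ → Γ(Y, W),
        ∀ n, mres F hW (m n) = ∑ i, c n i • mres F (hW.trans hV) (sβ i) := by
    intro y
    obtain ⟨W₀, hW₀, hyW₀, c₀, hc₀⟩ := IsLocGen.exists_coeffs hgen hV m y.1 y.2
    obtain ⟨W, hWaff, hyW, hWW₀⟩ := exists_isAffineOpen_mem_and_subset (x := y.1) (U := W₀) hyW₀
    have hWW₀' : W ≤ W₀ := hWW₀
    let c₁ : Nα → Nβ → Γ(Y, W₀) := c₀
    refine ⟨W, hWW₀'.trans hW₀, hyW, hWaff, fun n i => fres hWW₀' (c₁ n i), fun n => ?_⟩
    have e : mres F hW₀ (m n) = ∑ i, c₁ n i • mres F (hW₀.trans hV) (sβ i) := hc₀ n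
    have e2 := congrArg (mres F hWW₀') e
    rw [mres_mres, map_sum] at e2
    rw [e2]
    refine Finset.sum_congr rfl (fun i _ => ?_)
    rw [mres_smul, mres_mres]
  choose W hW hyW hWaff c hc using h1
  obtain ⟨t, ht⟩ := hVc.elim_finite_subcover (fun y : V => ((W y : Y.Opens) : Set Y))
    (fun y => (W y).2) (fun y hy => Set.mem_iUnion.mpr ⟨⟨y, hy⟩, hyW ⟨y, hy⟩⟩)
  refine ⟨↥t, inferInstance, fun γ => W γ.1, fun γ => hW γ.1, fun γ => c γ.1,
    fun γ => hWaff γ.1, fun y hy => ?_, fun γ n => hc γ.1 n⟩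
  obtain ⟨y', hy't, hy'⟩ := Set.mem_iUnion₂.mp (ht hy)
  exact ⟨⟨y', hy't⟩, hy'⟩


/-- the additive map on sections over `W` of a morphism of modules -/
noncomputable def ap {M N : Y.Modules} (φ : M ⟶ N) (W : Y.Opens) : Γ(M, W) →+ Γ(N, W) :=
  (φ.app W).hom

theorem ap_smul {M N : Y.Modules} (φ : M ⟶ N) (W : Y.Opens) (a : Γ(Y, W)) (x : Γ(M, W)) :
    ap φ W (a • x) = a • ap φ W x :=
  Scheme.Modules.Hom.app_smul φ a x

theorem ap_mres {M N : Y.Modules} (φ : M ⟶ N) {V W : Y.Opens} (h : W ≤ V) (x : Γ(M, V)) :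
    ap φ W (mres M h x) = mres N h (ap φ V x) := by
  have hnat := φ.mapPresheaf.naturality (homOfLE h).op
  exact congrArg (fun k => k.hom x) hnat

theorem ap_comp {M N P : Y.Modules} (φ : M ⟶ N) (ψ : N ⟶ P) (W : Y.Opens) (x : Γ(M, W)) :
    ap (φ ≫ ψ) W x = ap ψ W (ap φ W x) := rfl

theorem ap_sum_smul {M N : Y.Modules} (φ : M ⟶ N) (W : Y.Opens) {K : Type*} [Fintype K]
    (a : K → Γ(Y, W)) (x : K → Γ(M, W)) :
    ap φ W (∑ k, a k • x k) = ∑ k, a k • ap φ W (x k) := by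
  rw [map_sum]
  exact Finset.sum_congr rfl (fun k _ => ap_smul φ W _ _)

section Main

variable {J : Type v} [Category.{w} J]
  (T : J → Y.Modules) (Θ : ∀ {j' j : J}, (j' ⟶ j) → (T j ⟶ T j'))
  (T' : Y.Modules) (Θ' : ∀ j, T j ⟶ T')

/-- `T'` is, elementwise on the sections over affine opens, the colimit of the system `(T, Θ)`. -/
structure IsAffColim : Prop where
  comp : ∀ {j'' j' j : J} (g : j'' ⟶ j') (f : j' ⟶ j) (W : Y.Opens), IsAffineOpen W →
    ∀ x : Γ(T j, W), ap (Θ (g ≫ f)) W x = ap (Θ g) W (ap (Θ f) W x)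
  w : ∀ {j' j : J} (f : j' ⟶ j) (W : Y.Opens), IsAffineOpen W →
    ∀ x : Γ(T j, W), ap (Θ' j') W (ap (Θ f) W x) = ap (Θ' j) W x
  surj : ∀ (W : Y.Opens), IsAffineOpen W → ∀ s : Γ(T', W),
    ∃ (j : J) (x : Γ(T j, W)), ap (Θ' j) W x = s
  inj : ∀ (W : Y.Opens), IsAffineOpen W → ∀ (j : J) (x : Γ(T j, W)), ap (Θ' j) W x = 0 →
    ∃ (j' : J) (f : j' ⟶ j), ap (Θ f) W x = 0

variable {T Θ T' Θ'} [IsCofiltered J]

theorem IsAffColim.exists_lift (h : IsAffColim T Θ T' Θ') {E : Type*} [Finite E]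
    (W : E → Y.Opens) (hW : ∀ e, IsAffineOpen (W e)) (σ : ∀ e, Γ(T', W e)) :
    ∃ (j : J) (x : ∀ e, Γ(T j, W e)), ∀ e, ap (Θ' j) (W e) (x e) = σ e := by
  classical
  cases nonempty_fintype E
  choose j₀ x₀ hx₀ using fun e => h.surj (W e) (hW e) (σ e)
  obtain ⟨j, hj⟩ := IsCofiltered.inf_objs_exists (Finset.univ.image j₀)
  have f : ∀ e, j ⟶ j₀ e := fun e => (hj (Finset.mem_image_of_mem _ (Finset.mem_univ e))).some
  exact ⟨j, fun e => ap (Θ (f e)) (W e) (x₀ e), fun e => by rw [h.w _ _ (hW e), hx₀]⟩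

theorem exists_factor_of_charts (h : IsAffColim T Θ T' Θ') (F : Y.Modules)
    {A : Type u} [Finite A] (V : A → Y.Opens) (hVaff : ∀ α, IsAffineOpen (V α))
    (hcov : ∀ y : Y, ∃ α, y ∈ V α)
    (N L : A → Type u) [∀ α, Fintype (N α)] [∀ α, Fintype (L α)]
    (s : ∀ α, N α → Γ(F, V α)) (r : ∀ α, L α → N α → Γ(Y, V α))
    (hgen : ∀ α, IsLocGen (R := Y.ringCatSheaf) F (V α) (s α))
    (hrel : ∀ α, IsLocRel (R := Y.ringCatSheaf) F (V α) (s α) (r α))
    (G : A → A → Type u) [∀ α β, Finite (G α β)] (W : ∀ α β, G α β → Y.Opens)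
    (hWα : ∀ α β γ, W α β γ ≤ V α) (hWβ : ∀ α β γ, W α β γ ≤ V β)
    (hWaff : ∀ α β γ, IsAffineOpen (W α β γ))
    (hWcov : ∀ α β (y : Y), y ∈ V α → y ∈ V β → ∃ γ, y ∈ W α β γ)
    (c : ∀ α β γ, N α → N β → Γ(Y, W α β γ))
    (hc : ∀ α β γ n, mres F (hWα α β γ) (s α n) =
      ∑ m, c α β γ n m • mres F (hWβ α β γ) (s β m))
    (h' : F ⟶ T') : ∃ (j : J) (Φ : F ⟶ T j), Φ ≫ Θ' j = h' := by
  classical
  -- lifts of the values of the generators
  obtain ⟨j₁, t₁, ht₁⟩ := h.exists_lift (E := Σ α, N α) (fun e => V e.1) (fun e => hVaff e.1)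
    (fun e => ap h' (V e.1) (s e.1 e.2))
  -- the equations to be satisfied
  let x₁ : ∀ α, L α → Γ(T j₁, V α) := fun α l => ∑ n, r α l n • t₁ ⟨α, n⟩
  let x₂ : ∀ α β γ, N α → Γ(T j₁, W α β γ) := fun α β γ n =>
    mres (T j₁) (hWα α β γ) (t₁ ⟨α, n⟩) -
      ∑ m, c α β γ n m • mres (T j₁) (hWβ α β γ) (t₁ ⟨β, m⟩)
  have ht₁' : ∀ α n, ap (Θ' j₁) (V α) (t₁ ⟨α, n⟩) = ap h' (V α) (s α n) := fun α n => ht₁ ⟨α, n⟩
  have hx₁ : ∀ α l, ap (Θ' j₁) (V α) (x₁ α l) = 0 := by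
    intro α l
    simp only [x₁]
    rw [ap_sum_smul]
    simp only [ht₁']
    rw [← ap_sum_smul]
    have : ∑ n, r α l n • s α n = 0 := (hrel α).1 l
    rw [this, map_zero]
  have hx₂ : ∀ α β γ n, ap (Θ' j₁) (W α β γ) (x₂ α β γ n) = 0 := by
    intro α β γ n
    simp only [x₂]
    rw [map_sub, ap_sum_smul]
    have e1 : ∀ α' (hle : W α β γ ≤ V α') (n' : N α'),
        ap (Θ' j₁) (W α β γ) (mres (T j₁) hle (t₁ ⟨α', n'⟩)) =
          ap h' (W α β γ) (mres F hle (s α' n')) := by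
      intro α' hle n'
      rw [ap_mres, ht₁', ap_mres]
    rw [e1]
    simp only [e1]
    rw [← ap_sum_smul, ← map_sub, hc, sub_self, map_zero]
  let E := (Σ α, L α) ⊕ (Σ α, Σ β, G α β × N α)
  let P : E → ∀ j : J, (j ⟶ j₁) → Prop := fun e j f =>
    Sum.elim (fun e : Σ α, L α => ap (Θ f) (V e.1) (x₁ e.1 e.2) = 0)
      (fun e : Σ α, Σ β, G α β × N α =>
        ap (Θ f) (W e.1 e.2.1 e.2.2.1) (x₂ e.1 e.2.1 e.2.2.1 e.2.2.2) = 0) e
  have hfinE : Finite E := inferInstance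
  obtain ⟨j, f, hjf⟩ := exists_common_stage j₁ P
    (by
      rintro (⟨α, l⟩ | ⟨α, β, γ, n⟩) j f hP j' g
      · change ap (Θ (g ≫ f)) (V α) (x₁ α l) = 0
        have hP' : ap (Θ f) (V α) (x₁ α l) = 0 := hP
        rw [h.comp g f _ (hVaff α), hP', map_zero]
      · change ap (Θ (g ≫ f)) (W α β γ) (x₂ α β γ n) = 0
        have hP' : ap (Θ f) (W α β γ) (x₂ α β γ n) = 0 := hP
        rw [h.comp g f _ (hWaff α β γ), hP', map_zero])
    (by
      rintro (⟨α, l⟩ | ⟨α, β, γ, n⟩)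
      · exact h.inj _ (hVaff α) j₁ _ (hx₁ α l)
      · exact h.inj _ (hWaff α β γ) j₁ _ (hx₂ α β γ n))
  have hP₁ : ∀ α l, ap (Θ f) (V α) (x₁ α l) = 0 := fun α l => hjf (Sum.inl ⟨α, l⟩)
  have hP₂ : ∀ α β γ n, ap (Θ f) (W α β γ) (x₂ α β γ n) = 0 :=
    fun α β γ n => hjf (Sum.inr ⟨α, β, γ, n⟩)
  -- the values at the stage `j`
  let t : ∀ α, N α → Γ(T j, V α) := fun α n => ap (Θ f) (V α) (t₁ ⟨α, n⟩)
  have hrelt : ∀ α l, ∑ n, r α l n • t α n = 0 := by
    intro α l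
    have := hP₁ α l
    simp only [x₁] at this
    rw [ap_sum_smul] at this
    exact this
  have hovt : ∀ α β γ n, mres (T j) (hWα α β γ) (t α n) =
      ∑ m, c α β γ n m • mres (T j) (hWβ α β γ) (t β m) := by
    intro α β γ n
    have := hP₂ α β γ n
    simp only [x₂] at this
    rw [map_sub, ap_sum_smul, sub_eq_zero] at this
    simp only [ap_mres] at this
    exact this
  obtain ⟨Φ, hΦ⟩ := Groth.Agent.Lib.Helper18.ChartGlue.exists_hom_of_charts
    (R := Y.ringCatSheaf) F (T j) V N L s r t hcov hgen hrel hrelt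
    (by
      intro α β y hα hβ
      obtain ⟨γ, hγ⟩ := hWcov α β y hα hβ
      exact ⟨W α β γ, hWα α β γ, hWβ α β γ, hγ, c α β γ, hc α β γ, hovt α β γ⟩)
  refine ⟨j, Φ, ?_⟩
  refine hom_ext_of_isLocGen (R := Y.ringCatSheaf) _ _ (fun y => ?_)
  obtain ⟨α, hα⟩ := hcov y
  refine ⟨V α, hα, N α, inferInstance, s α, hgen α, fun n => ?_⟩
  change ap (Θ' j) (V α) (ap Φ (V α) (s α n)) = ap h' (V α) (s α n)
  have e1 : ap Φ (V α) (s α n) = t α n := hΦ α n
  rw [e1]
  simp only [t]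
  rw [h.w f _ (hVaff α), ht₁']

/-- **Morphisms out of a finitely presented quasi-coherent module factor through a stage.** -/
theorem exists_factor [CompactSpace Y] [QuasiSeparatedSpace Y] (h : IsAffColim T Θ T' Θ')
    (F : Y.Modules) [F.IsQuasicoherent]
    (hF : SheafOfModules.IsFinitePresentation (R := Y.ringCatSheaf) F) (h' : F ⟶ T') :
    ∃ (j : J) (Φ : F ⟶ T j), Φ ≫ Θ' j = h' := by
  classical
  obtain ⟨S, hS⟩ := Groth.Agent.Lib.Helper18.FTApprox.exists_finite_affine_cover Y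
  let V : ↥S → Y.Opens := fun α => α.1.1
  have hVaff : ∀ α, IsAffineOpen (V α) := fun α => α.1.2
  have hcov : ∀ y : Y, ∃ α, y ∈ V α := by
    intro y
    have : y ∈ (⨆ U : ↥S, (U.1 : Y.affineOpens).1) := by rw [hS]; trivial
    exact Opens.mem_iSup.mp this
  choose N L hN hL s r hgen hrel using fun α : ↥S => exists_locPres F hF (hVaff α)
  have hcpt : ∀ α β : ↥S, IsCompact ((V α ⊓ V β : Y.Opens) : Set Y) := fun α β =>
    QuasiSeparatedSpace.inter_isCompact (V α).1 (V β).1 (V α).2 (hVaff α).isCompact (V β).2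
      (hVaff β).isCompact
  have hov : ∀ α β : ↥S, ∃ (G : Type u) (_ : Fintype G) (W : G → Y.Opens)
      (hW : ∀ γ, W γ ≤ V α ⊓ V β) (c : ∀ γ, N α → N β → Γ(Y, W γ)),
      (∀ γ, IsAffineOpen (W γ)) ∧ (∀ y ∈ V α ⊓ V β, ∃ γ, y ∈ W γ) ∧
        ∀ γ n, mres F (hW γ) (mres F inf_le_left (s α n)) =
          ∑ i, c γ n i • mres F ((hW γ).trans inf_le_right) (s β i) :=
    fun α β => exists_overlap_cover F inf_le_right (hcpt α β) (s β) (hgen β)
      (fun n => mres F inf_le_left (s α n))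
  choose G hG W hW c hWaff hWcov hc using hov
  exact exists_factor_of_charts h F V hVaff hcov N L s r hgen hrel G W
    (fun α β γ => (hW α β γ).trans inf_le_left) (fun α β γ => (hW α β γ).trans inf_le_right)
    hWaff (fun α β y hα hβ => hWcov α β y ⟨hα, hβ⟩) c
    (fun α β γ n => by rw [← hc, mres_mres]) h'

end Main

end Groth.Agent.Lib.Helper18.HomColimAffine
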