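import Mathlib
import Groth.Agent.Lib.Helper49.UnitChart

/-!
# Sections of a pullback over affine charts: generators and relations

Consequences of `Helper49.UnitChart.exists_isBaseChange_pullSLE` (the unit on affine charts is a
base change) in elementwise form:
* `exists_rep_pullSLE`: every section of `h^* G` over `W` is a finite combination of pulled back
  sections of `G` over `U`;
* `sum_smul_pullSLE_eq_zero_iff`: such a combination vanishes iff the corresponding sum of tensors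
  vanishes in `Γ(X, W) ⊗ Γ(G, U)`.
-/

set_option autoImplicit false
set_option linter.style.haveILetI false
universe u
open AlgebraicGeometry CategoryTheory Limits TopologicalSpace Opposite TensorProduct

namespace Groth.Agent.Lib.Helper18.PullSecBC

open Groth.Agent.Lib.Helper49 Groth.Agent.Lib.Helper49.UnitChart

variable {X Y : Scheme.{u}} (h : X ⟶ Y) {U : Y.Opens} (hU : IsAffineOpen U) {W : X.Opens}
  (hW : IsAffineOpen W) (hWU : W ≤ h ⁻¹ᵁ U) (G : Y.Modules) [G.IsQuasicoherent]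

include hU hW in
/-- the linear equivalence `Γ(X, W) ⊗ Γ(G, U) ≃ Γ(h^* G, W)`, `b ⊗ n ↦ b • h^* n` -/
theorem exists_equiv_pullSLE [Algebra Γ(Y, U) Γ(X, W)]
    (halg : algebraMap Γ(Y, U) Γ(X, W) = (h.appLE U W hWU).hom) :
    ∃ e : Γ(X, W) ⊗[Γ(Y, U)] Γ(G, U) ≃+ Γ((Scheme.Modules.pullback h).obj G, W),
      ∀ (b : Γ(X, W)) (n : Γ(G, U)), e (b ⊗ₜ n) = b • pullSLE h G U W hWU n := by
  obtain ⟨φ, hφ⟩ : ∃ φ : Γ(Y, U) →+* Γ(X, W),
      (‹Algebra Γ(Y, U) Γ(X, W)› : Algebra Γ(Y, U) Γ(X, W)) = φ.toAlgebra :=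
    ⟨algebraMap _ _, Algebra.algebra_ext _ _ fun _ => rfl⟩
  subst hφ
  have hφ' : φ = (h.appLE U W hWU).hom := halg
  subst hφ'
  obtain ⟨f, hf, hbc⟩ := exists_isBaseChange_pullSLE h hU hW hWU G
  letI := (h.appLE U W hWU).hom.toAlgebra
  letI : Module Γ(Y, U) Γ((Scheme.Modules.pullback h).obj G, W) :=
    Module.compHom _ (h.appLE U W hWU).hom
  haveI : IsScalarTower Γ(Y, U) Γ(X, W) Γ((Scheme.Modules.pullback h).obj G, W) :=
    IsScalarTower.of_compHom _ _ _
  refine ⟨hbc.equiv.toAddEquiv, fun b n => ?_⟩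
  have := hbc.equiv_tmul b n
  rw [hf] at this
  exact this

include hU hW in
/-- every section of `h^* G` over the affine chart `W` is a combination of pulled back sections -/
theorem exists_rep_pullSLE (s : Γ((Scheme.Modules.pullback h).obj G, W)) :
    ∃ (K : Type u) (_ : Fintype K) (b : K → Γ(X, W)) (n : K → Γ(G, U)),
      s = ∑ k, b k • pullSLE h G U W hWU (n k) := by
  classical
  letI := (h.appLE U W hWU).hom.toAlgebra
  obtain ⟨e, he⟩ := exists_equiv_pullSLE h hU hW hWU G rfl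
  obtain ⟨x, rfl⟩ := e.surjective s
  obtain ⟨t, rfl⟩ := TensorProduct.exists_finset x
  refine ⟨t, inferInstance, fun k => k.1.1, fun k => k.1.2, ?_⟩
  rw [map_sum, ← Finset.sum_coe_sort t]
  exact Finset.sum_congr rfl (fun k _ => he _ _)

include hU hW in
/-- a combination of pulled back sections vanishes iff the sum of tensors vanishes -/
theorem sum_smul_pullSLE_eq_zero_iff [Algebra Γ(Y, U) Γ(X, W)]
    (halg : algebraMap Γ(Y, U) Γ(X, W) = (h.appLE U W hWU).hom) {K : Type*} [Fintype K]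
    (b : K → Γ(X, W)) (n : K → Γ(G, U)) :
    ∑ k, b k • pullSLE h G U W hWU (n k) = 0 ↔
      ∑ k, b k ⊗ₜ[Γ(Y, U)] n k = (0 : Γ(X, W) ⊗[Γ(Y, U)] Γ(G, U)) := by
  obtain ⟨e, he⟩ := exists_equiv_pullSLE h hU hW hWU G halg
  have h1 : e (∑ k, b k ⊗ₜ[Γ(Y, U)] n k) = ∑ k, b k • pullSLE h G U W hWU (n k) := by
    rw [map_sum]
    exact Finset.sum_congr rfl (fun k _ => he _ _)
  rw [← h1]
  exact ⟨fun h2 => e.injective (h2.trans (map_zero e).symm), fun h2 => by rw [h2, map_zero]⟩

end Groth.Agent.Lib.Helper18.PullSecBC
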