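import Mathlib
import Groth.Agent.Lib.Helper18.LimSystem
import Groth.Agent.Lib.Helper18.LimTensor2
import Groth.Agent.Lib.Helper18.PullSecBC

/-!
# Sections of pullbacks over affine opens in a cofiltered limit of schemes

For a cofiltered diagram `D` with affine transition maps and limit cone `c`, a quasi-coherent
module `G₀` on the stage `D.obj i₀` and an affine open `U` of that stage, the sections of the
pullback of `G₀` to the limit over the preimage of `U` are "the colimit" of the sections of the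
pullbacks to the stages, elementwise:
* `exists_rep`: every section over the limit is a combination `∑ tr (a k) • υ' (n k)` with
  coefficients `a k` coming from a stage;
* `exists_sum_smul_eq_zero`: a combination vanishing over the limit vanishes at a later stage;
* `sum_smul_eq_zero_of_hom`: vanishing at a stage persists at later stages.
-/

set_option autoImplicit false
universe u
open AlgebraicGeometry CategoryTheory Limits TopologicalSpace Opposite TensorProduct

namespace Groth.Agent.Lib.Helper18.LimSecColim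

open Groth.Agent.Lib.Helper18.LimTensor Groth.Agent.Lib.Helper18.LimSystem
  Groth.Agent.Lib.Helper18.PullSecBC Groth.Agent.Lib.Helper49 Groth.Agent.Lib.Helper49.UnitChart
  Groth.Agent.Lib.Helper13.LimSections

variable {I : Type u} [SmallCategory I] (D : I ⥤ Scheme.{u}) (c : Cone D) (i₀ : I)
  (U : (D.obj i₀).Opens) (G₀ : (D.obj i₀).Modules)

/-- the pullback to the stage `j` of a section of `G₀` over `U` -/
noncomputable def υ (j : Over i₀) (n : Γ(G₀, U)) :
    Γ((Scheme.Modules.pullback (D.map j.hom)).obj G₀, D.map j.hom ⁻¹ᵁ U) :=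
  pullSLE (D.map j.hom) G₀ U _ le_rfl n

/-- the pullback to the limit of a section of `G₀` over `U` -/
noncomputable def υ' (n : Γ(G₀, U)) :
    Γ((Scheme.Modules.pullback (c.π.app i₀)).obj G₀, c.π.app i₀ ⁻¹ᵁ U) :=
  pullSLE (c.π.app i₀) G₀ U _ le_rfl n

attribute [local instance] algA algB

variable [IsCofiltered I] [∀ (i j : I) (f : i ⟶ j), IsAffineHom (D.map f)] [G₀.IsQuasicoherent]

omit [IsCofiltered I] in
theorem sum_smul_eq_zero_of_hom (hU : IsAffineOpen U) {j' j : Over i₀} (f : j' ⟶ j)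
    {K : Type*} [Fintype K] (a : K → Γ(D.obj j.left, D.map j.hom ⁻¹ᵁ U)) (n : K → Γ(G₀, U))
    (h : ∑ k, a k • υ D i₀ U G₀ j (n k) = 0) :
    ∑ k, τr D i₀ U f (a k) • υ D i₀ U G₀ j' (n k) = 0 := by
  have h1 := (sum_smul_pullSLE_eq_zero_iff (D.map j.hom) hU (hU.preimage (D.map j.hom)) le_rfl G₀
    (show algebraMap Γ(D.obj i₀, U) Γ(D.obj j.left, D.map j.hom ⁻¹ᵁ U) = _ from rfl) a n).mp h
  have h2 := congrArg ((τa D i₀ U f).toLinearMap.rTensor Γ(G₀, U)) h1
  rw [map_sum, map_zero] at h2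
  simp only [LinearMap.rTensor_tmul] at h2
  exact (sum_smul_pullSLE_eq_zero_iff (D.map j'.hom) hU (hU.preimage (D.map j'.hom)) le_rfl G₀
    (show algebraMap Γ(D.obj i₀, U) Γ(D.obj j'.left, D.map j'.hom ⁻¹ᵁ U) = _ from rfl)
    (fun k => τr D i₀ U f (a k)) n).mpr h2

theorem exists_sum_smul_eq_zero (hc : IsLimit c) (hU : IsAffineOpen U) (j : Over i₀)
    {K : Type*} [Fintype K] (a : K → Γ(D.obj j.left, D.map j.hom ⁻¹ᵁ U)) (n : K → Γ(G₀, U))
    (h0 : ∑ k, tr D c i₀ U j (a k) • υ' D c i₀ U G₀ (n k) = 0) :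
    ∃ (j' : Over i₀) (f : j' ⟶ j), ∑ k, τr D i₀ U f (a k) • υ D i₀ U G₀ j' (n k) = 0 := by
  have : IsAffineHom (c.π.app i₀) := isAffineHom_π_app D c hc i₀
  have h1 := (sum_smul_pullSLE_eq_zero_iff (X := c.pt) (c.π.app i₀) hU
    (hU.preimage (c.π.app i₀)) le_rfl G₀
    (show algebraMap Γ(D.obj i₀, U) Γ(c.pt, c.π.app i₀ ⁻¹ᵁ U) = _ from rfl)
    (fun k => tr D c i₀ U j (a k)) n).mp h0
  obtain ⟨j', f, hf⟩ := (isColimSystem D c i₀ U hc hU).exists_sum_tmul_eq_zero j a n h1
  exact ⟨j', f, (sum_smul_pullSLE_eq_zero_iff (D.map j'.hom) hU (hU.preimage (D.map j'.hom))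
    le_rfl G₀ (show algebraMap Γ(D.obj i₀, U) Γ(D.obj j'.left, D.map j'.hom ⁻¹ᵁ U) = _ from rfl)
    (fun k => τr D i₀ U f (a k)) n).mpr hf⟩

theorem exists_rep (hc : IsLimit c) (hU : IsAffineOpen U)
    (s : Γ((Scheme.Modules.pullback (c.π.app i₀)).obj G₀, c.π.app i₀ ⁻¹ᵁ U)) :
    ∃ (j : Over i₀) (K : Type u) (_ : Fintype K)
      (a : K → Γ(D.obj j.left, D.map j.hom ⁻¹ᵁ U)) (n : K → Γ(G₀, U)),
      s = ∑ k, tr D c i₀ U j (a k) • υ' D c i₀ U G₀ (n k) := by
  have : IsAffineHom (c.π.app i₀) := isAffineHom_π_app D c hc i₀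
  obtain ⟨K, hK, b, n, rfl⟩ :=
    exists_rep_pullSLE (X := c.pt) (c.π.app i₀) hU (hU.preimage (c.π.app i₀)) le_rfl G₀ s
  obtain ⟨j, y, hy⟩ := (isColimSystem D c i₀ U hc hU).exists_lift b
  refine ⟨j, K, hK, y, n, ?_⟩
  refine Finset.sum_congr rfl (fun k _ => ?_)
  rw [← hy k]
  rfl

end Groth.Agent.Lib.Helper18.LimSecColim
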