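import Mathlib
import Groth.Agent.Lib.Helper18.TransSec
import Groth.Agent.Lib.Helper18.LimSecColim
import Groth.Agent.Lib.Helper18.HomColimAffine

/-!
# The system of direct images of pullbacks along a cofiltered limit of schemes

For a cofiltered diagram `D` with affine transition maps, limit cone `c`, a stage `i₀` and a
quasi-coherent module `G₀` on `D.obj i₀`: the modules `Tst j = (φ_j)_* φ_j^* G₀` (`j : Over i₀`)
on `D.obj i₀` with the transition morphisms `Θ` and the morphisms `Θ'` to `Tlim = π_* π^* G₀` form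
an affine-elementwise colimit system (`isAffColim`).  Consequence (`exists_hom_stage`): every
morphism `π^* F₀ ⟶ π^* G₀` with `F₀` finitely presented comes from a stage.
-/

set_option autoImplicit false
universe u
open AlgebraicGeometry CategoryTheory Limits TopologicalSpace Opposite

namespace Groth.Agent.Lib.Helper18.LimHomSys

open Groth.Agent.Lib.Helper18.LimTensor Groth.Agent.Lib.Helper18.LimSystem
  Groth.Agent.Lib.Helper18.PullSecBC Groth.Agent.Lib.Helper49 Groth.Agent.Lib.Helper49.UnitChart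
  Groth.Agent.Lib.Helper13.LimSections Groth.Agent.Lib.Helper18.TransSec
  Groth.Agent.Lib.Helper18.LimSecColim Groth.Agent.Lib.Helper18.HomColimAffine

variable {I : Type u} [SmallCategory I] (D : I ⥤ Scheme.{u}) (c : Cone D) (i₀ : I)
  (G₀ : (D.obj i₀).Modules)

/-- the direct image on `D.obj i₀` of the pullback of `G₀` to the stage `j` -/
noncomputable def Tst (j : Over i₀) : (D.obj i₀).Modules :=
  (Scheme.Modules.pushforward (D.map j.hom)).obj ((Scheme.Modules.pullback (D.map j.hom)).obj G₀)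

/-- the direct image on `D.obj i₀` of the pullback of `G₀` to the limit -/
noncomputable def Tlim : (D.obj i₀).Modules :=
  (Scheme.Modules.pushforward (c.π.app i₀)).obj ((Scheme.Modules.pullback (c.π.app i₀)).obj G₀)

theorem map_comp_hom {j' j : Over i₀} (f : j' ⟶ j) :
    D.map f.left ≫ D.map j.hom = D.map j'.hom := by
  rw [← D.map_comp, Over.w f]

/-- the transition morphisms -/
noncomputable def Θ {j' j : Over i₀} (f : j' ⟶ j) : Tst D i₀ G₀ j ⟶ Tst D i₀ G₀ j' :=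
  transHom (D.map f.left) (D.map j.hom) (D.map j'.hom) (map_comp_hom D i₀ f) G₀

/-- the morphisms to the limit -/
noncomputable def Θ' (j : Over i₀) : Tst D i₀ G₀ j ⟶ Tlim D c i₀ G₀ :=
  transHom (X' := c.pt) (c.π.app j.left) (D.map j.hom) (c.π.app i₀) (c.w j.hom) G₀

/-- the transition maps on sections -/
noncomputable def θ {j' j : Over i₀} (f : j' ⟶ j) (W : (D.obj i₀).Opens)
    (x : Γ((Scheme.Modules.pullback (D.map j.hom)).obj G₀, D.map j.hom ⁻¹ᵁ W)) :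
    Γ((Scheme.Modules.pullback (D.map j'.hom)).obj G₀, D.map j'.hom ⁻¹ᵁ W) :=
  transSec (D.map f.left) (D.map j.hom) (D.map j'.hom) (map_comp_hom D i₀ f) G₀ W x

/-- the maps to the limit on sections -/
noncomputable def θ' (j : Over i₀) (W : (D.obj i₀).Opens)
    (x : Γ((Scheme.Modules.pullback (D.map j.hom)).obj G₀, D.map j.hom ⁻¹ᵁ W)) :
    Γ((Scheme.Modules.pullback (c.π.app i₀)).obj G₀, c.π.app i₀ ⁻¹ᵁ W) :=
  transSec (X' := c.pt) (c.π.app j.left) (D.map j.hom) (c.π.app i₀) (c.w j.hom) G₀ W x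

theorem θ_sum {j' j : Over i₀} (f : j' ⟶ j) (W : (D.obj i₀).Opens) {K : Type*} [Fintype K]
    (a : K → Γ(D.obj j.left, D.map j.hom ⁻¹ᵁ W)) (n : K → Γ(G₀, W)) :
    θ D i₀ G₀ f W (∑ k, a k • υ D i₀ W G₀ j (n k)) =
      ∑ k, τr D i₀ W f (a k) • υ D i₀ W G₀ j' (n k) :=
  transSec_sum_smul_pullSLE (D.map f.left) (D.map j.hom) (D.map j'.hom) (map_comp_hom D i₀ f) G₀
    W a n

theorem θ'_sum (j : Over i₀) (W : (D.obj i₀).Opens) {K : Type*} [Fintype K]
    (a : K → Γ(D.obj j.left, D.map j.hom ⁻¹ᵁ W)) (n : K → Γ(G₀, W)) :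
    θ' D c i₀ G₀ j W (∑ k, a k • υ D i₀ W G₀ j (n k)) =
      ∑ k, tr D c i₀ W j (a k) • υ' D c i₀ W G₀ (n k) :=
  transSec_sum_smul_pullSLE (X' := c.pt) (c.π.app j.left) (D.map j.hom) (c.π.app i₀)
    (c.w j.hom) G₀ W a n

variable [IsCofiltered I] [∀ (i j : I) (f : i ⟶ j), IsAffineHom (D.map f)] [G₀.IsQuasicoherent]

omit [IsCofiltered I] in
theorem exists_rep_stage (j : Over i₀) {W : (D.obj i₀).Opens} (hW : IsAffineOpen W)
    (x : Γ((Scheme.Modules.pullback (D.map j.hom)).obj G₀, D.map j.hom ⁻¹ᵁ W)) :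
    ∃ (K : Type u) (_ : Fintype K) (a : K → Γ(D.obj j.left, D.map j.hom ⁻¹ᵁ W))
      (n : K → Γ(G₀, W)), x = ∑ k, a k • υ D i₀ W G₀ j (n k) :=
  exists_rep_pullSLE (D.map j.hom) hW (hW.preimage (D.map j.hom)) le_rfl G₀ x

omit [IsCofiltered I] in
theorem θ_comp {j'' j' j : Over i₀} (g : j'' ⟶ j') (f : j' ⟶ j) {W : (D.obj i₀).Opens}
    (hW : IsAffineOpen W)
    (x : Γ((Scheme.Modules.pullback (D.map j.hom)).obj G₀, D.map j.hom ⁻¹ᵁ W)) :
    θ D i₀ G₀ (g ≫ f) W x = θ D i₀ G₀ g W (θ D i₀ G₀ f W x) := by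
  obtain ⟨K, hK, a, n, rfl⟩ := exists_rep_stage D i₀ G₀ j hW x
  rw [θ_sum, θ_sum, θ_sum]
  refine Finset.sum_congr rfl (fun k _ => ?_)
  rw [τr_comp]

omit [IsCofiltered I] in
theorem θ'_θ {j' j : Over i₀} (f : j' ⟶ j) {W : (D.obj i₀).Opens} (hW : IsAffineOpen W)
    (x : Γ((Scheme.Modules.pullback (D.map j.hom)).obj G₀, D.map j.hom ⁻¹ᵁ W)) :
    θ' D c i₀ G₀ j' W (θ D i₀ G₀ f W x) = θ' D c i₀ G₀ j W x := by
  obtain ⟨K, hK, a, n, rfl⟩ := exists_rep_stage D i₀ G₀ j hW x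
  rw [θ_sum, θ'_sum, θ'_sum]
  refine Finset.sum_congr rfl (fun k _ => ?_)
  rw [tr_τr]

theorem θ'_surj (hc : IsLimit c) {W : (D.obj i₀).Opens} (hW : IsAffineOpen W)
    (s : Γ((Scheme.Modules.pullback (c.π.app i₀)).obj G₀, c.π.app i₀ ⁻¹ᵁ W)) :
    ∃ (j : Over i₀) (x : Γ((Scheme.Modules.pullback (D.map j.hom)).obj G₀, D.map j.hom ⁻¹ᵁ W)),
      θ' D c i₀ G₀ j W x = s := by
  obtain ⟨j, K, hK, a, n, rfl⟩ := exists_rep D c i₀ W G₀ hc hW s
  exact ⟨j, ∑ k, a k • υ D i₀ W G₀ j (n k), θ'_sum D c i₀ G₀ j W a n⟩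

theorem θ'_inj (hc : IsLimit c) {W : (D.obj i₀).Opens} (hW : IsAffineOpen W) (j : Over i₀)
    (x : Γ((Scheme.Modules.pullback (D.map j.hom)).obj G₀, D.map j.hom ⁻¹ᵁ W))
    (hx : θ' D c i₀ G₀ j W x = 0) : ∃ (j' : Over i₀) (f : j' ⟶ j), θ D i₀ G₀ f W x = 0 := by
  obtain ⟨K, hK, a, n, rfl⟩ := exists_rep_stage D i₀ G₀ j hW x
  rw [θ'_sum] at hx
  obtain ⟨j', f, hf⟩ := exists_sum_smul_eq_zero D c i₀ W G₀ hc hW j a n hx
  exact ⟨j', f, (θ_sum D i₀ G₀ f W a n).trans hf⟩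

theorem isAffColim (hc : IsLimit c) :
    IsAffColim (Tst D i₀ G₀) (fun {_ _} f => Θ D i₀ G₀ f) (Tlim D c i₀ G₀) (Θ' D c i₀ G₀) :=
  ⟨fun g f _ hW x => θ_comp D i₀ G₀ g f hW x, fun f _ hW x => θ'_θ D c i₀ G₀ f hW x,
    fun _ hW s => θ'_surj D c i₀ G₀ hc hW s, fun _ hW j x hx => θ'_inj D c i₀ G₀ hc hW j x hx⟩

/-- **Every morphism between the pullbacks to the limit, out of a finitely presented module,
comes from a stage.** -/
theorem exists_hom_stage (hc : IsLimit c) [CompactSpace (D.obj i₀)]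
    [QuasiSeparatedSpace (D.obj i₀)] (F₀ : (D.obj i₀).Modules) [F₀.IsQuasicoherent]
    (hF₀ : SheafOfModules.IsFinitePresentation (R := (D.obj i₀).ringCatSheaf) F₀)
    (h : (Scheme.Modules.pullback (c.π.app i₀)).obj F₀ ⟶
      (Scheme.Modules.pullback (c.π.app i₀)).obj G₀) :
    ∃ (j : Over i₀) (hj : (Scheme.Modules.pullback (D.map j.hom)).obj F₀ ⟶
        (Scheme.Modules.pullback (D.map j.hom)).obj G₀),
      (compIso (X' := c.pt) (c.π.app j.left) (D.map j.hom) (c.π.app i₀) (c.w j.hom) F₀).inv ≫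
        (Scheme.Modules.pullback (c.π.app j.left)).map hj ≫
          (compIso (X' := c.pt) (c.π.app j.left) (D.map j.hom) (c.π.app i₀)
            (c.w j.hom) G₀).hom = h := by
  obtain ⟨j, Φ, hΦ⟩ := exists_factor (isAffColim D c i₀ G₀ hc) F₀ hF₀
    ((Scheme.Modules.pullbackPushforwardAdjunction (c.π.app i₀)).homEquiv F₀ _ h)
  refine ⟨j, ((Scheme.Modules.pullbackPushforwardAdjunction (D.map j.hom)).homEquiv F₀ _).symm Φ,
    ?_⟩
  apply ((Scheme.Modules.pullbackPushforwardAdjunction (c.π.app i₀)).homEquiv F₀ _).injective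
  rw [← hΦ]
  exact homEquiv_pullback_map (X' := c.pt) (c.π.app j.left) (D.map j.hom) (c.π.app i₀)
    (c.w j.hom) Φ

end Groth.Agent.Lib.Helper18.LimHomSys
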