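import Groth.Agent.S3853

/-!
# Adic systems of thickenings: local version of the Noetherianity criterion, and base change

* `ker_of_isPullback`: in a cartesian square with `iY` a closed immersion, `iX.ker = iY.ker.comap f`.
* `isLocallyNoetherian_of_adic_local`: as `S3853.result`, with the finite-type hypothesis on
  `ker (X 0 ⟶ X 1)` only required on an affine open cover of `X 1`.
* `isFormal_of_isAdicHom`, `isAdic_of_isAdicHom`, `isLocNoethFormal_of_isAdicHom`: adic morphisms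
  to a (locally Noetherian) adic formal system.
-/

universe u
open CategoryTheory CategoryTheory.Limits AlgebraicGeometry FCompl

namespace Groth.Agent.Lib.Helper18

theorem ker_of_isPullback {X' X Y' Y : Scheme.{u}} {iX : X' ⟶ X} {f' : X' ⟶ Y'} {f : X ⟶ Y}
    {iY : Y' ⟶ Y} [IsClosedImmersion iY] (h : IsPullback iX f' f iY) :
    iX.ker = iY.ker.comap f := by
  rw [← h.isoPullback_hom_fst, Scheme.Hom.ker_comp_of_isIso,
    Scheme.IdealSheafData.ker_fst_of_isClosedImmersion]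

theorem toX_isClosedImmersion (𝔛 : FSch.Sys.{u}) (hF : 𝔛.IsFormal) (n : ℕ) :
    IsClosedImmersion (𝔛.toX n) := by
  induction n with
  | zero => show IsClosedImmersion (𝟙 _); infer_instance
  | succ n ih =>
    have := (hF n).1
    show IsClosedImmersion (𝔛.toX n ≫ 𝔛.ι n)
    infer_instance

theorem step_affine (𝔛 : FSch.Sys.{u}) (hF : 𝔛.IsFormal) (hA : 𝔛.IsAdic) (N : ℕ)
    (hN : IsLocallyNoetherian (𝔛.X N)) (U' : (𝔛.X (N + 1)).affineOpens)
    (h1 : N = 0 → ((𝔛.toX (N + 1)).ker.ideal U').FG) :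
    IsNoetherianRing Γ(𝔛.X (N + 1), U'.1) := by
  have := (hF N).1
  have hU : IsAffineOpen ((𝔛.ι N) ⁻¹ᵁ U'.1) := U'.2.preimage (𝔛.ι N)
  have : IsNoetherianRing Γ(𝔛.X N, (𝔛.ι N) ⁻¹ᵁ U'.1) :=
    hN.component_noetherian ⟨_, hU⟩
  have hsurj : Function.Surjective ((𝔛.ι N).app U'.1).hom := (𝔛.ι N).app_surjective U'.1 U'.2
  have hker : RingHom.ker ((𝔛.ι N).app U'.1).hom = ((𝔛.toX (N + 1)).ker.ideal U') ^ (N + 1) := by
    rw [← Scheme.Hom.ker_apply, hA N]
    rfl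
  have hnil : ((𝔛.toX (N + 1)).ker.ideal U') ^ (N + 1 + 1) = ⊥ := by
    have := congrArg (fun I => I.ideal U') (Groth.Agent.S3853.ker_toX_pow 𝔛 hF hA (N + 1))
    exact this
  refine (isNoetherianRing_of_surjective_of_ker_eq_pow ((𝔛.ι N).app U'.1).hom hsurj
    ((𝔛.toX (N + 1)).ker.ideal U') (N + 1) (by omega) hker hnil ?_).1
  intro h
  exact h1 (by omega)

theorem isLocallyNoetherian_of_adic_local (𝔛 : FSch.Sys.{u}) (hF : 𝔛.IsFormal) (hA : 𝔛.IsAdic)
    [IsLocallyNoetherian (𝔛.X 0)]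
    (hft : ∀ x : 𝔛.X 1, ∃ U : (𝔛.X 1).affineOpens, x ∈ U.1 ∧ ((𝔛.ι 0).ker.ideal U).FG) (n : ℕ) :
    IsLocallyNoetherian (𝔛.X n) := by
  induction n with
  | zero => infer_instance
  | succ N ih =>
    rcases Nat.eq_zero_or_pos N with h0 | hpos
    · subst h0
      choose S hS1 hS2 using hft
      refine isLocallyNoetherian_of_affine_cover (S := S) ?_ (fun x => ?_)
      · rw [eq_top_iff]
        intro x _
        exact TopologicalSpace.Opens.mem_iSup.mpr ⟨x, hS1 x⟩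
      · refine step_affine 𝔛 hF hA 0 ih (S x) (fun _ => ?_)
        rw [Groth.Agent.S3853.ker_toX_one]
        exact hS2 x
    · exact ⟨fun U' => step_affine 𝔛 hF hA N ih U' (fun h => by omega)⟩

section AdicHom

variable {𝔛 𝔖 : FSch.Sys.{u}} (f : 𝔛 ⟶ 𝔖)

theorem isFormal_of_isAdicHom (h𝔖 : 𝔖.IsFormal) (hf : FSch.IsAdicHom f) : 𝔛.IsFormal := by
  intro n
  have := (h𝔖 n).1
  refine ⟨MorphismProperty.of_isPullback (hf n).flip (h𝔖 n).1, ?_⟩
  have h1 : Surjective (𝔖.ι n) := ⟨(h𝔖 n).2⟩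
  have h2 : Surjective (𝔛.ι n) := MorphismProperty.of_isPullback (hf n).flip h1
  exact h2.surj

theorem isPullback_toX (hf : FSch.IsAdicHom f) (n : ℕ) :
    IsPullback (𝔛.toX n) ((f : FSch.Hom 𝔛 𝔖).app 0) ((f : FSch.Hom 𝔛 𝔖).app n) (𝔖.toX n) := by
  induction n with
  | zero => exact IsPullback.id_horiz _
  | succ n ih => exact ih.paste_horiz (hf n)

theorem isAdic_of_isAdicHom (h𝔖 : 𝔖.IsFormal) (hA : 𝔖.IsAdic) (hf : FSch.IsAdicHom f) :
    𝔛.IsAdic := by
  intro n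
  have := (h𝔖 n).1
  have := toX_isClosedImmersion 𝔖 h𝔖 (n + 1)
  rw [ker_of_isPullback (hf n), ker_of_isPullback (isPullback_toX f hf (n + 1)), hA n, comap_pow]

theorem isLocNoethFormal_of_isAdicHom (h𝔖 : 𝔖.IsLocNoethFormal) (hf : FSch.IsAdicHom f)
    [IsLocallyNoetherian (𝔛.X 0)] : 𝔛.IsLocNoethFormal := by
  obtain ⟨hF, hA, hN⟩ := h𝔖
  have hF' := isFormal_of_isAdicHom f hF hf
  have hA' := isAdic_of_isAdicHom f hF hA hf
  refine ⟨hF', hA', isLocallyNoetherian_of_adic_local 𝔛 hF' hA' (fun x => ?_)⟩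
  obtain ⟨U, V, hxU, hUV⟩ := exists_affineOpens_le_preimage ((f : FSch.Hom 𝔛 𝔖).app 1) x
  refine ⟨U, hxU, ?_⟩
  have := (hF 0).1
  rw [ker_of_isPullback (hf 0), ideal_comap_of_le _ _ U V hUV]
  have : IsNoetherianRing Γ(𝔖.X 1, V.1) := (hN 1).component_noetherian V
  exact Ideal.FG.map (IsNoetherian.noetherian _) _

end AdicHom

end Groth.Agent.Lib.Helper18
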