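import Mathlib
import Groth.Prelude.Def_RelSpec

/-!
# Quasi-coherent algebras from affine-local data (helper18)

Given a presheaf of rings `F` on the affine opens of a scheme `S` (restriction to basic opens only),
with a structure map from the structure sheaf which is a localization on basic opens, we construct
a quasi-coherent algebra `alg D` on `S` with `alg D (U) ≅ F(U)` naturally for affine opens `U`.
This is the relative spectrum construction by relative gluing, generalizing `SymQC2`.
-/

set_option autoImplicit false
set_option linter.style.haveILetI false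
universe u
open AlgebraicGeometry CategoryTheory Limits TopologicalSpace Opposite

namespace Groth.Agent.Lib.Helper18.AffAlg

/-- affine-local data for a quasi-coherent algebra -/
structure Data (S : Scheme.{u}) where
  /-- the rings over the affine opens -/
  F : S.AffineZariskiSiteᵒᵖ ⥤ CommRingCat.{u}
  /-- the structure map -/
  str : (Scheme.AffineZariskiSite.toOpensFunctor S).op ⋙ S.presheaf ⟶ F
  /-- restriction to a basic open is a localization -/
  coeq : str.Coequifibered

variable {S : Scheme.{u}} (D : Data S)

/-- The relative gluing datum: the affine schemes `Spec F(U)` over the affine opens `U`. -/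
noncomputable def glueData : (Scheme.AffineZariskiSite.directedCover S).RelativeGluingData :=
  Scheme.AffineZariskiSite.relativeGluingData D.coeq

instance : ((glueData D).functor ⋙ Scheme.forget).IsLocallyDirected :=
  Scheme.Cover.RelativeGluingData.instIsLocallyDirectedI₀CompFunctorForgetOfIsThin ..

/-- the relative spectrum -/
noncomputable def VV : Scheme.{u} := (glueData D).glued

/-- the structure morphism -/
noncomputable def pp : VV D ⟶ S := (glueData D).toBase

/-- the ring over an affine open -/
noncomputable abbrev FU (U : S.Opens) (hU : IsAffineOpen U) : CommRingCat.{u} :=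
  D.F.obj (op ⟨U, hU⟩)

/-- the structure map over an affine open -/
noncomputable abbrev strU (U : S.Opens) (hU : IsAffineOpen U) : Γ(S, U) ⟶ FU D U hU :=
  D.str.app (op ⟨U, hU⟩)

/-- the charts -/
noncomputable def chart (U : S.Opens) (hU : IsAffineOpen U) : Spec (FU D U hU) ⟶ VV D :=
  (glueData D).cover.f ⟨U, hU⟩

variable (U : S.Opens) (hU : IsAffineOpen U)

instance : IsOpenImmersion (chart D U hU) := (glueData D).cover.map_prop _

theorem chart_pp : chart D U hU ≫ pp D = Spec.map (strU D U hU) ≫ hU.fromSpec :=
  colimit.ι_desc _ _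

theorem pp_preimage : pp D ⁻¹ᵁ U = (chart D U hU).opensRange := by
  simpa using! (glueData D).toBase_preimage_eq_opensRange_ι ⟨U, hU⟩

instance isAffineHom_pp : IsAffineHom (pp D) where
  isAffine_preimage U hU := by
    rw [pp_preimage D U hU]
    exact isAffineOpen_opensRange (chart D U hU)

theorem top_le_preimage : (⊤ : (Spec (FU D U hU)).Opens) ≤ chart D U hU ⁻¹ᵁ (pp D ⁻¹ᵁ U) := by
  rw [← Scheme.Hom.comp_preimage, chart_pp, Scheme.Hom.comp_preimage, hU.fromSpec_preimage_self]
  exact le_top

/-- functions on `π⁻¹ U` are `F(U)` -/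
noncomputable def gam : Γ(VV D, pp D ⁻¹ᵁ U) ⟶ FU D U hU :=
  (chart D U hU).appLE (pp D ⁻¹ᵁ U) ⊤ (top_le_preimage D U hU) ≫ (Scheme.ΓSpecIso (FU D U hU)).hom

theorem chart_res {U V : S.AffineZariskiSite} (i : V ⟶ U) :
    Spec.map (D.F.map i.op) ≫ chart D U.1 U.2 = chart D V.1 V.2 :=
  colimit.w (glueData D).functor i

theorem isIso_appLE_of_eq {Y Z : Scheme.{u}} (g : Y ⟶ Z) [IsOpenImmersion g] (V : Z.Opens)
    (W : Y.Opens) (h1 : V ≤ g.opensRange) (h2 : W = g ⁻¹ᵁ V) : IsIso (g.appLE V W h2.le) := by
  subst h2
  rw [← Scheme.Hom.app_eq_appLE]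
  exact Scheme.Hom.isIso_app g V h1

instance isIso_gam : IsIso (gam D U hU) := by
  have := isIso_appLE_of_eq (chart D U hU) (pp D ⁻¹ᵁ U) ⊤ (by rw [pp_preimage D U hU])
    (by rw [pp_preimage D U hU]; simp)
  unfold gam
  infer_instance

set_option backward.isDefEq.respectTransparency false in
/-- naturality of `gam` in the affine open (basic open inclusions) -/
theorem gam_naturality {U V : S.AffineZariskiSite} (i : V ⟶ U) :
    (VV D).presheaf.map (homOfLE ((pp D).preimage_mono
        (Scheme.AffineZariskiSite.toOpens_mono i.le))).op ≫ gam D V.1 V.2 =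
      gam D U.1 U.2 ≫ D.F.map i.op := by
  simp only [gam, Category.assoc, ← Scheme.ΓSpecIso_naturality]
  simp only [← Category.assoc]
  congr 1
  simp only [Scheme.Hom.appTop, Scheme.Hom.appLE, Category.assoc]
  have h1 := (Scheme.Hom.comp_app (Spec.map (D.F.map i.op)) (chart D U.1 U.2) (pp D ⁻¹ᵁ U.1)).symm
  rw [Scheme.Hom.naturality_assoc, Scheme.Hom.naturality, reassoc_of% h1,
    Scheme.Hom.congr_app (chart_res D i), Category.assoc, ← Functor.map_comp, ← Functor.map_comp]
  rfl

set_option backward.isDefEq.respectTransparency false in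
/-- `gam` is compatible with the structure maps -/
theorem pp_app_gam : (pp D).app U ≫ gam D U hU = strU D U hU := by
  have h1 := Scheme.Hom.congr_app (chart_pp D U hU) U
  have h2 := (Scheme.Hom.comp_app (chart D U hU) (pp D) U).symm
  have hk : ∀ k : (op ⊤ : (Spec (FU D U hU)).Opensᵒᵖ) ⟶ op ⊤,
      (Spec (FU D U hU)).presheaf.map k = 𝟙 _ := fun k => by
    rw [Subsingleton.elim k (𝟙 _)]; exact CategoryTheory.Functor.map_id _ _
  simp only [gam, Scheme.Hom.appLE, Category.assoc]
  rw [reassoc_of% h2, h1, Scheme.Hom.comp_app, hU.fromSpec_app_self]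
  simp only [Category.assoc]
  rw [Scheme.Hom.naturality_assoc]
  simp only [← Functor.map_comp_assoc]
  erw [hk, Category.id_comp]
  rw [← cancel_epi (Scheme.ΓSpecIso Γ(S, U)).hom, Iso.hom_inv_id_assoc]
  erw [Scheme.ΓSpecIso_naturality]

end Groth.Agent.Lib.Helper18.AffAlg
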