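import Mathlib
import Groth.Prelude.Def_RelSpec
import Groth.Agent.Lib.Helper18.AffAlg
import Groth.Agent.Lib.Helper18.SymQC3

/-!
# Quasi-coherent algebras from affine-local data: the algebra and its sections (helper18)
-/

set_option autoImplicit false
set_option linter.style.haveILetI false
universe u
open AlgebraicGeometry CategoryTheory Limits TopologicalSpace Opposite

namespace Groth.Agent.Lib.Helper18.AffAlg

open RelSpec

variable {S : Scheme.{u}} (D : Data S)

/-- the quasi-coherent algebra attached to affine-local data -/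
noncomputable def alg : QCAlg S := QCAlg.directImage (pp D)

theorem alg_presheaf_obj (U : S.Opens) :
    (alg D).presheaf.obj (op U) = Γ(VV D, pp D ⁻¹ᵁ U) := rfl

variable (U : S.Opens) (hU : IsAffineOpen U)

/-- sections of `alg D` over an affine open are `F(U)` -/
noncomputable def gamE : (alg D).presheaf.obj (op U) ≃+* FU D U hU :=
  (asIso (gam D U hU)).commRingCatIsoToRingEquiv

theorem gamE_apply (x : (alg D).presheaf.obj (op U)) : gamE D U hU x = (gam D U hU).hom x := rfl

theorem gamE_str (r : Γ(S, U)) :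
    gamE D U hU (((alg D).str.app (op U)).hom r) = (strU D U hU).hom r :=
  congrArg (fun k => k.hom r) (pp_app_gam D U hU)

/-- an affine open as an object of the affine Zariski site -/
abbrev mkAff (U : S.Opens) (hU : IsAffineOpen U) : S.AffineZariskiSite := ⟨U, hU⟩

theorem mkAff_le {U W : S.Opens} (hU : IsAffineOpen U) (hW : IsAffineOpen W) (f : Γ(S, U))
    (hf : S.basicOpen f = W) : mkAff W hW ≤ mkAff U hU := ⟨f, hf⟩

/-- the basic open inclusion as a morphism of the affine Zariski site -/
def basicHom {U W : S.Opens} (hU : IsAffineOpen U) (hW : IsAffineOpen W) (f : Γ(S, U))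
    (hf : S.basicOpen f = W) : mkAff W hW ⟶ mkAff U hU :=
  homOfLE (mkAff_le hU hW f hf)

/-- `gamE` for a basic open inclusion -/
theorem gamE_res_basic {U W : S.Opens} (hU : IsAffineOpen U) (hW : IsAffineOpen W) (f : Γ(S, U))
    (hf : S.basicOpen f = W) (h : W ≤ U) (x : (alg D).presheaf.obj (op U)) :
    gamE D W hW (((alg D).presheaf.map (homOfLE h).op).hom x) =
      (D.F.map (basicHom hU hW f hf).op).hom (gamE D U hU x) :=
  congrArg (fun k => k.hom x) (gam_naturality D (basicHom hU hW f hf))

/-- two sections of `alg D` over an affine open `V` agree if they agree on the opens which are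
basic in `V` and in a second affine open `U ⊇ V` -/
theorem eq_of_basic {U V : S.Opens} (hU : IsAffineOpen U) (hV : IsAffineOpen V) (h : V ≤ U)
    (x y : (alg D).presheaf.obj (op V))
    (H : ∀ (f : Γ(S, U)) (g : Γ(S, V)) (_ : S.basicOpen f = S.basicOpen g),
      ((alg D).presheaf.map (homOfLE (S.basicOpen_le g)).op).hom x =
        ((alg D).presheaf.map (homOfLE (S.basicOpen_le g)).op).hom y) : x = y := by
  refine TopCat.Sheaf.eq_of_locally_eq' (VV D).sheaf
    (fun i : {p : Γ(S, U) × Γ(S, V) // S.basicOpen p.1 = S.basicOpen p.2} =>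
      pp D ⁻¹ᵁ S.basicOpen i.1.2) (pp D ⁻¹ᵁ V)
    (fun i => homOfLE ((pp D).preimage_mono (S.basicOpen_le i.1.2))) ?_ _ _ ?_
  · intro z hz
    obtain ⟨f, g, hfg, hzf⟩ := exists_basicOpen_le_affine_inter
      hU hV ((pp D).base z) ⟨h hz, hz⟩
    exact Opens.mem_iSup.mpr ⟨⟨(f, g), hfg⟩, hfg ▸ hzf⟩
  · rintro ⟨⟨f, g⟩, hfg⟩
    exact H f g hfg

theorem res_res {U V W : S.Opens} (h : V ≤ U) (h' : W ≤ V) (x : (alg D).presheaf.obj (op U)) :
    ((alg D).presheaf.map (homOfLE h').op).hom (((alg D).presheaf.map (homOfLE h).op).hom x) =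
      ((alg D).presheaf.map (homOfLE (h'.trans h)).op).hom x := by
  rw [← CommRingCat.comp_apply, ← Functor.map_comp]
  rfl

end Groth.Agent.Lib.Helper18.AffAlg
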