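import Mathlib

/-!
# Transport of a grading along a ring isomorphism (helper18)
-/

set_option autoImplicit false
open DirectSum

namespace Groth.Agent.Lib.Helper18.GrTransport

variable {A B : Type*} [CommRing A] [CommRing B] (e : A ≃+* B)
  {τ : Type*} [SetLike τ B] [AddSubgroupClass τ B] (ℬ : ℕ → τ)

/-- the transported degree pieces -/
def comapDeg (d : ℕ) : AddSubgroup A :=
  (AddSubgroup.ofClass (ℬ d)).comap e.toRingHom.toAddMonoidHom

theorem mem_comapDeg {d : ℕ} {x : A} : x ∈ comapDeg e ℬ d ↔ e x ∈ ℬ d := Iff.rfl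

/-- the pieces of `ℬ` map to the transported pieces -/
def toSub (d : ℕ) : ℬ d →+ comapDeg e ℬ d where
  toFun b := ⟨e.symm (b : B), by rw [mem_comapDeg, RingEquiv.apply_symm_apply]; exact b.2⟩
  map_zero' := Subtype.ext (map_zero e.symm)
  map_add' a b := Subtype.ext (map_add e.symm (a : B) (b : B))

variable [GradedRing ℬ]

instance gradedMonoid_comapDeg : SetLike.GradedMonoid (comapDeg e ℬ) where
  one_mem := by
    rw [mem_comapDeg, map_one]
    exact SetLike.GradedOne.one_mem
  mul_mem := fun i j x y hx hy => by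
    rw [mem_comapDeg, map_mul]
    exact SetLike.GradedMul.mul_mem hx hy

theorem coe_map_toSub (t : ⨁ d, ℬ d) :
    DirectSum.coeAddMonoidHom (comapDeg e ℬ) (DirectSum.map (toSub e ℬ) t) =
      e.symm (DirectSum.coeAddMonoidHom ℬ t) := by
  induction t using DirectSum.induction_on with
  | zero => simp
  | of d b =>
    rw [DirectSum.map_of, DirectSum.coeAddMonoidHom_of, DirectSum.coeAddMonoidHom_of]
    rfl
  | add s t hs ht => rw [map_add, map_add, map_add, map_add, hs, ht]

/-- the decomposition map -/
noncomputable def decomp : A →+ ⨁ d, comapDeg e ℬ d :=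
  (DirectSum.map (toSub e ℬ)).comp
    ((DirectSum.decomposeAddEquiv ℬ).toAddMonoidHom.comp e.toRingHom.toAddMonoidHom)

theorem decomp_apply (x : A) :
    decomp e ℬ x = DirectSum.map (toSub e ℬ) (DirectSum.decompose ℬ (e x)) := rfl

/-- transport of a grading along a ring isomorphism -/
noncomputable instance gradedRing_comapDeg : GradedRing (comapDeg e ℬ) where
  toGradedMonoid := gradedMonoid_comapDeg e ℬ
  toDecomposition := DirectSum.Decomposition.ofAddHom (comapDeg e ℬ) (decomp e ℬ)
    (by
      ext x
      rw [AddMonoidHom.comp_apply, decomp_apply, coe_map_toSub, AddMonoidHom.id_apply]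
      have : DirectSum.coeAddMonoidHom ℬ (DirectSum.decompose ℬ (e x)) = e x :=
        DirectSum.Decomposition.left_inv (e x)
      rw [this, RingEquiv.symm_apply_apply])
    (by
      ext d ⟨x, hx⟩
      rw [AddMonoidHom.comp_apply, AddMonoidHom.comp_apply, AddMonoidHom.id_comp,
        DirectSum.coeAddMonoidHom_of, decomp_apply]
      have hx' : e x ∈ ℬ d := hx
      rw [DirectSum.decompose_of_mem ℬ hx', DirectSum.map_of]
      have h3 : toSub e ℬ d ⟨e x, hx'⟩ = ⟨x, hx⟩ := Subtype.ext (e.symm_apply_apply x)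
      rw [h3])

theorem decompose_comapDeg (x : A) (d : ℕ) :
    e (DirectSum.decompose (comapDeg e ℬ) x d : A) = (DirectSum.decompose ℬ (e x) d : B) := by
  change e ((decomp e ℬ x) d : A) = _
  rw [decomp_apply, DirectSum.map_apply]
  exact e.apply_symm_apply _

end Groth.Agent.Lib.Helper18.GrTransport

namespace Groth.Agent.Lib.Helper18.GrTransport

variable {B : Type*} [CommRing B] {τ : Type*} [SetLike τ B] [AddSubgroupClass τ B] (ℬ : ℕ → τ)

/-- a grading by arbitrary additive subgroup-like objects, as a grading by additive subgroups -/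
abbrev toSubN (d : ℕ) : AddSubgroup B := comapDeg (RingEquiv.refl B) ℬ d

theorem mem_toSubN {d : ℕ} {x : B} : x ∈ toSubN ℬ d ↔ x ∈ ℬ d := Iff.rfl

end Groth.Agent.Lib.Helper18.GrTransport
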