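import Mathlib
import Groth.Prelude.Def_RelProj
import Groth.Agent.Lib.Helper18.AffAlg2
import Groth.Agent.Lib.Helper18.GrTransport

/-!
# Quasi-coherent graded algebras from affine-local graded data (helper18)
-/

set_option autoImplicit false
set_option linter.style.haveILetI false
universe u
open AlgebraicGeometry CategoryTheory Limits TopologicalSpace Opposite

namespace Groth.Agent.Lib.Helper18.AffAlg

open RelSpec Groth.Agent.Lib.Helper18.GrTransport

/-- affine-local graded data for a quasi-coherent graded algebra -/
structure GrData (S : Scheme.{u}) extends Data S where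
  /-- the degree pieces -/
  deg : ∀ U : S.AffineZariskiSite, ℕ → AddSubgroup (F.obj (op U))
  /-- the gradings -/
  graded : ∀ U : S.AffineZariskiSite, GradedRing (deg U)
  /-- restriction to basic opens is graded -/
  map_mem : ∀ {U V : S.AffineZariskiSite} (i : V ⟶ U) {d : ℕ} {x : F.obj (op U)},
    x ∈ deg U d → (F.map i.op).hom x ∈ deg V d
  /-- the structure map lands in degree zero -/
  str_mem : ∀ (U : S.AffineZariskiSite) (r : Γ(S, U.1)), (str.app (op U)).hom r ∈ deg U 0

variable {S : Scheme.{u}} (G : GrData S)

instance (U : S.AffineZariskiSite) : GradedRing (G.deg U) := G.graded U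

/-- the degree pieces of the sections of `alg` over an affine open -/
noncomputable def degA (U : S.Opens) (hU : IsAffineOpen U) (d : ℕ) :
    AddSubgroup ((alg G.toData).presheaf.obj (op U)) :=
  comapDeg (gamE G.toData U hU) (G.deg (mkAff U hU)) d

theorem mem_degA {U : S.Opens} {hU : IsAffineOpen U} {d : ℕ}
    {x : (alg G.toData).presheaf.obj (op U)} :
    x ∈ degA G U hU d ↔ gamE G.toData U hU x ∈ G.deg (mkAff U hU) d := Iff.rfl

noncomputable instance gradedRing_degA (U : S.Opens) (hU : IsAffineOpen U) :
    GradedRing (degA G U hU) :=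
  gradedRing_comapDeg (gamE G.toData U hU) (G.deg (mkAff U hU))

theorem gamE_decompose {U : S.Opens} (hU : IsAffineOpen U)
    (x : (alg G.toData).presheaf.obj (op U)) (d : ℕ) :
    gamE G.toData U hU (DirectSum.decompose (degA G U hU) x d : (alg G.toData).presheaf.obj (op U)) =
      (DirectSum.decompose (G.deg (mkAff U hU)) (gamE G.toData U hU x) d : G.F.obj (op (mkAff U hU))) :=
  decompose_comapDeg (gamE G.toData U hU) (G.deg (mkAff U hU)) x d

/-- restriction to a basic open commutes with taking homogeneous components -/
theorem decompose_res_basic {U W : S.Opens} (hU : IsAffineOpen U) (hW : IsAffineOpen W)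
    (f : Γ(S, U)) (hf : S.basicOpen f = W) (h : W ≤ U)
    (x : (alg G.toData).presheaf.obj (op U)) (d : ℕ) :
    (DirectSum.decompose (degA G W hW)
        (((alg G.toData).presheaf.map (homOfLE h).op).hom x) d :
          (alg G.toData).presheaf.obj (op W)) =
      ((alg G.toData).presheaf.map (homOfLE h).op).hom
        (DirectSum.decompose (degA G U hU) x d : (alg G.toData).presheaf.obj (op U)) := by
  apply (gamE G.toData W hW).injective
  rw [gamE_decompose, gamE_res_basic G.toData hU hW f hf h, gamE_res_basic G.toData hU hW f hf h,
    gamE_decompose]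
  let ρ : G.deg (mkAff U hU) →+*ᵍ G.deg (mkAff W hW) :=
    { (G.F.map (basicHom hU hW f hf).op).hom with
      map_mem := fun hx => G.map_mem (basicHom hU hW f hf) hx }
  exact (GradedRingHom.map_directSumDecompose (G.deg (mkAff U hU)) (G.deg (mkAff W hW)) ρ
    (x := gamE G.toData U hU x) (i := d)).symm

/-- restriction between affine opens commutes with taking homogeneous components -/
theorem decompose_res {U V : S.Opens} (hU : IsAffineOpen U) (hV : IsAffineOpen V) (h : V ≤ U)
    (x : (alg G.toData).presheaf.obj (op U)) (d : ℕ) :
    (DirectSum.decompose (degA G V hV)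
        (((alg G.toData).presheaf.map (homOfLE h).op).hom x) d :
          (alg G.toData).presheaf.obj (op V)) =
      ((alg G.toData).presheaf.map (homOfLE h).op).hom
        (DirectSum.decompose (degA G U hU) x d : (alg G.toData).presheaf.obj (op U)) := by
  refine eq_of_basic G.toData hU hV h _ _ (fun f g hfg => ?_)
  have hW : IsAffineOpen (S.basicOpen g) := hV.basicOpen g
  rw [← decompose_res_basic G hV hW g rfl (S.basicOpen_le g), res_res, res_res,
    decompose_res_basic G hU hW f hfg ((S.basicOpen_le g).trans h)]

/-- restriction maps between affine opens preserve degrees -/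
theorem res_mem_degA {U V : S.Opens} (hU : IsAffineOpen U) (hV : IsAffineOpen V) (h : V ≤ U)
    {d : ℕ} {x : (alg G.toData).presheaf.obj (op U)} (hx : x ∈ degA G U hU d) :
    ((alg G.toData).presheaf.map (homOfLE h).op).hom x ∈ degA G V hV d := by
  have h1 := decompose_res G hU hV h x d
  rw [DirectSum.decompose_of_mem_same _ hx] at h1
  rw [← h1]
  exact SetLike.coe_mem _

/-- the quasi-coherent graded algebra attached to affine-local graded data -/
noncomputable def grAlg : RelProj.QCGrAlg S where
  toQCAlg := alg G.toData
  deg := degA G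
  graded := gradedRing_degA G
  map_mem := fun hU hV i _ _ hx => res_mem_degA G hU hV i hx
  str_mem := fun U hU r => by
    rw [mem_degA, gamE_str]
    exact G.str_mem (mkAff U hU) r

theorem grAlg_toQCAlg : (grAlg G).toQCAlg = alg G.toData := rfl

theorem mem_grAlg_deg {U : S.Opens} {hU : IsAffineOpen U} {d : ℕ}
    {x : (alg G.toData).presheaf.obj (op U)} :
    x ∈ (grAlg G).deg U hU d ↔ gamE G.toData U hU x ∈ G.deg (mkAff U hU) d := Iff.rfl

end Groth.Agent.Lib.Helper18.AffAlg
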