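import Mathlib
import Groth.Prelude.Def_RelProj
import Groth.Agent.Lib.Helper18.AffGr

/-!
# Generation in degree one and finiteness for `grAlg` (helper18)
-/

set_option autoImplicit false
set_option linter.style.haveILetI false
universe u
open AlgebraicGeometry CategoryTheory Limits TopologicalSpace Opposite

namespace Groth.Agent.Lib.Helper18.AffAlg

open RelSpec Groth.Agent.Lib.Helper18.GrTransport

variable {S : Scheme.{u}} (G : GrData S)

theorem isGenDegOne_grAlg
    (h : ∀ U : S.AffineZariskiSite, Subring.closure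
      ((G.deg U 0 : Set (G.F.obj (op U))) ∪ (G.deg U 1 : Set (G.F.obj (op U)))) = ⊤) :
    (grAlg G).IsGenDegOne := by
  intro U hU
  rw [eq_top_iff]
  intro x _
  let e := gamE G.toData U hU
  have hx : e x ∈ Subring.closure
      ((G.deg (mkAff U hU) 0 : Set (G.F.obj (op (mkAff U hU)))) ∪
        (G.deg (mkAff U hU) 1 : Set (G.F.obj (op (mkAff U hU))))) := by
    rw [h (mkAff U hU)]; trivial
  have key : ∀ y ∈ Subring.closure
      ((G.deg (mkAff U hU) 0 : Set (G.F.obj (op (mkAff U hU)))) ∪
        (G.deg (mkAff U hU) 1 : Set (G.F.obj (op (mkAff U hU))))),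
      e.symm y ∈ Subring.closure
        (((grAlg G).deg U hU 0 : Set ((grAlg G).presheaf.obj (op U))) ∪
          ((grAlg G).deg U hU 1 : Set ((grAlg G).presheaf.obj (op U)))) := by
    intro y hy
    induction hy using Subring.closure_induction with
    | mem y hy =>
      refine Subring.subset_closure ?_
      rcases hy with hy | hy
      · left
        change e (e.symm y) ∈ G.deg (mkAff U hU) 0
        rw [e.apply_symm_apply]; exact hy
      · right
        change e (e.symm y) ∈ G.deg (mkAff U hU) 1
        rw [e.apply_symm_apply]; exact hy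
    | zero => rw [map_zero]; exact zero_mem _
    | one => rw [map_one]; exact one_mem _
    | add a b _ _ ha hb => rw [map_add]; exact add_mem ha hb
    | neg a _ ha => rw [map_neg]; exact neg_mem ha
    | mul a b _ _ ha hb => rw [map_mul]; exact mul_mem ha hb
  have := key (e x) hx
  rwa [e.symm_apply_apply] at this

theorem isFTDeg_grAlg (d : ℕ)
    (h : ∀ U : S.AffineZariskiSite, ∃ T : Finset (G.F.obj (op U)),
      (↑T : Set (G.F.obj (op U))) ⊆ (G.deg U d : Set _) ∧
        ∀ x ∈ G.deg U d, ∃ c : G.F.obj (op U) → Γ(S, U.1),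
          x = ∑ t ∈ T, (G.str.app (op U)).hom (c t) * t) :
    (grAlg G).IsFTDeg d := by
  classical
  intro U hU
  let e : (grAlg G).presheaf.obj (op U) ≃+* G.F.obj (op (mkAff U hU)) := gamE G.toData U hU
  obtain ⟨T, hT, hgen⟩ := h (mkAff U hU)
  refine ⟨T.image e.symm, ?_, ?_⟩
  · intro t ht
    rw [Finset.coe_image] at ht
    obtain ⟨t', ht', rfl⟩ := ht
    change e (e.symm t') ∈ G.deg (mkAff U hU) d
    rw [e.apply_symm_apply]
    exact hT ht'
  · intro x hx
    obtain ⟨c, hc⟩ := hgen (e x) hx
    refine ⟨fun t => c (e t), ?_⟩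
    have h1 : ∑ t ∈ T.image e.symm, ((grAlg G).str.app (op U)).hom (c (e t)) * t =
        ∑ t ∈ T, ((grAlg G).str.app (op U)).hom (c (e (e.symm t))) * e.symm t :=
      Finset.sum_image (fun a _ b _ hab => e.symm.injective hab)
    refine Eq.trans ?_ h1.symm
    apply e.injective
    rw [hc, map_sum]
    refine Finset.sum_congr rfl fun t _ => ?_
    rw [map_mul, e.apply_symm_apply]
    exact congrArg (· * t) (gamE_str G.toData U hU (c t)).symm

end Groth.Agent.Lib.Helper18.AffAlg
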