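import Mathlib
import Groth.Agent.Lib.Helper51.OmegaUniv.TildeDer

/-!
# Derivations on an affine scheme from derivations of the ring of global functions

For affine `X`, `S`, `f : X ⟶ S` and an arbitrary `O_X`-module `F`, a Leibniz map
`Γ(X, ⊤) →+ Γ(F, ⊤)` killing the image of `Γ(S, ⊤)` extends uniquely to an `S`-derivation
`O_X → F`.
-/

set_option autoImplicit false
set_option linter.unusedSectionVars false
universe u
open CategoryTheory CategoryTheory.Limits AlgebraicGeometry TopologicalSpace Opposite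

namespace Groth.Agent.Lib.Helper18.AffineDer

open Groth.Agent.Lib.Helper51.OmegaUniv OmegaSh

variable {X S : Scheme.{u}} (f : X ⟶ S) (F : X.Modules)

/-- a derivation on global sections -/
structure GDer where
  d : Γ(X, ⊤) →+ Γ(F, ⊤)
  d_mul : ∀ a b : Γ(X, ⊤), d (a * b) = a • d b + b • d a
  d_base : ∀ c : Γ(S, ⊤), d (f.appTop c) = 0

variable {f F}

noncomputable instance modTop (s : Γ(X, ⊤)) : Module Γ(X, ⊤) Γ(F, X.basicOpen s) :=
  Module.compHom _ (algebraMap Γ(X, ⊤) Γ(X, X.basicOpen s))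

instance (s : Γ(X, ⊤)) : IsScalarTower Γ(X, ⊤) Γ(X, X.basicOpen s) Γ(F, X.basicOpen s) :=
  IsScalarTower.of_algebraMap_smul fun _ _ => rfl

/-- restriction to a basic open as a linear map -/
noncomputable def resₗ (s : Γ(X, ⊤)) : Γ(F, ⊤) →ₗ[Γ(X, ⊤)] Γ(F, X.basicOpen s) where
  toFun := (F.presheaf.map (homOfLE (X.basicOpen_le s)).op).hom
  map_add' := map_add _
  map_smul' r m := Scheme.Modules.map_smul F (homOfLE (X.basicOpen_le s)) r m

theorem algebraMap_res (s s' : Γ(X, ⊤)) (h : X.basicOpen s' ≤ X.basicOpen s) (x : Γ(X, ⊤)) :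
    X.presheaf.map (homOfLE h).op (algebraMap Γ(X, ⊤) Γ(X, X.basicOpen s) x) =
      algebraMap Γ(X, ⊤) Γ(X, X.basicOpen s') x := by
  simp only [RingHom.algebraMap_toAlgebra]
  rw [← CommRingCat.comp_apply, ← Functor.map_comp]
  rfl

theorem resₗ_res (s s' : Γ(X, ⊤)) (h : X.basicOpen s' ≤ X.basicOpen s) (m : Γ(F, ⊤)) :
    F.presheaf.map (homOfLE h).op (resₗ (F := F) s m) = resₗ (F := F) s' m := by
  change F.presheaf.map (homOfLE h).op (F.presheaf.map (homOfLE (X.basicOpen_le s)).op m) = _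
  rw [← ConcreteCategory.comp_apply, ← Functor.map_comp]
  rfl

namespace GDer

variable (D : GDer f F)

/-- the underlying `ℤ`-derivation -/
noncomputable def toDerZ : Derivation ℤ Γ(X, ⊤) Γ(F, ⊤) := Derivation.mk' D.d.toIntLinearMap D.d_mul

@[simp] theorem toDerZ_apply (x : Γ(X, ⊤)) : D.toDerZ x = D.d x := rfl

variable [IsAffine X]

/-- the extension to a basic open -/
noncomputable def δ (s : Γ(X, ⊤)) : Γ(X, X.basicOpen s) →+ Γ(F, X.basicOpen s) :=
  (Alg.locDer (R := ℤ) (Submonoid.powers s) (resₗ (F := F) s) D.toDerZ :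
    Derivation ℤ Γ(X, X.basicOpen s) Γ(F, X.basicOpen s))

theorem δ_algebraMap (s x : Γ(X, ⊤)) :
    D.δ s (algebraMap Γ(X, ⊤) Γ(X, X.basicOpen s) x) = resₗ (F := F) s (D.d x) :=
  Alg.locDer_algebraMap (R := ℤ) (Submonoid.powers s) (resₗ (F := F) s) D.toDerZ x

theorem δ_mul (s : Γ(X, ⊤)) (x y : Γ(X, X.basicOpen s)) :
    D.δ s (x * y) = x • D.δ s y + y • D.δ s x :=
  Derivation.leibniz (Alg.locDer (R := ℤ) (Submonoid.powers s) (resₗ (F := F) s) D.toDerZ :
    Derivation ℤ Γ(X, X.basicOpen s) Γ(F, X.basicOpen s)) x y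

theorem δ_res (s s' : Γ(X, ⊤)) (h : X.basicOpen s' ≤ X.basicOpen s)
    (x : Γ(X, X.basicOpen s)) :
    D.δ s' (X.presheaf.map (homOfLE h).op x) = F.presheaf.map (homOfLE h).op (D.δ s x) := by
  let ρ : Γ(X, X.basicOpen s) →+* Γ(X, X.basicOpen s') := (X.presheaf.map (homOfLE h).op).hom
  let rN : Γ(F, X.basicOpen s) →+ Γ(F, X.basicOpen s') := (F.presheaf.map (homOfLE h).op).hom
  have key := Alg.leibniz_ext (A := Γ(X, ⊤)) (Submonoid.powers s) ρ
    ((D.δ s').comp ρ.toAddMonoidHom) (rN.comp (D.δ s)) ?_ ?_ ?_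
  · exact DFunLike.congr_fun key x
  · intro x y
    change D.δ s' (ρ (x * y)) = ρ x • D.δ s' (ρ y) + ρ y • D.δ s' (ρ x)
    rw [map_mul, δ_mul]
  · intro x y
    change rN (D.δ s (x * y)) = ρ x • rN (D.δ s y) + ρ y • rN (D.δ s x)
    rw [δ_mul, map_add]
    change F.presheaf.map (homOfLE h).op (x • D.δ s y) +
      F.presheaf.map (homOfLE h).op (y • D.δ s x) = _
    rw [Scheme.Modules.map_smul, Scheme.Modules.map_smul]
  · intro a
    change D.δ s' (X.presheaf.map (homOfLE h).op (algebraMap _ _ a)) =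
      F.presheaf.map (homOfLE h).op (D.δ s (algebraMap _ _ a))
    rw [algebraMap_res, δ_algebraMap, δ_algebraMap, resₗ_res]

variable [IsAffine S]

theorem appLE_algebraMap (s : Γ(X, ⊤)) (r : Γ(S, ⊤)) (h : X.basicOpen s ≤ f ⁻¹ᵁ S.basicOpen r)
    (c : Γ(S, ⊤)) :
    f.appLE (S.basicOpen r) (X.basicOpen s) h (algebraMap Γ(S, ⊤) Γ(S, S.basicOpen r) c) =
      algebraMap Γ(X, ⊤) Γ(X, X.basicOpen s) (f.appTop c) := by
  simp only [RingHom.algebraMap_toAlgebra]
  rw [← CommRingCat.comp_apply, ← CommRingCat.comp_apply, Scheme.Hom.map_appLE]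
  have e : f.appTop ≫ X.presheaf.map (homOfLE (X.basicOpen_le s)).op =
      f.appLE ⊤ (X.basicOpen s) (fun _ _ => trivial) := rfl
  rw [e]

theorem δ_appLE (s : Γ(X, ⊤)) (r : Γ(S, ⊤)) (h : X.basicOpen s ≤ f ⁻¹ᵁ S.basicOpen r)
    (a : Γ(S, S.basicOpen r)) :
    D.δ s (f.appLE (S.basicOpen r) (X.basicOpen s) h a) = 0 := by
  let ρ : Γ(S, S.basicOpen r) →+* Γ(X, X.basicOpen s) :=
    (f.appLE (S.basicOpen r) (X.basicOpen s) h).hom
  have key := Alg.leibniz_ext (A := Γ(S, ⊤)) (Submonoid.powers r) ρ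
    ((D.δ s).comp ρ.toAddMonoidHom) 0 ?_ ?_ ?_
  · exact DFunLike.congr_fun key a
  · intro x y
    change D.δ s (ρ (x * y)) = ρ x • D.δ s (ρ y) + ρ y • D.δ s (ρ x)
    rw [map_mul, δ_mul]
  · intro x y
    simp
  · intro c
    change D.δ s (f.appLE (S.basicOpen r) (X.basicOpen s) h (algebraMap _ _ c)) = 0
    rw [appLE_algebraMap, δ_algebraMap, D.d_base, map_zero]

/-- the derivation of sheaves extending a derivation on global sections -/
noncomputable def toDer : Der f F :=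
  derOfBasis (fun s : Γ(X, ⊤) => X.basicOpen s) (isBasis_basicOpen X) D.δ
    (fun i j h s => D.δ_res i j h s)
    (fun r : Γ(S, ⊤) => S.basicOpen r) (isBasis_basicOpen S) D.δ_mul
    (fun i k h a => D.δ_appLE i k h a)

theorem toDer_app_basicOpen (s : Γ(X, ⊤)) (x : Γ(X, X.basicOpen s)) :
    D.toDer.app (X.basicOpen s) x = D.δ s x :=
  derOfBasis_app (fun s : Γ(X, ⊤) => X.basicOpen s) (isBasis_basicOpen X) D.δ
    (fun i j h s => D.δ_res i j h s)
    (fun r : Γ(S, ⊤) => S.basicOpen r) (isBasis_basicOpen S) D.δ_mul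
    (fun i k h a => D.δ_appLE i k h a) s x

theorem toDer_app_top (x : Γ(X, ⊤)) : D.toDer.app ⊤ x = D.d x := by
  have h1 : X.basicOpen (1 : Γ(X, ⊤)) = ⊤ := X.basicOpen_one
  have hinj : Function.Injective (F.presheaf.map (homOfLE (X.basicOpen_le (1 : Γ(X, ⊤)))).op) := by
    have : IsIso (homOfLE (X.basicOpen_le (1 : Γ(X, ⊤)))) :=
      ⟨homOfLE h1.ge, Subsingleton.elim _ _, Subsingleton.elim _ _⟩
    have : IsIso (F.presheaf.map (homOfLE (X.basicOpen_le (1 : Γ(X, ⊤)))).op) := inferInstance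
    exact ((ConcreteCategory.isIso_iff_bijective _).mp this).1
  apply hinj
  rw [← der_app_map]
  have h2 : X.presheaf.map (homOfLE (X.basicOpen_le (1 : Γ(X, ⊤)))).op x =
      algebraMap Γ(X, ⊤) Γ(X, X.basicOpen (1 : Γ(X, ⊤))) x := rfl
  rw [h2, toDer_app_basicOpen, δ_algebraMap]
  rfl

end GDer

/-- derivations on an affine scheme are determined by their values on global sections -/
theorem der_ext_of_top [IsAffine X] (D D' : Der f F) (h : ∀ x : Γ(X, ⊤), D.app ⊤ x = D'.app ⊤ x) :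
    D = D' := by
  apply der_ext_of_basis (fun s : Γ(X, ⊤) => X.basicOpen s) (isBasis_basicOpen X)
  intro s x
  have key := Alg.leibniz_ext (A := Γ(X, ⊤)) (Submonoid.powers s)
    (RingHom.id Γ(X, X.basicOpen s))
    (D.app (X.basicOpen s)) (D'.app (X.basicOpen s)) (der_app_mul D) (der_app_mul D') ?_
  · exact DFunLike.congr_fun key x
  · intro a
    have h2 : algebraMap Γ(X, ⊤) Γ(X, X.basicOpen s) a =
        X.presheaf.map (homOfLE (X.basicOpen_le s)).op a := rfl
    rw [h2, der_app_map, der_app_map, h]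

end Groth.Agent.Lib.Helper18.AffineDer
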