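import Mathlib
import Groth.Agent.Lib.Helper45.FiniteType
import Groth.Agent.Lib.Helper49.ModGlue
import Groth.Agent.Lib.Helper49.UnitChart

/-!
# Maps out of a quasi-coherent module on an affine scheme (helper18)

`exists_hom_of_top`: for `X` affine, `Q` quasi-coherent and `G` an arbitrary `O_X`-module, every
`Γ(X, ⊤)`-linear map `Γ(Q, ⊤) → Γ(G, ⊤)` is induced by a morphism `Q ⟶ G`.
-/

set_option autoImplicit false
set_option linter.style.haveILetI false
universe u
open AlgebraicGeometry CategoryTheory Limits TopologicalSpace Opposite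

namespace Groth.Agent.Lib.Helper18.AffineHomExt

open Groth.Agent.Lib.Helper45 Groth.Agent.Lib.Helper49 Groth.Agent.Lib.Helper49.ModGlue

attribute [local instance] sectionsBasicOpenModule

variable {X : Scheme.{u}} [IsAffine X] (Q G : X.Modules) [Q.IsQuasicoherent]
  (w : Γ(Q, ⊤) →ₗ[Γ(X, ⊤)] Γ(G, ⊤))

/-- the basic opens `D(g)`, `g` a global function -/
def basicBasis (X : Scheme.{u}) : Set X.Opens := Set.range (X.basicOpen : Γ(X, ⊤) → X.Opens)

theorem isBasis_basicBasis : Opens.IsBasis (basicBasis X) := isBasis_basicOpen X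

theorem isUnit_res_pow (g : Γ(X, ⊤)) (n : ℕ) :
    IsUnit ((X.presheaf.map (homOfLE (X.basicOpen_le g)).op).hom g ^ n) :=
  (RingedSpace.isUnit_res_basicOpen X.toRingedSpace g).pow n

theorem exists_local (V : X.Opens) (hV : V ∈ basicBasis X) :
    ∃ φ : Γ(Q, V) →+ Γ(G, V), (∀ (r : Γ(X, V)) (s : Γ(Q, V)), φ (r • s) = r • φ s) ∧
      ∀ q : Γ(Q, ⊤), φ (res Q le_top q) = res G le_top (w q) := by
  obtain ⟨g, rfl⟩ := hV
  have hloc : IsLocalizedModule.Away g (restrictBasicOpenₗ Q g) :=
    isLocalizedModule_restrictBasicOpenₗ (isAffineOpen_top X) Q g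
  have hA : IsLocalization.Away g Γ(X, X.basicOpen g) :=
    (isAffineOpen_top X).isLocalization_basicOpen g
  let ℓ : Γ(Q, ⊤) →ₗ[Γ(X, ⊤)] Γ(G, X.basicOpen g) := (restrictBasicOpenₗ G g).comp w
  have hunit : ∀ x : Submonoid.powers g,
      IsUnit (algebraMap Γ(X, ⊤) (Module.End Γ(X, ⊤) Γ(G, X.basicOpen g)) x) := by
    rintro ⟨_, n, rfl⟩
    obtain ⟨v, hv⟩ := isUnit_res_pow g n
    rw [Module.End.isUnit_iff]
    refine ⟨fun a b hab => ?_, fun b => ⟨(↑v⁻¹ : Γ(X, X.basicOpen g)) • b, ?_⟩⟩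
    · have h1 : (v : Γ(X, X.basicOpen g)) • a = (v : Γ(X, X.basicOpen g)) • b := by
        rw [hv]
        have h2 : ∀ c : Γ(G, X.basicOpen g),
            (algebraMap Γ(X, ⊤) (Module.End Γ(X, ⊤) Γ(G, X.basicOpen g)) (g ^ n)) c =
            ((X.presheaf.map (homOfLE (X.basicOpen_le g)).op).hom g ^ n) • c := by
          intro c
          rw [Module.algebraMap_end_apply, ← map_pow]
          rfl
        rw [← h2, ← h2]
        exact hab
      have := congrArg (fun z => (↑v⁻¹ : Γ(X, X.basicOpen g)) • z) h1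
      simpa [smul_smul] using this
    · rw [Module.algebraMap_end_apply]
      have h3 : (g ^ n) • ((↑v⁻¹ : Γ(X, X.basicOpen g)) • b) =
          ((X.presheaf.map (homOfLE (X.basicOpen_le g)).op).hom g ^ n) •
            ((↑v⁻¹ : Γ(X, X.basicOpen g)) • b) := by
        rw [← map_pow]
        rfl
      rw [h3, ← hv, smul_smul]
      simp
  let φ₀ : Γ(Q, X.basicOpen g) →ₗ[Γ(X, ⊤)] Γ(G, X.basicOpen g) :=
    IsLocalizedModule.lift (Submonoid.powers g) (restrictBasicOpenₗ Q g) ℓ hunit
  let φ₁ : Γ(Q, X.basicOpen g) →ₗ[Γ(X, X.basicOpen g)] Γ(G, X.basicOpen g) :=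
    LinearMap.extendScalarsOfIsLocalization (Submonoid.powers g) Γ(X, X.basicOpen g) φ₀
  refine ⟨φ₁.toAddMonoidHom, fun r s => φ₁.map_smul r s, fun q => ?_⟩
  exact IsLocalizedModule.lift_apply (Submonoid.powers g) (restrictBasicOpenₗ Q g) ℓ hunit q

theorem local_gen (V : X.Opens) (hV : V ∈ basicBasis X) (s : Γ(Q, V)) :
    ∃ (r : Γ(X, V)) (t : Γ(Q, ⊤)), s = r • res Q le_top t := by
  obtain ⟨g, rfl⟩ := hV
  obtain ⟨n, t, ht⟩ := exists_restrict_eq_pow_smul (isAffineOpen_top X) (F := Q) g s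
  obtain ⟨v, hv⟩ := isUnit_res_pow g n
  refine ⟨(↑v⁻¹ : Γ(X, X.basicOpen g)), t, ?_⟩
  have h1 : res Q le_top t = (v : Γ(X, X.basicOpen g)) • s := by
    rw [hv]
    exact ht
  rw [h1, smul_smul]
  simp

/-- the family of local maps -/
noncomputable def localHom : LocalHom Q G (basicBasis X) where
  φ := fun V => Classical.choose (exists_local Q G w V.1 V.2)
  smul := fun V r s => (Classical.choose_spec (exists_local Q G w V.1 V.2)).1 r s
  compat := fun V W h s => by
    obtain ⟨r, t, rfl⟩ := local_gen Q V.1 V.2 s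
    rw [(Classical.choose_spec (exists_local Q G w V.1 V.2)).1,
      (Classical.choose_spec (exists_local Q G w V.1 V.2)).2, res_smul, res_smul, res_res,
      res_res, (Classical.choose_spec (exists_local Q G w W.1 W.2)).1,
      (Classical.choose_spec (exists_local Q G w W.1 W.2)).2]

/-- **maps out of a quasi-coherent module on an affine scheme** -/
theorem exists_hom_of_top : ∃ u : Q ⟶ G, ∀ q : Γ(Q, ⊤), (u.app ⊤).hom q = w q := by
  refine ⟨(localHom Q G w).glue isBasis_basicBasis, fun q => ?_⟩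
  refine eq_of_basis isBasis_basicBasis G _ _ (fun V hV => ?_)
  have h1 : res G hV ((((localHom Q G w).glue isBasis_basicBasis).app ⊤).hom q) =
      (((localHom Q G w).glue isBasis_basicBasis).app V.1).hom (res Q hV q) :=
    (Groth.Agent.Lib.Helper49.UnitChart.app_mres _ hV _).symm
  refine h1.trans ?_
  refine ((localHom Q G w).glue_app isBasis_basicBasis V _).trans ?_
  exact (Classical.choose_spec (exists_local Q G w V.1 V.2)).2 q

end Groth.Agent.Lib.Helper18.AffineHomExt
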