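import Mathlib
import Groth.Prelude.Def_RelProj4
import Groth.Agent.S8255

/-!
# The inverse image of a quasi-coherent algebra along an arbitrary morphism (helper18)

For `g : Y' ⟶ Y` and a quasi-coherent algebra `A` on `Y`, the inverse image `g^*A` is realised as the
direct image algebra of `Spec(A) ×_Y Y' ⟶ Y'`; `bcHom` is the canonical `g`-morphism `A → g^*A` and
`isQBaseChange_bcHom` says that it is a base change in the sense of the prelude.
-/

set_option autoImplicit false
set_option linter.style.haveILetI false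
universe u
open AlgebraicGeometry CategoryTheory Limits TopologicalSpace Opposite

namespace Groth.Agent.Lib.Helper18.BCAlg

theorem appLE_of_eq {X Y : Scheme.{u}} {f f' : X ⟶ Y} (h : f = f') (U : Y.Opens) (V : X.Opens)
    (e : V ≤ f ⁻¹ᵁ U) : f.appLE U V e = f'.appLE U V (h ▸ e) := by
  subst h; rfl

variable {Y Y' : Scheme.{u}} (g : Y' ⟶ Y) (A : RelSpec.QCAlg Y)

instance isAffineHom_snd : IsAffineHom (pullback.snd A.π g) :=
  MorphismProperty.pullback_snd _ _ inferInstance

/-- the inverse image algebra `g^*A`, as the direct image of `Spec(A) ×_Y Y' ⟶ Y'` -/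
noncomputable def bcAlg : RelSpec.QCAlg Y' := RelSpec.QCAlg.directImage (pullback.snd A.π g)

theorem preimage_eq (U : Y.Opens) :
    pullback.fst A.π g ⁻¹ᵁ (A.π ⁻¹ᵁ U) = pullback.snd A.π g ⁻¹ᵁ (g ⁻¹ᵁ U) := by
  rw [← Scheme.Hom.comp_preimage, ← Scheme.Hom.comp_preimage, pullback.condition]

/-- the inverse of the prelude's `gammaMap` -/
noncomputable def invGamma : A.presheaf ⟶ A.π.base _* A.spec.presheaf :=
  haveI := Groth.Agent.S8255.result A
  inv A.gammaMap

theorem gammaMap_invGamma : A.gammaMap ≫ invGamma A = 𝟙 _ := by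
  haveI := Groth.Agent.S8255.result A
  exact IsIso.hom_inv_id _

theorem invGamma_gammaMap : invGamma A ≫ A.gammaMap = 𝟙 _ := by
  haveI := Groth.Agent.S8255.result A
  exact IsIso.inv_hom_id _

theorem str_invGamma : A.str ≫ invGamma A = A.π.c := by
  rw [← A.π_c_gammaMap, Category.assoc, gammaMap_invGamma, Category.comp_id]

theorem str_app_invGamma (U : Y.Opens) :
    A.str.app (op U) ≫ (invGamma A).app (op U) = A.π.app U := by
  rw [← NatTrans.comp_app, str_invGamma]

/-- the canonical `g`-morphism `A → g^*A` -/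
noncomputable def bcHom : RelSpec.QHom g A (bcAlg g A) where
  app U := (invGamma A).app (op U) ≫
    (pullback.fst A.π g).appLE (A.π ⁻¹ᵁ U) (pullback.snd A.π g ⁻¹ᵁ (g ⁻¹ᵁ U)) (preimage_eq g A U).ge
  naturality {U V} i := by
    change ((invGamma A).app (op U) ≫ _) ≫
        (pullback A.π g).presheaf.map (homOfLE ((pullback.snd A.π g).preimage_mono
          (g.preimage_mono i))).op = _
    rw [Category.assoc, Scheme.Hom.appLE_map]
    have hn := (invGamma A).naturality (homOfLE i).op
    change A.presheaf.map (homOfLE i).op ≫ (invGamma A).app (op V) = (invGamma A).app (op U) ≫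
      A.spec.presheaf.map (homOfLE (A.π.preimage_mono i)).op at hn
    change _ = A.presheaf.map (homOfLE i).op ≫ (invGamma A).app (op V) ≫
      (pullback.fst A.π g).appLE (A.π ⁻¹ᵁ V) (pullback.snd A.π g ⁻¹ᵁ (g ⁻¹ᵁ V)) (preimage_eq g A V).ge
    rw [← Category.assoc, hn, Category.assoc, Scheme.Hom.map_appLE]
  str_app U := by
    change A.str.app (op U) ≫ (invGamma A).app (op U) ≫ _ =
      g.app U ≫ (pullback.snd A.π g).app (g ⁻¹ᵁ U)
    rw [← Category.assoc, str_app_invGamma, Scheme.Hom.app_eq_appLE, Scheme.Hom.appLE_comp_appLE,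
      ← Scheme.Hom.comp_app, Scheme.Hom.app_eq_appLE]
    exact appLE_of_eq pullback.condition _ _ _

theorem bcHom_appLE (U : Y.Opens) (U' : Y'.Opens) (hle : U' ≤ g ⁻¹ᵁ U) :
    (bcHom g A).appLE U U' hle = (invGamma A).app (op U) ≫
      (pullback.fst A.π g).appLE (A.π ⁻¹ᵁ U) (pullback.snd A.π g ⁻¹ᵁ U')
        (((pullback.snd A.π g).preimage_mono hle).trans (preimage_eq g A U).ge) := by
  change ((invGamma A).app (op U) ≫ _) ≫ (pullback A.π g).presheaf.map
    (homOfLE ((pullback.snd A.π g).preimage_mono hle)).op = _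
  rw [Category.assoc, Scheme.Hom.appLE_map]

/-- `bcAlg` with `bcHom` is the inverse image algebra -/
theorem isQBaseChange_bcHom : RelSpec.IsQBaseChange (bcHom g A) := by
  intro U hU U' hU' hle
  have H : IsPullback (pullback.fst A.π g) (pullback.snd A.π g) A.π g := IsPullback.of_hasPullback _ _
  have hUX : IsAffineOpen (A.π ⁻¹ᵁ U) := hU.preimage A.π
  have hUY : pullback.snd A.π g ⁻¹ᵁ U' =
      pullback.fst A.π g ⁻¹ᵁ (A.π ⁻¹ᵁ U) ⊓ pullback.snd A.π g ⁻¹ᵁ U' := by
    rw [preimage_eq]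
    exact (inf_eq_right.mpr ((pullback.snd A.π g).preimage_mono hle)).symm
  haveI := isIso_pushoutSection_of_isAffineOpen H hle (le_refl (A.π ⁻¹ᵁ U)) hUY hU hU' hUX
  have hpo := (isIso_pushoutSection_iff H hle (le_refl (A.π ⁻¹ᵁ U)) hUY).mp inferInstance
  haveI := Groth.Agent.S8255.result A
  refine hpo.flip.of_iso (Iso.refl _) (Iso.refl _) (asIso (A.gammaMap.app (op U))) (Iso.refl _)
    ?_ ?_ ?_ ?_
  · simp
  · rw [Iso.refl_hom, Category.id_comp, asIso_hom, ← Scheme.Hom.app_eq_appLE]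
    change A.π.c.app (op U) ≫ _ = _
    rw [← NatTrans.comp_app, A.π_c_gammaMap]
  · change (pullback.snd A.π g).appLE U' (pullback.snd A.π g ⁻¹ᵁ U') le_rfl ≫ 𝟙 _ =
      𝟙 _ ≫ (pullback.snd A.π g).app U'
    rw [Category.id_comp, Category.comp_id, ← Scheme.Hom.app_eq_appLE]
  · change (pullback.fst A.π g).appLE (A.π ⁻¹ᵁ U) (pullback.snd A.π g ⁻¹ᵁ U') _ ≫ 𝟙 _ =
      A.gammaMap.app (op U) ≫ (bcHom g A).appLE U U' hle
    rw [Category.comp_id, bcHom_appLE]
    have h1 : A.gammaMap.app (op U) ≫ (invGamma A).app (op U) = 𝟙 _ := by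
      rw [← NatTrans.comp_app, gammaMap_invGamma]; rfl
    exact ((Category.id_comp _).symm.trans (congrArg (· ≫ _) h1.symm)).trans (Category.assoc _ _ _)

end Groth.Agent.Lib.Helper18.BCAlg
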