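import Mathlib
import Groth.Agent.Lib.Helper18.GrTransport

/-!
# Base change of a graded ring along a pushout square of rings (helper18)

Given a pushout square of commutative rings `R → R'`, `R → A`, `t : R' → B`, `v : A → B` and an
`ℕ`-grading `𝒜` of `A` by additive subgroups with `R` landing in degree zero, the subgroups
`bcDeg t v 𝒜 d` of `B` generated by the products `t r' * v a`, `a ∈ 𝒜 d`, grade `B`.
-/

set_option autoImplicit false
set_option linter.style.haveILetI false
universe u
open TensorProduct CategoryTheory Limits DirectSum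

namespace Groth.Agent.Lib.Helper18.BCPure

open Groth.Agent.Lib.Helper18.GrTransport

section basic

variable {R' A B : Type*} [CommRing R'] [CommRing A] [CommRing B]
  (t : R' →+* B) (v : A →+* B) (𝒜 : ℕ → AddSubgroup A)

/-- the additive subgroup of `B` generated by the products `t r' * v a` with `a` of degree `d` -/
def bcDeg (d : ℕ) : AddSubgroup B :=
  AddSubgroup.closure {x | ∃ (r' : R') (a : A), a ∈ 𝒜 d ∧ x = t r' * v a}

variable {t v 𝒜}

theorem mul_v_mem {d : ℕ} (r' : R') {a : A} (ha : a ∈ 𝒜 d) : t r' * v a ∈ bcDeg t v 𝒜 d :=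
  AddSubgroup.subset_closure ⟨r', a, ha, rfl⟩

theorem v_mem {d : ℕ} {a : A} (ha : a ∈ 𝒜 d) : v a ∈ bcDeg t v 𝒜 d := by
  have := mul_v_mem (t := t) (v := v) 1 ha
  rwa [map_one, one_mul] at this

theorem t_mul_mem {d : ℕ} (r' : R') {x : B} (hx : x ∈ bcDeg t v 𝒜 d) :
    t r' * x ∈ bcDeg t v 𝒜 d := by
  induction hx using AddSubgroup.closure_induction with
  | mem x hx =>
    obtain ⟨r'', a, ha, rfl⟩ := hx
    rw [← mul_assoc, ← map_mul]
    exact mul_v_mem _ ha
  | zero => rw [mul_zero]; exact zero_mem _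
  | add x y _ _ hx hy => rw [mul_add]; exact add_mem hx hy
  | neg x _ hx => rw [mul_neg]; exact neg_mem hx

theorem bcDeg_le {d : ℕ} (H : AddSubgroup B) (h : ∀ r' a, a ∈ 𝒜 d → t r' * v a ∈ H) :
    bcDeg t v 𝒜 d ≤ H :=
  (AddSubgroup.closure_le _).mpr (by rintro _ ⟨r', a, ha, rfl⟩; exact h r' a ha)

theorem t_mem [SetLike.GradedOne 𝒜] (r' : R') : t r' ∈ bcDeg t v 𝒜 0 := by
  have := mul_v_mem (t := t) (v := v) r' (SetLike.GradedOne.one_mem (A := 𝒜))
  rwa [map_one, mul_one] at this

/-- functoriality: a ring map carrying generators to generators carries `bcDeg` to `bcDeg` -/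
theorem map_mem_bcDeg {R'' B' : Type*} [CommRing R''] [CommRing B'] {t' : R'' →+* B'}
    {v' : A →+* B'} (ρ : B →+* B') (σ : R' →+* R'') (h1 : ρ.comp t = t'.comp σ)
    (h2 : ρ.comp v = v') {d : ℕ} {x : B} (hx : x ∈ bcDeg t v 𝒜 d) :
    ρ x ∈ bcDeg t' v' 𝒜 d := by
  induction hx using AddSubgroup.closure_induction with
  | mem x hx =>
    obtain ⟨r', a, ha, rfl⟩ := hx
    rw [map_mul]
    have e1 : ρ (t r') = t' (σ r') := RingHom.congr_fun h1 r'
    have e2 : ρ (v a) = v' a := RingHom.congr_fun h2 a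
    rw [e1, e2]
    exact mul_v_mem _ ha
  | zero => rw [map_zero]; exact zero_mem _
  | add x y _ _ hx hy => rw [map_add]; exact add_mem hx hy
  | neg x _ hx => rw [map_neg]; exact neg_mem hx

end basic

section submod

variable {R A : Type*} [CommRing R] [CommRing A] [Algebra R A]
  (𝒜 : ℕ → AddSubgroup A) [GradedRing 𝒜] (h0 : ∀ r : R, algebraMap R A r ∈ 𝒜 0)

/-- the pieces of the grading, as submodules over a ring acting through degree zero -/
def toSubmod (d : ℕ) : Submodule R A where
  carrier := 𝒜 d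
  add_mem' := add_mem
  zero_mem' := zero_mem _
  smul_mem' r x hx := by
    rw [Algebra.smul_def]
    have := SetLike.mul_mem_graded (A := 𝒜) (h0 r) hx
    rwa [zero_add] at this

theorem mem_toSubmod {d : ℕ} {x : A} : x ∈ toSubmod 𝒜 h0 d ↔ x ∈ 𝒜 d := Iff.rfl

/-- the identity on pieces -/
def toSubmodHom (d : ℕ) : 𝒜 d →+ toSubmod 𝒜 h0 d where
  toFun x := ⟨x.1, x.2⟩
  map_zero' := rfl
  map_add' _ _ := rfl

theorem coe_map_toSubmodHom (t : ⨁ d, 𝒜 d) :
    DirectSum.coeAddMonoidHom (toSubmod 𝒜 h0) (DirectSum.map (toSubmodHom 𝒜 h0) t) =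
      DirectSum.coeAddMonoidHom 𝒜 t := by
  induction t using DirectSum.induction_on with
  | zero => simp
  | of d b =>
    rw [DirectSum.map_of, DirectSum.coeAddMonoidHom_of, DirectSum.coeAddMonoidHom_of]
    rfl
  | add s t hs ht => rw [map_add, map_add, map_add, hs, ht]

/-- the decomposition map -/
noncomputable def decompS : A →+ ⨁ d, toSubmod 𝒜 h0 d :=
  (DirectSum.map (toSubmodHom 𝒜 h0)).comp (DirectSum.decomposeAddEquiv 𝒜).toAddMonoidHom

theorem decompS_apply (x : A) :
    decompS 𝒜 h0 x = DirectSum.map (toSubmodHom 𝒜 h0) (DirectSum.decompose 𝒜 x) := rfl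

noncomputable instance gradedAlgebra_toSubmod : GradedAlgebra (toSubmod 𝒜 h0) where
  one_mem := SetLike.GradedOne.one_mem (A := 𝒜)
  mul_mem := fun _ _ _ _ hx hy => SetLike.GradedMul.mul_mem (A := 𝒜) hx hy
  toDecomposition := DirectSum.Decomposition.ofAddHom (toSubmod 𝒜 h0) (decompS 𝒜 h0)
    (by
      ext x
      rw [AddMonoidHom.comp_apply, decompS_apply, coe_map_toSubmodHom, AddMonoidHom.id_apply]
      exact DirectSum.Decomposition.left_inv x)
    (by
      ext d ⟨x, hx⟩
      rw [AddMonoidHom.comp_apply, AddMonoidHom.comp_apply, AddMonoidHom.id_comp,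
        DirectSum.coeAddMonoidHom_of, decompS_apply]
      have hx' : x ∈ 𝒜 d := hx
      rw [DirectSum.decompose_of_mem 𝒜 hx', DirectSum.map_of]
      rfl)

end submod

section pushout

variable {R R' A B : Type u} [CommRing R] [CommRing R'] [CommRing A] [CommRing B]
  [Algebra R R'] [Algebra R A] (t : R' →+* B) (v : A →+* B)
  (hpo : IsPushout (CommRingCat.ofHom (algebraMap R R')) (CommRingCat.ofHom (algebraMap R A))
    (CommRingCat.ofHom t) (CommRingCat.ofHom v))

/-- the identification of a pushout with the tensor product -/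
noncomputable def tensE : R' ⊗[R] A ≃+* B :=
  ((CommRingCat.isPushout_tensorProduct R R' A).isoIsPushout _ _ hpo).commRingCatIsoToRingEquiv

theorem tensE_left (r' : R') : tensE t v hpo (r' ⊗ₜ[R] (1 : A)) = t r' := by
  have h := (CommRingCat.isPushout_tensorProduct R R' A).inl_isoIsPushout_hom _ _ hpo
  exact RingHom.congr_fun (congrArg CommRingCat.Hom.hom h) r' 

theorem tensE_right (a : A) : tensE t v hpo ((1 : R') ⊗ₜ[R] a) = v a := by
  have h := (CommRingCat.isPushout_tensorProduct R R' A).inr_isoIsPushout_hom _ _ hpo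
  exact RingHom.congr_fun (congrArg CommRingCat.Hom.hom h) a

theorem tensE_tmul (r' : R') (a : A) : tensE t v hpo (r' ⊗ₜ[R] a) = t r' * v a := by
  have : r' ⊗ₜ[R] a = (r' ⊗ₜ[R] (1 : A)) * ((1 : R') ⊗ₜ[R] a) := by
    rw [Algebra.TensorProduct.tmul_mul_tmul, one_mul, mul_one]
  rw [this, map_mul, tensE_left, tensE_right]

include hpo in
theorem comm_sq (r : R) : v (algebraMap R A r) = t (algebraMap R R' r) :=
  (RingHom.congr_fun (congrArg CommRingCat.Hom.hom hpo.w) r).symm

variable (𝒜 : ℕ → AddSubgroup A) [GradedRing 𝒜] (h0 : ∀ r : R, algebraMap R A r ∈ 𝒜 0)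

theorem bcDeg_eq_comapDeg (d : ℕ) :
    bcDeg t v 𝒜 d = comapDeg (tensE t v hpo).symm
      (fun d => (toSubmod 𝒜 h0 d).baseChange R') d := by
  apply le_antisymm
  · refine bcDeg_le _ fun r' a ha => ?_
    rw [mem_comapDeg, ← tensE_tmul t v hpo, RingEquiv.symm_apply_apply]
    have : r' ⊗ₜ[R] a = r' • ((1 : R') ⊗ₜ[R] a) := by
      rw [TensorProduct.smul_tmul', smul_eq_mul, mul_one]
    rw [this]
    exact Submodule.smul_mem _ _ (Submodule.tmul_mem_baseChange_of_mem _ ha)
  · intro x hx
    rw [mem_comapDeg] at hx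
    have key : ∀ y ∈ (toSubmod 𝒜 h0 d).baseChange R', tensE t v hpo y ∈ bcDeg t v 𝒜 d := by
      intro y hy
      rw [Submodule.baseChange_eq_span] at hy
      induction hy using Submodule.span_induction with
      | mem y hy =>
        obtain ⟨a, ha, rfl⟩ := hy
        change tensE t v hpo ((1 : R') ⊗ₜ[R] a) ∈ _
        rw [tensE_right]
        exact v_mem ha
      | zero => rw [map_zero]; exact zero_mem _
      | add y z _ _ hy hz => rw [map_add]; exact add_mem hy hz
      | smul r' y _ hy =>
        have : r' • y = (r' ⊗ₜ[R] (1 : A)) * y := by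
          rw [Algebra.smul_def]; rfl
        rw [this, map_mul, tensE_left]
        exact t_mul_mem r' hy
    have := key _ hx
    rwa [RingEquiv.apply_symm_apply] at this

/-- the base-changed pieces grade the pushout -/
@[instance_reducible]
noncomputable def gradedRing_bcDeg : GradedRing (bcDeg t v 𝒜) := by
  have h : bcDeg t v 𝒜 = comapDeg (tensE t v hpo).symm
      (fun d => (toSubmod 𝒜 h0 d).baseChange R') := funext (bcDeg_eq_comapDeg t v hpo 𝒜 h0)
  rw [h]
  infer_instance

include hpo in
/-- generation in degrees zero and one passes to the pushout -/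
theorem closure_bcDeg_eq_top
    (h : Subring.closure ((𝒜 0 : Set A) ∪ (𝒜 1 : Set A)) = ⊤) :
    Subring.closure ((bcDeg t v 𝒜 0 : Set B) ∪ (bcDeg t v 𝒜 1 : Set B)) = ⊤ := by
  rw [eq_top_iff]
  rintro x -
  set C : Subring B := Subring.closure ((bcDeg t v 𝒜 0 : Set B) ∪ (bcDeg t v 𝒜 1 : Set B))
  have hv : ∀ a : A, v a ∈ C := by
    intro a
    have ha : a ∈ Subring.closure ((𝒜 0 : Set A) ∪ (𝒜 1 : Set A)) := by rw [h]; trivial
    induction ha using Subring.closure_induction with
    | mem a ha =>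
      refine Subring.subset_closure ?_
      rcases ha with ha | ha
      · exact Or.inl (v_mem ha)
      · exact Or.inr (v_mem ha)
    | zero => rw [map_zero]; exact zero_mem _
    | one => rw [map_one]; exact one_mem _
    | add a b _ _ ha hb => rw [map_add]; exact add_mem ha hb
    | neg a _ ha => rw [map_neg]; exact neg_mem ha
    | mul a b _ _ ha hb => rw [map_mul]; exact mul_mem ha hb
  have ht : ∀ r' : R', t r' ∈ C := fun r' => Subring.subset_closure (Or.inl (t_mem r'))
  obtain ⟨y, rfl⟩ := (tensE t v hpo).surjective x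
  induction y using TensorProduct.induction_on with
  | zero => rw [map_zero]; exact zero_mem _
  | tmul r' a => rw [tensE_tmul]; exact mul_mem (ht r') (hv a)
  | add y z hy hz => rw [map_add]; exact add_mem hy hz

omit [GradedRing 𝒜] in
include hpo in
/-- finite generation of a piece passes to the pushout -/
theorem exists_finset_bcDeg (d : ℕ) (T : Finset A) (hT : (↑T : Set A) ⊆ (𝒜 d : Set A))
    (hgen : ∀ x ∈ 𝒜 d, ∃ c : A → R, x = ∑ τ ∈ T, algebraMap R A (c τ) * τ) :
    ∃ T' : Finset B, (↑T' : Set B) ⊆ (bcDeg t v 𝒜 d : Set B) ∧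
      ∀ x ∈ bcDeg t v 𝒜 d, ∃ c : B → R', x = ∑ τ ∈ T', t (c τ) * τ := by
  classical
  letI : Algebra R' B := t.toAlgebra
  refine ⟨T.image v, ?_, ?_⟩
  · intro b hb
    rw [Finset.coe_image] at hb
    obtain ⟨a, ha, rfl⟩ := hb
    exact v_mem (hT ha)
  · intro x hx
    have hmem : x ∈ Submodule.span R' ((T.image v : Finset B) : Set B) := by
      refine bcDeg_le (Submodule.span R' ((T.image v : Finset B) : Set B)).toAddSubgroup
        (fun r' a ha => ?_) hx
      change t r' * v a ∈ Submodule.span R' ((T.image v : Finset B) : Set B)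
      have e1 : t r' * v a = r' • v a := by rw [Algebra.smul_def]; rfl
      rw [e1]
      refine Submodule.smul_mem _ _ ?_
      obtain ⟨c, hc⟩ := hgen a ha
      rw [hc, map_sum]
      refine Submodule.sum_mem _ fun τ hτ => ?_
      rw [map_mul, comm_sq t v hpo]
      have e2 : t (algebraMap R R' (c τ)) * v τ = (algebraMap R R' (c τ)) • v τ := by
        rw [Algebra.smul_def]; rfl
      rw [e2]
      refine Submodule.smul_mem _ _ (Submodule.subset_span ?_)
      rw [Finset.coe_image]
      exact ⟨τ, hτ, rfl⟩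
    obtain ⟨c, -, hc⟩ := Submodule.mem_span_finset.mp hmem
    refine ⟨c, ?_⟩
    rw [← hc]
    refine Finset.sum_congr rfl fun τ _ => ?_
    rw [Algebra.smul_def]
    rfl

end pushout

end Groth.Agent.Lib.Helper18.BCPure
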