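import Mathlib

/-!
# Gluing gradings of a sheaf of rings from a basis (helper18)

Let `F` be a sheaf of commutative rings on a space `X`, and suppose given a family of opens `B i`
forming a basis, each `F(B i)` graded by additive subgroups, restrictions between members of the family
preserving degrees.  Then over every compact open `V` the subgroups `glDeg V d` of the sections whose
restrictions to all `B i ⊆ V` are homogeneous of degree `d` grade the ring `F(V)`.
-/

set_option autoImplicit false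
set_option linter.style.haveILetI false
universe u
open CategoryTheory TopologicalSpace Opposite TopCat DirectSum

namespace Groth.Agent.Lib.Helper18.GrGlue

variable {X : TopCat.{u}} (F : TopCat.Presheaf CommRingCat.{u} X)

/-- restriction of sections, elementwise -/
noncomputable def res {V W : Opens X} (h : W ≤ V) : F.obj (op V) →+* F.obj (op W) :=
  (F.map (homOfLE h).op).hom

theorem res_res {V W W' : Opens X} (h : W ≤ V) (h' : W' ≤ W) (s : F.obj (op V)) :
    res F h' (res F h s) = res F (h'.trans h) s := by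
  change ((F.map (homOfLE h).op) ≫ (F.map (homOfLE h').op)).hom s = _
  rw [← F.map_comp]
  rfl

theorem res_self {V : Opens X} (s : F.obj (op V)) : res F (le_refl V) s = s := by
  change (F.map (𝟙 (op V))).hom s = s
  rw [F.map_id]
  rfl

/-- sections of a sheaf agreeing locally agree -/
theorem eq_of_cover (hF : F.IsSheaf) (V : Opens X) (s t : F.obj (op V))
    (h : ∀ x ∈ V, ∃ (W : Opens X) (hW : W ≤ V), x ∈ W ∧ res F hW s = res F hW t) : s = t := by
  let Fs : TopCat.Sheaf CommRingCat.{u} X := ⟨F, hF⟩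
  choose W hW hx he using h
  refine Fs.eq_of_locally_eq' (fun x : {x // x ∈ V} => W x.1 x.2) V
    (fun x => homOfLE (hW x.1 x.2)) ?_ s t (fun x => he x.1 x.2)
  intro x hxV
  exact Opens.mem_iSup.mpr ⟨⟨x, hxV⟩, hx x hxV⟩

/-- a basis of opens with compatible gradings of the sections -/
structure GrBasis where
  /-- the index type -/
  ι : Type u
  /-- the opens -/
  B : ι → Opens X
  /-- the gradings -/
  deg : ∀ i, ℕ → AddSubgroup (F.obj (op (B i)))
  graded : ∀ i, GradedRing (deg i)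
  map_mem : ∀ (i j : ι) (h : B j ≤ B i) (d : ℕ) (x : F.obj (op (B i))),
    x ∈ deg i d → res F h x ∈ deg j d
  basis : ∀ (V : Opens X) (x : X), x ∈ V → ∃ i, x ∈ B i ∧ B i ≤ V

variable {F} (𝔅 : GrBasis F)

namespace GrBasis

instance (i : 𝔅.ι) : GradedRing (𝔅.deg i) := 𝔅.graded i

/-- the sections all of whose restrictions to members of the basis have degree `d` -/
def glDeg (V : Opens X) (d : ℕ) : AddSubgroup (F.obj (op V)) where
  carrier := {s | ∀ (i : 𝔅.ι) (h : 𝔅.B i ≤ V), res F h s ∈ 𝔅.deg i d}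
  zero_mem' := fun i h => by rw [map_zero]; exact zero_mem _
  add_mem' := fun ha hb i h => by rw [map_add]; exact add_mem (ha i h) (hb i h)
  neg_mem' := fun ha i h => by rw [map_neg]; exact neg_mem (ha i h)

theorem mem_glDeg {V : Opens X} {d : ℕ} {s : F.obj (op V)} :
    s ∈ 𝔅.glDeg V d ↔ ∀ (i : 𝔅.ι) (h : 𝔅.B i ≤ V), res F h s ∈ 𝔅.deg i d := Iff.rfl

theorem res_mem_glDeg {V W : Opens X} (h : W ≤ V) {d : ℕ} {s : F.obj (op V)}
    (hs : s ∈ 𝔅.glDeg V d) : res F h s ∈ 𝔅.glDeg W d := by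
  intro i hi
  rw [res_res]
  exact hs i (hi.trans h)

theorem glDeg_eq (i : 𝔅.ι) (d : ℕ) : 𝔅.glDeg (𝔅.B i) d = 𝔅.deg i d := by
  apply le_antisymm
  · intro s hs
    have := hs i (le_refl _)
    rwa [res_self] at this
  · intro s hs j h
    exact 𝔅.map_mem i j h d s hs

instance gradedMonoid_glDeg (V : Opens X) : SetLike.GradedMonoid (𝔅.glDeg V) where
  one_mem := fun i h => by rw [map_one]; exact SetLike.GradedOne.one_mem
  mul_mem := fun _ _ _ _ ha hb i h => by
    rw [map_mul]; exact SetLike.GradedMul.mul_mem (ha i h) (hb i h)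

/-- restriction between members of the basis, as a graded ring homomorphism -/
noncomputable def resGr (i j : 𝔅.ι) (h : 𝔅.B j ≤ 𝔅.B i) : 𝔅.deg i →+*ᵍ 𝔅.deg j :=
  { res F h with map_mem := fun hx => 𝔅.map_mem i j h _ _ hx }

theorem res_decompose (i j : 𝔅.ι) (h : 𝔅.B j ≤ 𝔅.B i) (x : F.obj (op (𝔅.B i))) (d : ℕ) :
    res F h (DirectSum.decompose (𝔅.deg i) x d : F.obj (op (𝔅.B i))) =
      (DirectSum.decompose (𝔅.deg j) (res F h x) d : F.obj (op (𝔅.B j))) :=
  (𝔅.resGr i j h).map_directSumDecompose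

/-- restriction on pieces -/
noncomputable def resPiece {V : Opens X} (i : 𝔅.ι) (hi : 𝔅.B i ≤ V) (d : ℕ) :
    𝔅.glDeg V d →+ 𝔅.deg i d where
  toFun x := ⟨res F hi x.1, x.2 i hi⟩
  map_zero' := Subtype.ext (map_zero _)
  map_add' _ _ := Subtype.ext (map_add _ _ _)

variable (hF : F.IsSheaf)
include hF

/-- sections agreeing on all members of the basis inside `V` agree -/
theorem eq_of_basis (V : Opens X) (s t : F.obj (op V))
    (h : ∀ (i : 𝔅.ι) (hi : 𝔅.B i ≤ V), res F hi s = res F hi t) : s = t := by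
  let Fs : TopCat.Sheaf CommRingCat.{u} X := ⟨F, hF⟩
  refine Fs.eq_of_locally_eq' (fun j : {i : 𝔅.ι // 𝔅.B i ≤ V} => 𝔅.B j.1) V
    (fun j => homOfLE j.2) ?_ s t (fun j => h j.1 j.2)
  intro x hx
  obtain ⟨i, hxi, hi⟩ := 𝔅.basis V x hx
  exact Opens.mem_iSup.mpr ⟨⟨i, hi⟩, hxi⟩

/-- the components of a section glue -/
theorem exists_component (V : Opens X) (s : F.obj (op V)) (d : ℕ) :
    ∃ sd : F.obj (op V), ∀ (i : 𝔅.ι) (hi : 𝔅.B i ≤ V),
      res F hi sd = (DirectSum.decompose (𝔅.deg i) (res F hi s) d : F.obj (op (𝔅.B i))) := by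
  let Fs : TopCat.Sheaf CommRingCat.{u} X := ⟨F, hF⟩
  let U : {i : 𝔅.ι // 𝔅.B i ≤ V} → Opens X := fun j => 𝔅.B j.1
  let sf : ∀ j : {i : 𝔅.ι // 𝔅.B i ≤ V}, F.obj (op (U j)) := fun j =>
    (DirectSum.decompose (𝔅.deg j.1) (res F j.2 s) d : F.obj (op (𝔅.B j.1)))
  have hcompat : TopCat.Presheaf.IsCompatible F U sf := by
    intro j k
    change res F (inf_le_left : U j ⊓ U k ≤ U j) (sf j) = res F (inf_le_right : U j ⊓ U k ≤ U k) (sf k)
    refine 𝔅.eq_of_basis hF _ _ _ fun i hi => ?_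
    rw [res_res, res_res]
    change res F _ (DirectSum.decompose (𝔅.deg j.1) (res F j.2 s) d : F.obj (op (𝔅.B j.1))) =
      res F _ (DirectSum.decompose (𝔅.deg k.1) (res F k.2 s) d : F.obj (op (𝔅.B k.1)))
    rw [𝔅.res_decompose j.1 i (hi.trans inf_le_left), 𝔅.res_decompose k.1 i (hi.trans inf_le_right),
      res_res, res_res]
  have hcover : V ≤ iSup U := by
    intro x hx
    obtain ⟨i, hxi, hi⟩ := 𝔅.basis V x hx
    exact Opens.mem_iSup.mpr ⟨⟨i, hi⟩, hxi⟩
  obtain ⟨sd, hsd, -⟩ := Fs.existsUnique_gluing' U V (fun j => homOfLE j.2) hcover sf hcompat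
  exact ⟨sd, fun i hi => hsd ⟨i, hi⟩⟩

omit hF in
theorem exists_finset_cover (V : Opens X) (hV : IsCompact (V : Set X)) :
    ∃ T : Finset {i : 𝔅.ι // 𝔅.B i ≤ V}, ∀ x ∈ V, ∃ j ∈ T, x ∈ 𝔅.B j.1 := by
  have hcov : (V : Set X) ⊆ ⋃ j : {i : 𝔅.ι // 𝔅.B i ≤ V}, (𝔅.B j.1 : Set X) := by
    intro x hx
    obtain ⟨i, hxi, hi⟩ := 𝔅.basis V x hx
    exact Set.mem_iUnion.mpr ⟨⟨i, hi⟩, hxi⟩
  obtain ⟨T, hT⟩ := hV.elim_finite_subcover (fun j : {i : 𝔅.ι // 𝔅.B i ≤ V} => (𝔅.B j.1 : Set X))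
    (fun j => (𝔅.B j.1).2) hcov
  refine ⟨T, fun x hx => ?_⟩
  obtain ⟨j, hj, hxj⟩ := Set.mem_iUnion₂.mp (hT hx)
  exact ⟨j, hj, hxj⟩

/-- sections agreeing on a family of members of the basis covering `V` agree -/
theorem eq_of_finset_cover (V : Opens X) (T : Finset {i : 𝔅.ι // 𝔅.B i ≤ V})
    (hT : ∀ x ∈ V, ∃ j ∈ T, x ∈ 𝔅.B j.1) (s t : F.obj (op V))
    (h : ∀ j ∈ T, res F j.2 s = res F j.2 t) : s = t := by
  let Fs : TopCat.Sheaf CommRingCat.{u} X := ⟨F, hF⟩
  refine Fs.eq_of_locally_eq' (fun j : {j // j ∈ T} => 𝔅.B j.1.1) V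
    (fun j => homOfLE j.1.2) ?_ s t (fun j => h j.1 j.2)
  intro x hx
  obtain ⟨j, hj, hxj⟩ := hT x hx
  exact Opens.mem_iSup.mpr ⟨⟨j, hj⟩, hxj⟩

omit hF in
theorem coe_map_res {V : Opens X} (i : 𝔅.ι) (hi : 𝔅.B i ≤ V) (t : ⨁ d, 𝔅.glDeg V d) :
    DirectSum.coeAddMonoidHom (𝔅.deg i) (DirectSum.map (𝔅.resPiece i hi) t) =
      res F hi (DirectSum.coeAddMonoidHom (𝔅.glDeg V) t) := by
  induction t using DirectSum.induction_on with
  | zero => simp
  | of d b =>
    rw [DirectSum.map_of, DirectSum.coeAddMonoidHom_of, DirectSum.coeAddMonoidHom_of]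
    rfl
  | add s t hs ht => rw [map_add, map_add, map_add, map_add, hs, ht]

theorem isInternal_glDeg (V : Opens X) (hV : IsCompact (V : Set X)) :
    DirectSum.IsInternal (𝔅.glDeg V) := by
  classical
  constructor
  · -- injectivity
    rw [injective_iff_map_eq_zero]
    intro t ht
    ext d
    rw [DirectSum.zero_apply, ZeroMemClass.coe_zero]
    refine 𝔅.eq_of_basis hF V _ _ fun i hi => ?_
    rw [map_zero]
    have h1 := coe_map_res 𝔅 i hi t
    rw [ht, map_zero] at h1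
    have h2 : DirectSum.map (𝔅.resPiece i hi) t = 0 :=
      (DirectSum.Decomposition.isInternal (𝔅.deg i)).injective (by rw [h1, map_zero])
    have h3 := congrArg (fun z => ((z d : 𝔅.deg i d) : F.obj (op (𝔅.B i)))) h2
    simp only [DirectSum.map_apply, DirectSum.zero_apply, ZeroMemClass.coe_zero] at h3
    exact h3
  · -- surjectivity
    intro s
    obtain ⟨T, hT⟩ := 𝔅.exists_finset_cover V hV
    choose sd hsd using 𝔅.exists_component hF V s
    have hmem : ∀ d, sd d ∈ 𝔅.glDeg V d := by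
      intro d i hi
      rw [hsd d i hi]
      exact SetLike.coe_mem _
    let D : Finset ℕ := T.biUnion fun j => (DirectSum.decompose (𝔅.deg j.1) (res F j.2 s)).support
    refine ⟨∑ d ∈ D, DirectSum.of (fun d => 𝔅.glDeg V d) d ⟨sd d, hmem d⟩, ?_⟩
    rw [map_sum]
    simp only [DirectSum.coeAddMonoidHom_of]
    refine 𝔅.eq_of_finset_cover hF V T hT _ _ fun j hj => ?_
    rw [map_sum]
    have hsub : (DirectSum.decompose (𝔅.deg j.1) (res F j.2 s)).support ⊆ D :=
      Finset.subset_biUnion_of_mem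
        (fun j : {i : 𝔅.ι // 𝔅.B i ≤ V} => (DirectSum.decompose (𝔅.deg j.1) (res F j.2 s)).support) hj
    calc ∑ d ∈ D, res F j.2 (sd d)
        = ∑ d ∈ D, (DirectSum.decompose (𝔅.deg j.1) (res F j.2 s) d : F.obj (op (𝔅.B j.1))) :=
          Finset.sum_congr rfl fun d _ => hsd d j.1 j.2
      _ = ∑ d ∈ (DirectSum.decompose (𝔅.deg j.1) (res F j.2 s)).support,
            (DirectSum.decompose (𝔅.deg j.1) (res F j.2 s) d : F.obj (op (𝔅.B j.1))) := by
          refine (Finset.sum_subset hsub fun d _ hd => ?_).symm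
          rw [DFinsupp.notMem_support_iff.mp hd, ZeroMemClass.coe_zero]
      _ = res F j.2 s := DirectSum.sum_support_decompose (𝔅.deg j.1) (res F j.2 s)

/-- the glued grading over a compact open -/
@[instance_reducible]
noncomputable def gradedRing_glDeg (V : Opens X) (hV : IsCompact (V : Set X)) :
    GradedRing (𝔅.glDeg V) :=
  { 𝔅.gradedMonoid_glDeg V with
    toDecomposition := (𝔅.isInternal_glDeg hF V hV).chooseDecomposition }

end GrBasis

end Groth.Agent.Lib.Helper18.GrGlue
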