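import Mathlib
import Groth.Prelude.Def_RelProj
import Groth.Agent.Lib.Helper18.BCPure

/-!
# Local-to-global statements for quasi-coherent graded algebras on an affine open (helper18)

For a quasi-coherent graded algebra `𝒯` on `S`, an affine open `U` and functions `r` on `U` generating
the unit ideal: generation in degrees `0, 1` and finite generation of a piece can be checked on the
basic opens `D(r)`.
-/

set_option autoImplicit false
set_option linter.style.haveILetI false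
universe u
open AlgebraicGeometry CategoryTheory Limits TopologicalSpace Opposite

namespace Groth.Agent.Lib.Helper18.QCGrLoc

variable {S : Scheme.{u}} (𝒯 : RelProj.QCGrAlg S) {U : S.Opens} (hU : IsAffineOpen U)

/-- restriction to a basic open -/
noncomputable abbrev rho (r : Γ(S, U)) :
    𝒯.presheaf.obj (op U) →+* 𝒯.presheaf.obj (op (S.basicOpen r)) :=
  (𝒯.presheaf.map (homOfLE (S.basicOpen_le r)).op).hom

/-- the structure map -/
noncomputable abbrev sig (V : S.Opens) : Γ(S, V) →+* 𝒯.presheaf.obj (op V) := (𝒯.str.app (op V)).hom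

theorem rho_sig (r c : Γ(S, U)) :
    rho 𝒯 r (sig 𝒯 U c) = sig 𝒯 (S.basicOpen r) ((S.presheaf.map (homOfLE (S.basicOpen_le r)).op).hom c) := by
  have := 𝒯.str.naturality (homOfLE (S.basicOpen_le r)).op
  exact (RingHom.congr_fun (congrArg CommRingCat.Hom.hom this) c).symm

include hU in
theorem exists_pow_mul_eq_res (r : Γ(S, U)) {d : ℕ} {b : 𝒯.presheaf.obj (op (S.basicOpen r))}
    (hb : b ∈ 𝒯.deg (S.basicOpen r) (hU.basicOpen r) d) :
    ∃ (k : ℕ) (a : 𝒯.presheaf.obj (op U)), a ∈ 𝒯.deg U hU d ∧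
      rho 𝒯 r a = b * (rho 𝒯 r (sig 𝒯 U r)) ^ k := by
  classical
  let ψ := 𝒯.res hU (hU.basicOpen r) (S.basicOpen_le r)
  letI := (𝒯.presheaf.map (homOfLE (S.basicOpen_le r)).op).hom.toAlgebra
  haveI hloc : IsLocalization.Away (sig 𝒯 U r) (𝒯.presheaf.obj (op (S.basicOpen r))) := 𝒯.isQC U hU r
  obtain ⟨⟨x, s, hs⟩, hxs⟩ := IsLocalization.surj (Submonoid.powers (sig 𝒯 U r)) b
  obtain ⟨k, rfl⟩ := (Submonoid.mem_powers_iff _ _).mp hs
  change b * ψ ((sig 𝒯 U r) ^ k) = ψ x at hxs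
  have hc0 : ψ ((sig 𝒯 U r) ^ k) ∈ 𝒯.deg (S.basicOpen r) (hU.basicOpen r) 0 := by
    rw [map_pow]
    exact SetLike.pow_mem_graded _ (ψ.map_mem (𝒯.str_mem U hU r))
  have hbi : b * ψ ((sig 𝒯 U r) ^ k) ∈ 𝒯.deg (S.basicOpen r) (hU.basicOpen r) d := by
    simpa only [add_zero] using
      SetLike.mul_mem_graded (A := 𝒯.deg (S.basicOpen r) (hU.basicOpen r)) hb hc0
  refine ⟨k, (DirectSum.decompose (𝒯.deg U hU) x d : 𝒯.presheaf.obj (op U)), SetLike.coe_mem _, ?_⟩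
  change ψ _ = b * (ψ (sig 𝒯 U r)) ^ k
  rw [GradedRingHom.map_directSumDecompose, ← hxs, DirectSum.decompose_of_mem_same _ hbi, map_pow]

include hU in
theorem exists_pow_mul_eq_zero (r : Γ(S, U)) {a : 𝒯.presheaf.obj (op U)} (h : rho 𝒯 r a = 0) :
    ∃ m : ℕ, (sig 𝒯 U r) ^ m * a = 0 := by
  letI := (𝒯.presheaf.map (homOfLE (S.basicOpen_le r)).op).hom.toAlgebra
  haveI hloc : IsLocalization.Away (sig 𝒯 U r) (𝒯.presheaf.obj (op (S.basicOpen r))) := 𝒯.isQC U hU r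
  obtain ⟨⟨_, m, rfl⟩, hm⟩ := (IsLocalization.map_eq_zero_iff (Submonoid.powers (sig 𝒯 U r))
    (𝒯.presheaf.obj (op (S.basicOpen r))) a).mp h
  exact ⟨m, hm⟩

/-- the module structure on sections through the structure map -/
noncomputable abbrev algU (V : S.Opens) : Algebra Γ(S, V) (𝒯.presheaf.obj (op V)) := (sig 𝒯 V).toAlgebra

/-- a subring containing degree zero, as a submodule over the functions -/
noncomputable def subringSubmod (C : Subring (𝒯.presheaf.obj (op U)))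
    (hC : (𝒯.deg U hU 0 : Set (𝒯.presheaf.obj (op U))) ⊆ C) :
    letI := algU 𝒯 U
    Submodule Γ(S, U) (𝒯.presheaf.obj (op U)) :=
  letI := algU 𝒯 U
  { carrier := C
    add_mem' := C.add_mem
    zero_mem' := C.zero_mem
    smul_mem' := fun c x hx => by
      rw [Algebra.smul_def]
      exact C.mul_mem (hC (𝒯.str_mem U hU c)) hx }

include hU in
/-- generation in degrees zero and one is local on an affine open -/
theorem closure_eq_top_of_cover (T : Set Γ(S, U)) (hT : Ideal.span T = ⊤)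
    (h : ∀ r ∈ T, Subring.closure
      ((𝒯.deg (S.basicOpen r) (hU.basicOpen r) 0 : Set (𝒯.presheaf.obj (op (S.basicOpen r)))) ∪
        (𝒯.deg (S.basicOpen r) (hU.basicOpen r) 1 : Set _)) = ⊤) :
    Subring.closure ((𝒯.deg U hU 0 : Set (𝒯.presheaf.obj (op U))) ∪ (𝒯.deg U hU 1 : Set _)) = ⊤ := by
  letI := algU 𝒯 U
  rw [eq_top_iff]
  rintro x -
  set C : Subring (𝒯.presheaf.obj (op U)) :=
    Subring.closure ((𝒯.deg U hU 0 : Set (𝒯.presheaf.obj (op U))) ∪ (𝒯.deg U hU 1 : Set _)) with hCdef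
  have hC0 : (𝒯.deg U hU 0 : Set (𝒯.presheaf.obj (op U))) ⊆ C := fun y hy =>
    Subring.subset_closure (Or.inl hy)
  have hsig : ∀ c : Γ(S, U), sig 𝒯 U c ∈ C := fun c => hC0 (𝒯.str_mem U hU c)
  suffices hx : x ∈ subringSubmod 𝒯 hU C hC0 from hx
  refine Submodule.mem_of_span_eq_top_of_smul_pow_mem _ T hT x ?_
  rintro ⟨r, hr⟩
  -- the local claim
  have key : ∀ y ∈ Subring.closure
      ((𝒯.deg (S.basicOpen r) (hU.basicOpen r) 0 : Set (𝒯.presheaf.obj (op (S.basicOpen r)))) ∪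
        (𝒯.deg (S.basicOpen r) (hU.basicOpen r) 1 : Set _)),
      ∃ (n : ℕ) (c : 𝒯.presheaf.obj (op U)), c ∈ C ∧ y * (rho 𝒯 r (sig 𝒯 U r)) ^ n = rho 𝒯 r c := by
    intro y hy
    induction hy using Subring.closure_induction with
    | mem y hy =>
      rcases hy with hy | hy
      · obtain ⟨k, a, ha, hka⟩ := exists_pow_mul_eq_res 𝒯 hU r hy
        exact ⟨k, a, Subring.subset_closure (Or.inl ha), hka.symm⟩
      · obtain ⟨k, a, ha, hka⟩ := exists_pow_mul_eq_res 𝒯 hU r hy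
        exact ⟨k, a, Subring.subset_closure (Or.inr ha), hka.symm⟩
    | zero => exact ⟨0, 0, C.zero_mem, by simp⟩
    | one => exact ⟨0, 1, C.one_mem, by simp⟩
    | add y z _ _ hy hz =>
      obtain ⟨n₁, c₁, hc₁, e₁⟩ := hy
      obtain ⟨n₂, c₂, hc₂, e₂⟩ := hz
      refine ⟨n₁ + n₂, c₁ * (sig 𝒯 U r) ^ n₂ + c₂ * (sig 𝒯 U r) ^ n₁,
        C.add_mem (C.mul_mem hc₁ (C.pow_mem (hsig r) _)) (C.mul_mem hc₂ (C.pow_mem (hsig r) _)), ?_⟩
      rw [map_add, map_mul, map_mul, map_pow, map_pow, ← e₁, ← e₂]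
      ring
    | neg y _ hy =>
      obtain ⟨n, c, hc, e⟩ := hy
      exact ⟨n, -c, C.neg_mem hc, by rw [map_neg, ← e]; ring⟩
    | mul y z _ _ hy hz =>
      obtain ⟨n₁, c₁, hc₁, e₁⟩ := hy
      obtain ⟨n₂, c₂, hc₂, e₂⟩ := hz
      refine ⟨n₁ + n₂, c₁ * c₂, C.mul_mem hc₁ hc₂, ?_⟩
      rw [map_mul, ← e₁, ← e₂]
      ring
  obtain ⟨n, c, hc, e⟩ := key (rho 𝒯 r x) (by rw [h r hr]; trivial)
  have h0 : rho 𝒯 r (x * (sig 𝒯 U r) ^ n - c) = 0 := by
    rw [map_sub, map_mul, map_pow, e, sub_self]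
  obtain ⟨m, hm⟩ := exists_pow_mul_eq_zero 𝒯 hU r h0
  refine ⟨m + n, ?_⟩
  change (r ^ (m + n)) • x ∈ C
  rw [Algebra.smul_def]
  change sig 𝒯 U (r ^ (m + n)) * x ∈ C
  have e2 : sig 𝒯 U (r ^ (m + n)) * x = (sig 𝒯 U r) ^ m * c := by
    rw [map_pow, pow_add]
    linear_combination hm
  rw [e2]
  exact C.mul_mem (C.pow_mem (hsig r) _) hc

include hU in
/-- the local step for finite generation of a piece -/
theorem exists_pow_mul_mem_span (r : Γ(S, U)) (d : ℕ)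
    (G : Finset (𝒯.presheaf.obj (op (S.basicOpen r))))
    (hG : (↑G : Set (𝒯.presheaf.obj (op (S.basicOpen r)))) ⊆
      (𝒯.deg (S.basicOpen r) (hU.basicOpen r) d : Set _))
    (hgen : ∀ x ∈ 𝒯.deg (S.basicOpen r) (hU.basicOpen r) d,
      ∃ c : 𝒯.presheaf.obj (op (S.basicOpen r)) → Γ(S, S.basicOpen r),
        x = ∑ t ∈ G, sig 𝒯 (S.basicOpen r) (c t) * t) :
    letI := algU 𝒯 U
    ∃ G' : Finset (𝒯.presheaf.obj (op U)),
      (↑G' : Set (𝒯.presheaf.obj (op U))) ⊆ (𝒯.deg U hU d : Set _) ∧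
      ∀ x ∈ 𝒯.deg U hU d, ∃ n : ℕ,
        (sig 𝒯 U r) ^ n * x ∈ Submodule.span Γ(S, U) (↑G' : Set (𝒯.presheaf.obj (op U))) := by
  classical
  letI := algU 𝒯 U
  letI := algU 𝒯 (S.basicOpen r)
  choose k a ha hρ using fun t : {t // t ∈ 𝒯.deg (S.basicOpen r) (hU.basicOpen r) d} =>
    exists_pow_mul_eq_res 𝒯 hU r t.2
  let G' : Finset (𝒯.presheaf.obj (op U)) := G.attach.image (fun t => a ⟨t.1, hG t.2⟩)
  refine ⟨G', ?_, ?_⟩
  · intro x hx
    rw [Finset.coe_image] at hx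
    obtain ⟨t, -, rfl⟩ := hx
    exact ha _
  · intro x hx
    set P : Submodule Γ(S, U) (𝒯.presheaf.obj (op U)) :=
      Submodule.span Γ(S, U) (↑G' : Set (𝒯.presheaf.obj (op U))) with hP
    have hsmul : ∀ (c : Γ(S, U)) (p : 𝒯.presheaf.obj (op U)), p ∈ P → sig 𝒯 U c * p ∈ P := by
      intro c p hp
      have : sig 𝒯 U c * p = c • p := by rw [Algebra.smul_def]; rfl
      rw [this]
      exact P.smul_mem c hp
    have hh : rho 𝒯 r (sig 𝒯 U r) = sig 𝒯 (S.basicOpen r)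
        ((S.presheaf.map (homOfLE (S.basicOpen_le r)).op).hom r) := rho_sig 𝒯 r r
    have key : ∀ y ∈ Submodule.span Γ(S, S.basicOpen r)
        (↑G : Set (𝒯.presheaf.obj (op (S.basicOpen r)))),
        ∃ (n : ℕ) (p : 𝒯.presheaf.obj (op U)), p ∈ P ∧
          y * (rho 𝒯 r (sig 𝒯 U r)) ^ n = rho 𝒯 r p := by
      intro y hy
      induction hy using Submodule.span_induction with
      | mem t ht =>
        refine ⟨k ⟨t, hG ht⟩, a ⟨t, hG ht⟩, Submodule.subset_span ?_, (hρ ⟨t, hG ht⟩).symm⟩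
        rw [Finset.coe_image]
        exact ⟨⟨t, ht⟩, Finset.mem_coe.mpr (Finset.mem_attach _ _), rfl⟩
      | zero => exact ⟨0, 0, P.zero_mem, by simp⟩
      | add y z _ _ hy hz =>
        obtain ⟨n₁, p₁, hp₁, e₁⟩ := hy
        obtain ⟨n₂, p₂, hp₂, e₂⟩ := hz
        refine ⟨n₁ + n₂, sig 𝒯 U (r ^ n₂) * p₁ + sig 𝒯 U (r ^ n₁) * p₂,
          P.add_mem (hsmul _ _ hp₁) (hsmul _ _ hp₂), ?_⟩
        rw [map_add, map_mul, map_mul, map_pow, map_pow, map_pow, map_pow, ← e₁, ← e₂]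
        ring
      | smul c y _ hy =>
        obtain ⟨n, p, hp, e⟩ := hy
        haveI hloc : IsLocalization.Away r Γ(S, S.basicOpen r) := hU.isLocalization_basicOpen r
        obtain ⟨⟨c', ⟨_, m, rfl⟩⟩, hc'⟩ := IsLocalization.surj (Submonoid.powers r) c
        change c * (S.presheaf.map (homOfLE (S.basicOpen_le r)).op).hom (r ^ m) =
          (S.presheaf.map (homOfLE (S.basicOpen_le r)).op).hom c' at hc'
        refine ⟨n + m, sig 𝒯 U c' * p, hsmul _ _ hp, ?_⟩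
        have e3 : rho 𝒯 r (sig 𝒯 U c') =
            sig 𝒯 (S.basicOpen r) c * (rho 𝒯 r (sig 𝒯 U r)) ^ m := by
          rw [rho_sig, ← hc', map_mul, hh, map_pow, map_pow]
        rw [Algebra.smul_def]
        change sig 𝒯 (S.basicOpen r) c * y * _ = _
        rw [map_mul, e3, ← e]
        ring
    have hx' : rho 𝒯 r x ∈ 𝒯.deg (S.basicOpen r) (hU.basicOpen r) d :=
      𝒯.map_mem hU (hU.basicOpen r) (S.basicOpen_le r) hx
    have hspan : rho 𝒯 r x ∈ Submodule.span Γ(S, S.basicOpen r)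
        (↑G : Set (𝒯.presheaf.obj (op (S.basicOpen r)))) := by
      obtain ⟨c, hc⟩ := hgen _ hx'
      rw [hc]
      refine Submodule.sum_mem _ fun t ht => ?_
      have : sig 𝒯 (S.basicOpen r) (c t) * t = (c t) • t := by rw [Algebra.smul_def]; rfl
      rw [this]
      exact Submodule.smul_mem _ _ (Submodule.subset_span ht)
    obtain ⟨n, p, hp, e⟩ := key _ hspan
    have h0 : rho 𝒯 r (x * (sig 𝒯 U r) ^ n - p) = 0 := by
      rw [map_sub, map_mul, map_pow, e, sub_self]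
    obtain ⟨m, hm⟩ := exists_pow_mul_eq_zero 𝒯 hU r h0
    refine ⟨m + n, ?_⟩
    have e2 : (sig 𝒯 U r) ^ (m + n) * x = sig 𝒯 U (r ^ m) * p := by
      rw [map_pow, pow_add]
      linear_combination hm
    rw [e2]
    exact hsmul _ _ hp

include hU in
/-- finite generation of a piece is local on an affine open -/
theorem isFT_of_cover (d : ℕ) (T : Finset Γ(S, U)) (hT : Ideal.span (↑T : Set Γ(S, U)) = ⊤)
    (h : ∀ r ∈ T, ∃ G : Finset (𝒯.presheaf.obj (op (S.basicOpen r))),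
      (↑G : Set (𝒯.presheaf.obj (op (S.basicOpen r)))) ⊆
        (𝒯.deg (S.basicOpen r) (hU.basicOpen r) d : Set _) ∧
      ∀ x ∈ 𝒯.deg (S.basicOpen r) (hU.basicOpen r) d,
        ∃ c : 𝒯.presheaf.obj (op (S.basicOpen r)) → Γ(S, S.basicOpen r),
          x = ∑ t ∈ G, sig 𝒯 (S.basicOpen r) (c t) * t) :
    ∃ G : Finset (𝒯.presheaf.obj (op U)),
      (↑G : Set (𝒯.presheaf.obj (op U))) ⊆ (𝒯.deg U hU d : Set _) ∧
      ∀ x ∈ 𝒯.deg U hU d, ∃ c : 𝒯.presheaf.obj (op U) → Γ(S, U),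
        x = ∑ t ∈ G, sig 𝒯 U (c t) * t := by
  classical
  letI := algU 𝒯 U
  have h' : ∀ r ∈ T, ∃ G' : Finset (𝒯.presheaf.obj (op U)),
      (↑G' : Set (𝒯.presheaf.obj (op U))) ⊆ (𝒯.deg U hU d : Set _) ∧
      ∀ x ∈ 𝒯.deg U hU d, ∃ n : ℕ,
        (sig 𝒯 U r) ^ n * x ∈ Submodule.span Γ(S, U) (↑G' : Set (𝒯.presheaf.obj (op U))) := by
    intro r hr
    obtain ⟨G, hG, hgen⟩ := h r hr
    exact exists_pow_mul_mem_span 𝒯 hU r d G hG hgen
  choose! G' hG' hn using h'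
  refine ⟨T.biUnion G', ?_, ?_⟩
  · intro x hx
    rw [Finset.coe_biUnion, Set.mem_iUnion₂] at hx
    obtain ⟨r, hr, hxr⟩ := hx
    exact hG' r hr hxr
  · intro x hx
    have hmem : x ∈ Submodule.span Γ(S, U) (↑(T.biUnion G') : Set (𝒯.presheaf.obj (op U))) := by
      refine Submodule.mem_of_span_eq_top_of_smul_pow_mem _ (↑T : Set Γ(S, U)) hT x ?_
      rintro ⟨r, hr⟩
      obtain ⟨n, hn'⟩ := hn r hr x hx
      refine ⟨n, ?_⟩
      rw [Algebra.smul_def]
      change sig 𝒯 U (r ^ n) * x ∈ _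
      rw [map_pow]
      refine Submodule.span_mono ?_ hn'
      intro y hy
      rw [Finset.coe_biUnion, Set.mem_iUnion₂]
      exact ⟨r, hr, hy⟩
    obtain ⟨c, -, hc⟩ := Submodule.mem_span_finset.mp hmem
    refine ⟨c, ?_⟩
    rw [← hc]
    refine Finset.sum_congr rfl fun t _ => ?_
    rw [Algebra.smul_def]
    rfl

end Groth.Agent.Lib.Helper18.QCGrLoc
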