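import Mathlib
import Groth.Prelude.Def_RelProj4
import Groth.Agent.Lib.Helper18.BCAlg
import Groth.Agent.Lib.Helper18.BCPure
import Groth.Agent.Lib.Helper18.GrGlue
import Groth.Agent.Lib.Helper18.QCGrLoc

/-!
# The inverse image of a quasi-coherent graded algebra along an arbitrary morphism (helper18)

`bcGr g 𝒮 : RelProj.QCGrAlg Y'` is the inverse image `g^*𝒮`, with `bcGrHom g 𝒮 : QGrHom g 𝒮 (bcGr g 𝒮)`
a base change in the sense of the prelude (`isQBaseChange_bcGrHom`).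
-/

set_option autoImplicit false
set_option linter.style.haveILetI false
universe u
open AlgebraicGeometry CategoryTheory Limits TopologicalSpace Opposite

namespace Groth.Agent.Lib.Helper18.BCGr

open Groth.Agent.Lib.Helper18.BCAlg Groth.Agent.Lib.Helper18.BCPure Groth.Agent.Lib.Helper18.GrGlue
  Groth.Agent.Lib.Helper18

variable {Y Y' : Scheme.{u}} (g : Y' ⟶ Y) (𝒮 : RelProj.QCGrAlg Y)

/-- the underlying algebra of the inverse image -/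
noncomputable abbrev bcA : RelSpec.QCAlg Y' := bcAlg g 𝒮.toQCAlg

/-- structure map of the inverse image algebra on sections -/
noncomputable abbrev tW (W' : Y'.Opens) : Γ(Y', W') →+* (bcA g 𝒮).presheaf.obj (op W') :=
  ((bcA g 𝒮).str.app (op W')).hom

/-- the canonical map on sections -/
noncomputable abbrev vUW (U : Y.Opens) (W' : Y'.Opens) (hle : W' ≤ g ⁻¹ᵁ U) :
    𝒮.presheaf.obj (op U) →+* (bcA g 𝒮).presheaf.obj (op W') :=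
  ((bcHom g 𝒮.toQCAlg).appLE U W' hle).hom

theorem res_tW {W' W'' : Y'.Opens} (h : W'' ≤ W') (r' : Γ(Y', W')) :
    res (bcA g 𝒮).presheaf h (tW g 𝒮 W' r') =
      tW g 𝒮 W'' ((Y'.presheaf.map (homOfLE h).op).hom r') := by
  have := (bcA g 𝒮).str.naturality (homOfLE h).op
  exact (RingHom.congr_fun (congrArg CommRingCat.Hom.hom this) r').symm

theorem res_vUW (U : Y.Opens) {W' W'' : Y'.Opens} (hle : W' ≤ g ⁻¹ᵁ U) (h : W'' ≤ W')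
    (a : 𝒮.presheaf.obj (op U)) :
    res (bcA g 𝒮).presheaf h (vUW g 𝒮 U W' hle a) = vUW g 𝒮 U W'' (h.trans hle) a :=
  RingHom.congr_fun (congrArg CommRingCat.Hom.hom ((bcHom g 𝒮.toQCAlg).appLE_map hle h)) a

theorem vUW_map {U V : Y.Opens} (i : V ≤ U) (W' : Y'.Opens) (hle : W' ≤ g ⁻¹ᵁ V)
    (a : 𝒮.presheaf.obj (op U)) :
    vUW g 𝒮 V W' hle ((𝒮.presheaf.map (homOfLE i).op).hom a) =
      vUW g 𝒮 U W' (hle.trans (g.preimage_mono i)) a :=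
  RingHom.congr_fun (congrArg CommRingCat.Hom.hom ((bcHom g 𝒮.toQCAlg).map_appLE i hle)) a

theorem vUW_str (U : Y.Opens) (W' : Y'.Opens) (hle : W' ≤ g ⁻¹ᵁ U) (r : Γ(Y, U)) :
    vUW g 𝒮 U W' hle ((𝒮.str.app (op U)).hom r) = tW g 𝒮 W' ((g.appLE U W' hle).hom r) :=
  RingHom.congr_fun (congrArg CommRingCat.Hom.hom ((bcHom g 𝒮.toQCAlg).str_appLE U W' hle)) r

/-- the local grading on `g^*𝒮` over `W' ⊆ g⁻¹(U)`, `U` affine -/
noncomputable def locDeg (U : Y.Opens) (hU : IsAffineOpen U) (W' : Y'.Opens) (hle : W' ≤ g ⁻¹ᵁ U)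
    (d : ℕ) : AddSubgroup ((bcA g 𝒮).presheaf.obj (op W')) :=
  bcDeg (tW g 𝒮 W') (vUW g 𝒮 U W' hle) (𝒮.deg U hU) d

theorem isPushout_pair (U : Y.Opens) (hU : IsAffineOpen U) (W' : Y'.Opens) (hW' : IsAffineOpen W')
    (hle : W' ≤ g ⁻¹ᵁ U) :
    letI : Algebra Γ(Y, U) Γ(Y', W') := (g.appLE U W' hle).hom.toAlgebra
    letI : Algebra Γ(Y, U) (𝒮.presheaf.obj (op U)) := (𝒮.str.app (op U)).hom.toAlgebra
    IsPushout (CommRingCat.ofHom (algebraMap Γ(Y, U) Γ(Y', W')))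
      (CommRingCat.ofHom (algebraMap Γ(Y, U) (𝒮.presheaf.obj (op U))))
      (CommRingCat.ofHom (tW g 𝒮 W')) (CommRingCat.ofHom (vUW g 𝒮 U W' hle)) :=
  isQBaseChange_bcHom g 𝒮.toQCAlg U hU W' hW' hle

/-- the local grading is a grading, over affine pairs -/
@[instance_reducible]
noncomputable def gradedRing_locDeg (U : Y.Opens) (hU : IsAffineOpen U) (W' : Y'.Opens)
    (hW' : IsAffineOpen W') (hle : W' ≤ g ⁻¹ᵁ U) : GradedRing (locDeg g 𝒮 U hU W' hle) := by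
  letI : Algebra Γ(Y, U) Γ(Y', W') := (g.appLE U W' hle).hom.toAlgebra
  letI : Algebra Γ(Y, U) (𝒮.presheaf.obj (op U)) := (𝒮.str.app (op U)).hom.toAlgebra
  exact gradedRing_bcDeg (tW g 𝒮 W') (vUW g 𝒮 U W' hle) (isPushout_pair g 𝒮 U hU W' hW' hle)
    (𝒮.deg U hU) (𝒮.str_mem U hU)

/-- restriction on `Y'` preserves the local gradings (same `U`) -/
theorem res_mem_locDeg (U : Y.Opens) (hU : IsAffineOpen U) {W' W'' : Y'.Opens}
    (hle : W' ≤ g ⁻¹ᵁ U) (h : W'' ≤ W') {d : ℕ} {x : (bcA g 𝒮).presheaf.obj (op W')}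
    (hx : x ∈ locDeg g 𝒮 U hU W' hle d) :
    res (bcA g 𝒮).presheaf h x ∈ locDeg g 𝒮 U hU W'' (h.trans hle) d :=
  map_mem_bcDeg (res (bcA g 𝒮).presheaf h) (Y'.presheaf.map (homOfLE h).op).hom
    (RingHom.ext fun r' => res_tW g 𝒮 h r') (RingHom.ext fun a => res_vUW g 𝒮 U hle h a) hx

/-- sections over a basic open of degree `d` land in the local grading of the ambient affine -/
theorem vUW_basicOpen_mem (U : Y.Opens) (hU : IsAffineOpen U) (r : Γ(Y, U)) (W' : Y'.Opens)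
    (hle : W' ≤ g ⁻¹ᵁ (Y.basicOpen r)) {d : ℕ} {b : 𝒮.presheaf.obj (op (Y.basicOpen r))}
    (hb : b ∈ 𝒮.deg (Y.basicOpen r) (hU.basicOpen r) d) :
    vUW g 𝒮 (Y.basicOpen r) W' hle b ∈
      locDeg g 𝒮 U hU W' (hle.trans (g.preimage_mono (Y.basicOpen_le r))) d := by
  obtain ⟨k, a, ha, hka⟩ := QCGrLoc.exists_pow_mul_eq_res 𝒮 hU r hb
  have h1 := congrArg (vUW g 𝒮 (Y.basicOpen r) W' hle) hka
  rw [map_mul, map_pow, vUW_map, vUW_map, vUW_str] at h1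
  set ρ : Γ(Y', W') :=
    (g.appLE U W' (hle.trans (g.preimage_mono (Y.basicOpen_le r)))).hom r with hρ
  have hunit : IsUnit ρ := by
    have e1 : ρ = (g.appLE (Y.basicOpen r) W' hle).hom
        ((Y.presheaf.map (homOfLE (Y.basicOpen_le r)).op).hom r) :=
      (RingHom.congr_fun (congrArg CommRingCat.Hom.hom
        (Scheme.Hom.map_appLE g hle (homOfLE (Y.basicOpen_le r)).op)) r).symm
    rw [e1]
    exact (RingedSpace.isUnit_res_basicOpen Y.toRingedSpace r).map _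
  obtain ⟨ρu, hρu⟩ := hunit
  have h2 : vUW g 𝒮 (Y.basicOpen r) W' hle b =
      tW g 𝒮 W' ((↑ρu⁻¹ : Γ(Y', W')) ^ k) *
        vUW g 𝒮 U W' (hle.trans (g.preimage_mono (Y.basicOpen_le r))) a := by
    rw [h1, ← hρu, mul_comm, mul_assoc, ← map_pow, ← map_mul, ← mul_pow, Units.mul_inv, one_pow,
      map_one, mul_one]
  rw [h2]
  exact mul_v_mem _ ha

theorem vUW_mem_of_eq_basicOpen (U : Y.Opens) (hU : IsAffineOpen U) (r : Γ(Y, U)) (V : Y.Opens)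
    (hV : V = Y.basicOpen r) (hVaff : IsAffineOpen V) (W' : Y'.Opens) (hle : W' ≤ g ⁻¹ᵁ V)
    (hle' : W' ≤ g ⁻¹ᵁ U) {d : ℕ} {b : 𝒮.presheaf.obj (op V)} (hb : b ∈ 𝒮.deg V hVaff d) :
    vUW g 𝒮 V W' hle b ∈ locDeg g 𝒮 U hU W' hle' d := by
  subst hV
  exact vUW_basicOpen_mem g 𝒮 U hU r W' hle hb

/-- independence of the local grading of the affine open of `Y` -/
theorem vUW_mem_locDeg (U₁ : Y.Opens) (hU₁ : IsAffineOpen U₁) (U₂ : Y.Opens) (hU₂ : IsAffineOpen U₂)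
    (W' : Y'.Opens) (hW' : IsAffineOpen W') (h₁ : W' ≤ g ⁻¹ᵁ U₁) (h₂ : W' ≤ g ⁻¹ᵁ U₂) {d : ℕ}
    {a : 𝒮.presheaf.obj (op U₁)} (ha : a ∈ 𝒮.deg U₁ hU₁ d) :
    vUW g 𝒮 U₁ W' h₁ a ∈ locDeg g 𝒮 U₂ hU₂ W' h₂ d := by
  classical
  letI := gradedRing_locDeg g 𝒮 U₂ hU₂ W' hW' h₂
  set x := vUW g 𝒮 U₁ W' h₁ a with hxdef
  have hz : ∀ e, e ≠ d →
      (DirectSum.decompose (locDeg g 𝒮 U₂ hU₂ W' h₂) x e : (bcA g 𝒮).presheaf.obj (op W')) = 0 := by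
    intro e hne
    refine eq_of_cover _ (bcA g 𝒮).isSheaf W' _ 0 ?_
    intro y' hy'
    obtain ⟨f₁, f₂, hf, hy⟩ := exists_basicOpen_le_affine_inter hU₁ hU₂ (g.base y')
      ⟨h₁ hy', h₂ hy'⟩
    obtain ⟨W'', hW''aff, hy'W'', hW''le⟩ := (Opens.isBasis_iff_nbhd.mp Y'.isBasis_affineOpens)
      (show y' ∈ W' ⊓ g ⁻¹ᵁ (Y.basicOpen f₁) from ⟨hy', hy⟩)
    have hW''W' : W'' ≤ W' := hW''le.trans inf_le_left
    have hW''V : W'' ≤ g ⁻¹ᵁ (Y.basicOpen f₁) := hW''le.trans inf_le_right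
    refine ⟨W'', hW''W', hy'W'', ?_⟩
    rw [map_zero]
    letI := gradedRing_locDeg g 𝒮 U₂ hU₂ W'' hW''aff (hW''W'.trans h₂)
    let φ : locDeg g 𝒮 U₂ hU₂ W' h₂ →+*ᵍ locDeg g 𝒮 U₂ hU₂ W'' (hW''W'.trans h₂) :=
      { res (bcA g 𝒮).presheaf hW''W' with
        map_mem := fun hx => res_mem_locDeg g 𝒮 U₂ hU₂ h₂ hW''W' hx }
    have e1 : res (bcA g 𝒮).presheaf hW''W'
        (DirectSum.decompose (locDeg g 𝒮 U₂ hU₂ W' h₂) x e : (bcA g 𝒮).presheaf.obj (op W')) =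
        (DirectSum.decompose (locDeg g 𝒮 U₂ hU₂ W'' (hW''W'.trans h₂))
          (res (bcA g 𝒮).presheaf hW''W' x) e : (bcA g 𝒮).presheaf.obj (op W'')) :=
      φ.map_directSumDecompose
    rw [e1]
    have hx'' : res (bcA g 𝒮).presheaf hW''W' x ∈
        locDeg g 𝒮 U₂ hU₂ W'' (hW''W'.trans h₂) d := by
      rw [hxdef, res_vUW, ← vUW_map g 𝒮 (Y.basicOpen_le f₁) W'' hW''V]
      exact vUW_mem_of_eq_basicOpen g 𝒮 U₂ hU₂ f₂ (Y.basicOpen f₁) hf (hU₁.basicOpen f₁) W'' hW''V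
        (hW''W'.trans h₂) (𝒮.map_mem hU₁ (hU₁.basicOpen f₁) (Y.basicOpen_le f₁) ha)
    exact DirectSum.decompose_of_mem_ne _ hx'' hne.symm
  have hx : x = (DirectSum.decompose (locDeg g 𝒮 U₂ hU₂ W' h₂) x d :
      (bcA g 𝒮).presheaf.obj (op W')) := by
    conv_lhs => rw [← DirectSum.sum_support_decompose (locDeg g 𝒮 U₂ hU₂ W' h₂) x]
    exact Finset.sum_eq_single d (fun e _ hne => hz e hne)
      (fun hd => by rw [DFinsupp.notMem_support_iff.mp hd]; rfl)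
  rw [hx]
  exact SetLike.coe_mem _

/-- the local gradings of two affine pairs are compatible under restriction -/
theorem res_mem_locDeg' (U₁ : Y.Opens) (hU₁ : IsAffineOpen U₁) (U₂ : Y.Opens) (hU₂ : IsAffineOpen U₂)
    {W'₁ W'₂ : Y'.Opens} (hW'₂ : IsAffineOpen W'₂) (h₁ : W'₁ ≤ g ⁻¹ᵁ U₁) (h₂ : W'₂ ≤ g ⁻¹ᵁ U₂)
    (h : W'₂ ≤ W'₁) {d : ℕ} {x : (bcA g 𝒮).presheaf.obj (op W'₁)}
    (hx : x ∈ locDeg g 𝒮 U₁ hU₁ W'₁ h₁ d) :
    res (bcA g 𝒮).presheaf h x ∈ locDeg g 𝒮 U₂ hU₂ W'₂ h₂ d := by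
  have h1 := res_mem_locDeg g 𝒮 U₁ hU₁ h₁ h hx
  refine bcDeg_le (locDeg g 𝒮 U₂ hU₂ W'₂ h₂ d) (fun r' a ha => ?_) h1
  exact t_mul_mem r' (vUW_mem_locDeg g 𝒮 U₁ hU₁ U₂ hU₂ W'₂ hW'₂ (h.trans h₁) h₂ ha)

/-- the basis of affine pairs with their local gradings -/
noncomputable def grBasis : GrBasis (bcA g 𝒮).presheaf where
  ι := {p : Y.affineOpens × Y'.affineOpens // (p.2 : Y'.Opens) ≤ g ⁻¹ᵁ (p.1 : Y.Opens)}
  B p := p.1.2.1
  deg p := locDeg g 𝒮 p.1.1.1 p.1.1.2 p.1.2.1 p.2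
  graded p := gradedRing_locDeg g 𝒮 p.1.1.1 p.1.1.2 p.1.2.1 p.1.2.2 p.2
  map_mem p q h d x hx :=
    res_mem_locDeg' g 𝒮 p.1.1.1 p.1.1.2 q.1.1.1 q.1.1.2 q.1.2.2 p.2 q.2 h hx
  basis V x hx := by
    obtain ⟨U, hU, hxU, -⟩ := (Opens.isBasis_iff_nbhd.mp Y.isBasis_affineOpens)
      (show g.base x ∈ (⊤ : Y.Opens) from trivial)
    obtain ⟨W', hW', hxW', hW'le⟩ := (Opens.isBasis_iff_nbhd.mp Y'.isBasis_affineOpens)
      (show x ∈ V ⊓ g ⁻¹ᵁ U from ⟨hx, hxU⟩)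
    exact ⟨⟨(⟨U, hU⟩, ⟨W', hW'⟩), hW'le.trans inf_le_right⟩, hxW', hW'le.trans inf_le_left⟩

/-- the inverse image graded algebra `g^*𝒮` -/
noncomputable def bcGr : RelProj.QCGrAlg Y' where
  toQCAlg := bcA g 𝒮
  deg U' _ := (grBasis g 𝒮).glDeg U'
  graded U' hU' := (grBasis g 𝒮).gradedRing_glDeg (bcA g 𝒮).isSheaf U' hU'.isCompact
  map_mem _ _ i _ _ hx := (grBasis g 𝒮).res_mem_glDeg i hx
  str_mem U' _ r := by
    intro p h
    rw [res_tW]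
    exact t_mem _

theorem deg_bcGr_eq (U : Y.Opens) (hU : IsAffineOpen U) (W' : Y'.Opens) (hW' : IsAffineOpen W')
    (hle : W' ≤ g ⁻¹ᵁ U) (d : ℕ) : (bcGr g 𝒮).deg W' hW' d = locDeg g 𝒮 U hU W' hle d :=
  (grBasis g 𝒮).glDeg_eq ⟨(⟨U, hU⟩, ⟨W', hW'⟩), hle⟩ d

/-- the canonical graded `g`-morphism `𝒮 → g^*𝒮` -/
noncomputable def bcGrHom : RelProj.QGrHom g 𝒮 (bcGr g 𝒮) where
  toQHom := bcHom g 𝒮.toQCAlg
  map_mem U hU U' hU' hle d x hx := by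
    intro p h
    change res (bcA g 𝒮).presheaf h (vUW g 𝒮 U U' hle x) ∈ _
    rw [res_vUW]
    exact vUW_mem_locDeg g 𝒮 U hU p.1.1.1 p.1.1.2 p.1.2.1 p.1.2.2 _ p.2 hx

theorem isQBaseChange_bcGrHom : RelSpec.IsQBaseChange (bcGrHom g 𝒮).toQHom :=
  isQBaseChange_bcHom g 𝒮.toQCAlg

end Groth.Agent.Lib.Helper18.BCGr
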