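import Mathlib
import Groth.Prelude.Def_RelProj4
import Groth.Agent.Lib.Helper18.BCGr

/-!
# Generation and finiteness of the inverse image graded algebra (helper18)
-/

set_option autoImplicit false
set_option linter.style.haveILetI false
universe u
open AlgebraicGeometry CategoryTheory Limits TopologicalSpace Opposite

namespace Groth.Agent.Lib.Helper18.BCGr

open Groth.Agent.Lib.Helper18.BCAlg Groth.Agent.Lib.Helper18.BCPure Groth.Agent.Lib.Helper18.GrGlue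
  Groth.Agent.Lib.Helper18

variable {Y Y' : Scheme.{u}} (g : Y' ⟶ Y) (𝒮 : RelProj.QCGrAlg Y)

/-- an affine open of `Y'` is covered by finitely many basic opens mapping into affine opens of `Y` -/
theorem exists_finset_good (U' : Y'.Opens) (hU' : IsAffineOpen U') :
    ∃ T : Finset Γ(Y', U'), Ideal.span (↑T : Set Γ(Y', U')) = ⊤ ∧
      ∀ r ∈ T, ∃ U : Y.Opens, IsAffineOpen U ∧ Y'.basicOpen r ≤ g ⁻¹ᵁ U := by
  let s : Set Γ(Y', U') := {r | ∃ U : Y.Opens, IsAffineOpen U ∧ Y'.basicOpen r ≤ g ⁻¹ᵁ U}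
  have hs : Ideal.span s = ⊤ := by
    rw [← hU'.self_le_iSup_basicOpen_iff]
    intro x hx
    obtain ⟨U, hU, hxU, -⟩ := (Opens.isBasis_iff_nbhd.mp Y.isBasis_affineOpens)
      (show g.base x ∈ (⊤ : Y.Opens) from trivial)
    obtain ⟨f, hf, hxf⟩ := hU'.exists_basicOpen_le (V := g ⁻¹ᵁ U) ⟨x, hxU⟩ hx
    exact Opens.mem_iSup.mpr ⟨⟨f, U, hU, hf⟩, hxf⟩
  obtain ⟨T, hTs, hT⟩ := (Ideal.span_eq_top_iff_finite s).mp hs
  exact ⟨T, hT, fun r hr => hTs hr⟩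

theorem isGenDegOne_bcGr (h : 𝒮.IsGenDegOne) : (bcGr g 𝒮).IsGenDegOne := by
  intro U' hU'
  obtain ⟨T, hT, hgood⟩ := exists_finset_good g U' hU'
  refine QCGrLoc.closure_eq_top_of_cover (bcGr g 𝒮) hU' (↑T : Set Γ(Y', U')) hT fun r hr => ?_
  obtain ⟨U, hU, hle⟩ := hgood r hr
  rw [deg_bcGr_eq g 𝒮 U hU _ (hU'.basicOpen r) hle 0, deg_bcGr_eq g 𝒮 U hU _ (hU'.basicOpen r) hle 1]
  letI : Algebra Γ(Y, U) Γ(Y', Y'.basicOpen r) := (g.appLE U (Y'.basicOpen r) hle).hom.toAlgebra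
  letI : Algebra Γ(Y, U) (𝒮.presheaf.obj (op U)) := (𝒮.str.app (op U)).hom.toAlgebra
  exact closure_bcDeg_eq_top (tW g 𝒮 (Y'.basicOpen r)) (vUW g 𝒮 U (Y'.basicOpen r) hle)
    (isPushout_pair g 𝒮 U hU _ (hU'.basicOpen r) hle) (𝒮.deg U hU) (h U hU)

theorem isFTDeg_bcGr (d : ℕ) (h : 𝒮.IsFTDeg d) : (bcGr g 𝒮).IsFTDeg d := by
  intro U' hU'
  obtain ⟨T, hT, hgood⟩ := exists_finset_good g U' hU'
  refine QCGrLoc.isFT_of_cover (bcGr g 𝒮) hU' d T hT fun r hr => ?_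
  obtain ⟨U, hU, hle⟩ := hgood r hr
  rw [deg_bcGr_eq g 𝒮 U hU _ (hU'.basicOpen r) hle d]
  letI : Algebra Γ(Y, U) Γ(Y', Y'.basicOpen r) := (g.appLE U (Y'.basicOpen r) hle).hom.toAlgebra
  letI : Algebra Γ(Y, U) (𝒮.presheaf.obj (op U)) := (𝒮.str.app (op U)).hom.toAlgebra
  obtain ⟨G, hG, hgen⟩ := h U hU
  exact exists_finset_bcDeg (tW g 𝒮 (Y'.basicOpen r)) (vUW g 𝒮 U (Y'.basicOpen r) hle)
    (isPushout_pair g 𝒮 U hU _ (hU'.basicOpen r) hle) (𝒮.deg U hU) d G hG hgen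

end Groth.Agent.Lib.Helper18.BCGr
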