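import Mathlib
import Groth.Agent.Lib.Helper17.ProjClosed
import Groth.Agent.Lib.Helper17.ProjGlobal
import Groth.Agent.Lib.Helper17.OFrac

/-!
# Sections of the structure sheaf of `Proj` and the graded ideal of a closed subscheme (helper18)
-/

set_option autoImplicit false
set_option linter.style.haveILetI false
set_option linter.unusedSectionVars false
universe u
open AlgebraicGeometry CategoryTheory Limits TopologicalSpace Opposite HomogeneousLocalization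
open scoped HomogeneousIdeal

namespace Groth.Agent.Lib.Helper18.HProj

open Groth.Agent.Lib.Helper17 Groth.Agent.Lib.Helper17.OFrac Groth.Agent.Lib.Helper17.PI
  Groth.Agent.Lib.Helper17.PC Groth.Agent.Lib.Helper17.ProjGlobal

section general

variable {R A : Type u} [CommRing R] [CommRing A] [Algebra R A] (𝒜 : ℕ → Submodule R A)
  [GradedAlgebra 𝒜]

set_option backward.isDefEq.respectTransparency.types false in
theorem awayToSection_fr' {g : A} (hg : g ∈ 𝒜 1) {n : ℕ} {a : A} (ha : a ∈ 𝒜 n) :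
    (Proj.awayToSection 𝒜 g).hom (fr 𝒜 hg n a) = oFrac 𝒜 (Proj.basicOpen 𝒜 g) n a (g ^ n) := by
  rw [fr_of_mem 𝒜 hg ha]
  have G : Good 𝒜 (Proj.basicOpen 𝒜 g) n a (g ^ n) :=
    good_of ha (pow_mem_one hg n) ((nv_basicOpen g).pow n)
  apply o_ext
  intro y
  rw [val_oFrac 𝒜 G]
  have h2 := ProjectiveSpectrum.Proj.awayToSection_apply 𝒜 g
    (Away.mk 𝒜 hg n a (by rw [smul_eq_mul, mul_one]; exact ha)) y
  refine Eq.trans h2 ?_
  rw [Away.val_mk, Localization.mk_eq_mk', IsLocalization.map_mk', Localization.mk_eq_mk']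
  rfl

/-- membership in `Jx` in terms of vanishing of a section -/
theorem fr_mem_Jx_iff {Z : Scheme.{u}} (i : Z ⟶ Proj 𝒜) [QuasiCompact i] {g : A} (hg : g ∈ 𝒜 1)
    {d : ℕ} {F : A} (hF : F ∈ 𝒜 d) :
    fr 𝒜 hg d F ∈ Jx 𝒜 i.ker hg one_pos ↔
      (i.app (Proj.basicOpen 𝒜 g)).hom (oFrac 𝒜 (Proj.basicOpen 𝒜 g) d F (g ^ d)) = 0 := by
  rw [← awayToSection_fr' 𝒜 hg hF]
  unfold Jx
  rw [Ideal.mem_comap, Scheme.Hom.ker_apply, RingHom.mem_ker]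

/-- membership of a form in the graded ideal of a closed subscheme -/
theorem mem_idealOf_iff_fr {Z : Scheme.{u}} (i : Z ⟶ Proj 𝒜) {ι : Type*} (f : ι → A)
    (hf : ∀ j, f j ∈ 𝒜 1) {d : ℕ} {F : A} (hF : F ∈ 𝒜 d) :
    F ∈ idealOf 𝒜 i.ker f hf ↔ ∀ j, fr 𝒜 (hf j) d F ∈ Jx 𝒜 i.ker (hf j) one_pos := by
  unfold idealOf
  exact mem_idealI_of_mem 𝒜 f hf _ hF

/-- the function on `Proj 𝒜` coming from the base ring -/
theorem toSpec_appLE_apply (W : (Proj 𝒜).Opens) (r : R) :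
    ((Proj.toSpecZero 𝒜 ≫ Spec.map (CommRingCat.ofHom (algebraMap R (𝒜 0)))).appLE ⊤ W
      le_top).hom ((Scheme.ΓSpecIso (CommRingCat.of R)).inv.hom r) =
      oFrac 𝒜 W 0 (algebraMap R A r) 1 := by
  have h1 := toGlobal_apply 𝒜 r
  have hG : Good 𝒜 (⊤ : (Proj 𝒜).Opens) 0 (algebraMap R A r) 1 :=
    good_zero 𝒜 (algebraMap R (𝒜 0) r)
  rw [← res_oFrac 𝒜 (homOfLE (le_top : W ≤ ⊤)) hG, ← h1]
  rfl

end general

section map

variable {R A R' B : Type u} [CommRing R] [CommRing A] [Algebra R A] (𝒜 : ℕ → Submodule R A)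
  [GradedAlgebra 𝒜] [CommRing R'] [CommRing B] [Algebra R' B] (ℬ : ℕ → Submodule R' B)
  [GradedAlgebra ℬ] (φ : 𝒜 →+*ᵍ ℬ) (hφ : ℬ₊ ≤ 𝒜₊.map φ)

theorem away_map_fr {g : A} (hg : g ∈ 𝒜 1) (hg' : φ g ∈ ℬ 1) {d : ℕ} {F : A} (hF : F ∈ 𝒜 d)
    (hF' : φ F ∈ ℬ d) :
    Away.map φ g (fr 𝒜 hg d F) = fr ℬ hg' d (φ F) := by
  rw [fr_of_mem 𝒜 hg hF, fr_of_mem ℬ hg' hF', Away.map_mk]

/-- `Proj.map` on the standard sections -/
theorem map_appLE_oFrac {g : A} (hg : g ∈ 𝒜 1) {d : ℕ} {F : A} (hF : F ∈ 𝒜 d) :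
    ((Proj.map φ hφ).appLE (Proj.basicOpen 𝒜 g) (Proj.basicOpen ℬ (φ g)) (by rfl)).hom
        (oFrac 𝒜 (Proj.basicOpen 𝒜 g) d F (g ^ d)) =
      oFrac ℬ (Proj.basicOpen ℬ (φ g)) d (φ F) (φ g ^ d) := by
  have hg' : φ g ∈ ℬ 1 := φ.map_mem hg
  have hF' : φ F ∈ ℬ d := φ.map_mem hF
  rw [← awayToSection_fr' 𝒜 hg hF, ← awayToSection_fr' ℬ hg' hF',
    ← away_map_fr 𝒜 ℬ φ hg hg' hF hF']
  have h := Proj.awayToSection_comp_appLE φ hφ hg
  have h2 := congrArg (fun k => k.hom (fr 𝒜 hg d F)) h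
  simp only [CommRingCat.hom_comp, CommRingCat.hom_ofHom, RingHom.coe_comp,
    Function.comp_apply] at h2
  exact h2

/-- `Proj.map` on the standard sections, with a prescribed image of the denominator -/
theorem map_appLE_oFrac' {g : A} (hg : g ∈ 𝒜 1) {g' : B} (hgg' : φ g = g') {d : ℕ} {F : A}
    (hF : F ∈ 𝒜 d)
    (e : Proj.basicOpen ℬ g' ≤ Proj.map φ hφ ⁻¹ᵁ Proj.basicOpen 𝒜 g) :
    ((Proj.map φ hφ).appLE (Proj.basicOpen 𝒜 g) (Proj.basicOpen ℬ g') e).hom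
        (oFrac 𝒜 (Proj.basicOpen 𝒜 g) d F (g ^ d)) =
      oFrac ℬ (Proj.basicOpen ℬ g') d (φ F) (g' ^ d) := by
  subst hgg'
  exact map_appLE_oFrac 𝒜 ℬ φ hφ hg hF

end map

end Groth.Agent.Lib.Helper18.HProj
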