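import Mathlib
import Groth.Agent.Lib.Helper18.HProjSec
import Groth.Agent.Lib.Helper18.GrGlue

/-!
# The graded ideal of a closed subscheme of `Proj` does not depend on the covering family (helper18)
-/

set_option autoImplicit false
set_option linter.style.haveILetI false
set_option linter.unusedSectionVars false
universe u
open AlgebraicGeometry CategoryTheory Limits TopologicalSpace Opposite HomogeneousLocalization
open scoped HomogeneousIdeal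

namespace Groth.Agent.Lib.Helper18.CSub

open Groth.Agent.Lib.Helper17 Groth.Agent.Lib.Helper17.OFrac Groth.Agent.Lib.Helper17.PI
  Groth.Agent.Lib.Helper17.PC Groth.Agent.Lib.Helper18.HProj Groth.Agent.Lib.Helper18.GrGlue

theorem app_res {Z Q : Scheme.{u}} (i : Z ⟶ Q) {W W' : Q.Opens} (h : W' ≤ W) (σ : Γ(Q, W)) :
    (i.app W').hom ((Q.presheaf.map (homOfLE h).op).hom σ) =
      (Z.presheaf.map (homOfLE (i.preimage_mono h)).op).hom ((i.app W).hom σ) := by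
  have := i.naturality (homOfLE h).op
  exact RingHom.congr_fun (congrArg CommRingCat.Hom.hom this) σ

variable {R A : Type u} [CommRing R] [CommRing A] [Algebra R A] (𝒜 : ℕ → Submodule R A)
  [GradedAlgebra 𝒜]

/-- the vanishing of a form on a closed subscheme can be tested on any covering family of standard
opens -/
theorem section_eq_zero_of_cover {Z : Scheme.{u}} (i : Z ⟶ Proj 𝒜) {ι : Type*} (f : ι → A)
    (hf : ∀ j, f j ∈ 𝒜 1) (hcov : ⨆ j, Proj.basicOpen 𝒜 (f j) = ⊤) {d : ℕ} {F : A} (hF : F ∈ 𝒜 d)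
    (h : ∀ j, (i.app (Proj.basicOpen 𝒜 (f j))).hom
      (oFrac 𝒜 (Proj.basicOpen 𝒜 (f j)) d F (f j ^ d)) = 0)
    {g : A} (hg : g ∈ 𝒜 1) :
    (i.app (Proj.basicOpen 𝒜 g)).hom (oFrac 𝒜 (Proj.basicOpen 𝒜 g) d F (g ^ d)) = 0 := by
  refine eq_of_cover Z.presheaf Z.sheaf.2 (i ⁻¹ᵁ Proj.basicOpen 𝒜 g) _ 0 ?_
  intro x hx
  have hx' : i.base x ∈ (⊤ : (Proj 𝒜).Opens) := trivial
  rw [← hcov] at hx'
  obtain ⟨j, hj⟩ := Opens.mem_iSup.mp hx'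
  set W : (Proj 𝒜).Opens := Proj.basicOpen 𝒜 g ⊓ Proj.basicOpen 𝒜 (f j) with hW
  refine ⟨i ⁻¹ᵁ W, i.preimage_mono inf_le_left, ⟨hx, hj⟩, ?_⟩
  rw [map_zero]
  change (Z.presheaf.map (homOfLE (i.preimage_mono (inf_le_left : W ≤ _))).op).hom _ = 0
  rw [← app_res]
  have Gg : Good 𝒜 (Proj.basicOpen 𝒜 g) d F (g ^ d) :=
    good_of hF (pow_mem_one hg d) ((nv_basicOpen g).pow d)
  have Gf : Good 𝒜 (Proj.basicOpen 𝒜 (f j)) d F (f j ^ d) :=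
    good_of hF (pow_mem_one (hf j) d) ((nv_basicOpen (f j)).pow d)
  have Gfg : Good 𝒜 W d (f j ^ d) (g ^ d) :=
    good_of (pow_mem_one (hf j) d) (pow_mem_one hg d)
      (fun y => (nv_basicOpen g).pow d ⟨y.1, y.2.1⟩)
  have e1 : (Proj 𝒜).presheaf.map (homOfLE (inf_le_left : W ≤ Proj.basicOpen 𝒜 g)).op
      (oFrac 𝒜 (Proj.basicOpen 𝒜 g) d F (g ^ d)) = oFrac 𝒜 W d F (g ^ d) :=
    res_oFrac 𝒜 _ Gg
  have e2 : (Proj 𝒜).presheaf.map (homOfLE (inf_le_right : W ≤ Proj.basicOpen 𝒜 (f j))).op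
      (oFrac 𝒜 (Proj.basicOpen 𝒜 (f j)) d F (f j ^ d)) = oFrac 𝒜 W d F (f j ^ d) :=
    res_oFrac 𝒜 _ Gf
  have e3 : oFrac 𝒜 W d F (g ^ d) = oFrac 𝒜 W d F (f j ^ d) * oFrac 𝒜 W d (f j ^ d) (g ^ d) := by
    rw [oFrac_mul 𝒜 (Gf.mono inf_le_right) Gfg]
    exact oFrac_eq 𝒜 (Gg.mono inf_le_left) ((Gf.mono inf_le_right).mul Gfg) (by ring)
  change (i.app W).hom ((Proj 𝒜).presheaf.map (homOfLE inf_le_left).op
    (oFrac 𝒜 (Proj.basicOpen 𝒜 g) d F (g ^ d))) = 0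
  rw [e1, e3, map_mul, ← e2]
  change (i.app W).hom (((Proj 𝒜).presheaf.map (homOfLE inf_le_right).op).hom _) * _ = 0
  rw [app_res, h j, map_zero, zero_mul]

/-- the graded ideal of a closed subscheme of `Proj 𝒜`, tested against all elements of degree one -/
noncomputable def idealAll {Z : Scheme.{u}} (i : Z ⟶ Proj 𝒜) : Ideal A :=
  idealOf 𝒜 i.ker (fun g : 𝒜 1 => (g : A)) (fun g => g.2)

theorem idealAll_isHomogeneous {Z : Scheme.{u}} (i : Z ⟶ Proj 𝒜) :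
    (idealAll 𝒜 i).IsHomogeneous 𝒜 :=
  idealOf_isHomogeneous _ _ _ _

theorem mem_idealAll_iff {Z : Scheme.{u}} (i : Z ⟶ Proj 𝒜) [QuasiCompact i] {d : ℕ} {F : A}
    (hF : F ∈ 𝒜 d) :
    F ∈ idealAll 𝒜 i ↔ ∀ g (_ : g ∈ 𝒜 1),
      (i.app (Proj.basicOpen 𝒜 g)).hom (oFrac 𝒜 (Proj.basicOpen 𝒜 g) d F (g ^ d)) = 0 := by
  unfold idealAll
  rw [mem_idealOf_iff_fr 𝒜 i _ _ hF]
  constructor
  · intro h g hg
    exact (fr_mem_Jx_iff 𝒜 i hg hF).mp (h ⟨g, hg⟩)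
  · intro h g
    exact (fr_mem_Jx_iff 𝒜 i g.2 hF).mpr (h g.1 g.2)

theorem mem_idealOf_iff {Z : Scheme.{u}} (i : Z ⟶ Proj 𝒜) [QuasiCompact i] {ι : Type*} (f : ι → A)
    (hf : ∀ j, f j ∈ 𝒜 1) {d : ℕ} {F : A} (hF : F ∈ 𝒜 d) :
    F ∈ idealOf 𝒜 i.ker f hf ↔ ∀ j,
      (i.app (Proj.basicOpen 𝒜 (f j))).hom
        (oFrac 𝒜 (Proj.basicOpen 𝒜 (f j)) d F (f j ^ d)) = 0 := by
  rw [mem_idealOf_iff_fr 𝒜 i _ _ hF]
  exact forall_congr' fun j => fr_mem_Jx_iff 𝒜 i (hf j) hF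

theorem mem_idealAll_iff_of_cover {Z : Scheme.{u}} (i : Z ⟶ Proj 𝒜) [QuasiCompact i] {ι : Type*}
    (f : ι → A) (hf : ∀ j, f j ∈ 𝒜 1) (hcov : ⨆ j, Proj.basicOpen 𝒜 (f j) = ⊤) {d : ℕ} {F : A}
    (hF : F ∈ 𝒜 d) :
    F ∈ idealAll 𝒜 i ↔ ∀ j,
      (i.app (Proj.basicOpen 𝒜 (f j))).hom
        (oFrac 𝒜 (Proj.basicOpen 𝒜 (f j)) d F (f j ^ d)) = 0 := by
  rw [mem_idealAll_iff 𝒜 i hF]
  exact ⟨fun h j => h (f j) (hf j), fun h g hg => section_eq_zero_of_cover 𝒜 i f hf hcov hF h hg⟩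

theorem le_of_forall_homogeneous {I J : Ideal A} (hI : I.IsHomogeneous 𝒜)
    (h : ∀ (d : ℕ) (F : A), F ∈ 𝒜 d → F ∈ I → F ∈ J) : I ≤ J := by
  classical
  intro a ha
  rw [← DirectSum.sum_support_decompose 𝒜 a]
  exact Ideal.sum_mem _ fun d _ => h d _ (SetLike.coe_mem _) (hI d ha)

/-- the graded ideal does not depend on the covering family -/
theorem idealOf_eq_idealAll {Z : Scheme.{u}} (i : Z ⟶ Proj 𝒜) [QuasiCompact i] {ι : Type*}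
    (f : ι → A) (hf : ∀ j, f j ∈ 𝒜 1) (hcov : ⨆ j, Proj.basicOpen 𝒜 (f j) = ⊤) :
    idealOf 𝒜 i.ker f hf = idealAll 𝒜 i := by
  apply le_antisymm
  · refine le_of_forall_homogeneous 𝒜 (idealOf_isHomogeneous _ _ _ _) fun d F hF hFI => ?_
    rw [mem_idealAll_iff_of_cover 𝒜 i f hf hcov hF]
    exact (mem_idealOf_iff 𝒜 i f hf hF).mp hFI
  · refine le_of_forall_homogeneous 𝒜 (idealAll_isHomogeneous 𝒜 i) fun d F hF hFI => ?_
    rw [mem_idealOf_iff 𝒜 i f hf hF]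
    exact (mem_idealAll_iff_of_cover 𝒜 i f hf hcov hF).mp hFI

end Groth.Agent.Lib.Helper18.CSub
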