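import Mathlib
import Groth.Agent.Lib.Helper42.ProjMap
import Groth.Agent.Lib.Helper42.RelProjMap

/-!
# A degree-preserving ring isomorphism induces an isomorphism of `Proj`s (helper18)
-/

set_option autoImplicit false
set_option linter.unusedSectionVars false
universe u
open AlgebraicGeometry CategoryTheory
open scoped HomogeneousIdeal

namespace Groth.Agent.Lib.Helper18.ProjEquiv

variable {A B σ τ : Type u} [CommRing A] [CommRing B]
  [SetLike σ A] [AddSubgroupClass σ A] [SetLike τ B] [AddSubgroupClass τ B]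
  (𝒜 : ℕ → σ) (ℬ : ℕ → τ) [GradedRing 𝒜] [GradedRing ℬ]
  (e : A ≃+* B) (he : ∀ (n : ℕ) (a : A), a ∈ 𝒜 n ↔ e a ∈ ℬ n)

/-- the graded ring homomorphism of a degree-preserving ring isomorphism -/
def toGr : 𝒜 →+*ᵍ ℬ :=
  { e.toRingHom with map_mem := fun {n a} ha => (he n a).mp ha }

/-- the inverse graded ring homomorphism -/
def symmGr : ℬ →+*ᵍ 𝒜 :=
  { e.symm.toRingHom with
    map_mem := fun {n b} hb => (he n (e.symm b)).mpr (by
      change e (e.symm b) ∈ ℬ n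
      rwa [e.apply_symm_apply]) }

@[simp] theorem toGr_apply (a : A) : toGr 𝒜 ℬ e he a = e a := rfl

@[simp] theorem symmGr_apply (b : B) : symmGr 𝒜 ℬ e he b = e.symm b := rfl

theorem toGr_comp_symmGr : (toGr 𝒜 ℬ e he).comp (symmGr 𝒜 ℬ e he) = GradedRingHom.id ℬ := by
  ext b
  exact e.apply_symm_apply b

theorem symmGr_comp_toGr : (symmGr 𝒜 ℬ e he).comp (toGr 𝒜 ℬ e he) = GradedRingHom.id 𝒜 := by
  ext a
  exact e.symm_apply_apply a

theorem irrelevant_le_toGr : ℬ₊ ≤ 𝒜₊.map (toGr 𝒜 ℬ e he) := by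
  rw [HomogeneousIdeal.irrelevant_le]
  intro i hi b hb
  change b ∈ Ideal.map (toGr 𝒜 ℬ e he) (𝒜₊.toIdeal)
  have h1 : b = toGr 𝒜 ℬ e he (e.symm b) := (e.apply_symm_apply b).symm
  rw [h1]
  refine Ideal.mem_map_of_mem _ (HomogeneousIdeal.mem_irrelevant_of_mem _ hi ?_)
  exact (symmGr 𝒜 ℬ e he).map_mem hb

theorem irrelevant_le_symmGr : 𝒜₊ ≤ ℬ₊.map (symmGr 𝒜 ℬ e he) := by
  rw [HomogeneousIdeal.irrelevant_le]
  intro i hi a ha
  change a ∈ Ideal.map (symmGr 𝒜 ℬ e he) (ℬ₊.toIdeal)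
  have h1 : a = symmGr 𝒜 ℬ e he (e a) := (e.symm_apply_apply a).symm
  rw [h1]
  refine Ideal.mem_map_of_mem _ (HomogeneousIdeal.mem_irrelevant_of_mem _ hi ?_)
  exact (toGr 𝒜 ℬ e he).map_mem ha

/-- the induced isomorphism of homogeneous spectra -/
noncomputable def projIso : Proj ℬ ≅ Proj 𝒜 where
  hom := Proj.map (toGr 𝒜 ℬ e he) (irrelevant_le_toGr 𝒜 ℬ e he)
  inv := Proj.map (symmGr 𝒜 ℬ e he) (irrelevant_le_symmGr 𝒜 ℬ e he)
  hom_inv_id := by
    rw [← Proj.map_comp]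
    exact (Groth.Agent.Lib.Helper42.proj_map_congr (toGr_comp_symmGr 𝒜 ℬ e he) _ (by simp)).trans
      Proj.map_id
  inv_hom_id := by
    rw [← Proj.map_comp]
    exact (Groth.Agent.Lib.Helper42.proj_map_congr (symmGr_comp_toGr 𝒜 ℬ e he) _ (by simp)).trans
      Proj.map_id

theorem projIso_hom :
    (projIso 𝒜 ℬ e he).hom = Proj.map (toGr 𝒜 ℬ e he) (irrelevant_le_toGr 𝒜 ℬ e he) := rfl

/-- compatibility with the structure morphisms to the degree zero parts -/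
theorem projIso_hom_toSpecZero :
    (projIso 𝒜 ℬ e he).hom ≫ Proj.toSpecZero 𝒜 =
      Proj.toSpecZero ℬ ≫
        Spec.map (CommRingCat.ofHom (Groth.Agent.Lib.Helper42.zeroHom (toGr 𝒜 ℬ e he))) :=
  Groth.Agent.Lib.Helper42.map_toSpecZero _ _

end Groth.Agent.Lib.Helper18.ProjEquiv
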