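import Mathlib
import Groth.Prelude.Def_RelProj2
import Groth.Agent.Lib.Helper42.RelProjBaseChange
import Groth.Agent.Lib.Helper18.ProjEquiv
import Groth.Agent.Lib.Helper18.BCPure
import Groth.Agent.Lib.Helper18.QCGrLoc

/-!
# Local pieces of a closed subscheme of a relative `Proj` (helper18)

For a relative homogeneous spectrum `p : P ⟶ Y` of `𝒯` and a morphism `i : X ⟶ P`, the induced
morphisms `iS U : (i ≫ p)⁻¹(U) ⟶ Proj 𝒯(U)` over the affine opens, with `𝒯(U)` graded by submodules over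
`Γ(Y, U)` (the form in which the libraries on closed subschemes of `Proj` are written).
-/

set_option autoImplicit false
set_option linter.style.haveILetI false
set_option linter.unusedSectionVars false
universe u
open AlgebraicGeometry CategoryTheory Limits TopologicalSpace Opposite
open scoped HomogeneousIdeal

namespace Groth.Agent.Lib.Helper18.CSub

open Groth.Agent.Lib.Helper18 Groth.Agent.Lib.Helper42

attribute [local instance] QCGrLoc.algU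

variable {Y : Scheme.{u}} (𝒯 : RelProj.QCGrAlg Y)

/-- the pieces of `𝒯(U)` as submodules over the functions on `U` -/
noncomputable def gS (U : Y.Opens) (hU : IsAffineOpen U) (d : ℕ) :
    Submodule Γ(Y, U) (𝒯.presheaf.obj (op U)) :=
  BCPure.toSubmod (𝒯.deg U hU) (𝒯.str_mem U hU) d

noncomputable instance (U : Y.Opens) (hU : IsAffineOpen U) : GradedAlgebra (gS 𝒯 U hU) :=
  BCPure.gradedAlgebra_toSubmod (𝒯.deg U hU) (𝒯.str_mem U hU)

theorem mem_gS {U : Y.Opens} {hU : IsAffineOpen U} {d : ℕ} {x : 𝒯.presheaf.obj (op U)} :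
    x ∈ gS 𝒯 U hU d ↔ x ∈ 𝒯.deg U hU d := Iff.rfl

/-- the identification of the two homogeneous spectra -/
noncomputable def kap (U : Y.Opens) (hU : IsAffineOpen U) :
    Proj (gS 𝒯 U hU) ≅ Proj (𝒯.deg U hU) :=
  ProjEquiv.projIso (𝒯.deg U hU) (gS 𝒯 U hU) (RingEquiv.refl _) (fun _ _ => Iff.rfl)

/-- restriction as a graded homomorphism for the submodule gradings -/
noncomputable def resS {U V : Y.Opens} (hU : IsAffineOpen U) (hV : IsAffineOpen V) (h : V ≤ U) :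
    gS 𝒯 U hU →+*ᵍ gS 𝒯 V hV :=
  { (𝒯.presheaf.map (homOfLE h).op).hom with map_mem := fun hx => 𝒯.map_mem hU hV h hx }

theorem resS_apply {U V : Y.Opens} (hU : IsAffineOpen U) (hV : IsAffineOpen V) (h : V ≤ U)
    (a : 𝒯.presheaf.obj (op U)) :
    resS 𝒯 hU hV h a = (𝒯.presheaf.map (homOfLE h).op).hom a := rfl

theorem irrelevant_le_resS (U : Y.Opens) (hU : IsAffineOpen U) (r : Γ(Y, U)) :
    (gS 𝒯 (Y.basicOpen r) (hU.basicOpen r))₊ ≤
      ((gS 𝒯 U hU)₊).map (resS 𝒯 hU (hU.basicOpen r) (Y.basicOpen_le r)) := by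
  rw [HomogeneousIdeal.irrelevant_le]
  intro d hd b hb
  change b ∈ Ideal.map (resS 𝒯 hU (hU.basicOpen r) (Y.basicOpen_le r)) ((gS 𝒯 U hU)₊.toIdeal)
  obtain ⟨k, a, ha, hka⟩ := QCGrLoc.exists_pow_mul_eq_res 𝒯 hU r (mem_gS 𝒯 |>.mp hb)
  have hunit : IsUnit (QCGrLoc.rho 𝒯 r (QCGrLoc.sig 𝒯 U r)) := by
    rw [QCGrLoc.rho_sig]
    exact (RingedSpace.isUnit_res_basicOpen Y.toRingedSpace r).map _
  obtain ⟨w, hw⟩ := hunit
  have hb' : b = resS 𝒯 hU (hU.basicOpen r) (Y.basicOpen_le r) a * ↑(w⁻¹ ^ k) := by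
    rw [resS_apply]
    change b = QCGrLoc.rho 𝒯 r a * _
    rw [hka, ← hw, mul_assoc, Units.val_pow_eq_pow_val, ← mul_pow, Units.mul_inv, one_pow, mul_one]
  rw [hb']
  exact Ideal.mul_mem_right _ _
    (Ideal.mem_map_of_mem _ (HomogeneousIdeal.mem_irrelevant_of_mem _ hd ha))

/-- the morphism of homogeneous spectra induced by restriction to a basic open -/
noncomputable abbrev mS (U : Y.Opens) (hU : IsAffineOpen U) (r : Γ(Y, U)) :
    Proj (gS 𝒯 (Y.basicOpen r) (hU.basicOpen r)) ⟶ Proj (gS 𝒯 U hU) :=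
  Proj.map (resS 𝒯 hU (hU.basicOpen r) (Y.basicOpen_le r)) (irrelevant_le_resS 𝒯 U hU r)

theorem kap_mS (U : Y.Opens) (hU : IsAffineOpen U) (r : Γ(Y, U)) :
    (kap 𝒯 (Y.basicOpen r) (hU.basicOpen r)).hom ≫
        Proj.map (𝒯.res hU (hU.basicOpen r) (Y.basicOpen_le r)) (𝒯.irrelevant_le_map U hU r) =
      mS 𝒯 U hU r ≫ (kap 𝒯 U hU).hom := by
  unfold kap
  rw [ProjEquiv.projIso_hom, ProjEquiv.projIso_hom, ← Proj.map_comp, ← Proj.map_comp]
  exact proj_map_congr (by ext a; rfl) _ _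

/-- the structure morphism of `Proj 𝒯(U)` to `U` -/
noncomputable def toU (U : Y.Opens) (hU : IsAffineOpen U) : Proj (gS 𝒯 U hU) ⟶ (U : Scheme.{u}) :=
  (kap 𝒯 U hU).hom ≫ RelProjGlue.toOpen 𝒯 U hU

theorem toU_ι (U : Y.Opens) (hU : IsAffineOpen U) :
    toU 𝒯 U hU ≫ U.ι = Proj.toSpecZero (gS 𝒯 U hU) ≫
      Spec.map (CommRingCat.ofHom (algebraMap Γ(Y, U) (gS 𝒯 U hU 0))) ≫ hU.fromSpec := by
  unfold toU kap
  rw [Category.assoc, RelProjGlue.toOpen_ι, ProjEquiv.projIso_hom, ← Category.assoc,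
    map_toSpecZero, Category.assoc, ← Category.assoc (Spec.map _), ← Spec.map_comp]
  rfl

variable {P : Scheme.{u}} {p : P ⟶ Y}
  {chart : ∀ (U : Y.Opens) (hU : IsAffineOpen U),
    (((p ⁻¹ᵁ U : P.Opens) : Scheme.{u}) ≅ Proj (𝒯.deg U hU))}
  (hP : RelProj.IsRelProj 𝒯 p chart)

variable (p chart) in
/-- the chart immersions for the submodule gradings -/
noncomputable def jS (U : Y.Opens) (hU : IsAffineOpen U) : Proj (gS 𝒯 U hU) ⟶ P :=
  (kap 𝒯 U hU).hom ≫ RelProj.emb p chart U hU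

instance (U : Y.Opens) (hU : IsAffineOpen U) : IsOpenImmersion (jS 𝒯 p chart U hU) := by
  unfold jS; infer_instance

include hP in
theorem isPullback_jS (U : Y.Opens) (hU : IsAffineOpen U) :
    IsPullback (jS 𝒯 p chart U hU) (toU 𝒯 U hU) p U.ι := by
  refine (isPullback_emb hP U hU).of_iso (kap 𝒯 U hU).symm (Iso.refl _) (Iso.refl _) (Iso.refl _)
    ?_ ?_ ?_ ?_
  · simp [jS]
  · simp [toU]
  · simp
  · simp

include hP in
theorem mS_jS (U : Y.Opens) (hU : IsAffineOpen U) (r : Γ(Y, U)) :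
    mS 𝒯 U hU r ≫ jS 𝒯 p chart U hU = jS 𝒯 p chart (Y.basicOpen r) (hU.basicOpen r) := by
  unfold jS
  rw [← Category.assoc, ← kap_mS, Category.assoc, RelProj.map_res_emb hP U hU r]

section immersion

variable {X : Scheme.{u}} (i : X ⟶ P)

/-- the induced morphism `(i ≫ p)⁻¹(U) ⟶ Proj 𝒯(U)` -/
noncomputable def iS (U : Y.Opens) (hU : IsAffineOpen U) :
    (((i ≫ p) ⁻¹ᵁ U : X.Opens) : Scheme.{u}) ⟶ Proj (gS 𝒯 U hU) :=
  (isPullback_jS 𝒯 hP U hU).lift (((i ≫ p) ⁻¹ᵁ U).ι ≫ i) ((i ≫ p) ∣_ U)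
    (by rw [Category.assoc, morphismRestrict_ι])

theorem iS_jS (U : Y.Opens) (hU : IsAffineOpen U) :
    iS 𝒯 hP i U hU ≫ jS 𝒯 p chart U hU = ((i ≫ p) ⁻¹ᵁ U).ι ≫ i :=
  (isPullback_jS 𝒯 hP U hU).lift_fst _ _ _

theorem iS_toU (U : Y.Opens) (hU : IsAffineOpen U) :
    iS 𝒯 hP i U hU ≫ toU 𝒯 U hU = (i ≫ p) ∣_ U :=
  (isPullback_jS 𝒯 hP U hU).lift_snd _ _ _

theorem iS_toBase (U : Y.Opens) (hU : IsAffineOpen U) :
    iS 𝒯 hP i U hU ≫ Proj.toSpecZero (gS 𝒯 U hU) ≫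
      Spec.map (CommRingCat.ofHom (algebraMap Γ(Y, U) (gS 𝒯 U hU 0))) ≫ hU.fromSpec =
      ((i ≫ p) ⁻¹ᵁ U).ι ≫ i ≫ p := by
  rw [← toU_ι, ← Category.assoc, iS_toU, morphismRestrict_ι]

theorem isPullback_iS (U : Y.Opens) (hU : IsAffineOpen U) :
    IsPullback ((i ≫ p) ⁻¹ᵁ U).ι (iS 𝒯 hP i U hU) i (jS 𝒯 p chart U hU) := by
  refine IsPullback.of_bot (v₂₁ := toU 𝒯 U hU) (v₂₂ := p) (h₃₁ := U.ι) ?_
    (iS_jS 𝒯 hP i U hU).symm (isPullback_jS 𝒯 hP U hU)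
  rw [iS_toU]
  exact (isPullback_morphismRestrict (i ≫ p) U).flip

instance [IsClosedImmersion i] (U : Y.Opens) (hU : IsAffineOpen U) :
    IsClosedImmersion (iS 𝒯 hP i U hU) :=
  MorphismProperty.of_isPullback (P := @IsClosedImmersion) (isPullback_iS 𝒯 hP i U hU) inferInstance

theorem homOfLE_iS (U : Y.Opens) (hU : IsAffineOpen U) (r : Γ(Y, U)) :
    X.homOfLE ((i ≫ p).preimage_mono (Y.basicOpen_le r)) ≫ iS 𝒯 hP i U hU =
      iS 𝒯 hP i (Y.basicOpen r) (hU.basicOpen r) ≫ mS 𝒯 U hU r := by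
  rw [← cancel_mono (jS 𝒯 p chart U hU), Category.assoc, Category.assoc, iS_jS, mS_jS 𝒯 hP, iS_jS,
    Scheme.homOfLE_ι_assoc]

end immersion

end Groth.Agent.Lib.Helper18.CSub
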