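import Mathlib
import Groth.Prelude.Def_CohB1
import Groth.Agent.Lib.Helper17.ProjMap
import Groth.Agent.Lib.Helper42.ProjMap

/-!
# `Proj` of a graded ring generated in degree one, with finitely generated degree one part, is a
closed subscheme of a projective space over the base ring (helper18)

The degree zero part is allowed to be bigger than the base ring.
-/

set_option autoImplicit false
set_option linter.style.haveILetI false
set_option linter.unusedSectionVars false
universe u
open AlgebraicGeometry CategoryTheory MvPolynomial HomogeneousLocalization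
open scoped HomogeneousIdeal

namespace Groth.Agent.Lib.Helper18.GenOneImm

variable {R B : Type u} [CommRing R] [CommRing B] (ℬ : ℕ → AddSubgroup B) [GradedRing ℬ]
  (str : R →+* B) {n : ℕ} (t : Fin (n + 1) → B)

/-- the evaluation map -/
noncomputable def psi : MvPolynomial (Fin (n + 1)) R →+* B := MvPolynomial.eval₂Hom str t

theorem psi_C (r : R) : psi str t (C r) = str r := by
  unfold psi; simp

theorem psi_X (j : Fin (n + 1)) : psi str t (X j) = t j := by
  unfold psi; simp

variable (hstr : ∀ r, str r ∈ ℬ 0) (ht : ∀ j, t j ∈ ℬ 1)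

include hstr ht in
theorem psi_mem {d : ℕ} {p : MvPolynomial (Fin (n + 1)) R}
    (hp : p ∈ CohB1.polyGrading n R d) : psi str t p ∈ ℬ d := by
  rw [MvPolynomial.mem_homogeneousSubmodule] at hp
  change MvPolynomial.eval₂ str t p ∈ ℬ d
  rw [MvPolynomial.eval₂_eq']
  refine sum_mem fun α hα => ?_
  have hdeg : ∑ i, α i = d := by
    have := hp (MvPolynomial.mem_support_iff.mp hα)
    rw [← this]
    simp [Finsupp.weight_apply, Finsupp.sum_fintype]
  have h1 : ∏ i, t i ^ α i ∈ ℬ (∑ i ∈ Finset.univ, α i • 1) :=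
    SetLike.prod_pow_mem_graded ℬ (fun _ => 1) t (fun i => α i) (fun i _ => ht i)
  have h2 : (∑ i ∈ Finset.univ, α i • 1) = d := by
    rw [← hdeg]
    simp
  rw [h2] at h1
  have := SetLike.mul_mem_graded (hstr (coeff α p)) h1
  rwa [zero_add] at this

/-- the evaluation map as a graded homomorphism -/
noncomputable def psiGr : CohB1.polyGrading n R →+*ᵍ ℬ :=
  { psi str t with map_mem := fun hp => psi_mem ℬ str t hstr ht hp }

theorem psiGr_apply (p : MvPolynomial (Fin (n + 1)) R) :
    psiGr ℬ str t hstr ht p = psi str t p := rfl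

section key

/-- degree pieces as `ℤ`-submodules -/
abbrev Bd (d : ℕ) : Submodule ℤ B := (ℬ d).toIntSubmodule

/-- the images of the homogeneous polynomials -/
noncomputable def Md (d : ℕ) : Submodule ℤ B :=
  ((CohB1.polyGrading n R d).restrictScalars ℤ).map (psi str t).toAddMonoidHom.toIntLinearMap

theorem mem_Md {d : ℕ} {x : B} :
    x ∈ Md (R := R) str t d ↔ ∃ p ∈ CohB1.polyGrading n R d, psi str t p = x := by
  unfold Md
  rw [Submodule.mem_map]
  rfl

theorem Md_mul_le (d e : ℕ) :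
    Md (R := R) str t d * Md (R := R) str t e ≤ Md (R := R) str t (d + e) := by
  rw [Submodule.mul_le]
  intro x hx y hy
  obtain ⟨p, hp, rfl⟩ := (mem_Md str t).mp hx
  obtain ⟨q, hq, rfl⟩ := (mem_Md str t).mp hy
  refine (mem_Md str t).mpr ⟨p * q, ?_, map_mul _ _ _⟩
  exact SetLike.mul_mem_graded hp hq

theorem Bd_mul_le (d e : ℕ) : Bd ℬ d * Bd ℬ e ≤ Bd ℬ (d + e) := by
  rw [Submodule.mul_le]
  intro x hx y hy
  exact SetLike.mul_mem_graded (A := ℬ) hx hy

variable (hF : ∀ x ∈ ℬ 1, ∃ c : Fin (n + 1) → R, x = ∑ j, str (c j) * t j)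

include hF in
theorem J_le_Md : Bd ℬ 1 ≤ Md (R := R) str t 1 := by
  intro x hx
  obtain ⟨c, rfl⟩ := hF x hx
  refine (mem_Md str t).mpr ⟨∑ j, C (c j) * X j, ?_, ?_⟩
  · refine sum_mem fun j _ => ?_
    have h0 : (C (c j) : MvPolynomial (Fin (n + 1)) R) ∈ CohB1.polyGrading n R 0 :=
      (MvPolynomial.mem_homogeneousSubmodule _ _).mpr (MvPolynomial.isHomogeneous_C _ _)
    have h1 : (X j : MvPolynomial (Fin (n + 1)) R) ∈ CohB1.polyGrading n R 1 :=
      (MvPolynomial.mem_homogeneousSubmodule _ _).mpr (MvPolynomial.isHomogeneous_X _ _)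
    have := SetLike.mul_mem_graded h0 h1
    rwa [zero_add] at this
  · rw [map_sum]
    refine Finset.sum_congr rfl fun j _ => ?_
    rw [map_mul, psi_C, psi_X]

include hF in
theorem J_pow_le_Md (d : ℕ) : Bd ℬ 1 ^ (d + 1) ≤ Md (R := R) str t (d + 1) := by
  induction d with
  | zero => rw [zero_add, pow_one]; exact J_le_Md ℬ str t hF
  | succ d ih =>
    rw [pow_succ]
    exact (mul_le_mul' ih (J_le_Md ℬ str t hF)).trans (Md_mul_le str t (d + 1) 1)

theorem J_pow_le_Bd (d : ℕ) : Bd ℬ 1 ^ d ≤ Bd ℬ d := by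
  induction d with
  | zero =>
    rw [pow_zero, Submodule.one_le]
    exact SetLike.GradedOne.one_mem (A := ℬ)
  | succ d ih =>
    rw [pow_succ]
    exact (mul_le_mul' ih le_rfl).trans (Bd_mul_le ℬ d 1)

theorem Z_mul_J_pow_le (d : ℕ) : Bd ℬ 0 * Bd ℬ 1 ^ (d + 1) ≤ Bd ℬ 1 ^ (d + 1) := by
  rw [pow_succ', ← mul_assoc]
  refine mul_le_mul' ?_ le_rfl
  have := Bd_mul_le ℬ 0 1
  rwa [zero_add] at this

/-- the subring `ℬ₀ + Σ_{d ≥ 1} ℬ₁^d` -/
noncomputable def NN : Submodule ℤ B := Bd ℬ 0 ⊔ ⨆ d : ℕ, Bd ℬ 1 ^ (d + 1)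

theorem NN_mul_le : NN ℬ * NN ℬ ≤ NN ℬ := by
  unfold NN
  rw [Submodule.sup_mul, Submodule.mul_sup, Submodule.mul_sup]
  refine sup_le (sup_le ?_ ?_) (sup_le ?_ ?_)
  · refine le_sup_of_le_left ?_
    have := Bd_mul_le ℬ 0 0
    rwa [zero_add] at this
  · refine le_sup_of_le_right ?_
    rw [Submodule.mul_iSup]
    exact iSup_mono fun d => Z_mul_J_pow_le ℬ d
  · refine le_sup_of_le_right ?_
    rw [Submodule.iSup_mul]
    refine iSup_mono fun d => ?_
    rw [mul_comm]
    exact Z_mul_J_pow_le ℬ d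
  · refine le_sup_of_le_right ?_
    rw [Submodule.iSup_mul]
    refine iSup_le fun d => ?_
    rw [Submodule.mul_iSup]
    refine iSup_le fun e => ?_
    rw [← pow_add]
    have : d + 1 + (e + 1) = (d + e + 1) + 1 := by ring
    rw [this]
    exact le_iSup (fun k : ℕ => Bd ℬ 1 ^ (k + 1)) (d + e + 1)

variable (hG : Subring.closure ((ℬ 0 : Set B) ∪ (ℬ 1 : Set B)) = ⊤)

include hG in
theorem NN_eq_top (x : B) : x ∈ NN ℬ := by
  have hx : x ∈ Subring.closure ((ℬ 0 : Set B) ∪ (ℬ 1 : Set B)) := by rw [hG]; trivial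
  induction hx using Subring.closure_induction with
  | mem x hx =>
    rcases hx with hx | hx
    · exact (le_sup_left : Bd ℬ 0 ≤ NN ℬ) hx
    · refine (le_sup_right : _ ≤ NN ℬ) ?_
      refine (le_iSup (fun k : ℕ => Bd ℬ 1 ^ (k + 1)) 0) ?_
      rw [zero_add, pow_one]
      exact hx
  | zero => exact zero_mem _
  | one => exact (le_sup_left : Bd ℬ 0 ≤ NN ℬ) (SetLike.GradedOne.one_mem (A := ℬ))
  | add a b _ _ ha hb => exact add_mem ha hb
  | neg a _ ha => exact neg_mem ha
  | mul a b _ _ ha hb => exact NN_mul_le ℬ (Submodule.mul_mem_mul ha hb)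

/-- the components in positive degrees of an element of `NN` lie in the powers of `ℬ₁` -/
theorem component_mem_of_mem_NN {y : B} (hy : y ∈ NN ℬ) (d : ℕ) :
    (DirectSum.decompose ℬ y (d + 1) : B) ∈ Bd ℬ 1 ^ (d + 1) := by
  unfold NN at hy
  obtain ⟨z, hz, w, hw, rfl⟩ := Submodule.mem_sup.mp hy
  rw [DirectSum.decompose_add, DirectSum.add_apply, AddSubgroup.coe_add]
  refine add_mem ?_ ?_
  · have hz' : z ∈ ℬ 0 := hz
    rw [DirectSum.decompose_of_mem_ne ℬ hz' (Nat.succ_ne_zero d).symm]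
    exact zero_mem _
  · refine Submodule.iSup_induction (fun k : ℕ => Bd ℬ 1 ^ (k + 1)) (motive := fun w =>
      (DirectSum.decompose ℬ w (d + 1) : B) ∈ Bd ℬ 1 ^ (d + 1)) hw ?_ ?_ ?_
    · intro k w hw
      have hw' : w ∈ ℬ (k + 1) := J_pow_le_Bd ℬ (k + 1) hw
      by_cases hk : k = d
      · subst hk
        rw [DirectSum.decompose_of_mem_same ℬ hw']
        exact hw
      · have hne : k + 1 ≠ d + 1 := fun h => hk (Nat.succ_injective h)
        rw [DirectSum.decompose_of_mem_ne ℬ hw' hne]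
        exact zero_mem _
    · rw [DirectSum.decompose_zero, DirectSum.zero_apply, ZeroMemClass.coe_zero]
      exact zero_mem _
    · intro a b ha hb
      rw [DirectSum.decompose_add, DirectSum.add_apply, AddSubgroup.coe_add]
      exact add_mem ha hb

include hG hF in
/-- **every homogeneous element of positive degree is a polynomial in the generators of degree one
with coefficients in the base ring** -/
theorem exists_of_mem {d : ℕ} {x : B} (hx : x ∈ ℬ (d + 1)) :
    ∃ p ∈ CohB1.polyGrading n R (d + 1), psi str t p = x := by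
  have h1 := component_mem_of_mem_NN ℬ (NN_eq_top ℬ hG x) d
  rw [DirectSum.decompose_of_mem_same ℬ hx] at h1
  exact (mem_Md str t).mp (J_pow_le_Md ℬ str t hF d h1)

include hG hF in
theorem irrelevant_le : ℬ₊ ≤ ((CohB1.polyGrading n R)₊).map (psiGr ℬ str t hstr ht) := by
  rw [HomogeneousIdeal.irrelevant_le]
  intro i hi b hb
  change b ∈ Ideal.map (psiGr ℬ str t hstr ht) ((CohB1.polyGrading n R)₊.toIdeal)
  obtain ⟨d, rfl⟩ : ∃ d, i = d + 1 := ⟨i - 1, by omega⟩
  obtain ⟨p, hp, rfl⟩ := exists_of_mem ℬ str t hF hG hb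
  exact Ideal.mem_map_of_mem _ (HomogeneousIdeal.mem_irrelevant_of_mem _ hi hp)

include hG hF in
theorem away_map_surjective {e : ℕ} (he : 0 < e) (s : MvPolynomial (Fin (n + 1)) R)
    (hs : s ∈ CohB1.polyGrading n R e) :
    Function.Surjective (Away.map (psiGr ℬ str t hstr ht) s) := by
  intro x
  have hfs : psiGr ℬ str t hstr ht s ∈ ℬ e := (psiGr ℬ str t hstr ht).map_mem hs
  obtain ⟨k, b, hb, rfl⟩ := Away.mk_surjective ℬ hfs x
  have hb' : b * psiGr ℬ str t hstr ht s ∈ ℬ ((k + 1) • e) := by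
    have := SetLike.mul_mem_graded hb hfs
    rwa [show k • e + e = (k + 1) • e by rw [add_smul, one_smul]] at this
  obtain ⟨d, hd⟩ : ∃ d, (k + 1) • e = d + 1 := ⟨(k + 1) • e - 1, by
    have : 0 < (k + 1) • e := by simpa using Nat.mul_pos (Nat.succ_pos k) he
    omega⟩
  have hb'' : b * psiGr ℬ str t hstr ht s ∈ ℬ (d + 1) := hd ▸ hb'
  obtain ⟨p, hp, hpe⟩ := exists_of_mem ℬ str t hF hG hb''
  have hp' : p ∈ CohB1.polyGrading n R ((k + 1) • e) := hd ▸ hp
  refine ⟨Away.mk (CohB1.polyGrading n R) hs (k + 1) p hp', ?_⟩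
  rw [Away.map_mk]
  apply HomogeneousLocalization.val_injective
  rw [Away.val_mk, Away.val_mk, Localization.mk_eq_mk_iff, Localization.r_iff_exists]
  refine ⟨1, ?_⟩
  change ((1 : Submonoid.powers (psiGr ℬ str t hstr ht s)) : B) *
      ((psiGr ℬ str t hstr ht s) ^ k * psiGr ℬ str t hstr ht p) =
    ((1 : Submonoid.powers (psiGr ℬ str t hstr ht s)) : B) *
      ((psiGr ℬ str t hstr ht s) ^ (k + 1) * b)
  rw [psiGr_apply ℬ str t hstr ht p, hpe, pow_succ]
  ring

include hG hF in
/-- `Proj ℬ ⟶ P^n_R` is a closed immersion -/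
theorem isClosedImmersion_projMap :
    IsClosedImmersion (Proj.map (psiGr ℬ str t hstr ht)
      (irrelevant_le ℬ str t hstr ht hF hG)) :=
  Groth.Agent.Lib.Helper17.proj_map_of_forall_away (P := @IsClosedImmersion)
    (psiGr ℬ str t hstr ht) (irrelevant_le ℬ str t hstr ht hF hG)
    (fun _ he s hs => IsClosedImmersion.spec_of_surjective _
      (away_map_surjective ℬ str t hstr ht hF hG he s hs))

/-- the structure map into the degree zero part -/
def strZ : R →+* ℬ 0 where
  toFun r := ⟨str r, hstr r⟩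
  map_one' := Subtype.ext (map_one str)
  map_mul' a b := Subtype.ext (map_mul str a b)
  map_zero' := Subtype.ext (map_zero str)
  map_add' a b := Subtype.ext (map_add str a b)

include hG hF in
/-- compatibility with the structure morphisms to `Spec R` -/
theorem projMap_toSpec :
    Proj.map (psiGr ℬ str t hstr ht) (irrelevant_le ℬ str t hstr ht hF hG) ≫
        CohB1.ProjSpace.toSpec n R =
      Proj.toSpecZero ℬ ≫ Spec.map (CommRingCat.ofHom (strZ ℬ str hstr)) := by
  have h : Proj.map (psiGr ℬ str t hstr ht) (irrelevant_le ℬ str t hstr ht hF hG) ≫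
      (Proj.toSpecZero (CohB1.polyGrading n R) ≫
        Spec.map (CommRingCat.ofHom (algebraMap R (CohB1.polyGrading n R 0)))) =
      Proj.toSpecZero ℬ ≫ Spec.map (CommRingCat.ofHom (strZ ℬ str hstr)) := by
    rw [← Category.assoc, Groth.Agent.Lib.Helper42.map_toSpecZero, Category.assoc,
      ← Spec.map_comp]
    congr 2
    ext r
    change psi str t (algebraMap R (MvPolynomial (Fin (n + 1)) R) r) = str r
    rw [MvPolynomial.algebraMap_eq, psi_C]
  exact h

end key

end Groth.Agent.Lib.Helper18.GenOneImm
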