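import Mathlib

/-!
# Base change of graded algebras: localization, restriction, generation (helper18)

Pure algebra used to build a quasi-coherent graded algebra `U ↦ Γ(U) ⊗ B` from a graded algebra `B`.
-/

set_option autoImplicit false
set_option linter.style.haveILetI false
universe u
open TensorProduct

namespace Groth.Agent.Lib.Helper18.TensAlg

section loc

variable {R A A' B : Type u} [CommRing R] [CommRing A] [CommRing A'] [CommRing B]
  [Algebra R A] [Algebra R A'] [Algebra R B]

/-- `A' ⊗ B` is the localization of `A ⊗ B` at `r ⊗ 1` when `A'` is the localization of `A` at `r` -/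
theorem isLocalization_tensor_map (ρ : A →ₐ[R] A') (r : A)
    (h : @IsLocalization.Away A _ r A' _ ρ.toRingHom.toAlgebra) :
    @IsLocalization.Away (A ⊗[R] B) _ (r ⊗ₜ[R] (1 : B)) (A' ⊗[R] B) _
      (Algebra.TensorProduct.map ρ (AlgHom.id R B)).toRingHom.toAlgebra := by
  letI : Algebra A A' := ρ.toRingHom.toAlgebra
  haveI : IsScalarTower R A A' := .of_algebraMap_eq fun x => (ρ.commutes x).symm
  haveI : IsLocalization (Submonoid.powers r) A' := h
  letI : Algebra (A ⊗[R] B) (A' ⊗[R] B) :=
    (Algebra.TensorProduct.map ρ (AlgHom.id R B)).toRingHom.toAlgebra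
  haveI : IsScalarTower A (A ⊗[R] B) (A' ⊗[R] B) := .of_algebraMap_eq fun x => by
    change (algebraMap A A' x) ⊗ₜ[R] (1 : B) =
      (Algebra.TensorProduct.map ρ (AlgHom.id R B)) (x ⊗ₜ[R] (1 : B))
    rw [Algebra.TensorProduct.map_tmul]
    rfl
  have H : (algebraMap (A ⊗[R] B) (A' ⊗[R] B)).comp
      (Algebra.TensorProduct.includeRight : B →ₐ[R] A ⊗[R] B).toRingHom =
      (Algebra.TensorProduct.includeRight : B →ₐ[R] A' ⊗[R] B).toRingHom := by
    ext b
    change (Algebra.TensorProduct.map ρ (AlgHom.id R B)) ((1 : A) ⊗ₜ[R] b) = (1 : A') ⊗ₜ[R] b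
    rw [Algebra.TensorProduct.map_tmul, map_one]
    rfl
  have key := IsLocalization.tensorProduct_tensorProduct R B (Submonoid.powers r) A' H
  have hM : Algebra.algebraMapSubmonoid (A ⊗[R] B) (Submonoid.powers r) =
      Submonoid.powers (r ⊗ₜ[R] (1 : B)) := by
    change Submonoid.map (algebraMap A (A ⊗[R] B)) (Submonoid.powers r) = _
    rw [Submonoid.map_powers]
    rfl
  rw [hM] at key
  exact key

end loc

section grading

variable {R A A' B : Type u} [CommRing R] [CommRing A] [CommRing A'] [CommRing B]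
  [Algebra R A] [Algebra R A'] [Algebra R B]

/-- the base change map preserves the base changed pieces -/
theorem map_mem_baseChange (ρ : A →ₐ[R] A') (p : Submodule R B) {x : A ⊗[R] B}
    (hx : x ∈ p.baseChange A) :
    (Algebra.TensorProduct.map ρ (AlgHom.id R B)) x ∈ p.baseChange A' := by
  rw [Submodule.baseChange_eq_span] at hx
  induction hx using Submodule.span_induction with
  | mem x hx =>
    obtain ⟨m, hm, rfl⟩ := hx
    change (Algebra.TensorProduct.map ρ (AlgHom.id R B)) ((1 : A) ⊗ₜ[R] m) ∈ _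
    rw [Algebra.TensorProduct.map_tmul]
    exact Submodule.tmul_mem_baseChange_of_mem _ hm
  | zero => rw [map_zero]; exact zero_mem _
  | add x y _ _ hx hy => rw [map_add]; exact add_mem hx hy
  | smul a x _ hx =>
    rw [Algebra.smul_def, map_mul]
    have : (Algebra.TensorProduct.map ρ (AlgHom.id R B)) (algebraMap A (A ⊗[R] B) a) =
        algebraMap A' (A' ⊗[R] B) (ρ a) := by
      change (Algebra.TensorProduct.map ρ (AlgHom.id R B)) (a ⊗ₜ[R] (1 : B)) = ρ a ⊗ₜ[R] (1 : B)
      rw [Algebra.TensorProduct.map_tmul]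
      rfl
    rw [this, ← Algebra.smul_def]
    exact Submodule.smul_mem _ _ hx

variable (A) (𝒜 : ℕ → Submodule R B)

/-- generation by degrees zero and one passes to the base change -/
theorem closure_baseChange_eq_top (h1 : (1 : B) ∈ 𝒜 0)
    (h : Subring.closure ((𝒜 0 : Set B) ∪ (𝒜 1 : Set B)) = ⊤) :
    Subring.closure ((((𝒜 0).baseChange A : Submodule A (A ⊗[R] B)) : Set (A ⊗[R] B)) ∪
      (((𝒜 1).baseChange A : Submodule A (A ⊗[R] B)) : Set (A ⊗[R] B))) = ⊤ := by
  rw [eq_top_iff]
  rintro x -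
  set s : Subring (A ⊗[R] B) := Subring.closure
    ((((𝒜 0).baseChange A : Submodule A (A ⊗[R] B)) : Set (A ⊗[R] B)) ∪
      (((𝒜 1).baseChange A : Submodule A (A ⊗[R] B)) : Set (A ⊗[R] B))) with hs
  have hB : ∀ b : B, ((1 : A) ⊗ₜ[R] b) ∈ s := by
    intro b
    have hb : b ∈ Subring.closure ((𝒜 0 : Set B) ∪ (𝒜 1 : Set B)) := by rw [h]; trivial
    induction hb using Subring.closure_induction with
    | mem b hb =>
      refine Subring.subset_closure ?_
      rcases hb with hb | hb
      · exact Or.inl (Submodule.tmul_mem_baseChange_of_mem _ hb)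
      · exact Or.inr (Submodule.tmul_mem_baseChange_of_mem _ hb)
    | zero => rw [tmul_zero]; exact zero_mem _
    | one => exact one_mem _
    | add a b _ _ ha hb => rw [tmul_add]; exact add_mem ha hb
    | neg a _ ha => rw [tmul_neg]; exact neg_mem ha
    | mul a b _ _ ha hb =>
      have : ((1 : A) ⊗ₜ[R] (a * b)) = ((1 : A) ⊗ₜ[R] a) * ((1 : A) ⊗ₜ[R] b) := by
        rw [Algebra.TensorProduct.tmul_mul_tmul, one_mul]
      rw [this]
      exact mul_mem ha hb
  have hA : ∀ (a : A) (b : B), (a ⊗ₜ[R] b) ∈ s := by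
    intro a b
    have : (a ⊗ₜ[R] b) = (a ⊗ₜ[R] (1 : B)) * ((1 : A) ⊗ₜ[R] b) := by
      rw [Algebra.TensorProduct.tmul_mul_tmul, one_mul, mul_one]
    rw [this]
    exact mul_mem (Subring.subset_closure (Or.inl (Submodule.tmul_mem_baseChange_of_mem _ h1)))
      (hB b)
  induction x using TensorProduct.induction_on with
  | zero => exact zero_mem _
  | tmul a b => exact hA a b
  | add x y hx hy => exact add_mem hx hy

/-- finite generation of a piece passes to the base change, in the explicit form used by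
`RelProj.QCGrAlg.IsFTDeg` -/
theorem exists_finset_baseChange (d : ℕ) (hfg : (𝒜 d).FG) :
    ∃ T : Finset (A ⊗[R] B),
      (↑T : Set (A ⊗[R] B)) ⊆ (((𝒜 d).baseChange A : Submodule A (A ⊗[R] B)) : Set (A ⊗[R] B)) ∧
        ∀ x ∈ (𝒜 d).baseChange A, ∃ c : A ⊗[R] B → A,
          x = ∑ t ∈ T, ((c t) ⊗ₜ[R] (1 : B)) * t := by
  classical
  obtain ⟨T₀, hT₀⟩ := hfg
  refine ⟨T₀.image (fun b => (1 : A) ⊗ₜ[R] b), ?_, ?_⟩
  · intro t ht
    rw [Finset.coe_image] at ht
    obtain ⟨b, hb, rfl⟩ := ht
    refine Submodule.tmul_mem_baseChange_of_mem _ ?_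
    rw [← hT₀]
    exact Submodule.subset_span hb
  · intro x hx
    have hspan : (𝒜 d).baseChange A =
        Submodule.span A ((T₀.image (fun b => (1 : A) ⊗ₜ[R] b) : Finset (A ⊗[R] B)) :
          Set (A ⊗[R] B)) := by
      rw [Submodule.baseChange_eq_span, ← hT₀, Submodule.map_span, Submodule.span_span_of_tower,
        Finset.coe_image]
      rfl
    rw [hspan] at hx
    obtain ⟨c, -, hc⟩ := Submodule.mem_span_finset.mp hx
    refine ⟨c, ?_⟩
    rw [← hc]
    refine Finset.sum_congr rfl fun t _ => ?_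
    rw [Algebra.smul_def]
    rfl

end grading

end Groth.Agent.Lib.Helper18.TensAlg
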