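import Mathlib
import Groth.Prelude.Def_RelProj
import Groth.Agent.Lib.Helper18.AffGr2
import Groth.Agent.Lib.Helper18.TensAlg

/-!
# The quasi-coherent graded algebra `U ↦ Γ(U) ⊗ B` attached to a graded `Γ(S, ⊤)`-algebra `B`
(helper18)
-/

set_option autoImplicit false
set_option linter.style.haveILetI false
universe u
open AlgebraicGeometry CategoryTheory Limits TopologicalSpace Opposite TensorProduct

namespace Groth.Agent.Lib.Helper18.TensGr

open Groth.Agent.Lib.Helper18.AffAlg Groth.Agent.Lib.Helper18.GrTransport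
  Groth.Agent.Lib.Helper18.TensAlg

variable (S : Scheme.{u})

/-- sections over an open, as an algebra over the global sections -/
def Sec (U : S.Opens) : Type u := Γ(S, U)

instance (U : S.Opens) : CommRing (Sec S U) := inferInstanceAs (CommRing Γ(S, U))

/-- a section, as an element of `Sec` -/
def toSec {U : S.Opens} (r : Γ(S, U)) : Sec S U := r

noncomputable instance (U : S.Opens) : Algebra Γ(S, ⊤) (Sec S U) :=
  (S.presheaf.map (homOfLE (le_top : U ≤ ⊤)).op).hom.toAlgebra

theorem algebraMap_sec (U : S.Opens) (r : Γ(S, ⊤)) :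
    algebraMap Γ(S, ⊤) (Sec S U) r = (S.presheaf.map (homOfLE (le_top : U ≤ ⊤)).op).hom r := rfl

/-- restriction as an algebra homomorphism -/
noncomputable def resAlg {U V : S.Opens} (h : V ≤ U) : Sec S U →ₐ[Γ(S, ⊤)] Sec S V :=
  { (S.presheaf.map (homOfLE h).op).hom with
    commutes' := fun r => by
      change (S.presheaf.map (homOfLE h).op).hom
        ((S.presheaf.map (homOfLE (le_top : U ≤ ⊤)).op).hom r) =
          (S.presheaf.map (homOfLE (le_top : V ≤ ⊤)).op).hom r
      rw [← CommRingCat.comp_apply, ← Functor.map_comp]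
      rfl }

theorem resAlg_apply {U V : S.Opens} (h : V ≤ U) (a : Sec S U) :
    resAlg S h a = (S.presheaf.map (homOfLE h).op).hom a := rfl

theorem resAlg_self (U : S.Opens) (a : Sec S U) : resAlg S (le_refl U) a = a := by
  rw [resAlg_apply]
  have : homOfLE (le_refl U) = 𝟙 U := rfl
  rw [this, op_id, S.presheaf.map_id]
  rfl

theorem resAlg_resAlg {U V W : S.Opens} (h : V ≤ U) (h' : W ≤ V) (a : Sec S U) :
    resAlg S h' (resAlg S h a) = resAlg S (h'.trans h) a := by
  rw [resAlg_apply, resAlg_apply, resAlg_apply, ← CommRingCat.comp_apply, ← Functor.map_comp]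
  rfl

variable (B : Type u) [CommRing B] [Algebra Γ(S, ⊤) B]

/-- restriction on the tensor products -/
noncomputable def resT {U V : S.Opens} (h : V ≤ U) :
    Sec S U ⊗[Γ(S, ⊤)] B →+* Sec S V ⊗[Γ(S, ⊤)] B :=
  (Algebra.TensorProduct.map (resAlg S h) (AlgHom.id Γ(S, ⊤) B)).toRingHom

theorem resT_tmul {U V : S.Opens} (h : V ≤ U) (a : Sec S U) (b : B) :
    resT S B h (a ⊗ₜ[Γ(S, ⊤)] b) = resAlg S h a ⊗ₜ[Γ(S, ⊤)] b := by
  change (Algebra.TensorProduct.map (resAlg S h) (AlgHom.id Γ(S, ⊤) B)) (a ⊗ₜ[Γ(S, ⊤)] b) = _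
  rw [Algebra.TensorProduct.map_tmul]
  rfl

theorem resT_self (U : S.Opens) : resT S B (le_refl U) = RingHom.id _ := by
  refine RingHom.ext fun x => ?_
  induction x using TensorProduct.induction_on with
  | zero => simp
  | tmul a b => rw [resT_tmul, resAlg_self]; rfl
  | add x y hx hy => rw [map_add, hx, hy, map_add]

theorem resT_comp {U V W : S.Opens} (h : V ≤ U) (h' : W ≤ V) :
    (resT S B h').comp (resT S B h) = resT S B (h'.trans h) := by
  refine RingHom.ext fun x => ?_
  induction x using TensorProduct.induction_on with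
  | zero => simp
  | tmul a b =>
    rw [RingHom.comp_apply, resT_tmul, resT_tmul, resT_tmul, resAlg_resAlg]
  | add x y hx hy => rw [map_add, hx, hy, map_add]

/-- the presheaf of tensor products on the affine opens -/
noncomputable def tensFunctor : S.AffineZariskiSiteᵒᵖ ⥤ CommRingCat.{u} where
  obj U := CommRingCat.of (Sec S U.unop.1 ⊗[Γ(S, ⊤)] B)
  map {U V} i := CommRingCat.ofHom
    (resT S B (Scheme.AffineZariskiSite.toOpens_mono (leOfHom i.unop)))
  map_id U := by
    ext : 1
    exact resT_self S B U.unop.1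
  map_comp {U V W} i j := by
    ext : 1
    exact (resT_comp S B _ _).symm

/-- the structure map -/
noncomputable def tensStr :
    (Scheme.AffineZariskiSite.toOpensFunctor S).op ⋙ S.presheaf ⟶ tensFunctor S B where
  app U := CommRingCat.ofHom
    (Algebra.TensorProduct.includeLeftRingHom :
      Sec S U.unop.1 →+* Sec S U.unop.1 ⊗[Γ(S, ⊤)] B)
  naturality {U V} i := by
    ext r
    exact (resT_tmul S B (Scheme.AffineZariskiSite.toOpens_mono (leOfHom i.unop)) r 1).symm

theorem tensStr_app (U : S.AffineZariskiSite) (r : Γ(S, U.1)) :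
    ((tensStr S B).app (op U)).hom r = toSec S r ⊗ₜ[Γ(S, ⊤)] (1 : B) := rfl

theorem coequifibered_tensStr : (tensStr S B).Coequifibered := by
  rw [Scheme.AffineZariskiSite.coequifibered_iff_forall_isLocalizationAway]
  intro U r
  have hA : IsLocalization.Away r Γ(S, S.basicOpen r) := U.2.isLocalization_basicOpen r
  exact isLocalization_tensor_map (B := B) (resAlg S (S.basicOpen_le r)) r hA

variable {B} (𝒜 : ℕ → Submodule Γ(S, ⊤) B) [GradedAlgebra 𝒜]

/-- the base changed pieces over an open -/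
noncomputable abbrev bcDeg (U : S.Opens) (d : ℕ) : Submodule (Sec S U) (Sec S U ⊗[Γ(S, ⊤)] B) :=
  (𝒜 d).baseChange (Sec S U)

/-- the affine-local graded data `U ↦ Γ(U) ⊗ B` -/
noncomputable def tensGrData : GrData S where
  F := tensFunctor S B
  str := tensStr S B
  coeq := coequifibered_tensStr S B
  deg U := toSubN (bcDeg S 𝒜 U.1)
  graded U := gradedRing_comapDeg (RingEquiv.refl _) (bcDeg S 𝒜 U.1)
  map_mem := fun _ _ _ hx => map_mem_baseChange (resAlg S _) _ hx
  str_mem := fun _ _ => Submodule.tmul_mem_baseChange_of_mem _ SetLike.GradedOne.one_mem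

/-- the quasi-coherent graded algebra `U ↦ Γ(U) ⊗ B` -/
noncomputable def tensGr : RelProj.QCGrAlg S := grAlg (tensGrData S 𝒜)

variable (U : S.Opens) (hU : IsAffineOpen U)

/-- sections of `tensGr` over an affine open -/
noncomputable def secE : (tensGr S 𝒜).presheaf.obj (op U) ≃+* Sec S U ⊗[Γ(S, ⊤)] B :=
  gamE (tensGrData S 𝒜).toData U hU

theorem mem_deg_iff (d : ℕ) (x : (tensGr S 𝒜).presheaf.obj (op U)) :
    x ∈ (tensGr S 𝒜).deg U hU d ↔ secE S 𝒜 U hU x ∈ bcDeg S 𝒜 U d := Iff.rfl

theorem secE_str (r : Γ(S, U)) :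
    secE S 𝒜 U hU (((tensGr S 𝒜).str.app (op U)).hom r) = toSec S r ⊗ₜ[Γ(S, ⊤)] (1 : B) :=
  gamE_str (tensGrData S 𝒜).toData U hU r

theorem isGenDegOne_tensGr
    (h : Subring.closure ((𝒜 0 : Set B) ∪ (𝒜 1 : Set B)) = ⊤) : (tensGr S 𝒜).IsGenDegOne :=
  isGenDegOne_grAlg (tensGrData S 𝒜)
    (fun U => closure_baseChange_eq_top (Sec S U.1) 𝒜 SetLike.GradedOne.one_mem h)

theorem isFTDeg_tensGr (d : ℕ) (h : (𝒜 d).FG) : (tensGr S 𝒜).IsFTDeg d := by
  refine isFTDeg_grAlg (tensGrData S 𝒜) d (fun U => ?_)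
  obtain ⟨T, hT, hgen⟩ := exists_finset_baseChange (Sec S U.1) 𝒜 d h
  exact ⟨T, hT, fun x hx => hgen x hx⟩

end Groth.Agent.Lib.Helper18.TensGr
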