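import Mathlib
import Groth.Prelude.Def_RelProj
import Groth.Agent.Lib.Helper18.TensGr
import Groth.Agent.Lib.Helper18.ProjEquiv
import Groth.Agent.Lib.Helper42.RelProjGlue

/-!
# Over an affine base, `Proj` of a graded algebra generated in degree one is projective (helper18)
-/

set_option autoImplicit false
set_option linter.style.haveILetI false
set_option linter.unusedSectionVars false
universe u
open AlgebraicGeometry CategoryTheory Limits TopologicalSpace Opposite TensorProduct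

namespace Groth.Agent.Lib.Helper18.TensGr

open Groth.Agent.Lib.Helper18.AffAlg Groth.Agent.Lib.Helper18.GrTransport
  Groth.Agent.Lib.Helper18.TensAlg Groth.Agent.Lib.Helper42

variable (S : Scheme.{u}) {B : Type u} [CommRing B] [Algebra Γ(S, ⊤) B]

theorem algebraMap_sec_top (r : Γ(S, ⊤)) : algebraMap Γ(S, ⊤) (Sec S ⊤) r = toSec S r := by
  rw [algebraMap_sec]
  have : homOfLE (le_top : (⊤ : S.Opens) ≤ ⊤) = 𝟙 _ := rfl
  rw [this, op_id, S.presheaf.map_id]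
  rfl

/-- global sections into `B` -/
noncomputable def secTop : Sec S ⊤ →ₐ[Γ(S, ⊤)] B where
  toFun a := algebraMap Γ(S, ⊤) B (show Γ(S, ⊤) from a)
  map_one' := map_one _
  map_mul' a b := map_mul (algebraMap Γ(S, ⊤) B) (show Γ(S, ⊤) from a) (show Γ(S, ⊤) from b)
  map_zero' := map_zero _
  map_add' a b := map_add (algebraMap Γ(S, ⊤) B) (show Γ(S, ⊤) from a) (show Γ(S, ⊤) from b)
  commutes' r := by
    change algebraMap Γ(S, ⊤) B (show Γ(S, ⊤) from algebraMap Γ(S, ⊤) (Sec S ⊤) r) = _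
    rw [algebraMap_sec_top]
    rfl

variable (B) in
/-- `Γ(S, ⊤) ⊗ B = B` -/
noncomputable def lidHom : Sec S ⊤ ⊗[Γ(S, ⊤)] B →ₐ[Γ(S, ⊤)] B :=
  Algebra.TensorProduct.lift (secTop S) (AlgHom.id Γ(S, ⊤) B) (fun _ _ => Commute.all _ _)

theorem lidHom_tmul (a : Sec S ⊤) (b : B) :
    lidHom S B (a ⊗ₜ[Γ(S, ⊤)] b) = algebraMap Γ(S, ⊤) B (show Γ(S, ⊤) from a) * b := by
  unfold lidHom
  rw [Algebra.TensorProduct.lift_tmul]
  rfl

variable (B) in
/-- `Γ(S, ⊤) ⊗ B = B` as a ring isomorphism -/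
noncomputable def lidE : B ≃+* Sec S ⊤ ⊗[Γ(S, ⊤)] B where
  toFun b := (1 : Sec S ⊤) ⊗ₜ[Γ(S, ⊤)] b
  invFun x := lidHom S B x
  left_inv b := by
    change lidHom S B ((1 : Sec S ⊤) ⊗ₜ[Γ(S, ⊤)] b) = b
    rw [lidHom_tmul]
    change algebraMap Γ(S, ⊤) B 1 * b = b
    rw [map_one, one_mul]
  right_inv x := by
    change (1 : Sec S ⊤) ⊗ₜ[Γ(S, ⊤)] (lidHom S B x) = x
    induction x using TensorProduct.induction_on with
    | zero => rw [map_zero, tmul_zero]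
    | tmul a b =>
      rw [lidHom_tmul, ← Algebra.smul_def, ← TensorProduct.smul_tmul]
      congr 1
      rw [Algebra.smul_def, mul_one, algebraMap_sec_top]
      rfl
    | add x y hx hy => rw [map_add, tmul_add, hx, hy]
  map_mul' a b := by
    change (1 : Sec S ⊤) ⊗ₜ[Γ(S, ⊤)] (a * b) = _
    rw [Algebra.TensorProduct.tmul_mul_tmul, one_mul]
  map_add' a b := tmul_add _ _ _

theorem lidE_apply (b : B) : lidE S B b = (1 : Sec S ⊤) ⊗ₜ[Γ(S, ⊤)] b := rfl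

theorem lidE_symm_apply (x : Sec S ⊤ ⊗[Γ(S, ⊤)] B) : (lidE S B).symm x = lidHom S B x := rfl

variable (𝒜 : ℕ → Submodule Γ(S, ⊤) B) [GradedAlgebra 𝒜]

theorem lidHom_mem {d : ℕ} {x : Sec S ⊤ ⊗[Γ(S, ⊤)] B} (hx : x ∈ bcDeg S 𝒜 ⊤ d) :
    lidHom S B x ∈ 𝒜 d := by
  unfold bcDeg at hx
  rw [Submodule.baseChange_eq_span] at hx
  induction hx using Submodule.span_induction with
  | mem x hx =>
    obtain ⟨m, hm, rfl⟩ := hx
    change lidHom S B ((1 : Sec S ⊤) ⊗ₜ[Γ(S, ⊤)] m) ∈ 𝒜 d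
    rw [lidHom_tmul]
    change algebraMap Γ(S, ⊤) B 1 * m ∈ 𝒜 d
    rw [map_one, one_mul]
    exact hm
  | zero => rw [map_zero]; exact zero_mem _
  | add x y _ _ hx hy => rw [map_add]; exact add_mem hx hy
  | smul a x _ hx =>
    rw [Algebra.smul_def, map_mul]
    have : lidHom S B (algebraMap (Sec S ⊤) (Sec S ⊤ ⊗[Γ(S, ⊤)] B) a) =
        algebraMap Γ(S, ⊤) B (show Γ(S, ⊤) from a) := by
      change lidHom S B (a ⊗ₜ[Γ(S, ⊤)] (1 : B)) = _
      rw [lidHom_tmul, mul_one]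
    rw [this, ← Algebra.smul_def]
    exact Submodule.smul_mem _ _ hx

theorem mem_iff_lidE (d : ℕ) (b : B) : b ∈ 𝒜 d ↔ lidE S B b ∈ bcDeg S 𝒜 ⊤ d := by
  constructor
  · intro hb
    exact Submodule.tmul_mem_baseChange_of_mem _ hb
  · intro hb
    have := lidHom_mem S 𝒜 hb
    rwa [← lidE_symm_apply, RingEquiv.symm_apply_apply] at this

variable [IsAffine S]

/-- the global sections of `tensGr` are `B` -/
noncomputable def topE : B ≃+* (tensGr S 𝒜).presheaf.obj (op ⊤) :=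
  (lidE S B).trans (secE S 𝒜 ⊤ (isAffineOpen_top S)).symm

theorem mem_iff_topE (d : ℕ) (b : B) :
    b ∈ 𝒜 d ↔ topE S 𝒜 b ∈ (tensGr S 𝒜).deg ⊤ (isAffineOpen_top S) d := by
  rw [mem_deg_iff, mem_iff_lidE S 𝒜]
  change _ ↔ secE S 𝒜 ⊤ (isAffineOpen_top S)
    ((secE S 𝒜 ⊤ (isAffineOpen_top S)).symm (lidE S B b)) ∈ _
  rw [RingEquiv.apply_symm_apply]

theorem topE_algebraMap (r : Γ(S, ⊤)) :
    topE S 𝒜 (algebraMap Γ(S, ⊤) B r) = ((tensGr S 𝒜).str.app (op ⊤)).hom r := by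
  apply (secE S 𝒜 ⊤ (isAffineOpen_top S)).injective
  rw [secE_str]
  change secE S 𝒜 ⊤ (isAffineOpen_top S)
    ((secE S 𝒜 ⊤ (isAffineOpen_top S)).symm (lidE S B (algebraMap Γ(S, ⊤) B r))) = _
  rw [RingEquiv.apply_symm_apply, lidE_apply, Algebra.algebraMap_eq_smul_one,
    ← TensorProduct.smul_tmul]
  congr 1
  rw [Algebra.smul_def, mul_one, algebraMap_sec_top]

/-- `Proj` of `tensGr` over the whole affine base is `Proj B` -/
noncomputable def projTopIso :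
    Proj ((tensGr S 𝒜).deg ⊤ (isAffineOpen_top S)) ≅ Proj 𝒜 :=
  ProjEquiv.projIso 𝒜 ((tensGr S 𝒜).deg ⊤ (isAffineOpen_top S)) (topE S 𝒜) (mem_iff_topE S 𝒜)

theorem projTopIso_hom_toSpec :
    (projTopIso S 𝒜).hom ≫ Proj.toSpecZero 𝒜 ≫
        Spec.map (CommRingCat.ofHom (algebraMap Γ(S, ⊤) (𝒜 0))) =
      Proj.toSpecZero ((tensGr S 𝒜).deg ⊤ (isAffineOpen_top S)) ≫
        Spec.map ((tensGr S 𝒜).strZero ⊤ (isAffineOpen_top S)) := by
  unfold projTopIso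
  rw [← Category.assoc, ProjEquiv.projIso_hom_toSpecZero, Category.assoc, ← Spec.map_comp]
  congr 2
  ext r
  exact topE_algebraMap S 𝒜 r

/-- **Over an affine base, `Proj` of a graded algebra generated by its degree one part, which is a
finitely generated module, is projective.** -/
theorem isProjective_of_iso_proj {X : Scheme.{u}} (f : X ⟶ S)
    (hgen : Subring.closure ((𝒜 0 : Set B) ∪ (𝒜 1 : Set B)) = ⊤) (hft : (𝒜 1).FG)
    (e : X ≅ Proj 𝒜)
    (he : e.hom ≫ Proj.toSpecZero 𝒜 ≫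
      Spec.map (CommRingCat.ofHom (algebraMap Γ(S, ⊤) (𝒜 0))) ≫
        (isAffineOpen_top S).fromSpec = f) :
    RelProj.IsProjective f := by
  have hP := RelProjGlue.isRelProj (tensGr S 𝒜)
  set p := (RelProjGlue.gluingData (tensGr S 𝒜)).toBase with hp
  have hι : IsIso (p ⁻¹ᵁ (⊤ : S.Opens)).ι := by
    have : (p ⁻¹ᵁ (⊤ : S.Opens)) = ⊤ := rfl
    rw [this]
    exact (Scheme.topIso _).isIso_hom
  let e' : X ≅ (RelProjGlue.gluingData (tensGr S 𝒜)).glued :=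
    e ≪≫ (projTopIso S 𝒜).symm ≪≫
      (RelProjGlue.chart (tensGr S 𝒜) ⊤ (isAffineOpen_top S)).symm ≪≫
        asIso (p ⁻¹ᵁ (⊤ : S.Opens)).ι
  refine ⟨tensGr S 𝒜, _, p, RelProjGlue.chart (tensGr S 𝒜), e', isGenDegOne_tensGr S 𝒜 hgen,
    isFTDeg_tensGr S 𝒜 1 hft, hP, ?_⟩
  have h1 := hP.chart_over ⊤ (isAffineOpen_top S)
  have h2 := projTopIso_hom_toSpec S 𝒜
  simp only [e', Iso.trans_hom, Iso.symm_hom, asIso_hom, Category.assoc]
  rw [← h1, Iso.inv_hom_id_assoc, ← he]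
  congr 1
  rw [← reassoc_of% h2, Iso.inv_hom_id_assoc]

end Groth.Agent.Lib.Helper18.TensGr
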