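import Mathlib
import Groth.Prelude.Def_RelProj
import Groth.Agent.Lib.Helper18.GenOneImm
import Groth.Agent.Lib.Helper18.TensProj
import Groth.Agent.Lib.Helper17.ProjClosed
import Groth.Agent.Lib.Helper61.PnIso
import Groth.Agent.S9693

/-!
# Projective and H-projective morphisms over an affine base (helper18)
-/

set_option autoImplicit false
set_option linter.style.haveILetI false
set_option linter.unusedSectionVars false
universe u
open AlgebraicGeometry CategoryTheory Limits TopologicalSpace Opposite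
open scoped HomogeneousIdeal

namespace Groth.Agent.Lib.Helper18.LocProj

/-- H-projectivity is invariant under isomorphisms of the source -/
theorem isHProjective_iso_comp {X X' S : Scheme.{u}} (θ : X' ≅ X) (f : X ⟶ S)
    (hf : RelProj.IsHProjective f) : RelProj.IsHProjective (θ.hom ≫ f) := by
  obtain ⟨n, i, hi, hif⟩ := hf
  exact ⟨n, θ.hom ≫ i, inferInstance, by rw [Category.assoc, hif]⟩

/-- a base change of an H-projective morphism is H-projective, for an arbitrary pullback square -/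
theorem isHProjective_of_isPullback {X S X' S' : Scheme.{u}} {f : X ⟶ S} {f' : X' ⟶ S'}
    {k' : X' ⟶ X} {k : S' ⟶ S} (h : IsPullback k' f' f k) (hf : RelProj.IsHProjective f) :
    RelProj.IsHProjective f' := by
  have h1 := Groth.Agent.S9693.result f hf k
  have h2 := isHProjective_iso_comp h.isoPullback _ h1
  rwa [h.isoPullback_hom_snd] at h2

/-- `P^n` over an affine open, as `Proj` of the polynomial ring -/
theorem isPullback_projSpace (n : ℕ) {T : Scheme.{u}} (W : T.Opens) (hW : IsAffineOpen W) :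
    IsPullback (Proj.map (Groth.Agent.Lib.Helper61.PnIso.phi n Γ(T, W))
        (Groth.Agent.Lib.Helper61.PnIso.irrelevant_le_map n Γ(T, W)))
      (CohB1.ProjSpace.toSpec n Γ(T, W) ≫ hW.isoSpec.inv)
      (CohB1.ProjSpace.toSpec n (ULift.{u} ℤ))
      (specULiftZIsTerminal.from (W : Scheme.{u})) := by
  refine IsPullback.of_iso (Groth.Agent.Lib.Helper61.PnIso.isPullback' n Γ(T, W))
    (Iso.refl _) (Iso.refl _) hW.isoSpec.symm (Iso.refl _) ?_ ?_ ?_ ?_
  · simp
  · simp
  · simp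
  · exact specULiftZIsTerminal.hom_ext _ _

/-- `P^n` over an affine open, as `Proj` of the polynomial ring -/
noncomputable def thetaW (n : ℕ) {T : Scheme.{u}} (W : T.Opens) (hW : IsAffineOpen W) :
    CohB1.ProjSpace n Γ(T, W) ≅ CohB1.ProjSpaceOver n (W : Scheme.{u}) :=
  (isPullback_projSpace n W hW).isoPullback

theorem thetaW_hom_toBase (n : ℕ) {T : Scheme.{u}} (W : T.Opens) (hW : IsAffineOpen W) :
    (thetaW n W hW).hom ≫ CohB1.ProjSpaceOver.toBase n (W : Scheme.{u}) =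
      CohB1.ProjSpace.toSpec n Γ(T, W) ≫ hW.isoSpec.inv :=
  (isPullback_projSpace n W hW).isoPullback_hom_snd

/-- a finite generating set, as a family indexed by `Fin (n + 1)` -/
theorem exists_fin_family {R B : Type u} [CommRing R] [CommRing B] (M : AddSubgroup B)
    (str : R →+* B) (T : Finset B) (hT : (↑T : Set B) ⊆ (M : Set B))
    (hgen : ∀ x ∈ M, ∃ c : B → R, x = ∑ t ∈ T, str (c t) * t) :
    ∃ (n : ℕ) (t : Fin (n + 1) → B), (∀ j, t j ∈ M) ∧
      ∀ x ∈ M, ∃ c : Fin (n + 1) → R, x = ∑ j, str (c j) * t j := by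
  classical
  let e := T.equivFin
  refine ⟨T.card, Fin.snoc (α := fun _ => B) (fun i => ((e.symm i : T) : B)) 0, ?_, ?_⟩
  · intro j
    refine Fin.lastCases ?_ (fun i => ?_) j
    · rw [Fin.snoc_last]; exact zero_mem _
    · rw [Fin.snoc_castSucc]; exact hT (e.symm i).2
  · intro x hx
    obtain ⟨c, rfl⟩ := hgen x hx
    refine ⟨Fin.snoc (α := fun _ => R) (fun i => c ((e.symm i : T) : B)) 0, ?_⟩
    rw [Fin.sum_univ_castSucc]
    simp only [Fin.snoc_castSucc, Fin.snoc_last, map_zero, mul_zero, add_zero]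
    rw [← Finset.sum_coe_sort T (fun t => str (c t) * t)]
    exact (Equiv.sum_comp e.symm (fun s : T => str (c (s : B)) * (s : B))).symm

theorem isClosedImmersion_comp4 {A₁ A₂ A₃ A₄ A₅ : Scheme.{u}} (a : A₁ ⟶ A₂) [IsIso a]
    (b : A₂ ⟶ A₃) [IsIso b] (c : A₃ ⟶ A₄) [IsClosedImmersion c] (d : A₄ ⟶ A₅) [IsIso d] :
    IsClosedImmersion (a ≫ b ≫ c ≫ d) := inferInstance

open Groth.Agent.Lib.Helper18.GenOneImm in
/-- **a projective morphism is H-projective over every affine open of the base** -/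
theorem isHProjective_restrict_of_isProjective {Y T : Scheme.{u}} (g : Y ⟶ T)
    (hg : RelProj.IsProjective g) (W : T.Opens) (hW : IsAffineOpen W) :
    RelProj.IsHProjective (g ∣_ W) := by
  obtain ⟨𝒮, P, p, chart, e, hgen, hft, hP, he⟩ := hg
  subst he
  obtain ⟨T', hT', hgenT⟩ := hft W hW
  obtain ⟨n, t, ht, hF⟩ := exists_fin_family (𝒮.deg W hW 1) (𝒮.str.app (op W)).hom T' hT' hgenT
  have hstr := 𝒮.str_mem W hW
  have hG := hgen W hW
  let c : Proj (𝒮.deg W hW) ⟶ CohB1.ProjSpace n Γ(T, W) :=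
    Proj.map (psiGr (𝒮.deg W hW) (𝒮.str.app (op W)).hom t hstr ht)
      (irrelevant_le (𝒮.deg W hW) (𝒮.str.app (op W)).hom t hstr ht hF hG)
  haveI hc : IsClosedImmersion c :=
    isClosedImmersion_projMap (𝒮.deg W hW) (𝒮.str.app (op W)).hom t hstr ht hF hG
  have hc2 : c ≫ CohB1.ProjSpace.toSpec n Γ(T, W) =
      Proj.toSpecZero (𝒮.deg W hW) ≫ Spec.map (𝒮.strZero W hW) :=
    projMap_toSpec (𝒮.deg W hW) (𝒮.str.app (op W)).hom t hstr ht hF hG
  have hpW : p ∣_ W = (chart W hW).hom ≫ Proj.toSpecZero (𝒮.deg W hW) ≫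
      Spec.map (𝒮.strZero W hW) ≫ hW.isoSpec.inv := by
    rw [← cancel_mono W.ι]
    simp only [Category.assoc]
    rw [morphismRestrict_ι, IsAffineOpen.isoSpec_inv_ι, hP.chart_over]
  let i₀ : (((e.hom ≫ p) ⁻¹ᵁ W : Y.Opens) : Scheme.{u}) ⟶ ((p ⁻¹ᵁ W : P.Opens) : Scheme.{u}) :=
    e.hom ∣_ (p ⁻¹ᵁ W)
  haveI : IsIso i₀ := inferInstanceAs (IsIso (e.hom ∣_ (p ⁻¹ᵁ W)))
  have h0 : (e.hom ≫ p) ∣_ W = i₀ ≫ p ∣_ W := morphismRestrict_comp e.hom p W
  refine ⟨n, i₀ ≫ (chart W hW).hom ≫ c ≫ (thetaW n W hW).hom,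
    isClosedImmersion_comp4 _ _ _ _, ?_⟩
  rw [h0, Category.assoc, Category.assoc, Category.assoc, thetaW_hom_toBase,
    reassoc_of% hc2, hpW]

/-- `P^n` over an affine scheme, as `Proj` of the polynomial ring -/
theorem isPullback_projSpace_of_isAffine (n : ℕ) (S : Scheme.{u}) [IsAffine S] :
    IsPullback (Proj.map (Groth.Agent.Lib.Helper61.PnIso.phi n Γ(S, ⊤))
        (Groth.Agent.Lib.Helper61.PnIso.irrelevant_le_map n Γ(S, ⊤)))
      (CohB1.ProjSpace.toSpec n Γ(S, ⊤) ≫ S.isoSpec.inv)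
      (CohB1.ProjSpace.toSpec n (ULift.{u} ℤ))
      (specULiftZIsTerminal.from S) := by
  refine IsPullback.of_iso (Groth.Agent.Lib.Helper61.PnIso.isPullback' n Γ(S, ⊤))
    (Iso.refl _) (Iso.refl _) S.isoSpec.symm (Iso.refl _) ?_ ?_ ?_ ?_
  · simp
  · simp
  · simp
  · exact specULiftZIsTerminal.hom_ext _ _

/-- `P^n` over an affine scheme, as `Proj` of the polynomial ring -/
noncomputable def thetaS (n : ℕ) (S : Scheme.{u}) [IsAffine S] :
    CohB1.ProjSpace n Γ(S, ⊤) ≅ CohB1.ProjSpaceOver n S :=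
  (isPullback_projSpace_of_isAffine n S).isoPullback

theorem thetaS_hom_toBase (n : ℕ) (S : Scheme.{u}) [IsAffine S] :
    (thetaS n S).hom ≫ CohB1.ProjSpaceOver.toBase n S =
      CohB1.ProjSpace.toSpec n Γ(S, ⊤) ≫ S.isoSpec.inv :=
  (isPullback_projSpace_of_isAffine n S).isoPullback_hom_snd

section quot

open Groth.Agent.Lib.Helper17

variable {R : Type u} [CommRing R] (n : ℕ) (I : Ideal (MvPolynomial (Fin (n + 1)) R))

/-- a quotient of a polynomial ring is generated in degrees zero and one -/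
theorem closure_quot_eq_top :
    Subring.closure ((GQ.grading (CohB1.polyGrading n R) I 0 :
        Set (MvPolynomial (Fin (n + 1)) R ⧸ I)) ∪
      (GQ.grading (CohB1.polyGrading n R) I 1 : Set (MvPolynomial (Fin (n + 1)) R ⧸ I))) = ⊤ := by
  rw [eq_top_iff]
  rintro x -
  obtain ⟨p, rfl⟩ := Ideal.Quotient.mk_surjective x
  induction p using MvPolynomial.induction_on with
  | C r =>
    exact Subring.subset_closure (Or.inl (GQ.mk_mem_grading _ I
      ((MvPolynomial.mem_homogeneousSubmodule _ _).mpr (MvPolynomial.isHomogeneous_C _ r))))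
  | add p q hp hq => rw [map_add]; exact add_mem hp hq
  | mul_X p j hp =>
    rw [map_mul]
    exact mul_mem hp (Subring.subset_closure (Or.inr (GQ.mk_mem_grading _ I
      ((MvPolynomial.mem_homogeneousSubmodule _ _).mpr (MvPolynomial.isHomogeneous_X _ j)))))

theorem fg_quot_one : (GQ.grading (CohB1.polyGrading n R) I 1).FG := by
  unfold GQ.grading
  exact Submodule.FG.map _ (MvPolynomial.homogeneousSubmodule_fg (Fin (n + 1)) R 1)

end quot

open Groth.Agent.Lib.Helper17 in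
/-- **over an affine base, an H-projective morphism is projective** -/
theorem isProjective_of_isHProjective_of_isAffine {X S : Scheme.{u}} [IsAffine S] (f : X ⟶ S)
    (hf : RelProj.IsHProjective f) : RelProj.IsProjective f := by
  obtain ⟨n, i, hi, hif⟩ := hf
  have hi0 : (i ≫ (thetaS n S).inv) ≫ CohB1.ProjSpace.toSpec n Γ(S, ⊤) ≫ S.isoSpec.inv = f := by
    rw [← thetaS_hom_toBase, Category.assoc, Iso.inv_hom_id_assoc, hif]
  let i' : X ⟶ Proj (CohB1.polyGrading n Γ(S, ⊤)) := i ≫ (thetaS n S).inv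
  haveI : IsClosedImmersion i' := inferInstanceAs (IsClosedImmersion (i ≫ (thetaS n S).inv))
  have hi' : i' ≫ (Proj.toSpecZero (CohB1.polyGrading n Γ(S, ⊤)) ≫
      Spec.map (CommRingCat.ofHom (algebraMap Γ(S, ⊤) (CohB1.polyGrading n Γ(S, ⊤) 0)))) ≫
        S.isoSpec.inv = f := hi0
  have hX := Groth.Agent.Lib.Helper93.PnCover.X_mem n Γ(S, ⊤)
  have hspan := Groth.Agent.Lib.Helper93.PnCover.irrelevant_le_span n Γ(S, ⊤)
  set I := PC.idealOf (CohB1.polyGrading n Γ(S, ⊤)) i'.ker MvPolynomial.X hX with hIdef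
  have hI : I.IsHomogeneous (CohB1.polyGrading n Γ(S, ⊤)) :=
    PC.idealOf_isHomogeneous (CohB1.polyGrading n Γ(S, ⊤)) i'.ker MvPolynomial.X hX
  letI := GQ.gradedAlgebra (CohB1.polyGrading n Γ(S, ⊤)) I hI
  have hφ := PC.irrelevant_le_map_of_surjective (CohB1.polyGrading n Γ(S, ⊤))
    (GQ.quotHom (CohB1.polyGrading n Γ(S, ⊤)) I) (GQ.quotHom_surjective _ I)
  have hk := PC.ker_map_quotHom (CohB1.polyGrading n Γ(S, ⊤)) i'.ker MvPolynomial.X hX hspan hφ
  haveI hcl : IsClosedImmersion (Proj.map (GQ.quotHom (CohB1.polyGrading n Γ(S, ⊤)) I) hφ) :=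
    PC.isClosedImmersion_map_of_surjective _ _ (GQ.quotHom_surjective _ I) hφ
  haveI hiso : IsIso (IsClosedImmersion.lift
      (Proj.map (GQ.quotHom (CohB1.polyGrading n Γ(S, ⊤)) I) hφ) i' hk.le) :=
    IsClosedImmersion.isIso_lift _ _ hk
  have hfac : IsClosedImmersion.lift
      (Proj.map (GQ.quotHom (CohB1.polyGrading n Γ(S, ⊤)) I) hφ) i' hk.le ≫
        Proj.map (GQ.quotHom (CohB1.polyGrading n Γ(S, ⊤)) I) hφ = i' :=
    IsClosedImmersion.lift_fac _ _ _
  refine TensGr.isProjective_of_iso_proj S (GQ.grading (CohB1.polyGrading n Γ(S, ⊤)) I) f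
    (closure_quot_eq_top n I) (fg_quot_one n I)
    (asIso (IsClosedImmersion.lift
      (Proj.map (GQ.quotHom (CohB1.polyGrading n Γ(S, ⊤)) I) hφ) i' hk.le)) ?_
  have h1 := Groth.Agent.Lib.Helper42.map_toSpecZero
    (GQ.quotHom (CohB1.polyGrading n Γ(S, ⊤)) I) hφ
  have h2 : Proj.map (GQ.quotHom (CohB1.polyGrading n Γ(S, ⊤)) I) hφ ≫
      (Proj.toSpecZero (CohB1.polyGrading n Γ(S, ⊤)) ≫
        Spec.map (CommRingCat.ofHom (algebraMap Γ(S, ⊤) (CohB1.polyGrading n Γ(S, ⊤) 0)))) =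
      Proj.toSpecZero (GQ.grading (CohB1.polyGrading n Γ(S, ⊤)) I) ≫
        Spec.map (CommRingCat.ofHom (algebraMap Γ(S, ⊤)
          (GQ.grading (CohB1.polyGrading n Γ(S, ⊤)) I 0))) := by
    rw [← Category.assoc, h1, Category.assoc, ← Spec.map_comp]
    rfl
  rw [asIso_hom, IsAffineOpen.fromSpec_top, ← hi']
  conv_rhs => rw [← hfac]
  rw [Category.assoc, ← Category.assoc (Proj.map _ _), h2]
  simp only [Category.assoc]

end Groth.Agent.Lib.Helper18.LocProj
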