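import Mathlib
import Groth.Prelude.Def_RelProj
import Groth.Agent.Lib.Helper18.LocProj

/-!
# A closed subscheme of `P^n_S` over the affine opens of `S` (helper18)

For `i : X ⟶ P^n_S` and an affine open `U` of `S` we construct the open immersion
`jU : Proj Γ(U)[T] ⟶ P^n_S`, the induced morphism `iU : f⁻¹(U) ⟶ Proj Γ(U)[T]` and their
compatibilities for `V ≤ U`.
-/

set_option autoImplicit false
set_option linter.style.haveILetI false
set_option linter.unusedSectionVars false
universe u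
open AlgebraicGeometry CategoryTheory Limits TopologicalSpace Opposite
open scoped HomogeneousIdeal

namespace Groth.Agent.Lib.Helper18.HProj

open Groth.Agent.Lib.Helper61 Groth.Agent.Lib.Helper18.LocProj

section poly

variable (n : ℕ) {R R' R'' : Type u} [CommRing R] [CommRing R'] [CommRing R'']

/-- the graded ring hom `R[T] → R'[T]` induced by `ρ : R → R'` -/
noncomputable def polyMap (ρ : R →+* R') : CohB1.polyGrading n R →+*ᵍ CohB1.polyGrading n R' where
  toRingHom := MvPolynomial.map ρ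
  map_mem := fun hx => MvPolynomial.IsHomogeneous.map hx _

@[simp] theorem polyMap_apply (ρ : R →+* R') (p : MvPolynomial (Fin (n + 1)) R) :
    polyMap n ρ p = MvPolynomial.map ρ p := rfl

theorem irrelevant_le_polyMap (ρ : R →+* R') :
    (CohB1.polyGrading n R')₊ ≤ (CohB1.polyGrading n R)₊.map (polyMap n ρ) := by
  change ((CohB1.polyGrading n R')₊).toIdeal ≤
    ((CohB1.polyGrading n R)₊.map (polyMap n ρ)).toIdeal
  refine (Groth.Agent.Lib.Helper93.PnCover.irrelevant_le_span n R').trans ?_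
  rw [Ideal.span_le]
  rintro _ ⟨i, rfl⟩
  have h1 : (MvPolynomial.X i : MvPolynomial (Fin (n + 1)) R) ∈
      ((CohB1.polyGrading n R)₊).toIdeal :=
    HomogeneousIdeal.mem_irrelevant_of_mem _ one_pos
      (Groth.Agent.Lib.Helper93.PnCover.X_mem n R i)
  have h2 := Ideal.mem_map_of_mem (polyMap n ρ : MvPolynomial (Fin (n + 1)) R →+*
    MvPolynomial (Fin (n + 1)) R') h1
  have h3 : (polyMap n ρ : MvPolynomial (Fin (n + 1)) R →+*
    MvPolynomial (Fin (n + 1)) R') (MvPolynomial.X i) = MvPolynomial.X i :=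
    MvPolynomial.map_X _ i
  rw [h3] at h2
  exact h2

theorem polyMap_comp (ρ : R →+* R') (ρ' : R' →+* R'') :
    (polyMap n ρ').comp (polyMap n ρ) = polyMap n (ρ'.comp ρ) := by
  apply DFunLike.ext
  intro p
  exact MvPolynomial.map_map ρ ρ' p

theorem phi_eq_polyMap (A : Type u) [CommRing A] : PnIso.phi n A = polyMap n (PnIso.zHom A) := rfl

theorem zHom_comp (ρ : R →+* R') : ρ.comp (PnIso.zHom R) = PnIso.zHom R' := by
  have h : ∀ (g g' : ULift.{u} ℤ →+* R'), g = g' := by
    intro g g'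
    have h1 : g.comp (ULift.ringEquiv : ULift.{u} ℤ ≃+* ℤ).symm.toRingHom =
        g'.comp (ULift.ringEquiv : ULift.{u} ℤ ≃+* ℤ).symm.toRingHom := RingHom.ext_int _ _
    ext x
    have := congrArg (fun k => k (ULift.ringEquiv x)) h1
    exact this
  exact h _ _

/-- the structure morphism of `Proj R[T]` -/
noncomputable abbrev toSpecP (R : Type u) [CommRing R] :
    Proj (CohB1.polyGrading n R) ⟶ Spec (CommRingCat.of R) :=
  CohB1.ProjSpace.toSpec n R

theorem polyMap_toSpec (ρ : R →+* R') :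
    Proj.map (polyMap n ρ) (irrelevant_le_polyMap n ρ) ≫ toSpecP n R =
      toSpecP n R' ≫ Spec.map (CommRingCat.ofHom ρ) := by
  change Proj.map (polyMap n ρ) (irrelevant_le_polyMap n ρ) ≫ Proj.toSpecZero _ ≫ Spec.map _ =
    (Proj.toSpecZero _ ≫ Spec.map _) ≫ Spec.map _
  rw [← Category.assoc, Groth.Agent.Lib.Helper42.map_toSpecZero, Category.assoc, Category.assoc,
    ← Spec.map_comp, ← Spec.map_comp]
  congr 2
  refine CommRingCat.hom_ext (RingHom.ext fun r => Subtype.ext ?_)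
  change MvPolynomial.map ρ (MvPolynomial.C r) = MvPolynomial.C (ρ r)
  exact MvPolynomial.map_C ρ r

end poly

variable {S : Scheme.{u}} (n : ℕ)

/-- restriction of polynomials -/
noncomputable abbrev psiRes {U V : S.Opens} (h : V ≤ U) :
    CohB1.polyGrading n Γ(S, U) →+*ᵍ CohB1.polyGrading n Γ(S, V) :=
  polyMap n (S.presheaf.map (homOfLE h).op).hom

/-- the induced morphism of projective spaces -/
noncomputable abbrev mVU {U V : S.Opens} (h : V ≤ U) :
    Proj (CohB1.polyGrading n Γ(S, V)) ⟶ Proj (CohB1.polyGrading n Γ(S, U)) :=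
  Proj.map (psiRes n h) (irrelevant_le_polyMap n _)

/-- the projection `P^n_S ⟶ P^n_ℤ` -/
noncomputable def pr1 (S : Scheme.{u}) :
    CohB1.ProjSpaceOver n S ⟶ Proj (CohB1.polyGrading n (ULift.{u} ℤ)) :=
  pullback.fst (CohB1.ProjSpace.toSpec n (ULift.{u} ℤ)) (specULiftZIsTerminal.from S)

theorem isPullback_pr1 (S : Scheme.{u}) :
    IsPullback (pr1 n S) (CohB1.ProjSpaceOver.toBase n S) (toSpecP n (ULift.{u} ℤ))
      (specULiftZIsTerminal.from S) :=
  IsPullback.of_hasPullback _ _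

/-- `Proj Γ(U)[T] ⟶ P^n_S` -/
noncomputable def jU (U : S.Opens) (hU : IsAffineOpen U) :
    Proj (CohB1.polyGrading n Γ(S, U)) ⟶ CohB1.ProjSpaceOver n S :=
  pullback.lift (f := CohB1.ProjSpace.toSpec n (ULift.{u} ℤ)) (g := specULiftZIsTerminal.from S)
    (Proj.map (PnIso.phi n Γ(S, U)) (PnIso.irrelevant_le_map n Γ(S, U)))
    (toSpecP n Γ(S, U) ≫ hU.fromSpec) (specULiftZIsTerminal.hom_ext _ _)

theorem jU_fst (U : S.Opens) (hU : IsAffineOpen U) :
    jU n U hU ≫ pr1 n S =
      Proj.map (PnIso.phi n Γ(S, U)) (PnIso.irrelevant_le_map n Γ(S, U)) :=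
  pullback.lift_fst _ _ _

theorem jU_toBase (U : S.Opens) (hU : IsAffineOpen U) :
    jU n U hU ≫ CohB1.ProjSpaceOver.toBase n S = toSpecP n Γ(S, U) ≫ hU.fromSpec :=
  pullback.lift_snd _ _ _

theorem isPullback_jU (U : S.Opens) (hU : IsAffineOpen U) :
    IsPullback (jU n U hU) (toSpecP n Γ(S, U) ≫ hU.isoSpec.inv)
      (CohB1.ProjSpaceOver.toBase n S) U.ι := by
  refine IsPullback.of_right (h₁₂ := pr1 n S) (v₁₃ := toSpecP n (ULift.{u} ℤ))
      (h₂₂ := specULiftZIsTerminal.from S) ?_ ?_ (isPullback_pr1 n S)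
  · rw [jU_fst]
    have h : U.ι ≫ specULiftZIsTerminal.from S = specULiftZIsTerminal.from (U : Scheme.{u}) :=
      specULiftZIsTerminal.hom_ext _ _
    rw [h]
    exact isPullback_projSpace n U hU
  · rw [Category.assoc, IsAffineOpen.isoSpec_inv_ι]
    exact jU_toBase n U hU

instance (U : S.Opens) (hU : IsAffineOpen U) : IsOpenImmersion (jU n U hU) :=
  MorphismProperty.of_isPullback (P := @IsOpenImmersion) (isPullback_jU n U hU).flip inferInstance

theorem mVU_toSpec {U V : S.Opens} (h : V ≤ U) (hU : IsAffineOpen U) (hV : IsAffineOpen V) :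
    mVU n h ≫ toSpecP n Γ(S, U) ≫ hU.fromSpec = toSpecP n Γ(S, V) ≫ hV.fromSpec := by
  rw [← Category.assoc, polyMap_toSpec, Category.assoc]
  congr 1
  exact hU.map_fromSpec hV (homOfLE h).op

theorem mVU_jU {U V : S.Opens} (h : V ≤ U) (hU : IsAffineOpen U) (hV : IsAffineOpen V) :
    mVU n h ≫ jU n U hU = jU n V hV := by
  refine (isPullback_pr1 n S).hom_ext ?_ ?_
  · rw [Category.assoc, jU_fst, jU_fst, ← Proj.map_comp]
    refine Groth.Agent.Lib.Helper42.proj_map_congr ?_ _ _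
    rw [phi_eq_polyMap, phi_eq_polyMap, polyMap_comp, zHom_comp]
  · rw [Category.assoc, jU_toBase, jU_toBase, mVU_toSpec n h hU hV]

section immersion

variable {X : Scheme.{u}} (i : X ⟶ CohB1.ProjSpaceOver n S)

/-- the morphism to the base -/
noncomputable abbrev fOf : X ⟶ S := i ≫ CohB1.ProjSpaceOver.toBase n S

/-- the induced morphism `f⁻¹(U) ⟶ Proj Γ(U)[T]` -/
noncomputable def iU (U : S.Opens) (hU : IsAffineOpen U) :
    ((fOf n i ⁻¹ᵁ U : X.Opens) : Scheme.{u}) ⟶ Proj (CohB1.polyGrading n Γ(S, U)) :=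
  (isPullback_jU n U hU).lift ((fOf n i ⁻¹ᵁ U).ι ≫ i) (fOf n i ∣_ U)
    (by rw [Category.assoc, morphismRestrict_ι])

theorem iU_jU (U : S.Opens) (hU : IsAffineOpen U) :
    iU n i U hU ≫ jU n U hU = (fOf n i ⁻¹ᵁ U).ι ≫ i :=
  (isPullback_jU n U hU).lift_fst _ _ _

theorem iU_toSpec (U : S.Opens) (hU : IsAffineOpen U) :
    iU n i U hU ≫ toSpecP n Γ(S, U) ≫ hU.isoSpec.inv = fOf n i ∣_ U :=
  (isPullback_jU n U hU).lift_snd _ _ _

theorem iU_toSpec_fromSpec (U : S.Opens) (hU : IsAffineOpen U) :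
    iU n i U hU ≫ toSpecP n Γ(S, U) ≫ hU.fromSpec = (fOf n i ⁻¹ᵁ U).ι ≫ fOf n i := by
  rw [← morphismRestrict_ι, ← iU_toSpec n i U hU, Category.assoc, Category.assoc,
    IsAffineOpen.isoSpec_inv_ι]

theorem isPullback_iU (U : S.Opens) (hU : IsAffineOpen U) :
    IsPullback (fOf n i ⁻¹ᵁ U).ι (iU n i U hU) i (jU n U hU) := by
  refine IsPullback.of_bot (v₂₁ := toSpecP n Γ(S, U) ≫ hU.isoSpec.inv)
    (v₂₂ := CohB1.ProjSpaceOver.toBase n S) (h₃₁ := U.ι) ?_ (iU_jU n i U hU).symm
    (isPullback_jU n U hU)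
  rw [iU_toSpec]
  exact (isPullback_morphismRestrict (fOf n i) U).flip

instance [IsClosedImmersion i] (U : S.Opens) (hU : IsAffineOpen U) :
    IsClosedImmersion (iU n i U hU) :=
  MorphismProperty.of_isPullback (P := @IsClosedImmersion) (isPullback_iU n i U hU) inferInstance

theorem homOfLE_iU {U V : S.Opens} (h : V ≤ U) (hU : IsAffineOpen U) (hV : IsAffineOpen V) :
    X.homOfLE ((fOf n i).preimage_mono h) ≫ iU n i U hU = iU n i V hV ≫ mVU n h := by
  rw [← cancel_mono (jU n U hU), Category.assoc, Category.assoc, iU_jU, mVU_jU n h hU hV, iU_jU,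
    Scheme.homOfLE_ι_assoc]

end immersion

end Groth.Agent.Lib.Helper18.HProj
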