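import Mathlib
import Groth.Agent.Lib.Helper18.HProjLocal
import Groth.Agent.Lib.Helper18.HProjSec

/-!
# The graded ideals of a closed subscheme of `P^n_S` over the affine opens of `S` (helper18)
-/

set_option autoImplicit false
set_option linter.style.haveILetI false
set_option linter.unusedSectionVars false
universe u
open AlgebraicGeometry CategoryTheory Limits TopologicalSpace Opposite HomogeneousLocalization
open scoped HomogeneousIdeal

namespace Groth.Agent.Lib.Helper18.HProj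

open Groth.Agent.Lib.Helper17 Groth.Agent.Lib.Helper17.OFrac Groth.Agent.Lib.Helper17.PI
  Groth.Agent.Lib.Helper17.PC Groth.Agent.Lib.Helper93

/-- a section which vanishes on the range of an open immersion containing a basic open is killed by
a power of the function -/
theorem exists_pow_mul_eq_zero_of_appLE_eq_zero {Z Z' : Scheme.{u}} (k : Z' ⟶ Z)
    [IsOpenImmersion k] {O : Z.Opens} (hO : IsAffineOpen O) (O' : Z'.Opens) (e : O' ≤ k ⁻¹ᵁ O)
    (e' : k ⁻¹ᵁ O ≤ O') (y g : Γ(Z, O)) (hg : Z.basicOpen g ≤ k.opensRange)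
    (hy : (k.appLE O O' e).hom y = 0) : ∃ M : ℕ, g ^ M * y = 0 := by
  refine exists_pow_mul_eq_zero_of_res_basicOpen_eq_zero_of_isAffineOpen Z hO y g ?_
  have hiso : IsIso (k.app (Z.basicOpen g)) := k.isIso_app _ hg
  have hinj : Function.Injective (k.app (Z.basicOpen g)).hom :=
    ((ConcreteCategory.isIso_iff_bijective _).mp hiso).1
  apply hinj
  rw [map_zero]
  change (k.app (Z.basicOpen g)).hom ((Z.presheaf.map (homOfLE (Z.basicOpen_le g)).op).hom y) = 0
  have h0 : (k.app O).hom y = 0 := by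
    have h1 := k.appLE_map e (homOfLE e').op
    have h2 := congrArg (fun t => t.hom y) h1
    simp only [CommRingCat.hom_comp, RingHom.coe_comp, Function.comp_apply] at h2
    rw [hy, map_zero] at h2
    rw [Scheme.Hom.app_eq_appLE]
    exact h2.symm
  have hnat := k.naturality (homOfLE (Z.basicOpen_le g)).op
  have h3 := congrArg (fun t => t.hom y) hnat
  simp only [CommRingCat.hom_comp, RingHom.coe_comp, Function.comp_apply] at h3
  rw [h3, h0, map_zero]

theorem fromSpec_appLE_top {Y : Scheme.{u}} {U : Y.Opens} (hU : IsAffineOpen U)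
    (e : (⊤ : (Spec Γ(Y, U)).Opens) ≤ hU.fromSpec ⁻¹ᵁ U) :
    hU.fromSpec.appLE U ⊤ e = (Scheme.ΓSpecIso Γ(Y, U)).inv := by
  rw [Scheme.Hom.appLE, hU.fromSpec_app_self, Category.assoc, ← Functor.map_comp]
  have : ((eqToHom hU.fromSpec_preimage_self).op ≫ (homOfLE e).op :
      op (⊤ : (Spec Γ(Y, U)).Opens) ⟶ op ⊤) = 𝟙 _ := Subsingleton.elim _ _
  rw [this, CategoryTheory.Functor.map_id, Category.comp_id]

variable {S : Scheme.{u}} (n : ℕ) {X : Scheme.{u}} (i : X ⟶ CohB1.ProjSpaceOver n S)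

/-- the standard affine opens of `Proj Γ(U)[T]` -/
noncomputable abbrev Dp (U : S.Opens) (j : Fin (n + 1)) :
    (Proj (CohB1.polyGrading n Γ(S, U))).Opens :=
  Proj.basicOpen (CohB1.polyGrading n Γ(S, U)) (MvPolynomial.X j)

/-- the functions on the base, on the standard opens of `Proj Γ(U)[T]` -/
theorem toSpec_fromSpec_appLE (U : S.Opens) (hU : IsAffineOpen U)
    (W : (Proj (CohB1.polyGrading n Γ(S, U))).Opens)
    (e : W ≤ (toSpecP n Γ(S, U) ≫ hU.fromSpec) ⁻¹ᵁ U) (r : Γ(S, U)) :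
    ((toSpecP n Γ(S, U) ≫ hU.fromSpec).appLE U W e).hom r =
      oFrac (CohB1.polyGrading n Γ(S, U)) W 0 (MvPolynomial.C r) 1 := by
  have h1 := Scheme.Hom.appLE_comp_appLE (toSpecP n Γ(S, U)) hU.fromSpec U ⊤ W
    (by rw [hU.fromSpec_preimage_self]) le_top
  have h2 := toSpec_appLE_apply (CohB1.polyGrading n Γ(S, U)) W r
  have h3 := congrArg (fun t => t.hom r) h1
  simp only [CommRingCat.hom_comp, RingHom.coe_comp, Function.comp_apply] at h3
  rw [fromSpec_appLE_top] at h3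
  exact h3.symm.trans h2

theorem appLE_of_eq {Y Z : Scheme.{u}} {a b : Y ⟶ Z} (hab : a = b) (W : Z.Opens) (O : Y.Opens)
    (e1 : O ≤ a ⁻¹ᵁ W) (e2 : O ≤ b ⁻¹ᵁ W) : a.appLE W O e1 = b.appLE W O e2 := by
  subst hab; rfl

variable [IsClosedImmersion i]

/-- the graded ideal of the closed subscheme over an affine open -/
noncomputable def IU (U : S.Opens) (hU : IsAffineOpen U) :
    Ideal (MvPolynomial (Fin (n + 1)) Γ(S, U)) :=
  idealOf (CohB1.polyGrading n Γ(S, U)) (iU n i U hU).ker MvPolynomial.X (PnCover.X_mem n Γ(S, U))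

theorem IU_isHomogeneous (U : S.Opens) (hU : IsAffineOpen U) :
    (IU n i U hU).IsHomogeneous (CohB1.polyGrading n Γ(S, U)) :=
  idealOf_isHomogeneous _ _ _ _

theorem preimage_Dp {U V : S.Opens} (h : V ≤ U) (hU : IsAffineOpen U) (hV : IsAffineOpen V)
    (j : Fin (n + 1)) :
    X.homOfLE ((fOf n i).preimage_mono h) ⁻¹ᵁ (iU n i U hU ⁻¹ᵁ Dp n U j) =
      iU n i V hV ⁻¹ᵁ Dp n V j := by
  have h1 : X.homOfLE ((fOf n i).preimage_mono h) ⁻¹ᵁ (iU n i U hU ⁻¹ᵁ Dp n U j) =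
      (X.homOfLE ((fOf n i).preimage_mono h) ≫ iU n i U hU) ⁻¹ᵁ Dp n U j := rfl
  rw [h1, homOfLE_iU n i h hU hV]
  change iU n i V hV ⁻¹ᵁ (Proj.basicOpen (CohB1.polyGrading n Γ(S, V))
    (psiRes n h (MvPolynomial.X j))) = _
  rw [polyMap_apply, MvPolynomial.map_X]

/-- the key relation between the sections over `U` and over `V ≤ U` -/
theorem key_section {U V : S.Opens} (h : V ≤ U) (hU : IsAffineOpen U) (hV : IsAffineOpen V)
    (j : Fin (n + 1)) {d : ℕ} {F : MvPolynomial (Fin (n + 1)) Γ(S, U)}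
    (hF : F ∈ CohB1.polyGrading n Γ(S, U) d) :
    ((X.homOfLE ((fOf n i).preimage_mono h)).appLE (iU n i U hU ⁻¹ᵁ Dp n U j)
        (iU n i V hV ⁻¹ᵁ Dp n V j) (preimage_Dp n i h hU hV j).ge).hom
      (((iU n i U hU).app (Dp n U j)).hom
        (oFrac (CohB1.polyGrading n Γ(S, U)) (Dp n U j) d F (MvPolynomial.X j ^ d))) =
    ((iU n i V hV).app (Dp n V j)).hom
      (oFrac (CohB1.polyGrading n Γ(S, V)) (Dp n V j) d (psiRes n h F) (MvPolynomial.X j ^ d)) := by
  have hX : psiRes n h (MvPolynomial.X j) = MvPolynomial.X j := by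
    rw [polyMap_apply, MvPolynomial.map_X]
  have eW : Dp n V j ≤ mVU n h ⁻¹ᵁ Dp n U j := by
    change Dp n V j ≤ Proj.basicOpen (CohB1.polyGrading n Γ(S, V)) (psiRes n h (MvPolynomial.X j))
    rw [hX]
  have e1 := Scheme.Hom.appLE_comp_appLE (X.homOfLE ((fOf n i).preimage_mono h)) (iU n i U hU)
    (Dp n U j) (iU n i U hU ⁻¹ᵁ Dp n U j) (iU n i V hV ⁻¹ᵁ Dp n V j) le_rfl
    (preimage_Dp n i h hU hV j).ge
  have e2 := Scheme.Hom.appLE_comp_appLE (iU n i V hV) (mVU n h)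
    (Dp n U j) (Dp n V j) (iU n i V hV ⁻¹ᵁ Dp n V j) eW le_rfl
  have e3 := appLE_of_eq (homOfLE_iU n i h hU hV) (Dp n U j) (iU n i V hV ⁻¹ᵁ Dp n V j)
    ((preimage_Dp n i h hU hV j).ge.trans ((Opens.map (X.homOfLE
      ((fOf n i).preimage_mono h)).base).map (homOfLE (le_refl (iU n i U hU ⁻¹ᵁ Dp n U j)))).le)
    ((le_refl (iU n i V hV ⁻¹ᵁ Dp n V j)).trans ((Opens.map (iU n i V hV).base).map
      (homOfLE eW)).le)
  have e4 := map_appLE_oFrac' (CohB1.polyGrading n Γ(S, U)) (CohB1.polyGrading n Γ(S, V))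
    (psiRes n h) (irrelevant_le_polyMap n _) (PnCover.X_mem n Γ(S, U) j) hX hF eW
  rw [Scheme.Hom.app_eq_appLE, Scheme.Hom.app_eq_appLE, ← e4]
  have e5 := congrArg (fun t => t.hom
    (oFrac (CohB1.polyGrading n Γ(S, U)) (Dp n U j) d F (MvPolynomial.X j ^ d)))
    (e1.trans (e3.trans e2.symm))
  simp only [CommRingCat.hom_comp, RingHom.coe_comp, Function.comp_apply] at e5
  exact e5

/-- restriction maps the graded ideals into each other (forms) -/
theorem map_mem_IU_of_mem {U V : S.Opens} (h : V ≤ U) (hU : IsAffineOpen U) (hV : IsAffineOpen V)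
    {d : ℕ} {F : MvPolynomial (Fin (n + 1)) Γ(S, U)} (hF : F ∈ CohB1.polyGrading n Γ(S, U) d)
    (hFI : F ∈ IU n i U hU) : psiRes n h F ∈ IU n i V hV := by
  have hF' : psiRes n h F ∈ CohB1.polyGrading n Γ(S, V) d := (psiRes n h).map_mem hF
  unfold IU at hFI ⊢
  rw [mem_idealOf_iff_fr _ _ _ _ hF']
  intro j
  rw [fr_mem_Jx_iff _ _ _ hF', ← key_section n i h hU hV j hF]
  rw [mem_idealOf_iff_fr _ _ _ _ hF] at hFI
  have h0 := (fr_mem_Jx_iff _ _ _ hF).mp (hFI j)
  rw [h0, map_zero]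

/-- restriction maps the graded ideals into each other -/
theorem map_IU_le {U V : S.Opens} (h : V ≤ U) (hU : IsAffineOpen U) (hV : IsAffineOpen V) :
    (IU n i U hU).map (MvPolynomial.map (S.presheaf.map (homOfLE h).op).hom) ≤ IU n i V hV := by
  classical
  rw [Ideal.map_le_iff_le_comap]
  intro a ha
  rw [Ideal.mem_comap, ← DirectSum.sum_support_decompose (CohB1.polyGrading n Γ(S, U)) a, map_sum]
  refine Ideal.sum_mem _ fun d _ => ?_
  exact map_mem_IU_of_mem n i h hU hV (SetLike.coe_mem _) (IU_isHomogeneous n i U hU d ha)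

/-- the function on `f⁻¹(U) ∩ D₊(T_j)` coming from the base -/
theorem base_function_eq (U : S.Opens) (hU : IsAffineOpen U) (j : Fin (n + 1)) (r : Γ(S, U))
    (e : iU n i U hU ⁻¹ᵁ Dp n U j ≤ ((fOf n i ⁻¹ᵁ U).ι ≫ fOf n i) ⁻¹ᵁ U) :
    (((fOf n i ⁻¹ᵁ U).ι ≫ fOf n i).appLE U (iU n i U hU ⁻¹ᵁ Dp n U j) e).hom r =
      ((iU n i U hU).app (Dp n U j)).hom
        (oFrac (CohB1.polyGrading n Γ(S, U)) (Dp n U j) 0 (MvPolynomial.C r) 1) := by
  have eW : Dp n U j ≤ (toSpecP n Γ(S, U) ≫ hU.fromSpec) ⁻¹ᵁ U := by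
    change Dp n U j ≤ toSpecP n Γ(S, U) ⁻¹ᵁ (hU.fromSpec ⁻¹ᵁ U)
    rw [hU.fromSpec_preimage_self]
    exact le_top
  have e1 := Scheme.Hom.appLE_comp_appLE (iU n i U hU) (toSpecP n Γ(S, U) ≫ hU.fromSpec) U
    (Dp n U j) (iU n i U hU ⁻¹ᵁ Dp n U j) eW le_rfl
  have e2 := appLE_of_eq (iU_toSpec_fromSpec n i U hU) U (iU n i U hU ⁻¹ᵁ Dp n U j)
    ((le_refl (iU n i U hU ⁻¹ᵁ Dp n U j)).trans ((Opens.map (iU n i U hU).base).map
      (homOfLE eW)).le) e
  have e3 := congrArg (fun t => t.hom r) (e1.trans e2)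
  simp only [CommRingCat.hom_comp, RingHom.coe_comp, Function.comp_apply] at e3
  rw [← e3, toSpec_fromSpec_appLE, Scheme.Hom.app_eq_appLE]

theorem C_mem_zero {R : Type u} [CommRing R] (r : R) :
    (MvPolynomial.C r : MvPolynomial (Fin (n + 1)) R) ∈ CohB1.polyGrading n R 0 :=
  (MvPolynomial.mem_homogeneousSubmodule _ _).mpr (MvPolynomial.isHomogeneous_C _ r)

theorem C_pow_mul_mem {R : Type u} [CommRing R] (r : R) (M : ℕ) {d : ℕ}
    {F : MvPolynomial (Fin (n + 1)) R} (hF : F ∈ CohB1.polyGrading n R d) :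
    MvPolynomial.C r ^ M * F ∈ CohB1.polyGrading n R d := by
  have h1 : (MvPolynomial.C r : MvPolynomial (Fin (n + 1)) R) ^ M ∈ CohB1.polyGrading n R 0 := by
    rw [← map_pow]; exact C_mem_zero n _
  have := SetLike.mul_mem_graded h1 hF
  rwa [zero_add] at this

/-- the product formula for the standard sections -/
theorem oFrac_C_pow_mul (U : S.Opens) (j : Fin (n + 1)) (r : Γ(S, U)) (M : ℕ) {d : ℕ}
    {F : MvPolynomial (Fin (n + 1)) Γ(S, U)} (hF : F ∈ CohB1.polyGrading n Γ(S, U) d) :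
    oFrac (CohB1.polyGrading n Γ(S, U)) (Dp n U j) 0 (MvPolynomial.C r) 1 ^ M *
        oFrac (CohB1.polyGrading n Γ(S, U)) (Dp n U j) d F (MvPolynomial.X j ^ d) =
      oFrac (CohB1.polyGrading n Γ(S, U)) (Dp n U j) d (MvPolynomial.C r ^ M * F)
        (MvPolynomial.X j ^ d) := by
  have Gs : Good (CohB1.polyGrading n Γ(S, U)) (Dp n U j) 0 (MvPolynomial.C r) 1 :=
    good_of (C_mem_zero n r) SetLike.GradedOne.one_mem
      (fun y h => y.1.isPrime.ne_top ((Ideal.eq_top_iff_one _).mpr h))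
  have hXd : (MvPolynomial.X j : MvPolynomial (Fin (n + 1)) Γ(S, U)) ^ d ∈
      CohB1.polyGrading n Γ(S, U) d := pow_mem_one (PnCover.X_mem n Γ(S, U) j) d
  have Gx : Good (CohB1.polyGrading n Γ(S, U)) (Dp n U j) d F (MvPolynomial.X j ^ d) :=
    good_of hF hXd ((nv_basicOpen _).pow d)
  have Gy : Good (CohB1.polyGrading n Γ(S, U)) (Dp n U j) d (MvPolynomial.C r ^ M * F)
      (MvPolynomial.X j ^ d) :=
    good_of (C_pow_mul_mem n r M hF) hXd ((nv_basicOpen _).pow d)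
  rw [oFrac_pow _ Gs M, oFrac_mul _ (Gs.pow M) Gx]
  refine oFrac_eq _ ((Gs.pow M).mul Gx) Gy ?_
  rw [one_pow, one_mul]

/-- **localization of the graded ideals**: a form whose restriction to a basic open lies in the
graded ideal there is carried into the graded ideal by a power of the function -/
theorem exists_pow_mul_mem_IU (U : S.Opens) (hU : IsAffineOpen U) (r : Γ(S, U)) {d : ℕ}
    {F : MvPolynomial (Fin (n + 1)) Γ(S, U)} (hF : F ∈ CohB1.polyGrading n Γ(S, U) d)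
    (hψ : psiRes n (S.basicOpen_le r) F ∈ IU n i (S.basicOpen r) (hU.basicOpen r)) :
    ∃ M : ℕ, MvPolynomial.C r ^ M * F ∈ IU n i U hU := by
  have hF' : psiRes n (S.basicOpen_le r) F ∈ CohB1.polyGrading n Γ(S, S.basicOpen r) d :=
    (psiRes n (S.basicOpen_le r)).map_mem hF
  have hj : ∀ j : Fin (n + 1), ∃ M : ℕ,
      fr (CohB1.polyGrading n Γ(S, U)) (PnCover.X_mem n Γ(S, U) j) d (MvPolynomial.C r ^ M * F) ∈
        Jx (CohB1.polyGrading n Γ(S, U)) (iU n i U hU).ker (PnCover.X_mem n Γ(S, U) j)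
          one_pos := by
    intro j
    have hy := key_section n i (S.basicOpen_le r) hU (hU.basicOpen r) j hF
    unfold IU at hψ
    rw [mem_idealOf_iff_fr _ _ _ _ hF'] at hψ
    rw [(fr_mem_Jx_iff _ _ _ hF').mp (hψ j)] at hy
    have hO : IsAffineOpen (iU n i U hU ⁻¹ᵁ Dp n U j) :=
      (Proj.isAffineOpen_basicOpen (CohB1.polyGrading n Γ(S, U)) (MvPolynomial.X j)
        (PnCover.X_mem n Γ(S, U) j) one_pos).preimage (iU n i U hU)
    have e : iU n i U hU ⁻¹ᵁ Dp n U j ≤ ((fOf n i ⁻¹ᵁ U).ι ≫ fOf n i) ⁻¹ᵁ U := by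
      intro x _
      exact x.2
    have hg : ((fOf n i ⁻¹ᵁ U : X.Opens) : Scheme.{u}).basicOpen
        ((((fOf n i ⁻¹ᵁ U).ι ≫ fOf n i).appLE U (iU n i U hU ⁻¹ᵁ Dp n U j) e).hom r) ≤
        (X.homOfLE ((fOf n i).preimage_mono (S.basicOpen_le r))).opensRange := by
      rw [Scheme.basicOpen_appLE, Scheme.opensRange_homOfLE]
      exact inf_le_right
    obtain ⟨M, hM⟩ := exists_pow_mul_eq_zero_of_appLE_eq_zero
      (X.homOfLE ((fOf n i).preimage_mono (S.basicOpen_le r))) hO _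
      (preimage_Dp n i (S.basicOpen_le r) hU (hU.basicOpen r) j).ge
      (preimage_Dp n i (S.basicOpen_le r) hU (hU.basicOpen r) j).le _ _ hg hy
    refine ⟨M, ?_⟩
    rw [fr_mem_Jx_iff _ _ _ (C_pow_mul_mem n r M hF), ← oFrac_C_pow_mul n U j r M hF, map_mul,
      map_pow, ← base_function_eq n i U hU j r e]
    exact hM
  choose M hM using hj
  obtain ⟨K, hK⟩ : ∃ K, ∀ j, M j ≤ K := ⟨Finset.univ.sup M, fun j => Finset.le_sup (Finset.mem_univ j)⟩
  refine ⟨K, ?_⟩
  unfold IU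
  rw [mem_idealOf_iff_fr _ _ _ _ (C_pow_mul_mem n r K hF)]
  intro j
  obtain ⟨k, hk⟩ := Nat.exists_eq_add_of_le (hK j)
  have h1 : MvPolynomial.C r ^ K * F = MvPolynomial.C r ^ k * (MvPolynomial.C r ^ M j * F) := by
    rw [hk, pow_add]; ring
  have h2 : (MvPolynomial.C r : MvPolynomial (Fin (n + 1)) Γ(S, U)) ^ k ∈
      CohB1.polyGrading n Γ(S, U) 0 := by
    rw [← map_pow]; exact C_mem_zero n _
  have h3 := fr_mul_of_mem (CohB1.polyGrading n Γ(S, U)) (PnCover.X_mem n Γ(S, U) j) h2 d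
    (MvPolynomial.C r ^ M j * F)
  rw [zero_add] at h3
  rw [h1, h3]
  exact Ideal.mul_mem_left _ _ (hM j)

end Groth.Agent.Lib.Helper18.HProj
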