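import Mathlib
import Groth.Agent.Lib.Helper18.CSubLocal
import Groth.Agent.Lib.Helper18.CSubFI
import Groth.Agent.Lib.Helper18.HProjIdeal

/-!
# The graded ideals of a closed subscheme of a relative `Proj` over the affine opens (helper18)
-/

set_option autoImplicit false
set_option linter.style.haveILetI false
set_option linter.unusedSectionVars false
universe u
open AlgebraicGeometry CategoryTheory Limits TopologicalSpace Opposite HomogeneousLocalization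
open scoped HomogeneousIdeal

namespace Groth.Agent.Lib.Helper18.CSub

open Groth.Agent.Lib.Helper17 Groth.Agent.Lib.Helper17.OFrac Groth.Agent.Lib.Helper17.PI
  Groth.Agent.Lib.Helper17.PC Groth.Agent.Lib.Helper18.HProj Groth.Agent.Lib.Helper18

attribute [local instance] QCGrLoc.algU

section algebra

variable {R A : Type u} [CommRing R] [CommRing A] [Algebra R A] (𝒜 : ℕ → Submodule R A)
  [GradedAlgebra 𝒜]

/-- a graded algebra generated in degrees zero and one has its irrelevant ideal generated in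
degree one -/
theorem irrelevant_le_span_one
    (h : Subring.closure ((𝒜 0 : Set A) ∪ (𝒜 1 : Set A)) = ⊤) :
    (HomogeneousIdeal.irrelevant 𝒜).toIdeal ≤ Ideal.span (𝒜 1 : Set A) := by
  classical
  set J : Ideal A := Ideal.span (𝒜 1 : Set A) with hJ
  have hJhom : J.IsHomogeneous 𝒜 :=
    Ideal.homogeneous_span 𝒜 _ fun x hx => ⟨1, hx⟩
  have key : ∀ a : A, ∃ a₀ ∈ 𝒜 0, a - a₀ ∈ J := by
    intro a
    have ha : a ∈ Subring.closure ((𝒜 0 : Set A) ∪ (𝒜 1 : Set A)) := by rw [h]; trivial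
    induction ha using Subring.closure_induction with
    | mem a ha =>
      rcases ha with ha | ha
      · exact ⟨a, ha, by rw [sub_self]; exact J.zero_mem⟩
      · exact ⟨0, zero_mem _, by rw [sub_zero]; exact Ideal.subset_span ha⟩
    | zero => exact ⟨0, zero_mem _, by rw [sub_self]; exact J.zero_mem⟩
    | one => exact ⟨1, SetLike.GradedOne.one_mem, by rw [sub_self]; exact J.zero_mem⟩
    | add a b _ _ ha hb =>
      obtain ⟨a₀, ha₀, ha'⟩ := ha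
      obtain ⟨b₀, hb₀, hb'⟩ := hb
      refine ⟨a₀ + b₀, add_mem ha₀ hb₀, ?_⟩
      have : a + b - (a₀ + b₀) = (a - a₀) + (b - b₀) := by ring
      rw [this]
      exact J.add_mem ha' hb'
    | neg a _ ha =>
      obtain ⟨a₀, ha₀, ha'⟩ := ha
      refine ⟨-a₀, neg_mem ha₀, ?_⟩
      have : -a - -a₀ = -(a - a₀) := by ring
      rw [this]
      exact J.neg_mem ha'
    | mul a b _ _ ha hb =>
      obtain ⟨a₀, ha₀, ha'⟩ := ha
      obtain ⟨b₀, hb₀, hb'⟩ := hb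
      refine ⟨a₀ * b₀, ?_, ?_⟩
      · have := SetLike.mul_mem_graded ha₀ hb₀
        rwa [zero_add] at this
      · have : a * b - a₀ * b₀ = (a - a₀) * b + a₀ * (b - b₀) := by ring
        rw [this]
        exact J.add_mem (J.mul_mem_right _ ha') (J.mul_mem_left _ hb')
  refine (HomogeneousIdeal.toIdeal_irrelevant_le _).mpr fun d hd x hx => ?_
  obtain ⟨a₀, ha₀, hxa⟩ := key x
  have h1 := hJhom d hxa
  rw [DirectSum.decompose_sub, DirectSum.sub_apply, AddSubgroupClass.coe_sub,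
    DirectSum.decompose_of_mem_same 𝒜 hx,
    DirectSum.decompose_of_mem_ne 𝒜 ha₀ (Nat.pos_iff_ne_zero.mp hd).symm, sub_zero] at h1
  exact h1

/-- the same for a finite generating family of the degree one part -/
theorem irrelevant_le_span_finset
    (h : Subring.closure ((𝒜 0 : Set A) ∪ (𝒜 1 : Set A)) = ⊤) (T : Finset A)
    (hgen : ∀ x ∈ 𝒜 1, ∃ c : A → R, x = ∑ t ∈ T, algebraMap R A (c t) * t) :
    (HomogeneousIdeal.irrelevant 𝒜).toIdeal ≤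
      Ideal.span (Set.range (fun t : T => (t : A))) := by
  refine (irrelevant_le_span_one 𝒜 h).trans (Ideal.span_le.mpr fun x hx => ?_)
  obtain ⟨c, rfl⟩ := hgen x hx
  refine Ideal.sum_mem _ fun t ht => Ideal.mul_mem_left _ _ (Ideal.subset_span ⟨⟨t, ht⟩, rfl⟩)

end algebra

variable {Y P : Scheme.{u}} (𝒯 : RelProj.QCGrAlg Y) {p : P ⟶ Y}
  {chart : ∀ (U : Y.Opens) (hU : IsAffineOpen U),
    (((p ⁻¹ᵁ U : P.Opens) : Scheme.{u}) ≅ Proj (𝒯.deg U hU))}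
  (hP : RelProj.IsRelProj 𝒯 p chart) {X : Scheme.{u}} (i : X ⟶ P)

/-- the standard opens of `Proj 𝒯(U)` -/
noncomputable abbrev Dq (U : Y.Opens) (hU : IsAffineOpen U) (g : 𝒯.presheaf.obj (op U)) :
    (Proj (gS 𝒯 U hU)).Opens := Proj.basicOpen (gS 𝒯 U hU) g

/-- restriction to a basic open on sections -/
noncomputable abbrev rS (U : Y.Opens) (hU : IsAffineOpen U) (r : Γ(Y, U)) :
    gS 𝒯 U hU →+*ᵍ gS 𝒯 (Y.basicOpen r) (hU.basicOpen r) :=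
  resS 𝒯 hU (hU.basicOpen r) (Y.basicOpen_le r)

/-- the functions on the base, on the opens of `Proj 𝒯(U)` -/
theorem toBase_appLE (U : Y.Opens) (hU : IsAffineOpen U) (W : (Proj (gS 𝒯 U hU)).Opens)
    (e : W ≤ (Proj.toSpecZero (gS 𝒯 U hU) ≫
      Spec.map (CommRingCat.ofHom (algebraMap Γ(Y, U) (gS 𝒯 U hU 0))) ≫ hU.fromSpec) ⁻¹ᵁ U)
    (r : Γ(Y, U)) :
    ((Proj.toSpecZero (gS 𝒯 U hU) ≫
      Spec.map (CommRingCat.ofHom (algebraMap Γ(Y, U) (gS 𝒯 U hU 0))) ≫ hU.fromSpec).appLE U W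
        e).hom r =
      oFrac (gS 𝒯 U hU) W 0 (algebraMap Γ(Y, U) (𝒯.presheaf.obj (op U)) r) 1 := by
  have e' : W ≤ ((Proj.toSpecZero (gS 𝒯 U hU) ≫
      Spec.map (CommRingCat.ofHom (algebraMap Γ(Y, U) (gS 𝒯 U hU 0)))) ≫ hU.fromSpec) ⁻¹ᵁ U := by
    intro x _
    change _ ∈ hU.fromSpec ⁻¹ᵁ U
    rw [hU.fromSpec_preimage_self]
    trivial
  have h0 := appLE_of_eq (Category.assoc (Proj.toSpecZero (gS 𝒯 U hU))
    (Spec.map (CommRingCat.ofHom (algebraMap Γ(Y, U) (gS 𝒯 U hU 0)))) hU.fromSpec).symm U W e e'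
  have h1 := Scheme.Hom.appLE_comp_appLE (Proj.toSpecZero (gS 𝒯 U hU) ≫
      Spec.map (CommRingCat.ofHom (algebraMap Γ(Y, U) (gS 𝒯 U hU 0)))) hU.fromSpec U ⊤ W
    (by rw [hU.fromSpec_preimage_self]) le_top
  have h2 := toSpec_appLE_apply (gS 𝒯 U hU) W r
  have h3 := congrArg (fun t => t.hom r) h1
  simp only [CommRingCat.hom_comp, RingHom.coe_comp, Function.comp_apply] at h3
  rw [fromSpec_appLE_top] at h3
  rw [h0]
  exact h3.symm.trans h2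

variable [IsClosedImmersion i]

/-- the graded ideal of the closed subscheme over an affine open -/
noncomputable def IU (U : Y.Opens) (hU : IsAffineOpen U) : Ideal (𝒯.presheaf.obj (op U)) :=
  idealAll (gS 𝒯 U hU) (iS 𝒯 hP i U hU)

theorem IU_isHomogeneous (U : Y.Opens) (hU : IsAffineOpen U) :
    (IU 𝒯 hP i U hU).IsHomogeneous (gS 𝒯 U hU) :=
  idealAll_isHomogeneous _ _

theorem preimage_Dq (U : Y.Opens) (hU : IsAffineOpen U) (r : Γ(Y, U)) (g : 𝒯.presheaf.obj (op U)) :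
    X.homOfLE ((i ≫ p).preimage_mono (Y.basicOpen_le r)) ⁻¹ᵁ (iS 𝒯 hP i U hU ⁻¹ᵁ Dq 𝒯 U hU g) =
      iS 𝒯 hP i (Y.basicOpen r) (hU.basicOpen r) ⁻¹ᵁ
        Dq 𝒯 (Y.basicOpen r) (hU.basicOpen r) (rS 𝒯 U hU r g) := by
  have h1 : X.homOfLE ((i ≫ p).preimage_mono (Y.basicOpen_le r)) ⁻¹ᵁ
      (iS 𝒯 hP i U hU ⁻¹ᵁ Dq 𝒯 U hU g) =
      (X.homOfLE ((i ≫ p).preimage_mono (Y.basicOpen_le r)) ≫ iS 𝒯 hP i U hU) ⁻¹ᵁ
        Dq 𝒯 U hU g := rfl
  rw [h1, homOfLE_iS 𝒯 hP i U hU r]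
  rfl

/-- the key relation between the sections over `U` and over a basic open -/
theorem key_section (U : Y.Opens) (hU : IsAffineOpen U) (r : Γ(Y, U))
    {g : 𝒯.presheaf.obj (op U)} (hg : g ∈ gS 𝒯 U hU 1) {d : ℕ} {F : 𝒯.presheaf.obj (op U)}
    (hF : F ∈ gS 𝒯 U hU d) :
    ((X.homOfLE ((i ≫ p).preimage_mono (Y.basicOpen_le r))).appLE
        (iS 𝒯 hP i U hU ⁻¹ᵁ Dq 𝒯 U hU g)
        (iS 𝒯 hP i (Y.basicOpen r) (hU.basicOpen r) ⁻¹ᵁ
          Dq 𝒯 (Y.basicOpen r) (hU.basicOpen r) (rS 𝒯 U hU r g))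
        (preimage_Dq 𝒯 hP i U hU r g).ge).hom
      (((iS 𝒯 hP i U hU).app (Dq 𝒯 U hU g)).hom
        (oFrac (gS 𝒯 U hU) (Dq 𝒯 U hU g) d F (g ^ d))) =
    ((iS 𝒯 hP i (Y.basicOpen r) (hU.basicOpen r)).app
        (Dq 𝒯 (Y.basicOpen r) (hU.basicOpen r) (rS 𝒯 U hU r g))).hom
      (oFrac (gS 𝒯 (Y.basicOpen r) (hU.basicOpen r))
        (Dq 𝒯 (Y.basicOpen r) (hU.basicOpen r) (rS 𝒯 U hU r g)) d (rS 𝒯 U hU r F)
        (rS 𝒯 U hU r g ^ d)) := by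
  have eW : Dq 𝒯 (Y.basicOpen r) (hU.basicOpen r) (rS 𝒯 U hU r g) ≤
      mS 𝒯 U hU r ⁻¹ᵁ Dq 𝒯 U hU g := le_rfl
  have e1 := Scheme.Hom.appLE_comp_appLE (X.homOfLE ((i ≫ p).preimage_mono (Y.basicOpen_le r)))
    (iS 𝒯 hP i U hU) (Dq 𝒯 U hU g) (iS 𝒯 hP i U hU ⁻¹ᵁ Dq 𝒯 U hU g)
    (iS 𝒯 hP i (Y.basicOpen r) (hU.basicOpen r) ⁻¹ᵁ
      Dq 𝒯 (Y.basicOpen r) (hU.basicOpen r) (rS 𝒯 U hU r g)) le_rfl
    (preimage_Dq 𝒯 hP i U hU r g).ge
  have e2 := Scheme.Hom.appLE_comp_appLE (iS 𝒯 hP i (Y.basicOpen r) (hU.basicOpen r))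
    (mS 𝒯 U hU r) (Dq 𝒯 U hU g) (Dq 𝒯 (Y.basicOpen r) (hU.basicOpen r) (rS 𝒯 U hU r g))
    (iS 𝒯 hP i (Y.basicOpen r) (hU.basicOpen r) ⁻¹ᵁ
      Dq 𝒯 (Y.basicOpen r) (hU.basicOpen r) (rS 𝒯 U hU r g)) eW le_rfl
  have e3 := appLE_of_eq (homOfLE_iS 𝒯 hP i U hU r) (Dq 𝒯 U hU g)
    (iS 𝒯 hP i (Y.basicOpen r) (hU.basicOpen r) ⁻¹ᵁ
      Dq 𝒯 (Y.basicOpen r) (hU.basicOpen r) (rS 𝒯 U hU r g))
    ((preimage_Dq 𝒯 hP i U hU r g).ge.trans ((Opens.map (X.homOfLE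
      ((i ≫ p).preimage_mono (Y.basicOpen_le r))).base).map
        (homOfLE (le_refl (iS 𝒯 hP i U hU ⁻¹ᵁ Dq 𝒯 U hU g)))).le)
    ((le_refl (iS 𝒯 hP i (Y.basicOpen r) (hU.basicOpen r) ⁻¹ᵁ
      Dq 𝒯 (Y.basicOpen r) (hU.basicOpen r) (rS 𝒯 U hU r g))).trans
        ((Opens.map (iS 𝒯 hP i (Y.basicOpen r) (hU.basicOpen r)).base).map (homOfLE eW)).le)
  have e4 := map_appLE_oFrac (gS 𝒯 U hU) (gS 𝒯 (Y.basicOpen r) (hU.basicOpen r))
    (rS 𝒯 U hU r) (irrelevant_le_resS 𝒯 U hU r) hg hF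
  rw [Scheme.Hom.app_eq_appLE, Scheme.Hom.app_eq_appLE, ← e4]
  have e5 := congrArg (fun t => t.hom
    (oFrac (gS 𝒯 U hU) (Dq 𝒯 U hU g) d F (g ^ d))) (e1.trans (e3.trans e2.symm))
  simp only [CommRingCat.hom_comp, RingHom.coe_comp, Function.comp_apply] at e5
  exact e5

end Groth.Agent.Lib.Helper18.CSub
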