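import Mathlib
import Groth.Agent.Lib.Helper18.CSubIdeal

/-!
# Localization of the graded ideals of a closed subscheme of a relative `Proj` (helper18)
-/

set_option autoImplicit false
set_option linter.style.haveILetI false
set_option linter.unusedSectionVars false
universe u
open AlgebraicGeometry CategoryTheory Limits TopologicalSpace Opposite HomogeneousLocalization
open scoped HomogeneousIdeal

namespace Groth.Agent.Lib.Helper18.CSub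

open Groth.Agent.Lib.Helper17 Groth.Agent.Lib.Helper17.OFrac Groth.Agent.Lib.Helper17.PI
  Groth.Agent.Lib.Helper17.PC Groth.Agent.Lib.Helper18.HProj Groth.Agent.Lib.Helper18

attribute [local instance] QCGrLoc.algU

variable {Y P : Scheme.{u}} (𝒯 : RelProj.QCGrAlg Y) {p : P ⟶ Y}
  {chart : ∀ (U : Y.Opens) (hU : IsAffineOpen U),
    (((p ⁻¹ᵁ U : P.Opens) : Scheme.{u}) ≅ Proj (𝒯.deg U hU))}
  (hP : RelProj.IsRelProj 𝒯 p chart) {X : Scheme.{u}} (i : X ⟶ P) [IsClosedImmersion i]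
  (hgen : 𝒯.IsGenDegOne) (hft : 𝒯.IsFTDeg 1)

include hgen in
theorem iSup_Dq_eq_top (U : Y.Opens) (hU : IsAffineOpen U) :
    ⨆ g : gS 𝒯 U hU 1, Dq 𝒯 U hU g.1 = ⊤ := by
  refine Proj.iSup_basicOpen_eq_top (gS 𝒯 U hU) (fun g : gS 𝒯 U hU 1 => g.1) ?_
  refine (irrelevant_le_span_one (gS 𝒯 U hU) (hgen U hU)).trans (Ideal.span_mono ?_)
  intro x hx
  exact ⟨⟨x, hx⟩, rfl⟩

include hgen in
theorem iSup_Dq_res_eq_top (U : Y.Opens) (hU : IsAffineOpen U) (r : Γ(Y, U)) :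
    ⨆ g : gS 𝒯 U hU 1, Dq 𝒯 (Y.basicOpen r) (hU.basicOpen r) (rS 𝒯 U hU r g.1) = ⊤ := by
  have h := congrArg (fun W => mS 𝒯 U hU r ⁻¹ᵁ W) (iSup_Dq_eq_top 𝒯 hgen U hU)
  simp only [Scheme.Hom.preimage_iSup, Scheme.Hom.preimage_top] at h
  exact h

include hgen in
/-- restriction to a basic open maps the graded ideals into each other (forms) -/
theorem map_mem_IU_of_mem (U : Y.Opens) (hU : IsAffineOpen U) (r : Γ(Y, U)) {d : ℕ}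
    {F : 𝒯.presheaf.obj (op U)} (hF : F ∈ gS 𝒯 U hU d) (hFI : F ∈ IU 𝒯 hP i U hU) :
    rS 𝒯 U hU r F ∈ IU 𝒯 hP i (Y.basicOpen r) (hU.basicOpen r) := by
  have hF' : rS 𝒯 U hU r F ∈ gS 𝒯 (Y.basicOpen r) (hU.basicOpen r) d := (rS 𝒯 U hU r).map_mem hF
  unfold IU at hFI ⊢
  rw [mem_idealAll_iff_of_cover _ _ (fun g : gS 𝒯 U hU 1 => rS 𝒯 U hU r g.1)
    (fun g => (rS 𝒯 U hU r).map_mem g.2) (iSup_Dq_res_eq_top 𝒯 hgen U hU r) hF']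
  intro g
  rw [← key_section 𝒯 hP i U hU r g.2 hF, (mem_idealAll_iff _ _ hF).mp hFI g.1 g.2, map_zero]

include hgen in
/-- restriction to a basic open maps the graded ideals into each other -/
theorem map_IU_le_basic (U : Y.Opens) (hU : IsAffineOpen U) (r : Γ(Y, U)) :
    (IU 𝒯 hP i U hU).map (rS 𝒯 U hU r) ≤ IU 𝒯 hP i (Y.basicOpen r) (hU.basicOpen r) := by
  classical
  rw [Ideal.map_le_iff_le_comap]
  intro a ha
  rw [Ideal.mem_comap, ← DirectSum.sum_support_decompose (gS 𝒯 U hU) a, map_sum]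
  refine Ideal.sum_mem _ fun d _ => ?_
  exact map_mem_IU_of_mem 𝒯 hP i hgen U hU r (SetLike.coe_mem _) (IU_isHomogeneous 𝒯 hP i U hU d ha)

/-- the function on `f⁻¹(U) ∩ D₊(g)` coming from the base -/
theorem base_function_eq (U : Y.Opens) (hU : IsAffineOpen U) (g : 𝒯.presheaf.obj (op U))
    (r : Γ(Y, U))
    (e : iS 𝒯 hP i U hU ⁻¹ᵁ Dq 𝒯 U hU g ≤ (((i ≫ p) ⁻¹ᵁ U).ι ≫ i ≫ p) ⁻¹ᵁ U) :
    ((((i ≫ p) ⁻¹ᵁ U).ι ≫ i ≫ p).appLE U (iS 𝒯 hP i U hU ⁻¹ᵁ Dq 𝒯 U hU g) e).hom r =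
      ((iS 𝒯 hP i U hU).app (Dq 𝒯 U hU g)).hom
        (oFrac (gS 𝒯 U hU) (Dq 𝒯 U hU g) 0
          (algebraMap Γ(Y, U) (𝒯.presheaf.obj (op U)) r) 1) := by
  have eW : Dq 𝒯 U hU g ≤ (Proj.toSpecZero (gS 𝒯 U hU) ≫
      Spec.map (CommRingCat.ofHom (algebraMap Γ(Y, U) (gS 𝒯 U hU 0))) ≫ hU.fromSpec) ⁻¹ᵁ U := by
    intro x _
    change _ ∈ hU.fromSpec ⁻¹ᵁ U
    rw [hU.fromSpec_preimage_self]
    trivial
  have e1 := Scheme.Hom.appLE_comp_appLE (iS 𝒯 hP i U hU) (Proj.toSpecZero (gS 𝒯 U hU) ≫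
      Spec.map (CommRingCat.ofHom (algebraMap Γ(Y, U) (gS 𝒯 U hU 0))) ≫ hU.fromSpec) U
    (Dq 𝒯 U hU g) (iS 𝒯 hP i U hU ⁻¹ᵁ Dq 𝒯 U hU g) eW le_rfl
  have e2 := appLE_of_eq (iS_toBase 𝒯 hP i U hU) U (iS 𝒯 hP i U hU ⁻¹ᵁ Dq 𝒯 U hU g)
    ((le_refl (iS 𝒯 hP i U hU ⁻¹ᵁ Dq 𝒯 U hU g)).trans ((Opens.map (iS 𝒯 hP i U hU).base).map
      (homOfLE eW)).le) e
  have e3 := congrArg (fun t => t.hom r) (e1.trans e2)
  simp only [CommRingCat.hom_comp, RingHom.coe_comp, Function.comp_apply] at e3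
  rw [← e3, toBase_appLE, Scheme.Hom.app_eq_appLE]

theorem sig_mem_zero (U : Y.Opens) (hU : IsAffineOpen U) (r : Γ(Y, U)) :
    algebraMap Γ(Y, U) (𝒯.presheaf.obj (op U)) r ∈ gS 𝒯 U hU 0 := 𝒯.str_mem U hU r

theorem sig_pow_mul_mem (U : Y.Opens) (hU : IsAffineOpen U) (r : Γ(Y, U)) (M : ℕ) {d : ℕ}
    {F : 𝒯.presheaf.obj (op U)} (hF : F ∈ gS 𝒯 U hU d) :
    algebraMap Γ(Y, U) (𝒯.presheaf.obj (op U)) r ^ M * F ∈ gS 𝒯 U hU d := by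
  have h1 : algebraMap Γ(Y, U) (𝒯.presheaf.obj (op U)) r ^ M ∈ gS 𝒯 U hU 0 := by
    rw [← map_pow]; exact sig_mem_zero 𝒯 U hU _
  have := SetLike.mul_mem_graded h1 hF
  rwa [zero_add] at this

/-- the product formula for the standard sections -/
theorem oFrac_sig_pow_mul (U : Y.Opens) (hU : IsAffineOpen U) {g : 𝒯.presheaf.obj (op U)}
    (hg : g ∈ gS 𝒯 U hU 1) (r : Γ(Y, U)) (M : ℕ) {d : ℕ} {F : 𝒯.presheaf.obj (op U)}
    (hF : F ∈ gS 𝒯 U hU d) :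
    oFrac (gS 𝒯 U hU) (Dq 𝒯 U hU g) 0 (algebraMap Γ(Y, U) (𝒯.presheaf.obj (op U)) r) 1 ^ M *
        oFrac (gS 𝒯 U hU) (Dq 𝒯 U hU g) d F (g ^ d) =
      oFrac (gS 𝒯 U hU) (Dq 𝒯 U hU g) d
        (algebraMap Γ(Y, U) (𝒯.presheaf.obj (op U)) r ^ M * F) (g ^ d) := by
  have Gs : Good (gS 𝒯 U hU) (Dq 𝒯 U hU g) 0 (algebraMap Γ(Y, U) (𝒯.presheaf.obj (op U)) r) 1 :=
    good_of (sig_mem_zero 𝒯 U hU r) SetLike.GradedOne.one_mem
      (fun y h => y.1.isPrime.ne_top ((Ideal.eq_top_iff_one _).mpr h))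
  have hgd : g ^ d ∈ gS 𝒯 U hU d := pow_mem_one hg d
  have Gx : Good (gS 𝒯 U hU) (Dq 𝒯 U hU g) d F (g ^ d) :=
    good_of hF hgd ((nv_basicOpen _).pow d)
  have Gy : Good (gS 𝒯 U hU) (Dq 𝒯 U hU g) d
      (algebraMap Γ(Y, U) (𝒯.presheaf.obj (op U)) r ^ M * F) (g ^ d) :=
    good_of (sig_pow_mul_mem 𝒯 U hU r M hF) hgd ((nv_basicOpen _).pow d)
  rw [oFrac_pow _ Gs M, oFrac_mul _ (Gs.pow M) Gx]
  refine oFrac_eq _ ((Gs.pow M).mul Gx) Gy ?_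
  rw [one_pow, one_mul]

include hgen hft in
/-- **localization of the graded ideals**: a form whose restriction to a basic open lies in the
graded ideal there is carried into the graded ideal by a power of the function -/
theorem exists_pow_mul_mem_IU (U : Y.Opens) (hU : IsAffineOpen U) (r : Γ(Y, U)) {d : ℕ}
    {F : 𝒯.presheaf.obj (op U)} (hF : F ∈ gS 𝒯 U hU d)
    (hψ : rS 𝒯 U hU r F ∈ IU 𝒯 hP i (Y.basicOpen r) (hU.basicOpen r)) :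
    ∃ M : ℕ, algebraMap Γ(Y, U) (𝒯.presheaf.obj (op U)) r ^ M * F ∈ IU 𝒯 hP i U hU := by
  classical
  obtain ⟨T, hT, hgenT⟩ := hft U hU
  have hTmem : ∀ t : T, (t : 𝒯.presheaf.obj (op U)) ∈ gS 𝒯 U hU 1 := fun t => hT t.2
  have hcovT : ⨆ t : T, Dq 𝒯 U hU (t : 𝒯.presheaf.obj (op U)) = ⊤ :=
    Proj.iSup_basicOpen_eq_top (gS 𝒯 U hU) (fun t : T => (t : 𝒯.presheaf.obj (op U)))
      (irrelevant_le_span_finset (gS 𝒯 U hU) (hgen U hU) T hgenT)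
  have hF' : rS 𝒯 U hU r F ∈ gS 𝒯 (Y.basicOpen r) (hU.basicOpen r) d := (rS 𝒯 U hU r).map_mem hF
  have hj : ∀ t : T, ∃ M : ℕ,
      ((iS 𝒯 hP i U hU).app (Dq 𝒯 U hU t.1)).hom
        (oFrac (gS 𝒯 U hU) (Dq 𝒯 U hU t.1) d
          (algebraMap Γ(Y, U) (𝒯.presheaf.obj (op U)) r ^ M * F) (t.1 ^ d)) = 0 := by
    intro t
    have hy0 := key_section 𝒯 hP i U hU r (hTmem t) hF
    unfold IU at hψ
    have hy := hy0.trans ((mem_idealAll_iff _ _ hF').mp hψ (rS 𝒯 U hU r t.1)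
      ((rS 𝒯 U hU r).map_mem (hTmem t)))
    have hO : IsAffineOpen (iS 𝒯 hP i U hU ⁻¹ᵁ Dq 𝒯 U hU t.1) :=
      (Proj.isAffineOpen_basicOpen (gS 𝒯 U hU) t.1 (hTmem t) one_pos).preimage (iS 𝒯 hP i U hU)
    have e : iS 𝒯 hP i U hU ⁻¹ᵁ Dq 𝒯 U hU t.1 ≤ (((i ≫ p) ⁻¹ᵁ U).ι ≫ i ≫ p) ⁻¹ᵁ U := by
      intro x _
      exact x.2
    have hg : (((i ≫ p) ⁻¹ᵁ U : X.Opens) : Scheme.{u}).basicOpen
        (((((i ≫ p) ⁻¹ᵁ U).ι ≫ i ≫ p).appLE U (iS 𝒯 hP i U hU ⁻¹ᵁ Dq 𝒯 U hU t.1) e).hom r) ≤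
        (X.homOfLE ((i ≫ p).preimage_mono (Y.basicOpen_le r))).opensRange := by
      rw [Scheme.basicOpen_appLE, Scheme.opensRange_homOfLE]
      exact inf_le_right
    obtain ⟨M, hM⟩ := exists_pow_mul_eq_zero_of_appLE_eq_zero
      (X.homOfLE ((i ≫ p).preimage_mono (Y.basicOpen_le r))) hO _
      (preimage_Dq 𝒯 hP i U hU r t.1).ge (preimage_Dq 𝒯 hP i U hU r t.1).le _ _ hg hy
    refine ⟨M, ?_⟩
    rw [← oFrac_sig_pow_mul 𝒯 U hU (hTmem t) r M hF, map_mul, map_pow,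
      ← base_function_eq 𝒯 hP i U hU t.1 r e]
    exact hM
  choose M hM using hj
  obtain ⟨K, hK⟩ : ∃ K, ∀ t, M t ≤ K :=
    ⟨Finset.univ.sup M, fun t => Finset.le_sup (Finset.mem_univ t)⟩
  refine ⟨K, ?_⟩
  unfold IU
  rw [mem_idealAll_iff_of_cover _ _ (fun t : T => (t : 𝒯.presheaf.obj (op U))) hTmem hcovT
    (sig_pow_mul_mem 𝒯 U hU r K hF)]
  intro t
  obtain ⟨k, hk⟩ := Nat.exists_eq_add_of_le (hK t)
  have h1 : algebraMap Γ(Y, U) (𝒯.presheaf.obj (op U)) r ^ K * F =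
      algebraMap Γ(Y, U) (𝒯.presheaf.obj (op U)) r ^ k *
        (algebraMap Γ(Y, U) (𝒯.presheaf.obj (op U)) r ^ M t * F) := by
    rw [hk, pow_add]; ring
  rw [h1, ← oFrac_sig_pow_mul 𝒯 U hU (hTmem t) r k (sig_pow_mul_mem 𝒯 U hU r (M t) hF), map_mul,
    hM t, mul_zero]

end Groth.Agent.Lib.Helper18.CSub
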