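import Mathlib
import Groth.Agent.Lib.Helper18.CSubIdeal2

/-!
# Restriction of the graded ideals between arbitrary affine opens (helper18)
-/

set_option autoImplicit false
set_option linter.style.haveILetI false
set_option linter.unusedSectionVars false
universe u
open AlgebraicGeometry CategoryTheory Limits TopologicalSpace Opposite HomogeneousLocalization
open scoped HomogeneousIdeal

namespace Groth.Agent.Lib.Helper18.CSub

open Groth.Agent.Lib.Helper17 Groth.Agent.Lib.Helper17.OFrac Groth.Agent.Lib.Helper17.PI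
  Groth.Agent.Lib.Helper17.PC Groth.Agent.Lib.Helper18.HProj Groth.Agent.Lib.Helper18

attribute [local instance] QCGrLoc.algU

variable {Y P : Scheme.{u}} (𝒯 : RelProj.QCGrAlg Y) {p : P ⟶ Y}
  {chart : ∀ (U : Y.Opens) (hU : IsAffineOpen U),
    (((p ⁻¹ᵁ U : P.Opens) : Scheme.{u}) ≅ Proj (𝒯.deg U hU))}
  (hP : RelProj.IsRelProj 𝒯 p chart) {X : Scheme.{u}} (i : X ⟶ P) [IsClosedImmersion i]
  (hgen : 𝒯.IsGenDegOne) (hft : 𝒯.IsFTDeg 1)

include hgen in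
theorem map_mem_IU_of_mem_of_eq (U : Y.Opens) (hU : IsAffineOpen U) (r : Γ(Y, U)) (W : Y.Opens)
    (hW : W = Y.basicOpen r) (hWaff : IsAffineOpen W) (hWU : W ≤ U) {d : ℕ}
    {F : 𝒯.presheaf.obj (op U)} (hF : F ∈ gS 𝒯 U hU d) (hFI : F ∈ IU 𝒯 hP i U hU) :
    (𝒯.presheaf.map (homOfLE hWU).op).hom F ∈ IU 𝒯 hP i W hWaff := by
  subst hW
  exact map_mem_IU_of_mem 𝒯 hP i hgen U hU r hF hFI

include hgen hft in
theorem exists_pow_mul_mem_IU_of_eq (V : Y.Opens) (hV : IsAffineOpen V) (s : Γ(Y, V)) (W : Y.Opens)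
    (hW : W = Y.basicOpen s) (hWaff : IsAffineOpen W) (hWV : W ≤ V) {d : ℕ}
    {F : 𝒯.presheaf.obj (op V)} (hF : F ∈ gS 𝒯 V hV d)
    (hψ : (𝒯.presheaf.map (homOfLE hWV).op).hom F ∈ IU 𝒯 hP i W hWaff) :
    ∃ M : ℕ, algebraMap Γ(Y, V) (𝒯.presheaf.obj (op V)) s ^ M * F ∈ IU 𝒯 hP i V hV := by
  subst hW
  exact exists_pow_mul_mem_IU 𝒯 hP i hgen hft V hV s hF hψ

include hgen hft in
/-- restriction between affine opens maps the graded ideals into each other (forms) -/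
theorem map_mem_IU_of_le {U V : Y.Opens} (hU : IsAffineOpen U) (hV : IsAffineOpen V) (h : V ≤ U)
    {d : ℕ} {F : 𝒯.presheaf.obj (op U)} (hF : F ∈ gS 𝒯 U hU d) (hFI : F ∈ IU 𝒯 hP i U hU) :
    (𝒯.presheaf.map (homOfLE h).op).hom F ∈ IU 𝒯 hP i V hV := by
  have hF' : (𝒯.presheaf.map (homOfLE h).op).hom F ∈ gS 𝒯 V hV d := 𝒯.map_mem hU hV h hF
  let s : Set Γ(Y, V) := {s | ∃ r : Γ(Y, U), Y.basicOpen r = Y.basicOpen s}
  have hs : Ideal.span s = ⊤ := by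
    rw [← hV.self_le_iSup_basicOpen_iff]
    intro x hx
    obtain ⟨f, g, hfg, hxf⟩ := exists_basicOpen_le_affine_inter hU hV x ⟨h hx, hx⟩
    exact Opens.mem_iSup.mpr ⟨⟨g, f, hfg⟩, hfg ▸ hxf⟩
  suffices hmem : (𝒯.presheaf.map (homOfLE h).op).hom F ∈
      (IU 𝒯 hP i V hV).restrictScalars Γ(Y, V) from hmem
  refine Submodule.mem_of_span_eq_top_of_smul_pow_mem _ s hs _ ?_
  rintro ⟨s₀, r, hrs⟩
  have hWU : Y.basicOpen r ≤ U := Y.basicOpen_le r
  have hWV : Y.basicOpen r ≤ V := hrs ▸ Y.basicOpen_le s₀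
  have h1 := map_mem_IU_of_mem_of_eq 𝒯 hP i hgen U hU r (Y.basicOpen r) rfl (hU.basicOpen r) hWU
    hF hFI
  have h2 : (𝒯.presheaf.map (homOfLE hWV).op).hom ((𝒯.presheaf.map (homOfLE h).op).hom F) =
      (𝒯.presheaf.map (homOfLE hWU).op).hom F := by
    change ((𝒯.presheaf.map (homOfLE h).op) ≫ (𝒯.presheaf.map (homOfLE hWV).op)).hom F = _
    rw [← 𝒯.presheaf.map_comp]
    rfl
  rw [← h2] at h1
  obtain ⟨M, hM⟩ := exists_pow_mul_mem_IU_of_eq 𝒯 hP i hgen hft V hV s₀ (Y.basicOpen r) hrs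
    (hU.basicOpen r) hWV hF' h1
  refine ⟨M, ?_⟩
  change (s₀ ^ M) • _ ∈ IU 𝒯 hP i V hV
  rw [Algebra.smul_def, map_pow]
  exact hM

include hgen hft in
/-- restriction between affine opens maps the graded ideals into each other -/
theorem map_IU_le {U V : Y.Opens} (hU : IsAffineOpen U) (hV : IsAffineOpen V) (h : V ≤ U) :
    (IU 𝒯 hP i U hU).map (𝒯.presheaf.map (homOfLE h).op).hom ≤ IU 𝒯 hP i V hV := by
  classical
  rw [Ideal.map_le_iff_le_comap]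
  intro a ha
  rw [Ideal.mem_comap, ← DirectSum.sum_support_decompose (gS 𝒯 U hU) a, map_sum]
  refine Ideal.sum_mem _ fun d _ => ?_
  exact map_mem_IU_of_le 𝒯 hP i hgen hft hU hV h (SetLike.coe_mem _)
    (IU_isHomogeneous 𝒯 hP i U hU d ha)

include hgen hft in
/-- **the graded ideal over a basic open is the extension of the graded ideal** -/
theorem map_IU_basicOpen (U : Y.Opens) (hU : IsAffineOpen U) (r : Γ(Y, U)) :
    (IU 𝒯 hP i U hU).map (𝒯.presheaf.map (homOfLE (Y.basicOpen_le r)).op).hom =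
      IU 𝒯 hP i (Y.basicOpen r) (hU.basicOpen r) := by
  refine le_antisymm (map_IU_le 𝒯 hP i hgen hft hU (hU.basicOpen r) (Y.basicOpen_le r)) ?_
  refine le_of_forall_homogeneous (gS 𝒯 (Y.basicOpen r) (hU.basicOpen r))
    (IU_isHomogeneous 𝒯 hP i _ _) fun d b hb hbI => ?_
  obtain ⟨k, a, ha, hka⟩ := QCGrLoc.exists_pow_mul_eq_res 𝒯 hU r hb
  have hunit : IsUnit (QCGrLoc.rho 𝒯 r (QCGrLoc.sig 𝒯 U r)) := by
    rw [QCGrLoc.rho_sig]
    exact (RingedSpace.isUnit_res_basicOpen Y.toRingedSpace r).map _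
  have haI : rS 𝒯 U hU r a ∈ IU 𝒯 hP i (Y.basicOpen r) (hU.basicOpen r) := by
    change QCGrLoc.rho 𝒯 r a ∈ _
    rw [hka]
    exact Ideal.mul_mem_right _ _ hbI
  obtain ⟨M, hM⟩ := exists_pow_mul_mem_IU 𝒯 hP i hgen hft U hU r ha haI
  have h1 := Ideal.mem_map_of_mem (𝒯.presheaf.map (homOfLE (Y.basicOpen_le r)).op).hom hM
  change QCGrLoc.rho 𝒯 r (QCGrLoc.sig 𝒯 U r ^ M * a) ∈ _ at h1
  rw [map_mul, map_pow, hka, mul_comm b, ← mul_assoc, ← pow_add] at h1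
  exact (Ideal.unit_mul_mem_iff_mem _ (hunit.pow _)).mp h1

end Groth.Agent.Lib.Helper18.CSub
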