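import Mathlib
import Groth.Agent.Lib.Helper18.CSubIdeal3
import Groth.Agent.Lib.Helper18.AffGr2
import Groth.Agent.Lib.Helper17.GradedQuotient

/-!
# The quasi-coherent graded algebra of a closed subscheme of a relative `Proj` (helper18)
-/

set_option autoImplicit false
set_option linter.style.haveILetI false
set_option linter.unusedSectionVars false
universe u
open AlgebraicGeometry CategoryTheory Limits TopologicalSpace Opposite
open scoped HomogeneousIdeal

namespace Groth.Agent.Lib.Helper18.CSub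

open Groth.Agent.Lib.Helper17 Groth.Agent.Lib.Helper18.AffAlg Groth.Agent.Lib.Helper18.GrTransport
  Groth.Agent.Lib.Helper18

attribute [local instance] QCGrLoc.algU

section algebra

variable {B B' : Type u} [CommRing B] [CommRing B'] (φ : B →+* B') (c : B)
  (hloc : @IsLocalization.Away B _ c B' _ φ.toAlgebra) (I : Ideal B) (I' : Ideal B')

include hloc in
/-- the quotient by an extended ideal is the localization of the quotient -/
theorem isLocalization_quotientMap (hI' : I.map φ = I') :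
    @IsLocalization.Away _ _ (Ideal.Quotient.mk I c) (B' ⧸ I') _
      (Ideal.quotientMap I' φ (Ideal.map_le_iff_le_comap.mp hI'.le)).toAlgebra := by
  letI := φ.toAlgebra
  haveI := hloc
  letI := (Ideal.quotientMap I' φ (Ideal.map_le_iff_le_comap.mp hI'.le)).toAlgebra
  have hmap : ∀ x, algebraMap (B ⧸ I) (B' ⧸ I') x =
      Ideal.quotientMap I' φ (Ideal.map_le_iff_le_comap.mp hI'.le) x := fun _ => rfl
  have hmk : ∀ b : B, Ideal.quotientMap I' φ (Ideal.map_le_iff_le_comap.mp hI'.le)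
      (Ideal.Quotient.mk I b) = Ideal.Quotient.mk I' (φ b) := fun _ => rfl
  have hφ : ∀ b : B, algebraMap B B' b = φ b := fun _ => rfl
  refine IsLocalization.Away.mk _ ?_ ?_ ?_
  · rw [hmap, hmk]
    exact ((IsLocalization.Away.algebraMap_isUnit (S := B') c)).map (Ideal.Quotient.mk I')
  · intro s
    obtain ⟨b', rfl⟩ := Ideal.Quotient.mk_surjective s
    obtain ⟨⟨b, ⟨_, N, rfl⟩⟩, hb⟩ := IsLocalization.surj (Submonoid.powers c) b'
    refine ⟨N, Ideal.Quotient.mk I b, ?_⟩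
    rw [hmap, hmap, hmk, hmk, ← map_pow, ← map_mul]
    congr 1
    change b' * algebraMap B B' (c ^ N) = algebraMap B B' b at hb
    rw [hφ, hφ] at hb
    rw [← hb, map_pow, mul_comm]
  · intro a b hab
    obtain ⟨p, rfl⟩ := Ideal.Quotient.mk_surjective a
    obtain ⟨q, rfl⟩ := Ideal.Quotient.mk_surjective b
    rw [hmap, hmap, hmk, hmk, Ideal.Quotient.eq, ← map_sub, ← hI'] at hab
    have h1 : algebraMap B B' (p - q) ∈ I.map (algebraMap B B') := hab
    rw [IsLocalization.algebraMap_mem_map_algebraMap_iff (Submonoid.powers c)] at h1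
    obtain ⟨m, ⟨k, rfl⟩, hm⟩ := h1
    refine ⟨k, ?_⟩
    rw [← map_pow, ← map_mul, ← map_mul, Ideal.Quotient.eq, ← mul_sub]
    exact hm

end algebra

variable {Y P : Scheme.{u}} (𝒯 : RelProj.QCGrAlg Y) {p : P ⟶ Y}
  {chart : ∀ (U : Y.Opens) (hU : IsAffineOpen U),
    (((p ⁻¹ᵁ U : P.Opens) : Scheme.{u}) ≅ Proj (𝒯.deg U hU))}
  (hP : RelProj.IsRelProj 𝒯 p chart) {X : Scheme.{u}} (i : X ⟶ P) [IsClosedImmersion i]
  (hgen : 𝒯.IsGenDegOne) (hft : 𝒯.IsFTDeg 1)

/-- the ideal over an object of the affine Zariski site -/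
noncomputable abbrev idealA (U : Y.AffineZariskiSite) : Ideal (𝒯.presheaf.obj (op U.1)) :=
  IU 𝒯 hP i U.1 U.2

/-- restriction of the quotients -/
noncomputable def resQ {U V : Y.AffineZariskiSite} (h : V.1 ≤ U.1) :
    𝒯.presheaf.obj (op U.1) ⧸ idealA 𝒯 hP i U →+* 𝒯.presheaf.obj (op V.1) ⧸ idealA 𝒯 hP i V :=
  Ideal.quotientMap _ (𝒯.presheaf.map (homOfLE h).op).hom
    (Ideal.map_le_iff_le_comap.mp (map_IU_le 𝒯 hP i hgen hft U.2 V.2 h))

theorem resQ_mk {U V : Y.AffineZariskiSite} (h : V.1 ≤ U.1) (a : 𝒯.presheaf.obj (op U.1)) :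
    resQ 𝒯 hP i hgen hft h (Ideal.Quotient.mk _ a) =
      Ideal.Quotient.mk _ ((𝒯.presheaf.map (homOfLE h).op).hom a) := rfl

theorem resQ_self (U : Y.AffineZariskiSite) :
    resQ 𝒯 hP i hgen hft (le_refl U.1) = RingHom.id _ := by
  refine Ideal.Quotient.ringHom_ext (RingHom.ext fun a => ?_)
  have h0 : (𝒯.presheaf.map (homOfLE (le_refl U.1)).op).hom = RingHom.id _ := by
    have : homOfLE (le_refl U.1) = 𝟙 U.1 := rfl
    rw [this, op_id, 𝒯.presheaf.map_id]
    rfl
  change resQ 𝒯 hP i hgen hft (le_refl U.1) (Ideal.Quotient.mk _ a) = Ideal.Quotient.mk _ a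
  rw [resQ_mk, h0]
  rfl

theorem resQ_comp {U V W : Y.AffineZariskiSite} (h : V.1 ≤ U.1) (h' : W.1 ≤ V.1) :
    (resQ 𝒯 hP i hgen hft h').comp (resQ 𝒯 hP i hgen hft h) =
      resQ 𝒯 hP i hgen hft (h'.trans h) := by
  refine Ideal.Quotient.ringHom_ext (RingHom.ext fun a => ?_)
  have h0 : (𝒯.presheaf.map (homOfLE h').op).hom.comp (𝒯.presheaf.map (homOfLE h).op).hom =
      (𝒯.presheaf.map (homOfLE (h'.trans h)).op).hom := by
    rw [← CommRingCat.hom_comp, ← Functor.map_comp]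
    rfl
  change resQ 𝒯 hP i hgen hft h' (resQ 𝒯 hP i hgen hft h (Ideal.Quotient.mk _ a)) =
    resQ 𝒯 hP i hgen hft (h'.trans h) (Ideal.Quotient.mk _ a)
  rw [resQ_mk, resQ_mk, resQ_mk, ← h0]
  rfl

/-- the presheaf of quotients on the affine opens -/
noncomputable def quotFunctor : Y.AffineZariskiSiteᵒᵖ ⥤ CommRingCat.{u} where
  obj U := CommRingCat.of (𝒯.presheaf.obj (op U.unop.1) ⧸ idealA 𝒯 hP i U.unop)
  map {U V} k := CommRingCat.ofHom
    (resQ 𝒯 hP i hgen hft (Scheme.AffineZariskiSite.toOpens_mono (leOfHom k.unop)))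
  map_id U := by
    ext : 1
    exact resQ_self 𝒯 hP i hgen hft U.unop
  map_comp {U V W} k l := by
    ext : 1
    exact (resQ_comp 𝒯 hP i hgen hft _ _).symm

/-- the structure map -/
noncomputable def quotStr :
    (Scheme.AffineZariskiSite.toOpensFunctor Y).op ⋙ Y.presheaf ⟶ quotFunctor 𝒯 hP i hgen hft where
  app U := CommRingCat.ofHom
    ((Ideal.Quotient.mk (idealA 𝒯 hP i U.unop)).comp (𝒯.str.app (op U.unop.1)).hom)
  naturality {U V} k := by
    ext r
    change Ideal.Quotient.mk _ ((𝒯.str.app (op V.unop.1)).hom _) =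
      resQ 𝒯 hP i hgen hft _ (Ideal.Quotient.mk _ ((𝒯.str.app (op U.unop.1)).hom r))
    rw [resQ_mk]
    congr 1
    have := 𝒯.str.naturality (homOfLE (Scheme.AffineZariskiSite.toOpens_mono (leOfHom k.unop))).op
    exact RingHom.congr_fun (congrArg CommRingCat.Hom.hom this) r

theorem quotStr_app (U : Y.AffineZariskiSite) (r : Γ(Y, U.1)) :
    ((quotStr 𝒯 hP i hgen hft).app (op U)).hom r =
      Ideal.Quotient.mk _ ((𝒯.str.app (op U.1)).hom r) := rfl

theorem coequifibered_quotStr : (quotStr 𝒯 hP i hgen hft).Coequifibered := by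
  rw [Scheme.AffineZariskiSite.coequifibered_iff_forall_isLocalizationAway]
  intro U r
  exact isLocalization_quotientMap (𝒯.presheaf.map (homOfLE (Y.basicOpen_le r)).op).hom
    ((𝒯.str.app (op U.1)).hom r) (𝒯.isQC U.1 U.2 r) (idealA 𝒯 hP i U) _
    (map_IU_basicOpen 𝒯 hP i hgen hft U.1 U.2 r)

/-- the grading of the quotient -/
noncomputable abbrev qDeg (U : Y.AffineZariskiSite) :
    ℕ → Submodule Γ(Y, U.1) (𝒯.presheaf.obj (op U.1) ⧸ idealA 𝒯 hP i U) :=
  GQ.grading (gS 𝒯 U.1 U.2) (idealA 𝒯 hP i U)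

noncomputable instance qGraded (U : Y.AffineZariskiSite) : GradedAlgebra (qDeg 𝒯 hP i U) :=
  GQ.gradedAlgebra _ _ (IU_isHomogeneous 𝒯 hP i U.1 U.2)

/-- the affine-local graded data `U ↦ 𝒯(U)/I_U` -/
noncomputable def csubGrData : GrData Y where
  F := quotFunctor 𝒯 hP i hgen hft
  str := quotStr 𝒯 hP i hgen hft
  coeq := coequifibered_quotStr 𝒯 hP i hgen hft
  deg U := toSubN (qDeg 𝒯 hP i U)
  graded U := gradedRing_comapDeg (RingEquiv.refl _) (qDeg 𝒯 hP i U)
  map_mem := fun {U V} k {d x} hx => by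
    obtain ⟨a, ha, rfl⟩ := GQ.exists_of_mem_grading _ _ hx
    exact GQ.mk_mem_grading _ _ (𝒯.map_mem U.2 V.2 _ ha)
  str_mem := fun U r => GQ.mk_mem_grading _ _ (𝒯.str_mem U.1 U.2 r)

/-- the quasi-coherent graded algebra `𝒯/𝓘` of the closed subscheme -/
noncomputable def csubAlg : RelProj.QCGrAlg Y := grAlg (csubGrData 𝒯 hP i hgen hft)

end Groth.Agent.Lib.Helper18.CSub
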