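import Mathlib
import Groth.Agent.Lib.Helper18.CSubData
import Groth.Agent.Lib.Helper18.ProjEquiv

/-!
# A closed subscheme of a relative `Proj` is a relative `Proj` (helper18)

If `p : P ⟶ Y` is the relative homogeneous spectrum of `𝒯` (generated in degree one, with degree one
part of finite type) and `i : X ⟶ P` is a closed immersion, then `i ≫ p` is projective.
-/

set_option autoImplicit false
set_option linter.style.haveILetI false
set_option linter.unusedSectionVars false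
universe u
open AlgebraicGeometry CategoryTheory Limits TopologicalSpace Opposite
open scoped HomogeneousIdeal

namespace Groth.Agent.Lib.Helper18.CSub

open Groth.Agent.Lib.Helper17 Groth.Agent.Lib.Helper18.AffAlg Groth.Agent.Lib.Helper18.GrTransport
  Groth.Agent.Lib.Helper18

attribute [local instance] QCGrLoc.algU

section algebra

variable {R A : Type u} [CommRing R] [CommRing A] [Algebra R A] (𝒜 : ℕ → Submodule R A)
  [GradedAlgebra 𝒜] (I : Ideal A)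

theorem closure_quot_eq_top (h : Subring.closure ((𝒜 0 : Set A) ∪ (𝒜 1 : Set A)) = ⊤) :
    Subring.closure ((GQ.grading 𝒜 I 0 : Set (A ⧸ I)) ∪ (GQ.grading 𝒜 I 1 : Set (A ⧸ I))) = ⊤ := by
  rw [eq_top_iff]
  rintro x -
  obtain ⟨a, rfl⟩ := Ideal.Quotient.mk_surjective x
  have ha : a ∈ Subring.closure ((𝒜 0 : Set A) ∪ (𝒜 1 : Set A)) := by rw [h]; trivial
  induction ha using Subring.closure_induction with
  | mem a ha =>
    refine Subring.subset_closure ?_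
    rcases ha with ha | ha
    · exact Or.inl (GQ.mk_mem_grading _ I ha)
    · exact Or.inr (GQ.mk_mem_grading _ I ha)
  | zero => rw [map_zero]; exact zero_mem _
  | one => rw [map_one]; exact one_mem _
  | add a b _ _ ha hb => rw [map_add]; exact add_mem ha hb
  | neg a _ ha => rw [map_neg]; exact neg_mem ha
  | mul a b _ _ ha hb => rw [map_mul]; exact mul_mem ha hb

theorem exists_finset_quot (d : ℕ) (T : Finset A) (hT : (↑T : Set A) ⊆ (𝒜 d : Set A))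
    (hgen : ∀ x ∈ 𝒜 d, ∃ c : A → R, x = ∑ t ∈ T, algebraMap R A (c t) * t) :
    ∃ T' : Finset (A ⧸ I), (↑T' : Set (A ⧸ I)) ⊆ (GQ.grading 𝒜 I d : Set (A ⧸ I)) ∧
      ∀ x ∈ GQ.grading 𝒜 I d, ∃ c : A ⧸ I → R,
        x = ∑ t ∈ T', Ideal.Quotient.mk I (algebraMap R A (c t)) * t := by
  classical
  refine ⟨T.image (Ideal.Quotient.mk I), ?_, ?_⟩
  · intro b hb
    rw [Finset.coe_image] at hb
    obtain ⟨a, ha, rfl⟩ := hb
    exact GQ.mk_mem_grading _ I (hT ha)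
  · intro x hx
    obtain ⟨a, ha, rfl⟩ := GQ.exists_of_mem_grading _ _ hx
    have hmem : Ideal.Quotient.mk I a ∈
        Submodule.span R ((T.image (Ideal.Quotient.mk I) : Finset (A ⧸ I)) : Set (A ⧸ I)) := by
      obtain ⟨c, hc⟩ := hgen a ha
      rw [hc, map_sum]
      refine Submodule.sum_mem _ fun t ht => ?_
      rw [map_mul]
      have : Ideal.Quotient.mk I (algebraMap R A (c t)) * Ideal.Quotient.mk I t =
          (c t) • Ideal.Quotient.mk I t := by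
        rw [Algebra.smul_def]; rfl
      rw [this]
      refine Submodule.smul_mem _ _ (Submodule.subset_span ?_)
      rw [Finset.coe_image]
      exact ⟨t, ht, rfl⟩
    obtain ⟨c, -, hc⟩ := Submodule.mem_span_finset.mp hmem
    refine ⟨c, ?_⟩
    rw [← hc]
    refine Finset.sum_congr rfl fun t _ => ?_
    rw [Algebra.smul_def]
    rfl

/-- `PC.ker_map_quotHom` for an ideal propositionally equal to `idealOf` -/
theorem ker_map_quotHom_of_eq {Z : Scheme.{u}} (j : Z ⟶ Proj 𝒜) {ι : Type*} [Finite ι] (f : ι → A)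
    (hf : ∀ k, f k ∈ 𝒜 1)
    (hspan : (HomogeneousIdeal.irrelevant 𝒜).toIdeal ≤ Ideal.span (Set.range f))
    (hI : I = PC.idealOf 𝒜 j.ker f hf) (hIhom : I.IsHomogeneous 𝒜) :
    letI := GQ.gradedAlgebra 𝒜 I hIhom
    ∀ hφ : HomogeneousIdeal.irrelevant (GQ.grading 𝒜 I) ≤
      (HomogeneousIdeal.irrelevant 𝒜).map (GQ.quotHom 𝒜 I),
    (Proj.map (GQ.quotHom 𝒜 I) hφ).ker = j.ker := by
  subst hI
  exact PC.ker_map_quotHom 𝒜 j.ker f hf hspan

end algebra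

variable {Y P : Scheme.{u}} (𝒯 : RelProj.QCGrAlg Y) {p : P ⟶ Y}
  {chart : ∀ (U : Y.Opens) (hU : IsAffineOpen U),
    (((p ⁻¹ᵁ U : P.Opens) : Scheme.{u}) ≅ Proj (𝒯.deg U hU))}
  (hP : RelProj.IsRelProj 𝒯 p chart) {X : Scheme.{u}} (i : X ⟶ P) [IsClosedImmersion i]
  (hgen : 𝒯.IsGenDegOne) (hft : 𝒯.IsFTDeg 1)

theorem isGenDegOne_csubAlg : (csubAlg 𝒯 hP i hgen hft).IsGenDegOne :=
  isGenDegOne_grAlg (csubGrData 𝒯 hP i hgen hft)
    (fun U => closure_quot_eq_top (gS 𝒯 U.1 U.2) (idealA 𝒯 hP i U) (hgen U.1 U.2))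

theorem isFTDeg_csubAlg : (csubAlg 𝒯 hP i hgen hft).IsFTDeg 1 := by
  refine isFTDeg_grAlg (csubGrData 𝒯 hP i hgen hft) 1 (fun U => ?_)
  obtain ⟨T, hT, hgenT⟩ := hft U.1 U.2
  obtain ⟨T', hT', hgen'⟩ := exists_finset_quot (gS 𝒯 U.1 U.2) (idealA 𝒯 hP i U) 1 T hT hgenT
  exact ⟨T', hT', fun x hx => hgen' x hx⟩

variable (U : Y.Opens) (hU : IsAffineOpen U)

noncomputable instance qGradedU : GradedAlgebra
    (GQ.grading (gS 𝒯 U hU) (IU 𝒯 hP i U hU)) :=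
  GQ.gradedAlgebra _ _ (IU_isHomogeneous 𝒯 hP i U hU)

/-- sections of `csubAlg` over an affine open -/
noncomputable def secQ : (csubAlg 𝒯 hP i hgen hft).presheaf.obj (op U) ≃+*
    𝒯.presheaf.obj (op U) ⧸ IU 𝒯 hP i U hU :=
  gamE (csubGrData 𝒯 hP i hgen hft).toData U hU

theorem mem_deg_iff_secQ (d : ℕ) (x : (csubAlg 𝒯 hP i hgen hft).presheaf.obj (op U)) :
    x ∈ (csubAlg 𝒯 hP i hgen hft).deg U hU d ↔
      secQ 𝒯 hP i hgen hft U hU x ∈ qDeg 𝒯 hP i (mkAff U hU) d := Iff.rfl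

theorem secQ_str (r : Γ(Y, U)) :
    secQ 𝒯 hP i hgen hft U hU (((csubAlg 𝒯 hP i hgen hft).str.app (op U)).hom r) =
      Ideal.Quotient.mk _ ((𝒯.str.app (op U)).hom r) :=
  gamE_str (csubGrData 𝒯 hP i hgen hft).toData U hU r

/-- the quotient homomorphism -/
noncomputable abbrev quotH : gS 𝒯 U hU →+*ᵍ qDeg 𝒯 hP i (mkAff U hU) :=
  GQ.quotHom (gS 𝒯 U hU) (IU 𝒯 hP i U hU)

theorem irrelevant_le_quotH :
    (qDeg 𝒯 hP i (mkAff U hU))₊ ≤ (gS 𝒯 U hU)₊.map (quotH 𝒯 hP i U hU) :=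
  PC.irrelevant_le_map_of_surjective (gS 𝒯 U hU) (quotH 𝒯 hP i U hU)
    (GQ.quotHom_surjective _ _)

instance : IsClosedImmersion (Proj.map (quotH 𝒯 hP i U hU) (irrelevant_le_quotH 𝒯 hP i U hU)) :=
  PC.isClosedImmersion_map_of_surjective _ _ (GQ.quotHom_surjective _ _) _

include hgen hft in
theorem ker_map_quotH :
    (Proj.map (quotH 𝒯 hP i U hU) (irrelevant_le_quotH 𝒯 hP i U hU)).ker =
      (iS 𝒯 hP i U hU).ker := by
  classical
  obtain ⟨T, hT, hgenT⟩ := hft U hU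
  have hTmem : ∀ t : T, (t : 𝒯.presheaf.obj (op U)) ∈ gS 𝒯 U hU 1 := fun t => hT t.2
  have hspan := irrelevant_le_span_finset (gS 𝒯 U hU) (hgen U hU) T hgenT
  have hcov := Proj.iSup_basicOpen_eq_top (gS 𝒯 U hU) (fun t : T => (t : 𝒯.presheaf.obj (op U)))
    hspan
  exact ker_map_quotHom_of_eq (gS 𝒯 U hU) (IU 𝒯 hP i U hU) (iS 𝒯 hP i U hU)
    (fun t : T => (t : 𝒯.presheaf.obj (op U))) hTmem hspan
    (idealOf_eq_idealAll (gS 𝒯 U hU) (iS 𝒯 hP i U hU) _ hTmem hcov).symm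
    (IU_isHomogeneous 𝒯 hP i U hU) (irrelevant_le_quotH 𝒯 hP i U hU)

/-- `f⁻¹(U) ≅ Proj (𝒯(U)/I_U)` -/
noncomputable def lamU :
    (((i ≫ p) ⁻¹ᵁ U : X.Opens) : Scheme.{u}) ≅ Proj (qDeg 𝒯 hP i (mkAff U hU)) :=
  haveI : IsIso (IsClosedImmersion.lift
      (Proj.map (quotH 𝒯 hP i U hU) (irrelevant_le_quotH 𝒯 hP i U hU)) (iS 𝒯 hP i U hU)
      (ker_map_quotH 𝒯 hP i hgen hft U hU).le) :=
    IsClosedImmersion.isIso_lift _ _ (ker_map_quotH 𝒯 hP i hgen hft U hU)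
  asIso (IsClosedImmersion.lift
      (Proj.map (quotH 𝒯 hP i U hU) (irrelevant_le_quotH 𝒯 hP i U hU)) (iS 𝒯 hP i U hU)
      (ker_map_quotH 𝒯 hP i hgen hft U hU).le)

theorem lamU_hom_map :
    (lamU 𝒯 hP i hgen hft U hU).hom ≫
        Proj.map (quotH 𝒯 hP i U hU) (irrelevant_le_quotH 𝒯 hP i U hU) =
      iS 𝒯 hP i U hU :=
  IsClosedImmersion.lift_fac _ _ _

/-- transport along `secQ` -/
noncomputable def tauU :
    Proj (qDeg 𝒯 hP i (mkAff U hU)) ≅ Proj ((csubAlg 𝒯 hP i hgen hft).deg U hU) :=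
  ProjEquiv.projIso ((csubAlg 𝒯 hP i hgen hft).deg U hU) (qDeg 𝒯 hP i (mkAff U hU))
    (secQ 𝒯 hP i hgen hft U hU) (mem_deg_iff_secQ 𝒯 hP i hgen hft U hU)

/-- the charts -/
noncomputable def chartU :
    (((i ≫ p) ⁻¹ᵁ U : X.Opens) : Scheme.{u}) ≅ Proj ((csubAlg 𝒯 hP i hgen hft).deg U hU) :=
  lamU 𝒯 hP i hgen hft U hU ≪≫ tauU 𝒯 hP i hgen hft U hU

/-- the closed immersion `Proj csubAlg(U) ⟶ Proj 𝒯(U)` -/
noncomputable def cU : Proj ((csubAlg 𝒯 hP i hgen hft).deg U hU) ⟶ Proj (gS 𝒯 U hU) :=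
  (tauU 𝒯 hP i hgen hft U hU).inv ≫
    Proj.map (quotH 𝒯 hP i U hU) (irrelevant_le_quotH 𝒯 hP i U hU)

instance : Mono (cU 𝒯 hP i hgen hft U hU) := by
  unfold cU
  infer_instance

theorem chartU_hom_cU :
    (chartU 𝒯 hP i hgen hft U hU).hom ≫ cU 𝒯 hP i hgen hft U hU = iS 𝒯 hP i U hU := by
  unfold chartU cU
  rw [Iso.trans_hom, Category.assoc, Iso.hom_inv_id_assoc, lamU_hom_map]

theorem tauU_inv_toSpecZero :
    (tauU 𝒯 hP i hgen hft U hU).inv ≫ Proj.toSpecZero (qDeg 𝒯 hP i (mkAff U hU)) =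
      Proj.toSpecZero ((csubAlg 𝒯 hP i hgen hft).deg U hU) ≫
        Spec.map (CommRingCat.ofHom (Groth.Agent.Lib.Helper42.zeroHom
          (ProjEquiv.symmGr ((csubAlg 𝒯 hP i hgen hft).deg U hU) (qDeg 𝒯 hP i (mkAff U hU))
            (secQ 𝒯 hP i hgen hft U hU) (mem_deg_iff_secQ 𝒯 hP i hgen hft U hU)))) :=
  Groth.Agent.Lib.Helper42.map_toSpecZero _ _

theorem cU_toSpec :
    cU 𝒯 hP i hgen hft U hU ≫ Proj.toSpecZero (gS 𝒯 U hU) ≫
        Spec.map (CommRingCat.ofHom (algebraMap Γ(Y, U) (gS 𝒯 U hU 0))) =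
      Proj.toSpecZero ((csubAlg 𝒯 hP i hgen hft).deg U hU) ≫
        Spec.map ((csubAlg 𝒯 hP i hgen hft).strZero U hU) := by
  unfold cU
  rw [Category.assoc, ← Category.assoc (Proj.map (quotH 𝒯 hP i U hU) _),
    Groth.Agent.Lib.Helper42.map_toSpecZero, Category.assoc,
    reassoc_of% (tauU_inv_toSpecZero 𝒯 hP i hgen hft U hU), ← Spec.map_comp, ← Spec.map_comp]
  congr 2
  refine CommRingCat.hom_ext (RingHom.ext fun r => Subtype.ext ?_)
  change (secQ 𝒯 hP i hgen hft U hU).symm (Ideal.Quotient.mk _ ((𝒯.str.app (op U)).hom r)) =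
    ((csubAlg 𝒯 hP i hgen hft).str.app (op U)).hom r
  rw [← secQ_str 𝒯 hP i hgen hft U hU r, RingEquiv.symm_apply_apply]

theorem chartU_over :
    (chartU 𝒯 hP i hgen hft U hU).hom ≫ Proj.toSpecZero ((csubAlg 𝒯 hP i hgen hft).deg U hU) ≫
        Spec.map ((csubAlg 𝒯 hP i hgen hft).strZero U hU) ≫ hU.fromSpec =
      ((i ≫ p) ⁻¹ᵁ U).ι ≫ i ≫ p := by
  rw [← Category.assoc (Proj.toSpecZero _), ← cU_toSpec 𝒯 hP i hgen hft U hU, Category.assoc,
    Category.assoc, ← Category.assoc, chartU_hom_cU, iS_toBase]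

/-- the graded surjection `𝒯(U) → csubAlg(U)` -/
noncomputable def qU : gS 𝒯 U hU →+*ᵍ (csubAlg 𝒯 hP i hgen hft).deg U hU :=
  (ProjEquiv.symmGr ((csubAlg 𝒯 hP i hgen hft).deg U hU) (qDeg 𝒯 hP i (mkAff U hU))
    (secQ 𝒯 hP i hgen hft U hU) (mem_deg_iff_secQ 𝒯 hP i hgen hft U hU)).comp
      (quotH 𝒯 hP i U hU)

theorem qU_apply (a : 𝒯.presheaf.obj (op U)) :
    qU 𝒯 hP i hgen hft U hU a =
      (secQ 𝒯 hP i hgen hft U hU).symm (Ideal.Quotient.mk _ a) := rfl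

theorem cU_eq : ∃ h, cU 𝒯 hP i hgen hft U hU = Proj.map (qU 𝒯 hP i hgen hft U hU) h :=
  ⟨_, (Proj.map_comp _ _ _ _).symm⟩

theorem res_qU (r : Γ(Y, U)) (a : 𝒯.presheaf.obj (op U)) :
    (csubAlg 𝒯 hP i hgen hft).res hU (hU.basicOpen r) (Y.basicOpen_le r)
        (qU 𝒯 hP i hgen hft U hU a) =
      qU 𝒯 hP i hgen hft (Y.basicOpen r) (hU.basicOpen r) (rS 𝒯 U hU r a) := by
  apply (secQ 𝒯 hP i hgen hft (Y.basicOpen r) (hU.basicOpen r)).injective
  rw [qU_apply, qU_apply, RingEquiv.apply_symm_apply, RelProj.QCGrAlg.res_apply]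
  have h1 := gamE_res_basic (csubGrData 𝒯 hP i hgen hft).toData hU (hU.basicOpen r) r rfl
    (Y.basicOpen_le r) ((secQ 𝒯 hP i hgen hft U hU).symm (Ideal.Quotient.mk _ a))
  refine h1.trans ?_
  change resQ 𝒯 hP i hgen hft (U := mkAff U hU) (V := mkAff (Y.basicOpen r) (hU.basicOpen r))
    (Y.basicOpen_le r)
    (secQ 𝒯 hP i hgen hft U hU ((secQ 𝒯 hP i hgen hft U hU).symm (Ideal.Quotient.mk _ a))) = _
  rw [RingEquiv.apply_symm_apply, resQ_mk]
  rfl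

theorem chartU_res (r : Γ(Y, U)) :
    X.homOfLE ((i ≫ p).preimage_mono (Y.basicOpen_le r)) ≫ (chartU 𝒯 hP i hgen hft U hU).hom =
      (chartU 𝒯 hP i hgen hft (Y.basicOpen r) (hU.basicOpen r)).hom ≫
        Proj.map ((csubAlg 𝒯 hP i hgen hft).res hU (hU.basicOpen r) (Y.basicOpen_le r))
          ((csubAlg 𝒯 hP i hgen hft).irrelevant_le_map U hU r) := by
  have key : Proj.map ((csubAlg 𝒯 hP i hgen hft).res hU (hU.basicOpen r) (Y.basicOpen_le r))
        ((csubAlg 𝒯 hP i hgen hft).irrelevant_le_map U hU r) ≫ cU 𝒯 hP i hgen hft U hU =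
      cU 𝒯 hP i hgen hft (Y.basicOpen r) (hU.basicOpen r) ≫ mS 𝒯 U hU r := by
    obtain ⟨h1, e1⟩ := cU_eq 𝒯 hP i hgen hft U hU
    obtain ⟨h2, e2⟩ := cU_eq 𝒯 hP i hgen hft (Y.basicOpen r) (hU.basicOpen r)
    rw [e1, e2, ← Proj.map_comp, ← Proj.map_comp]
    refine Groth.Agent.Lib.Helper42.proj_map_congr ?_ _ _
    apply DFunLike.ext
    intro a
    exact res_qU 𝒯 hP i hgen hft U hU r a
  rw [← cancel_mono (cU 𝒯 hP i hgen hft U hU), Category.assoc, chartU_hom_cU, Category.assoc, key,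
    ← Category.assoc, chartU_hom_cU, homOfLE_iS 𝒯 hP i U hU r]

/-- **a closed subscheme of a relative `Proj` is the relative `Proj` of `𝒯/𝓘`** -/
theorem isRelProj_csubAlg :
    RelProj.IsRelProj (csubAlg 𝒯 hP i hgen hft) (i ≫ p) (chartU 𝒯 hP i hgen hft) where
  chart_over := chartU_over 𝒯 hP i hgen hft
  chart_res := chartU_res 𝒯 hP i hgen hft

include hP hgen hft in
/-- **a closed subscheme of a relative `Proj` (generated in degree one, of finite type in degree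
one) is projective over the base** -/
theorem isProjective_comp : RelProj.IsProjective (i ≫ p) :=
  ⟨csubAlg 𝒯 hP i hgen hft, X, i ≫ p, chartU 𝒯 hP i hgen hft, Iso.refl X,
    isGenDegOne_csubAlg 𝒯 hP i hgen hft, isFTDeg_csubAlg 𝒯 hP i hgen hft,
    isRelProj_csubAlg 𝒯 hP i hgen hft, Category.id_comp _⟩

end Groth.Agent.Lib.Helper18.CSub

namespace Groth.Agent.Lib.Helper18

/-- **a closed immersion followed by a projective morphism is projective** -/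
theorem isProjective_closedImmersion_comp {X Z Y : Scheme.{u}} (i : X ⟶ Z) [IsClosedImmersion i]
    (q : Z ⟶ Y) (hq : RelProj.IsProjective q) : RelProj.IsProjective (i ≫ q) := by
  obtain ⟨𝒯, P, p, chart, e, hgen, hft, hrel, he⟩ := hq
  have h1 := CSub.isProjective_comp 𝒯 hrel (i ≫ e.hom) hgen hft
  rwa [Category.assoc, he] at h1

end Groth.Agent.Lib.Helper18
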