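import Groth.Agent.Lib.Helper1.Cech.Concrete

/-! helper18: the Čech complex of a presheaf of abelian groups on a space w.r.t. a family one member of
which is the whole union is homotopy equivalent to `F(⋃ U)` in degree 0 (explicit contracting homotopy
`(h s)(x) = s(i, x)`), on top of helper1's elementwise Čech API. -/

set_option autoImplicit false
universe u
open CategoryTheory Limits Opposite TopologicalSpace
open Groth.Agent.Lib.Helper1.Cech

namespace Groth.Agent.Lib.Helper18.CechContract

variable {X : TopCat.{u}} (F : (Opens X)ᵒᵖ ⥤ AddCommGrpCat.{u}) {ι : Type u} (U : ι → Opens X)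

theorem map_map_apply {W' W V : Opens X} (a : W' ⟶ W) (b : W ⟶ V) (t : F.obj (op V)) :
    F.map a.op (F.map b.op t) = F.map (a ≫ b).op t := by
  rw [op_comp, F.map_comp]
  rfl

variable {F U}

theorem map_comp_congr {q : ℕ} (s : (K U F).X q) {y y' : Fin (q + 1) → ι} (h : y' = y)
    {W : Opens X} (g : W ⟶ inter U y') (g' : W ⟶ inter U y) :
    F.map g.op (comp U F q y' s) = F.map g'.op (comp U F q y s) := by
  subst h
  rw [Subsingleton.elim g g']

theorem map_id_apply' {V : Opens X} (g : V ⟶ V) (t : F.obj (op V)) : F.map g.op t = t := by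
  rw [Subsingleton.elim g (𝟙 V), op_id, F.map_id]
  rfl

variable (U) in
theorem inter_le {q : ℕ} (x : Fin (q + 1) → ι) (a : Fin (q + 1)) : inter U x ≤ U (x a) :=
  (Pi.π (U ∘ x) a).le

variable (U) in
theorem inter_le_iSup {q : ℕ} (x : Fin (q + 1) → ι) : inter U x ≤ iSup U :=
  (inter_le U x 0).trans (le_iSup U (x 0))

variable (i : ι) (hi : U i = iSup U)

include hi in
theorem inter_le_cons {q : ℕ} (x : Fin (q + 1) → ι) (a : Fin (q + 2)) :
    inter U x ≤ U ((Fin.cons i x : Fin (q + 2) → ι) a) := by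
  refine Fin.cases ?_ (fun b => ?_) a
  · rw [Fin.cons_zero, hi]
    exact inter_le_iSup U x
  · rw [Fin.cons_succ]
    exact inter_le U x b

/-- `U_x ⟶ U_{(i,x)}` -/
noncomputable def back {q : ℕ} (x : Fin (q + 1) → ι) :
    inter U x ⟶ inter U (Fin.cons i x : Fin (q + 2) → ι) :=
  Pi.lift (fun a => homOfLE (inter_le_cons i hi x a))

/-- the contracting homotopy `C^{q+1} → C^q`, `(h s)(x) = s(i, x)`. -/
noncomputable def hq (q : ℕ) : (K U F).X (q + 1) ⟶ (K U F).X q :=
  Pi.lift (fun x : Fin (q + 1) → ι =>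
    Pi.π (fun y : Fin (q + 2) → ι => F.obj (op (inter U y))) (Fin.cons i x) ≫
      F.map (back i hi x).op)

theorem comp_hq (q : ℕ) (x : Fin (q + 1) → ι) (s : (K U F).X (q + 1)) :
    comp U F q x (hq i hi q s) = F.map (back i hi x).op (comp U F (q + 1) (Fin.cons i x) s) := by
  unfold comp hq
  erw [← AddCommGrpCat.comp_apply, Pi.lift_π]
  rfl

/-- augmentation `F(⋃ U) → C^0`. -/
noncomputable def eps : F.obj (op (iSup U)) ⟶ (K U F).X 0 :=
  Pi.lift (fun x : Fin 1 → ι => F.map (homOfLE (inter_le_iSup U x)).op)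

theorem comp_eps (x : Fin 1 → ι) (t : F.obj (op (iSup U))) :
    comp U F 0 x (eps (F := F) (U := U) t) = F.map (homOfLE (inter_le_iSup U x)).op t := by
  unfold comp eps
  erw [← AddCommGrpCat.comp_apply, Pi.lift_π]
  rfl

theorem eps_d_apply (t : F.obj (op (iSup U))) :
    (K U F).d 0 1 (eps (F := F) (U := U) t) = 0 := by
  apply Groth.Agent.Lib.Helper1.Cech.ext
  intro x
  rw [comp_d, Fin.sum_univ_two]
  simp only [comp_eps, map_map_apply]
  simp only [Fin.val_zero, pow_zero, one_smul, Fin.val_one, pow_one, neg_smul]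
  rw [Subsingleton.elim (face U x 0 ≫ homOfLE (inter_le_iSup U (x ∘ Fin.succAbove 0)))
    (face U x 1 ≫ homOfLE (inter_le_iSup U (x ∘ Fin.succAbove 1)))]
  simp

theorem eps_d : eps (F := F) (U := U) ≫ (K U F).d 0 1 = 0 :=
  ConcreteCategory.hom_ext _ _ (fun t => eps_d_apply t)

include hi in
theorem iSup_le_inter_const : iSup U ≤ inter U (fun _ : Fin 1 => i) := by
  rw [← hi]
  exact (Pi.lift (fun _ => 𝟙 (U i)) : U i ⟶ inter U (fun _ : Fin 1 => i)).le

/-- coaugmentation `C^0 → F(⋃ U)`: the component at `i`. -/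
noncomputable def eta : (K U F).X 0 ⟶ F.obj (op (iSup U)) :=
  Pi.π (fun y : Fin 1 → ι => F.obj (op (inter U y))) (fun _ => i) ≫
    F.map (homOfLE (iSup_le_inter_const i hi)).op

theorem eta_apply (s : (K U F).X 0) :
    eta i hi s = F.map (homOfLE (iSup_le_inter_const i hi)).op (comp U F 0 (fun _ => i) s) := rfl

theorem eps_eta : eps (F := F) (U := U) ≫ eta i hi = 𝟙 _ := by
  refine ConcreteCategory.hom_ext _ _ (fun t => ?_)
  erw [AddCommGrpCat.comp_apply]
  rw [eta_apply, comp_eps, map_map_apply, map_id_apply']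
  rfl

theorem cons_comp_succAbove_zero {q : ℕ} (x : Fin (q + 1) → ι) :
    (Fin.cons i x : Fin (q + 2) → ι) ∘ Fin.succAbove 0 = x := by
  funext a
  simp

theorem cons_comp_succAbove_succ {q : ℕ} (x : Fin (q + 2) → ι) (j : Fin (q + 2)) :
    (Fin.cons i x : Fin (q + 3) → ι) ∘ Fin.succAbove j.succ =
      (Fin.cons i (x ∘ Fin.succAbove j) : Fin (q + 2) → ι) := by
  funext a
  refine Fin.cases ?_ (fun b => ?_) a
  · simp
  · simp

theorem cons_comp_succAbove_one (x : Fin 1 → ι) :
    (Fin.cons i x : Fin 2 → ι) ∘ Fin.succAbove 1 = (fun _ => i) := by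
  funext a
  fin_cases a
  simp

theorem homotopy_zero (s : (K U F).X 0) :
    s = hq i hi 0 ((K U F).d 0 1 s) + eps (F := F) (U := U) (eta i hi s) := by
  apply Groth.Agent.Lib.Helper1.Cech.ext
  intro x
  rw [map_add, comp_hq, comp_d, Fin.sum_univ_two, comp_eps, eta_apply]
  simp only [Fin.val_zero, pow_zero, one_smul, Fin.val_one, pow_one, neg_smul, map_add, map_neg,
    map_map_apply]
  rw [map_comp_congr s (cons_comp_succAbove_zero i x) _ (𝟙 _),
    map_comp_congr s (cons_comp_succAbove_one i x) _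
      (homOfLE (inter_le_iSup U x) ≫ homOfLE (iSup_le_inter_const i hi))]
  simp

theorem homotopy_succ (q : ℕ) (s : (K U F).X (q + 1)) :
    s = hq i hi (q + 1) ((K U F).d (q + 1) (q + 2) s) + (K U F).d q (q + 1) (hq i hi q s) := by
  apply Groth.Agent.Lib.Helper1.Cech.ext
  intro x
  rw [map_add, comp_hq, comp_d, comp_d, Fin.sum_univ_succ]
  simp only [Fin.val_zero, pow_zero, one_smul, map_add, map_sum, map_zsmul, map_neg, map_map_apply,
    comp_hq, Fin.val_succ, pow_succ, mul_neg, mul_one, neg_smul, Finset.sum_neg_distrib]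
  rw [map_comp_congr s (cons_comp_succAbove_zero i x) _ (𝟙 _)]
  have : ∀ j : Fin (q + 2),
      (-1 : ℤ) ^ (j : ℕ) • F.map (back i hi x ≫ face U (Fin.cons i x) j.succ).op
        (comp U F (q + 1) ((Fin.cons i x : Fin (q + 3) → ι) ∘ j.succ.succAbove) s) =
      (-1 : ℤ) ^ (j : ℕ) • F.map (face U x j ≫ back i hi (x ∘ j.succAbove)).op
        (comp U F (q + 1) (Fin.cons i (x ∘ j.succAbove)) s) := by
    intro j
    rw [map_comp_congr s (cons_comp_succAbove_succ i x j) _
      (face U x j ≫ back i hi (x ∘ j.succAbove))]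
  rw [Finset.sum_congr rfl (fun j _ => this j)]
  simp

variable (F U) in
/-- the augmentation as a morphism of complexes -/
noncomputable def homEps :
    (CochainComplex.single₀ AddCommGrpCat.{u}).obj (F.obj (op (iSup U))) ⟶ K U F :=
  (CochainComplex.fromSingle₀Equiv _ _).symm ⟨eps, eps_d⟩

/-- the retraction as a morphism of complexes -/
noncomputable def homEta :
    K U F ⟶ (CochainComplex.single₀ AddCommGrpCat.{u}).obj (F.obj (op (iSup U))) :=
  (CochainComplex.toSingle₀Equiv _ _).symm (eta i hi)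

theorem homEps_homEta : homEps F U ≫ homEta i hi = 𝟙 _ := by
  apply HomologicalComplex.from_single_hom_ext
  simp [homEps, homEta, eps_eta]

/-- the homotopy components -/
noncomputable def hh : ∀ a b : ℕ, (K U F).X a ⟶ (K U F).X b := fun a b =>
  if e : b + 1 = a then eqToHom (by rw [e]) ≫ hq i hi b else 0

theorem hh_succ (b : ℕ) : hh (F := F) i hi (b + 1) b = hq i hi b := by
  simp [hh]

noncomputable def homotopy : Homotopy (𝟙 (K U F)) (homEta i hi ≫ homEps F U) where
  hom := hh i hi
  zero a b h := by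
    dsimp [hh]
    rw [dif_neg]
    exact h
  comm n := by
    cases n with
    | zero =>
      rw [Homotopy.dNext_cochainComplex, Homotopy.prevD_zero_cochainComplex, hh_succ, add_zero]
      refine ConcreteCategory.hom_ext _ _ (fun s => ?_)
      have := homotopy_zero i hi s
      have e1 : (homEta i hi ≫ homEps F U).f 0 = eta i hi ≫ eps := by simp [homEta, homEps]
      rw [e1]
      exact this
    | succ q =>
      rw [Homotopy.dNext_cochainComplex, Homotopy.prevD_succ_cochainComplex, hh_succ, hh_succ]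
      refine ConcreteCategory.hom_ext _ _ (fun s => ?_)
      have := homotopy_succ i hi q s
      have e1 : (homEta i hi ≫ homEps F U).f (q + 1) = 0 := by simp [homEta, homEps]
      rw [e1, add_zero]
      exact this

/-- If one member of the family is the whole union, the Čech complex is homotopy equivalent to
`F(⋃ U)` in degree `0`. -/
noncomputable def homotopyEquiv :
    HomotopyEquiv ((CochainComplex.single₀ AddCommGrpCat.{u}).obj (F.obj (op (iSup U))))
      (K U F) where
  hom := homEps F U
  inv := homEta i hi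
  homotopyHomInvId := Homotopy.ofEq (homEps_homEta i hi)
  homotopyInvHomId := (homotopy i hi).symm

end Groth.Agent.Lib.Helper18.CechContract
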