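import Mathlib.AlgebraicTopology.SimplicialObject.ChainHomotopy
import Mathlib.AlgebraicTopology.AlternatingFaceMapComplex

/-! helper18: a simplicial homotopy `H : Homotopy a b` (`a b : L ⟶ K` simplicial objects of `D`) induces, for a
contravariant functor `Φ : Dᵒᵖ ⥤ A` to a preadditive category, a cochain homotopy between the induced maps
of alternating coface map complexes (`cochainHtpy`), by `unop`-ing Mathlib's `Homotopy.toChainHomotopy`. -/

set_option autoImplicit false
universe v v' u u'
open CategoryTheory Opposite Simplicial AlgebraicTopology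

namespace Groth.Agent.Lib.Helper18.CosimpHomotopy

variable {D : Type u} [Category.{v} D] {A : Type u'} [Category.{v'} A] [Preadditive A]
  (Φ : Dᵒᵖ ⥤ A)

/-- the cosimplicial object obtained by evaluating a contravariant functor on a simplicial object -/
abbrev cosimp (K : SimplicialObject D) : CosimplicialObject A := K.rightOp ⋙ Φ

abbrev cosimpMap {K L : SimplicialObject D} (a : L ⟶ K) : cosimp Φ K ⟶ cosimp Φ L :=
  Functor.whiskerRight (NatTrans.rightOp a) Φ

variable {K L : SimplicialObject D} {a b : L ⟶ K} (H : SimplicialObject.Homotopy a b)

noncomputable def chainHtpy :=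
  (H.whiskerRight Φ.rightOp).toChainHomotopy

/-- components of the cochain homotopy -/
noncomputable def hom (i j : ℕ) :
    ((alternatingCofaceMapComplex A).obj (cosimp Φ K)).X i ⟶
      ((alternatingCofaceMapComplex A).obj (cosimp Φ L)).X j :=
  ((chainHtpy Φ H).hom j i).unop

theorem d_unop (K : SimplicialObject D) (n : ℕ) :
    (((alternatingFaceMapComplex Aᵒᵖ).obj
      (((SimplicialObject.whiskering D Aᵒᵖ).obj Φ.rightOp).obj K)).d (n + 1) n).unop =
    ((alternatingCofaceMapComplex A).obj (cosimp Φ K)).d n (n + 1) := by
  have key : (AlternatingFaceMapComplex.objD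
      (((SimplicialObject.whiskering D Aᵒᵖ).obj Φ.rightOp).obj K) n).unop =
      AlternatingCofaceMapComplex.objD (cosimp Φ K) n := by
    simp only [AlternatingFaceMapComplex.objD, AlternatingCofaceMapComplex.objD, unop_sum,
      unop_zsmul]
    rfl
  exact (congrArg Quiver.Hom.unop (alternatingFaceMapComplex_obj_d _ n)).trans
    (key.trans (CochainComplex.of_d (fun n => (cosimp Φ K).obj ⦋n⦌) (AlternatingCofaceMapComplex.objD (cosimp Φ K)) n).symm)

/-- A simplicial homotopy induces a cochain homotopy between the maps of alternating coface
map complexes obtained by evaluating a contravariant functor with values in a preadditive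
category. -/
noncomputable def cochainHtpy :
    Homotopy ((alternatingCofaceMapComplex A).map (cosimpMap Φ a))
      ((alternatingCofaceMapComplex A).map (cosimpMap Φ b)) where
  hom := hom Φ H
  zero i j hij := by
    dsimp [hom]
    rw [(chainHtpy Φ H).zero j i hij]
    rfl
  comm n := by
    cases n with
    | zero =>
      have h1 := (chainHtpy Φ H).comm 0
      rw [Homotopy.dNext_zero_chainComplex, Homotopy.prevD_chainComplex, zero_add] at h1
      rw [Homotopy.dNext_cochainComplex, Homotopy.prevD_zero_cochainComplex, add_zero]
      have h2 := congrArg Quiver.Hom.unop h1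
      rw [unop_add, unop_comp, d_unop] at h2
      exact h2
    | succ n =>
      have h1 := (chainHtpy Φ H).comm (n + 1)
      rw [Homotopy.dNext_succ_chainComplex, Homotopy.prevD_chainComplex] at h1
      rw [Homotopy.dNext_cochainComplex, Homotopy.prevD_succ_cochainComplex]
      have h2 := congrArg Quiver.Hom.unop h1
      rw [unop_add, unop_add, unop_comp, unop_comp, d_unop, d_unop] at h2
      rw [add_comm (_ ≫ _) (_ ≫ _)]
      exact h2

end Groth.Agent.Lib.Helper18.CosimpHomotopy
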