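import Mathlib
import Groth.Agent.Lib.Helper18.LSubImage
import Groth.Agent.Lib.Helper42.SymProjHom

/-!
# The degree-one part of a quasi-coherent graded algebra as a quasi-coherent module (helper18)

For a quasi-coherent graded algebra `𝒮` on `Y`, `DegOneMod.K1 𝒮` is the image of the degree-one
projection `𝒮 → 𝒮`, as a local family of submodules of `𝒮`; over an affine open its sections are
`𝒮_1(U)`.  `DegOneMod.E1 𝒮` is the corresponding quasi-coherent module, of finite type as soon as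
`𝒮.IsFTDeg 1`.
-/

set_option autoImplicit false
universe u
open CategoryTheory CategoryTheory.Limits AlgebraicGeometry Opposite TopologicalSpace
noncomputable section

namespace Groth.Agent.Lib.Helper18.DegOneMod

open Groth.Agent.Lib.Helper18.LSubM Groth.Agent.Lib.Helper18.SymQC Groth.Agent.Lib.Helper42.SymProjHom
  Groth.Agent.Lib.Helper49 Groth.Agent.Lib.Helper45 RelSpec

variable {Y : Scheme.{u}} (𝒮 : RelProj.QCGrAlg Y)

/-- the degree-one part, as a local family of submodules -/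
def K1 : LSub 𝒮.toModule := LSub.ofImage (projHom 𝒮 1)

theorem proj_eq_of_mem {U : Y.Opens} (t : Γ(𝒮.toModule, U)) (ht : t ∈ (K1 𝒮).obj U) :
    (projHom 𝒮 1).app U t = t := by
  apply eq_of_locally_eq
  intro x hx
  obtain ⟨D, hD, hxD, a, ha⟩ := ht x hx
  obtain ⟨_, ⟨D', hD'aff, rfl⟩, hxD', hD'D⟩ :=
    Y.isBasis_affineOpens.exists_subset_of_mem_open hxD D.2
  have hle : D' ≤ D := hD'D
  refine ⟨D', hle.trans hD, hxD', ?_⟩
  rw [← app_mres]
  have h1 : mres 𝒮.toModule (hle.trans hD) t = (projHom 𝒮 1).app D' (mres 𝒮.toModule hle a) := by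
    rw [app_mres, ha, mres_mres]
  have h2 : toSec 𝒮.toQCAlg D' (mres 𝒮.toModule (hle.trans hD) t) ∈ 𝒮.deg D' hD'aff 1 := by
    rw [h1]
    exact projHom_mem 𝒮 1 D' hD'aff _
  exact projHom_of_mem 𝒮 1 D' hD'aff _ h2

theorem mem_K1_iff {U : Y.Opens} (hU : IsAffineOpen U) (t : Γ(𝒮.toModule, U)) :
    t ∈ (K1 𝒮).obj U ↔ toSec 𝒮.toQCAlg U t ∈ 𝒮.deg U hU 1 := by
  constructor
  · intro ht
    rw [← proj_eq_of_mem 𝒮 t ht]
    exact projHom_mem 𝒮 1 U hU t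
  · intro ht
    have h1 : (projHom 𝒮 1).app U t = t := projHom_of_mem 𝒮 1 U hU _ ht
    rw [← h1]
    exact LSub.app_mem_ofImage (projHom 𝒮 1) U t

/-- the degree-one part as an `O_Y`-module -/
def E1 : Y.Modules := (K1 𝒮).toModules

/-- the inclusion of the degree-one part -/
def u1 : E1 𝒮 ⟶ 𝒮.toModule := (K1 𝒮).ι

instance : Mono (u1 𝒮) := inferInstanceAs (Mono (K1 𝒮).ι)

instance : (𝒮.toModule).IsQuasicoherent := inferInstance

theorem isQuasicoherent_E1 : (E1 𝒮).IsQuasicoherent :=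
  LSub.ofImage_isQuasicoherent (projHom 𝒮 1)

theorem u1_mem (U : Y.Opens) (hU : IsAffineOpen U) (x : Γ(E1 𝒮, U)) :
    toSec 𝒮.toQCAlg U ((u1 𝒮).app U x) ∈ 𝒮.deg U hU 1 :=
  (mem_K1_iff 𝒮 hU _).mp ((K1 𝒮).ι_app_mem U x)

theorem u1_surj (U : Y.Opens) (hU : IsAffineOpen U) (s : 𝒮.presheaf.obj (op U))
    (hs : s ∈ 𝒮.deg U hU 1) : ∃ x : Γ(E1 𝒮, U), (u1 𝒮).app U x = ofSec 𝒮.toQCAlg U s := by
  have hmem : ofSec 𝒮.toQCAlg U s ∈ (K1 𝒮).obj U := (mem_K1_iff 𝒮 hU _).mpr hs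
  exact ⟨(K1 𝒮).sec U _ hmem, (K1 𝒮).ι_app_sec U _ hmem⟩

theorem fg_K1 (hft : 𝒮.IsFTDeg 1) (U : Y.Opens) (hU : IsAffineOpen U) : ((K1 𝒮).obj U).FG := by
  classical
  obtain ⟨T, hT, hgen⟩ := hft U hU
  refine ⟨T.image (ofSec 𝒮.toQCAlg U), le_antisymm ?_ ?_⟩
  · rw [Submodule.span_le]
    intro t ht
    rw [Finset.coe_image] at ht
    obtain ⟨t', ht', rfl⟩ := ht
    exact (mem_K1_iff 𝒮 hU _).mpr (hT ht')
  · intro x hx
    obtain ⟨c, hc⟩ := hgen _ ((mem_K1_iff 𝒮 hU x).mp hx)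
    have hx' : x = ∑ t ∈ T, c t • ofSec 𝒮.toQCAlg U t := by
      have h0 : toSec 𝒮.toQCAlg U (∑ t ∈ T, c t • ofSec 𝒮.toQCAlg U t) =
          ∑ t ∈ T, (𝒮.str.app (op U)).hom (c t) * t := by
        change (∑ t ∈ T, c t • ofSec 𝒮.toQCAlg U t : Γ(𝒮.toModule, U)) = _
        rfl
      exact hc.trans h0.symm
    rw [hx']
    refine Submodule.sum_mem _ fun t ht => Submodule.smul_mem _ _ (Submodule.subset_span ?_)
    rw [Finset.coe_image]
    exact ⟨t, ht, rfl⟩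

theorem isQFT_K1 (hft : 𝒮.IsFTDeg 1) : (K1 𝒮).IsQFT := by
  intro T hT
  have : (K1 𝒮).toModules.IsQuasicoherent := isQuasicoherent_E1 𝒮
  exact ⟨(K1 𝒮).good_of_isLocalizingOn (isLocalizingOn_of_isQuasicoherent hT 𝒮.toModule)
      (isLocalizingOn_of_isQuasicoherent hT (K1 𝒮).toModules), fg_K1 𝒮 hft T hT⟩

theorem isFiniteType_E1 (hft : 𝒮.IsFTDeg 1) :
    SheafOfModules.IsFiniteType (R := Y.ringCatSheaf) (E1 𝒮) :=
  (isQFT_K1 𝒮 hft).isFiniteType

end Groth.Agent.Lib.Helper18.DegOneMod
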