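import Mathlib
import Groth.Prelude.Def_RelSpec2
import Groth.Agent.Lib.Helper42.DirImgColim
import Groth.Agent.Lib.Helper42.QCohAffineSections
import Groth.Agent.Lib.Helper45.NowhereDense
import Groth.Agent.Lib.Helper49.QCohLocal
import Groth.Agent.Lib.Helper49.QcqsModules
import Groth.Agent.Lib.Helper49.UnitChart
import Groth.Agent.Lib.Helper16.FlatPull.Chart

/-!
# Essential surjectivity of the direct image along an affine morphism (helper18)

Every module over `f_* O_X` which is quasi-coherent over `O_S` is the direct image of a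
quasi-coherent `O_X`-module.
-/

set_option autoImplicit false
set_option linter.style.haveILetI false
universe u
open CategoryTheory CategoryTheory.Limits AlgebraicGeometry TopologicalSpace Opposite
open Groth.Agent.Lib.Helper49 Groth.Agent.Lib.Helper49.ModGlue Groth.Agent.Lib.Helper42.DirImgFull
  Groth.Agent.Lib.Helper42 Groth.Agent.Lib.Helper42.DirImgColim Groth.Agent.Lib.Helper49.UnitChart

namespace Groth.Agent.Lib.Helper18.DirImgEss

attribute [local instance] instCategoryAMod
attribute [local instance] moduleB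

variable {X S : Scheme.{u}} (f : X ⟶ S) [IsAffineHom f]
  (M : AMod (RelSpec.QCAlg.directImage f))

section action

variable [(under f M).IsQuasicoherent]

/-- the inverse image on `X` of the underlying `O_S`-module -/
noncomputable abbrev PP : X.Modules := (Scheme.Modules.pullback f).obj (under f M)

/-- the local action maps `Γ(f^* N, f⁻¹ V) = B(V) ⊗ N(V) → M(V)`, `b ⊗ n ↦ b • n` -/
theorem exists_actApp (V : S.affineOpens) :
    ∃ a : Γ(PP f M, f ⁻¹ᵁ V.1) →+ Γ(under f M, V.1),
      (∀ (b : Γ(X, f ⁻¹ᵁ V.1)) (n : Γ(PP f M, f ⁻¹ᵁ V.1)), a (b • n) = b • a n) ∧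
      (∀ x : Γ(under f M, V.1), a (pullSLE f (under f M) V.1 (f ⁻¹ᵁ V.1) le_rfl x) = x) := by
  have hW : IsAffineOpen (f ⁻¹ᵁ V.1) := V.2.preimage f
  letI := (f.appLE V.1 (f ⁻¹ᵁ V.1) le_rfl).hom.toAlgebra
  letI : Module Γ(S, V.1) Γ(PP f M, f ⁻¹ᵁ V.1) :=
    Module.compHom _ (f.appLE V.1 (f ⁻¹ᵁ V.1) le_rfl).hom
  haveI : IsScalarTower Γ(S, V.1) Γ(X, f ⁻¹ᵁ V.1) Γ(PP f M, f ⁻¹ᵁ V.1) :=
    IsScalarTower.of_compHom _ _ _
  obtain ⟨ψ, hψ1, hψ2⟩ := exists_isBaseChange_pullSLE f V.2 hW le_rfl (under f M)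
  haveI : IsScalarTower Γ(S, V.1) Γ(X, f ⁻¹ᵁ V.1) Γ(under f M, V.1) :=
    IsScalarTower.of_algebraMap_smul fun r t => by
      change (f.appLE V.1 (f ⁻¹ᵁ V.1) le_rfl).hom r • t = r • t
      rw [Scheme.Hom.appLE_eq_app]
      rfl
  let a := hψ2.lift (LinearMap.id : Γ(under f M, V.1) →ₗ[Γ(S, V.1)] Γ(under f M, V.1))
  refine ⟨a.toAddMonoidHom, fun b n => a.map_smul b n, fun x => ?_⟩
  have h1 := hψ2.lift_eq (LinearMap.id : Γ(under f M, V.1) →ₗ[Γ(S, V.1)] Γ(under f M, V.1)) x
  rw [hψ1] at h1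
  exact h1

end action

section induction

/-- sections of an inverse image over the preimage of an affine open are generated by the
inverse images of sections -/
theorem pull_induction (N : S.Modules) [N.IsQuasicoherent] (V : S.affineOpens)
    (P : Γ((Scheme.Modules.pullback f).obj N, f ⁻¹ᵁ V.1) → Prop) (h0 : P 0)
    (hadd : ∀ a b, P a → P b → P (a + b))
    (hsmul : ∀ (b : Γ(X, f ⁻¹ᵁ V.1)) (x : Γ(N, V.1)),
      P (b • pullSLE f N V.1 (f ⁻¹ᵁ V.1) le_rfl x)) :
    ∀ n, P n := by
  have hW : IsAffineOpen (f ⁻¹ᵁ V.1) := V.2.preimage f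
  letI := (f.appLE V.1 (f ⁻¹ᵁ V.1) le_rfl).hom.toAlgebra
  letI : Module Γ(S, V.1) Γ((Scheme.Modules.pullback f).obj N, f ⁻¹ᵁ V.1) :=
    Module.compHom _ (f.appLE V.1 (f ⁻¹ᵁ V.1) le_rfl).hom
  haveI : IsScalarTower Γ(S, V.1) Γ(X, f ⁻¹ᵁ V.1)
      Γ((Scheme.Modules.pullback f).obj N, f ⁻¹ᵁ V.1) :=
    IsScalarTower.of_compHom _ _ _
  obtain ⟨ψ, hψ1, hψ2⟩ := exists_isBaseChange_pullSLE f V.2 hW le_rfl N
  intro n
  obtain ⟨t, rfl⟩ := hψ2.equiv.surjective n
  induction t using TensorProduct.induction_on with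
  | zero => rw [map_zero]; exact h0
  | tmul b x =>
    rw [hψ2.equiv_tmul, hψ1]
    exact hsmul b x
  | add t₁ t₂ h₁ h₂ =>
    rw [map_add]
    exact hadd _ _ h₁ h₂

omit [IsAffineHom f] in
theorem pullSLE_self (N : S.Modules) (V : S.Opens) (x : Γ(N, V)) :
    pullSLE f N V (f ⁻¹ᵁ V) le_rfl x =
      (((Scheme.Modules.pullbackPushforwardAdjunction f).unit.app N).app V).hom x := by
  unfold pullSLE
  exact res_self _ _

end induction

section actHom

variable [(under f M).IsQuasicoherent]

/-- the local action maps -/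
noncomputable def act (V : S.affineOpens) : Γ(PP f M, f ⁻¹ᵁ V.1) →+ Γ(under f M, V.1) :=
  (exists_actApp f M V).choose

theorem act_smul (V : S.affineOpens) (b : Γ(X, f ⁻¹ᵁ V.1)) (n : Γ(PP f M, f ⁻¹ᵁ V.1)) :
    act f M V (b • n) = b • act f M V n :=
  (exists_actApp f M V).choose_spec.1 b n

theorem act_pull (V : S.affineOpens) (x : Γ(under f M, V.1)) :
    act f M V (pullSLE f (under f M) V.1 (f ⁻¹ᵁ V.1) le_rfl x) = x :=
  (exists_actApp f M V).choose_spec.2 x

theorem act_nat (V V' : S.affineOpens) (h : V'.1 ≤ V.1) (n : Γ(PP f M, f ⁻¹ᵁ V.1)) :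
    act f M V' (res (PP f M) (f.preimage_mono h) n) = res (under f M) h (act f M V n) := by
  revert n
  refine pull_induction f (under f M) V _ ?_ ?_ ?_
  · rw [map_zero, map_zero, map_zero, map_zero]
  · intro a b ha hb
    rw [map_add, map_add, map_add, map_add, ha, hb]
  · intro b x
    rw [res_smul, act_smul, act_smul, act_pull, res_smulB]
    congr 1
    have h1 : res (PP f M) (f.preimage_mono h) (pullSLE f (under f M) V.1 (f ⁻¹ᵁ V.1) le_rfl x) =
        pullSLE f (under f M) V.1 (f ⁻¹ᵁ V'.1) (f.preimage_mono h) x :=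
      mres_pullSLE f (under f M) V.1 le_rfl (f.preimage_mono h) x
    have h2 : pullSLE f (under f M) V'.1 (f ⁻¹ᵁ V'.1) le_rfl (res (under f M) h x) =
        pullSLE f (under f M) V.1 (f ⁻¹ᵁ V'.1) (f.preimage_mono h) x :=
      pullSLE_mres f (under f M) h (f ⁻¹ᵁ V'.1) le_rfl x
    rw [h1, ← h2, act_pull]

/-- the action map `f_* f^* N → M` as local data -/
noncomputable def actHom : AffHom f (PP f M) M where
  app := act f M
  smul := act_smul f M
  nat := act_nat f M

/-- the action map `ε : f_* f^* N → M` -/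
noncomputable def eps : (AMod.dirImg f).obj (PP f M) ⟶ M := (actHom f M).glue

theorem appB_eps (V : S.affineOpens) (n : Γ(PP f M, f ⁻¹ᵁ V.1)) :
    appB f (eps f M) V.1 n = act f M V n :=
  (actHom f M).appB_glue V n

/-- `ε` as a map of `O_S`-modules -/
noncomputable def aa : (Scheme.Modules.pushforward f).obj (PP f M) ⟶ under f M :=
  (AMod.toOS _).map (eps f M)

theorem aa_app (V : S.affineOpens) (n : Γ(PP f M, f ⁻¹ᵁ V.1)) :
    (aa f M).app V.1 n = act f M V n :=
  appB_eps f M V n

end actHom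

section construct

variable [hN : (under f M).IsQuasicoherent]

/-- the kernel of the action map -/
noncomputable abbrev KK : S.Modules := kernel (aa f M)

/-- its inclusion -/
noncomputable abbrev kap : KK f M ⟶ (Scheme.Modules.pushforward f).obj (PP f M) := kernel.ι (aa f M)

theorem isQuasicoherent_PP : (PP f M).IsQuasicoherent :=
  Groth.Agent.Lib.Helper16.FlatPull.isQuasicoherent_pullback f (under f M)

theorem isQuasicoherent_push_PP : ((Scheme.Modules.pushforward f).obj (PP f M)).IsQuasicoherent :=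
  haveI := isQuasicoherent_PP f M
  isQuasicoherent_pushforward (f := f) (F := PP f M)

instance isQuasicoherent_KK : (KK f M).IsQuasicoherent :=
  isQuasicoherent_kernel (aa f M) (isQuasicoherent_push_PP f M) hN

/-- the adjoint `f^* K → f^* N` of the inclusion of the kernel -/
noncomputable def phi : (Scheme.Modules.pullback f).obj (KK f M) ⟶ PP f M :=
  ((Scheme.Modules.pullbackPushforwardAdjunction f).homEquiv (KK f M) (PP f M)).symm (kap f M)

theorem phi_pull (V : S.Opens) (k : Γ(KK f M, V)) :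
    (phi f M).app (f ⁻¹ᵁ V) (pullSLE f (KK f M) V (f ⁻¹ᵁ V) le_rfl k) = (kap f M).app V k := by
  rw [pullSLE_self]
  have h1 : (Scheme.Modules.pullbackPushforwardAdjunction f).unit.app (KK f M) ≫
      (Scheme.Modules.pushforward f).map (phi f M) = kap f M := by
    have h2 := (Scheme.Modules.pullbackPushforwardAdjunction f).homEquiv_unit
      (X := KK f M) (Y := PP f M) (f := phi f M)
    rw [← h2]
    unfold phi
    rw [Equiv.apply_symm_apply]
  exact congrArg (fun ψ => (ψ.app V).hom k) h1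

/-- the quasi-coherent module on `X` -/
noncomputable abbrev FF : X.Modules := cokernel (phi f M)

/-- the projection -/
noncomputable abbrev ppi : PP f M ⟶ FF f M := cokernel.π (phi f M)

instance isQuasicoherent_pullKK : ((Scheme.Modules.pullback f).obj (KK f M)).IsQuasicoherent :=
  Groth.Agent.Lib.Helper16.FlatPull.isQuasicoherent_pullback f (KK f M)

theorem isQuasicoherent_FF : (FF f M).IsQuasicoherent :=
  isQuasicoherent_cokernel (phi f M) inferInstance (isQuasicoherent_PP f M)

/-- the action map kills the image of `φ` -/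
theorem act_phi (V : S.affineOpens)
    (m : Γ((Scheme.Modules.pullback f).obj (KK f M), f ⁻¹ᵁ V.1)) :
    act f M V ((phi f M).app (f ⁻¹ᵁ V.1) m) = 0 := by
  revert m
  refine pull_induction f (KK f M) V _ ?_ ?_ ?_
  · rw [map_zero, map_zero]
  · intro a b ha hb
    rw [map_add, map_add, ha, hb, add_zero]
  · intro b k
    rw [Scheme.Modules.Hom.app_smul, act_smul, phi_pull, ← aa_app]
    have h1 : (kap f M ≫ aa f M) = 0 := kernel.condition (aa f M)
    have h2 : (aa f M).app V.1 ((kap f M).app V.1 k) = 0 :=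
      congrArg (fun ψ => (ψ.app V.1).hom k) h1
    rw [h2, smul_zero]

/-- exactness of `f^* K → f^* N → F → 0` on affine sections -/
theorem exists_phi_eq_of_ppi_eq_zero {W : X.Opens} (hW : IsAffineOpen W) (n : Γ(PP f M, W))
    (hn : (ppi f M).app W n = 0) :
    ∃ m, (phi f M).app W m = n := by
  haveI := isQuasicoherent_PP f M
  haveI : (Abelian.image (phi f M)).IsQuasicoherent :=
    isQuasicoherent_kernel (cokernel.π (phi f M)) (isQuasicoherent_PP f M) (isQuasicoherent_FF f M)
  obtain ⟨i, hi⟩ := (Groth.Agent.Lib.Helper45.NowhereDense.app_exact_kernel (ppi f M) W n).mp hn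
  obtain ⟨m, hm⟩ := Groth.Agent.Lib.Helper42.app_surjective_of_epi
    (Abelian.factorThruImage (phi f M)) hW i
  refine ⟨m, ?_⟩
  have h1 : Abelian.factorThruImage (phi f M) ≫ Abelian.image.ι (phi f M) = phi f M :=
    Abelian.image.fac (phi f M)
  have h2 : (phi f M).app W m =
      (Abelian.image.ι (phi f M)).app W ((Abelian.factorThruImage (phi f M)).app W m) :=
    (congrArg (fun ψ => (ψ.app W).hom m) h1).symm
  rw [h2, hm]
  exact hi

end construct

section delta

variable [hN : (under f M).IsQuasicoherent]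

theorem ppi_surjective (V : S.affineOpens) :
    Function.Surjective ((ppi f M).app (f ⁻¹ᵁ V.1)) := by
  haveI := isQuasicoherent_PP f M
  haveI := isQuasicoherent_FF f M
  exact Groth.Agent.Lib.Helper42.app_surjective_of_epi (ppi f M) (V.2.preimage f)

/-- `act` factors through `π` -/
theorem act_eq_of_ppi_eq (V : S.affineOpens) (n n' : Γ(PP f M, f ⁻¹ᵁ V.1))
    (h : (ppi f M).app (f ⁻¹ᵁ V.1) n = (ppi f M).app (f ⁻¹ᵁ V.1) n') :
    act f M V n = act f M V n' := by
  have h0 : (ppi f M).app (f ⁻¹ᵁ V.1) (n - n') = 0 := by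
    rw [map_sub, h, sub_self]
  obtain ⟨m, hm⟩ := exists_phi_eq_of_ppi_eq_zero f M (V.2.preimage f) (n - n') h0
  have h1 : act f M V (n - n') = 0 := by rw [← hm, act_phi]
  rw [map_sub, sub_eq_zero] at h1
  exact h1

/-- the induced maps `Γ(F, f⁻¹ V) → M(V)` -/
noncomputable def dApp (V : S.affineOpens) (y : Γ(FF f M, f ⁻¹ᵁ V.1)) : Γ(under f M, V.1) :=
  act f M V (Function.surjInv (ppi_surjective f M V) y)

theorem dApp_ppi (V : S.affineOpens) (n : Γ(PP f M, f ⁻¹ᵁ V.1)) :
    dApp f M V ((ppi f M).app (f ⁻¹ᵁ V.1) n) = act f M V n :=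
  act_eq_of_ppi_eq f M V _ _ (Function.surjInv_eq (ppi_surjective f M V) _)

/-- the induced map `f_* F → M` as local data -/
noncomputable def delta : AffHom f (FF f M) M where
  app V :=
    { toFun := dApp f M V
      map_zero' := by
        have := dApp_ppi f M V 0
        rw [map_zero, map_zero] at this
        exact this
      map_add' := fun y y' => by
        obtain ⟨n, rfl⟩ := ppi_surjective f M V y
        obtain ⟨n', rfl⟩ := ppi_surjective f M V y'
        rw [← map_add, dApp_ppi, dApp_ppi, dApp_ppi, map_add] }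
  smul V b y := by
    obtain ⟨n, rfl⟩ := ppi_surjective f M V y
    show dApp f M V _ = b • dApp f M V _
    rw [← Scheme.Modules.Hom.app_smul, dApp_ppi, dApp_ppi, act_smul]
  nat V V' h y := by
    obtain ⟨n, rfl⟩ := ppi_surjective f M V y
    show dApp f M V' _ = res _ h (dApp f M V _)
    have h1 : res (FF f M) (f.preimage_mono h) ((ppi f M).app (f ⁻¹ᵁ V.1) n) =
        (ppi f M).app (f ⁻¹ᵁ V'.1) (res (PP f M) (f.preimage_mono h) n) :=
      (app_res (ppi f M) (f.preimage_mono h) n).symm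
    rw [h1, dApp_ppi, dApp_ppi, act_nat]

/-- the comparison map `f_* F → M` -/
noncomputable def gg : (AMod.dirImg f).obj (FF f M) ⟶ M := (delta f M).glue

theorem appB_gg (V : S.affineOpens) (n : Γ(PP f M, f ⁻¹ᵁ V.1)) :
    appB f (gg f M) V.1 ((ppi f M).app (f ⁻¹ᵁ V.1) n) = act f M V n :=
  ((delta f M).appB_glue V _).trans (dApp_ppi f M V n)

theorem appB_gg_surjective (V : S.affineOpens) : Function.Surjective (appB f (gg f M) V.1) := by
  intro x
  exact ⟨_, (appB_gg f M V _).trans (act_pull f M V x)⟩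

theorem appB_gg_injective (V : S.affineOpens) : Function.Injective (appB f (gg f M) V.1) := by
  rw [injective_iff_map_eq_zero]
  intro y hy
  obtain ⟨n, rfl⟩ := ppi_surjective f M V y
  rw [appB_gg, ← aa_app] at hy
  haveI := isQuasicoherent_push_PP f M
  obtain ⟨k, hk⟩ :=
    (Groth.Agent.Lib.Helper45.NowhereDense.app_exact_kernel (aa f M) V.1 n).mp hy
  have h1 : (phi f M).app (f ⁻¹ᵁ V.1) (pullSLE f (KK f M) V.1 (f ⁻¹ᵁ V.1) le_rfl k) = n :=
    (phi_pull f M V.1 k).trans hk
  rw [← h1]
  have h2 : phi f M ≫ ppi f M = 0 := cokernel.condition (phi f M)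
  exact congrArg (fun ψ => (ψ.app (f ⁻¹ᵁ V.1)).hom
    (pullSLE f (KK f M) V.1 (f ⁻¹ᵁ V.1) le_rfl k)) h2

end delta

section iso

variable [hN : (under f M).IsQuasicoherent]

theorem isIso_toOS_gg : IsIso ((AMod.toOS _).map (gg f M)) := by
  haveI := isQuasicoherent_FF f M
  haveI : ((AMod.toOS (RelSpec.QCAlg.directImage f)).obj
      ((AMod.dirImg f).obj (FF f M))).IsQuasicoherent :=
    isQuasicoherent_pushforward (f := f) (F := FF f M)
  refine Groth.Agent.Lib.Helper42.isIso_of_app_bijective_of_cover _ (fun x => ?_)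
  obtain ⟨V, hV, hxV, -⟩ := Opens.isBasis_iff_nbhd.mp S.isBasis_affineOpens
    (show x ∈ (⊤ : S.Opens) from trivial)
  exact ⟨V, hV, hxV, appB_gg_injective f M ⟨V, hV⟩, appB_gg_surjective f M ⟨V, hV⟩⟩

theorem isIso_gg : IsIso (gg f M) := by
  haveI := isIso_toOS_gg f M
  have h1 : IsIso ((Scheme.Modules.toPresheaf S).map
      ((AMod.toOS (RelSpec.QCAlg.directImage f)).map (gg f M))) := inferInstance
  have h2 : IsIso ((SheafOfModules.forget (AMod.ringSheaf (RelSpec.QCAlg.directImage f)) ⋙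
      PresheafOfModules.toPresheaf _).map (gg f M)) := h1
  exact isIso_of_reflects_iso (gg f M)
    (SheafOfModules.forget (AMod.ringSheaf (RelSpec.QCAlg.directImage f)) ⋙
      PresheafOfModules.toPresheaf _)

/-- Every module over `f_* O_X` which is quasi-coherent over `O_S` is the direct image of a
quasi-coherent module on `X`. -/
theorem exists_isQuasicoherent_dirImg_iso :
    ∃ F : X.Modules, F.IsQuasicoherent ∧ Nonempty ((AMod.dirImg f).obj F ≅ M) :=
  haveI := isIso_gg f M
  ⟨FF f M, isQuasicoherent_FF f M, ⟨asIso (gg f M)⟩⟩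

end iso

end Groth.Agent.Lib.Helper18.DirImgEss
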