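import Mathlib

/-!
# Directed colimits of quotients in an abelian category

Let `ε : P ⟶ F` be an epimorphism in an abelian category and `m j : A j ⟶ P` a directed family of
maps killed by `ε`, which exhausts the kernel of `ε` (any map out of `P` killing all `m j` kills
`ker ε`). Then `F` is the colimit of the quotients `coker (m j)`, with epimorphic transition maps.
-/
set_option autoImplicit false
universe v u w
open CategoryTheory CategoryTheory.Limits

namespace Groth.Agent.Lib.Helper18.DirQuot

variable {C : Type u} [Category.{v} C] [Abelian C] {J : Type w} [PartialOrder J]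
  {P F : C} (ε : P ⟶ F) {A : J → C} (m : ∀ j, A j ⟶ P)
  (hfac : ∀ j j', j ≤ j' → ∃ f : A j ⟶ A j', f ≫ m j' = m j)

include hfac in
theorem comp_π_eq_zero {j j' : J} (h : j ≤ j') : m j ≫ cokernel.π (m j') = 0 := by
  obtain ⟨g, hg⟩ := hfac j j' h
  rw [← hg, Category.assoc, cokernel.condition, comp_zero]

/-- The transition map `P / A j ⟶ P / A j'`. -/
noncomputable def trans {j j' : J} (h : j ≤ j') : cokernel (m j) ⟶ cokernel (m j') :=
  cokernel.desc (m j) (cokernel.π (m j')) (comp_π_eq_zero m hfac h)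

@[reassoc (attr := simp)]
theorem π_trans {j j' : J} (h : j ≤ j') :
    cokernel.π (m j) ≫ trans m hfac h = cokernel.π (m j') := cokernel.π_desc _ _ _

instance {j j' : J} (h : j ≤ j') : Epi (trans m hfac h) :=
  epi_of_epi_fac (π_trans m hfac h)

/-- The diagram of quotients `P / A j`. -/
noncomputable def D : J ⥤ C where
  obj j := cokernel (m j)
  map {j j'} f := trans m hfac (leOfHom f)
  map_id j := by
    rw [← cancel_epi (cokernel.π (m j)), π_trans, Category.comp_id]
  map_comp {j j' j''} f g := by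
    rw [← cancel_epi (cokernel.π (m j)), π_trans, π_trans_assoc, π_trans]

variable (hm : ∀ j, m j ≫ ε = 0)

/-- The leg `P / A j ⟶ F`. -/
noncomputable def leg (j : J) : cokernel (m j) ⟶ F := cokernel.desc (m j) ε (hm j)

@[reassoc (attr := simp)]
theorem π_leg (j : J) : cokernel.π (m j) ≫ leg ε m hm j = ε := cokernel.π_desc _ _ _

/-- The cocone of the quotients `P / A j` over `F`. -/
noncomputable def ι : D m hfac ⟶ (Functor.const J).obj F where
  app j := leg ε m hm j
  naturality {j j'} f := by
    change trans m hfac (leOfHom f) ≫ leg ε m hm j' = leg ε m hm j ≫ 𝟙 F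
    rw [← cancel_epi (cokernel.π (m j)), π_trans_assoc, π_leg, π_leg_assoc, Category.comp_id]

variable [IsDirected J (· ≤ ·)] [Nonempty J] [Epi ε]
  (hex : ∀ (T : C) (h : P ⟶ T), (∀ j, m j ≫ h = 0) → kernel.ι ε ≫ h = 0)

include hex in
theorem exists_desc {T : C} (t : ∀ j, cokernel (m j) ⟶ T)
    (ht : ∀ (j j' : J) (h : j ≤ j'), trans m hfac h ≫ t j' = t j) :
    ∃ d : F ⟶ T, ∀ j, leg ε m hm j ≫ d = t j := by
  classical
  let j₀ : J := Classical.arbitrary J
  have hind : ∀ j j' : J, cokernel.π (m j) ≫ t j = cokernel.π (m j') ≫ t j' := by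
    intro j j'
    obtain ⟨k, hjk, hj'k⟩ := exists_ge_ge j j'
    rw [← ht j k hjk, ← ht j' k hj'k, π_trans_assoc, π_trans_assoc]
  have hkill : kernel.ι ε ≫ (cokernel.π (m j₀) ≫ t j₀) = 0 := by
    refine hex _ _ fun j => ?_
    rw [hind j₀ j, cokernel.condition_assoc, zero_comp]
  refine ⟨Abelian.epiDesc ε (cokernel.π (m j₀) ≫ t j₀) hkill, fun j => ?_⟩
  rw [← cancel_epi (cokernel.π (m j)), π_leg_assoc, Abelian.comp_epiDesc, hind j₀ j]

include hex in
theorem nonempty_isColimit : Nonempty (IsColimit (Cocone.mk F (ι ε m hfac hm))) := by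
  classical
  have key : ∀ s : Cocone (D m hfac), ∃ d : F ⟶ s.pt, ∀ j, leg ε m hm j ≫ d = s.ι.app j :=
    fun s => exists_desc ε m hfac hm hex (fun j => s.ι.app j)
      (fun j j' h => s.w (homOfLE h))
  choose d hd using key
  refine ⟨{ desc := d
            fac := fun s j => hd s j
            uniq := fun s m' hm' => ?_ }⟩
  let j₀ : J := Classical.arbitrary J
  have h1 : leg ε m hm j₀ ≫ m' = s.ι.app j₀ := hm' j₀
  have h2 : leg ε m hm j₀ ≫ d s = s.ι.app j₀ := hd s j₀
  rw [← cancel_epi ε, ← π_leg ε m hm j₀, Category.assoc, Category.assoc, h1, h2]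

end Groth.Agent.Lib.Helper18.DirQuot
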