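import Mathlib
import Groth.Agent.Lib.Helper18.FPQuot
import Groth.Agent.Lib.Helper1.PushSupport

/-!
# Finite biproducts of finitely presented `O_X`-modules

`isFinitePresentation_biproduct`: a finite biproduct of finitely presented modules is finitely
presented.
-/
set_option autoImplicit false
universe u
open CategoryTheory CategoryTheory.Limits AlgebraicGeometry TopologicalSpace Opposite

namespace Groth.Agent.Lib.Helper18.FPM

open Groth.Agent.Lib.Helper49

variable {X : Scheme.{u}}

attribute [local instance] CategoryTheory.Abelian.hasFiniteBiproducts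

theorem isFinitePresentation_of_isZero (M : X.Modules) (h : IsZero M) :
    SheafOfModules.IsFinitePresentation (R := X.ringCatSheaf) M := by
  have hq : M.IsQuasicoherent := Groth.Agent.Lib.Helper1.isQuasicoherent_of_isZero M h
  refine isFinitePresentation_of_finitePresentation_sections M fun U => ?_
  have hsub : Subsingleton Γ(M, U.1) := by
    refine ⟨fun a b => ?_⟩
    have h0 : (𝟙 M : M ⟶ M) = 0 := (IsZero.iff_id_eq_zero M).mp h
    have ha : a = (𝟙 M : M ⟶ M).app U.1 a := rfl
    have hb : b = (𝟙 M : M ⟶ M).app U.1 b := rfl
    rw [ha, hb, h0]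
    rfl
  infer_instance

/-- A coproduct indexed by `Fin n` of finitely presented modules is finitely presented. -/
theorem isFinitePresentation_sigma_fin : ∀ (n : ℕ) (f : Fin n → X.Modules),
    (∀ i, SheafOfModules.IsFinitePresentation (R := X.ringCatSheaf) (f i)) →
    SheafOfModules.IsFinitePresentation (R := X.ringCatSheaf) (∐ f : X.Modules) := by
  intro n
  induction n with
  | zero =>
    intro f _
    apply isFinitePresentation_of_isZero
    have : IsInitial (∐ f : X.Modules) := by
      refine IsInitial.ofUniqueHom (fun Y => Sigma.desc (fun i => Fin.elim0 i)) ?_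
      intro Y m
      apply Sigma.hom_ext
      intro i
      exact Fin.elim0 i
    exact (isZero_zero _).of_iso (this.uniqueUpToIso HasZeroObject.zeroIsInitial)
  | succ n ih =>
    intro f hf
    have h1 := ih (fun i : Fin n => f i.succ) (fun i => hf i.succ)
    have h2 := isFinitePresentation_biprod (hf 0) h1
    let c₁ : Cofan (fun i : Fin n => f i.succ) := Cofan.mk _ (Sigma.ι (fun i : Fin n => f i.succ))
    have t₁ : IsColimit c₁ := coproductIsCoproduct _
    let c₂ : BinaryCofan (f 0) c₁.pt := BinaryCofan.mk coprod.inl coprod.inr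
    have t₂ : IsColimit c₂ := coprodIsCoprod _ _
    have t := extendCofanIsColimit f t₁ t₂
    have e : (∐ f : X.Modules) ≅ (f 0 ⨿ ∐ (fun i : Fin n => f i.succ) : X.Modules) :=
      IsColimit.coconePointUniqueUpToIso (coproductIsCoproduct f) t
    exact isFinitePresentation_of_iso (e ≪≫ (biprod.isoCoprod _ _).symm).symm h2

/-- A finite biproduct of finitely presented modules is finitely presented. -/
theorem isFinitePresentation_biproduct {ι : Type u} [Finite ι] (f : ι → X.Modules)
    (hf : ∀ i, SheafOfModules.IsFinitePresentation (R := X.ringCatSheaf) (f i)) :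
    SheafOfModules.IsFinitePresentation (R := X.ringCatSheaf) (⨁ f : X.Modules) := by
  obtain ⟨n, ⟨e⟩⟩ := Finite.exists_equiv_fin ι
  have h1 := isFinitePresentation_sigma_fin n (f ∘ e.symm) (fun i => hf _)
  have e1 : (∐ (f ∘ e.symm) : X.Modules) ≅ ∐ f := Sigma.reindex e.symm f
  exact isFinitePresentation_of_iso (e1 ≪≫ (biproduct.isoCoproduct f).symm) h1

end Groth.Agent.Lib.Helper18.FPM
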