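import Mathlib
import Groth.Agent.Lib.Helper18.FPBiproduct
import Groth.Agent.Lib.Helper18.LSubImage
import Groth.Agent.Lib.Helper49.StalkColimit
import Groth.Agent.Lib.Helper49.StalkKerCoker

/-!
# Quasi-coherent modules on qcqs schemes as filtered colimits of finitely presented modules

`exists_filtered_fp_colimit` (Stacks 01PJ): on a quasi-compact quasi-separated scheme every
quasi-coherent module is a directed colimit of finitely presented modules.
-/
set_option autoImplicit false
universe u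
open CategoryTheory CategoryTheory.Limits AlgebraicGeometry TopologicalSpace Opposite

namespace Groth.Agent.Lib.Helper18.FPM

open Groth.Agent.Lib.Helper49 Groth.Agent.Lib.Helper45 Groth.Agent.Lib.Helper18.LSubM

variable {X : Scheme.{u}}

attribute [local instance] CategoryTheory.Abelian.hasFiniteBiproducts

/-- A germ killed by a morphism comes from the kernel. -/
theorem exists_stalk_kernel_of_stalkMap_eq_zero {A B : X.Modules} (φ : A ⟶ B) (x : X)
    (a : ↑(A.presheaf.stalk x)) (ha : (stalkMap φ x).hom a = 0) :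
    ∃ k : ↑((kernel φ).presheaf.stalk x), (stalkMap (kernel.ι φ) x).hom k = a := by
  have hS : (ShortComplex.mk (kernel.ι φ) (cokernel.π (kernel.ι φ))
      (cokernel.condition _)).ShortExact :=
    ⟨ShortComplex.exact_of_g_is_cokernel _ (cokernelIsCokernel _)⟩
  have hmono : Mono (Abelian.factorThruCoimage φ) := inferInstance
  have h1 : (stalkMap (cokernel.π (kernel.ι φ)) x).hom a = 0 := by
    apply stalkMap_injective_of_mono (Abelian.factorThruCoimage φ) x
    rw [map_zero, ← stalkMap_comp_apply']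
    have : cokernel.π (kernel.ι φ) ≫ Abelian.factorThruCoimage φ = φ := Abelian.coimage.fac φ
    rw [this, ha]
  exact (stalkMap_exact_of_shortExact _ hS x a).mp h1

namespace FPColim

variable {F : X.Modules} {I₀ : Type u} (P : I₀ → X.Modules) (p : ∀ i, P i ⟶ F)

/-- The finite sub-biproduct. -/
noncomputable def PS (S : Finset I₀) : X.Modules := ⨁ (fun i : S => P i.1)

/-- The map from the finite sub-biproduct. -/
noncomputable def pS (S : Finset I₀) : PS P S ⟶ F := biproduct.desc (fun i : S => p i.1)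

/-- Inclusion of sub-biproducts. -/
noncomputable def incl {S S' : Finset I₀} (h : S ⊆ S') : PS P S ⟶ PS P S' :=
  biproduct.desc (fun i : S => biproduct.ι (fun i' : S' => P i'.1) ⟨i.1, h i.2⟩)

/-- The inclusion of a summand. -/
noncomputable def inj {S : Finset I₀} (i : I₀) (hi : i ∈ S) : P i ⟶ PS P S :=
  biproduct.ι (fun i' : S => P i'.1) ⟨i, hi⟩

@[reassoc (attr := simp)]
theorem inj_pS {S : Finset I₀} (i : I₀) (hi : i ∈ S) : inj P i hi ≫ pS P p S = p i := by
  unfold inj pS PS
  rw [biproduct.ι_desc]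

@[reassoc (attr := simp)]
theorem incl_pS {S S' : Finset I₀} (h : S ⊆ S') : incl P h ≫ pS P p S' = pS P p S := by
  unfold incl pS PS
  apply biproduct.hom_ext'
  intro i
  rw [biproduct.ι_desc_assoc, biproduct.ι_desc, biproduct.ι_desc]

@[simp]
theorem incl_refl (S : Finset I₀) : incl P (Finset.Subset.refl S) = 𝟙 (PS P S) := by
  unfold incl PS
  apply biproduct.hom_ext'
  intro i
  rw [biproduct.ι_desc, Category.comp_id]

@[reassoc (attr := simp)]
theorem incl_trans {S S' S'' : Finset I₀} (h : S ⊆ S') (h' : S' ⊆ S'') :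
    incl P h ≫ incl P h' = incl P (h.trans h') := by
  unfold incl PS
  apply biproduct.hom_ext'
  intro i
  rw [biproduct.ι_desc_assoc, biproduct.ι_desc, biproduct.ι_desc]

/-- The kernel of the map from the finite sub-biproduct. -/
noncomputable def KS (S : Finset I₀) : X.Modules := kernel (pS P p S)

/-- The inclusion of the kernel. -/
noncomputable def kι (S : Finset I₀) : KS P p S ⟶ PS P S := kernel.ι (pS P p S)

instance (S : Finset I₀) : Mono (kι P p S) := by unfold kι; exact equalizer.ι_mono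

@[reassoc (attr := simp)]
theorem kι_pS (S : Finset I₀) : kι P p S ≫ pS P p S = 0 := kernel.condition _

/-- The transition maps of the kernels. -/
noncomputable def kinc {S S' : Finset I₀} (h : S ⊆ S') : KS P p S ⟶ KS P p S' :=
  kernel.lift (pS P p S') (kι P p S ≫ incl P h) (by rw [Category.assoc, incl_pS, kι_pS])

@[reassoc (attr := simp)]
theorem kinc_kι {S S' : Finset I₀} (h : S ⊆ S') :
    kinc P p h ≫ kι P p S' = kι P p S ≫ incl P h := kernel.lift_ι _ _ _

@[simp]
theorem kinc_refl (S : Finset I₀) : kinc P p (Finset.Subset.refl S) = 𝟙 (KS P p S) := by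
  rw [← cancel_mono (kι P p S), kinc_kι, incl_refl, Category.comp_id, Category.id_comp]

@[reassoc (attr := simp)]
theorem kinc_trans {S S' S'' : Finset I₀} (h : S ⊆ S') (h' : S' ⊆ S'') :
    kinc P p h ≫ kinc P p h' = kinc P p (h.trans h') := by
  rw [← cancel_mono (kι P p S''), Category.assoc, kinc_kι, kinc_kι_assoc, kinc_kι, incl_trans]

/-- The index type: finite sets of summands together with finite type quasi-coherent submodules
of relations. -/
def Idx : Type u := Σ S : Finset I₀, {T : LSub (KS P p S) // T.IsQFT}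

instance : Preorder (Idx P p) where
  le a b := ∃ h : a.1 ⊆ b.1, ∀ (U : X.Opens) (t : Γ(KS P p a.1, U)),
    t ∈ a.2.1.obj U → (kinc P p h).app U t ∈ b.2.1.obj U
  le_refl a := ⟨Finset.Subset.refl _, fun U t ht => by rw [kinc_refl]; exact ht⟩
  le_trans a b c := fun ⟨h, H⟩ ⟨h', H'⟩ => ⟨h.trans h', fun U t ht => by
    rw [← kinc_trans P p h h']
    exact H' U _ (H U t ht)⟩

variable {P p}

theorem Idx.subset {a b : Idx P p} (h : a ≤ b) : a.1 ⊆ b.1 := h.fst

theorem Idx.mem {a b : Idx P p} (h : a ≤ b) (U : X.Opens) (t : Γ(KS P p a.1, U))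
    (ht : t ∈ a.2.1.obj U) : (kinc P p (Idx.subset h)).app U t ∈ b.2.1.obj U := h.snd U t ht

/-- The relation map. -/
noncomputable def m (a : Idx P p) : a.2.1.toModules ⟶ PS P a.1 := a.2.1.ι ≫ kι P p a.1

instance (a : Idx P p) : Mono (m a) := by unfold m; infer_instance

@[reassoc (attr := simp)]
theorem m_pS (a : Idx P p) : m a ≫ pS P p a.1 = 0 := by
  simp [m]

theorem exists_fac {a b : Idx P p} (h : a ≤ b) :
    ∃ f : a.2.1.toModules ⟶ b.2.1.toModules, f ≫ m b = m a ≫ incl P (Idx.subset h) := by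
  obtain ⟨f, hf⟩ := exists_factor (a.2.1.ι ≫ kinc P p (Idx.subset h)) b.2.1.ι (fun W t y hy =>
    ⟨W, le_rfl, hy, b.2.1.sec W _ (Idx.mem h W _ (a.2.1.ι_app_mem W t)), by
      rw [LSub.ι_app_sec, mres_self]; rfl⟩)
  refine ⟨f, ?_⟩
  unfold m
  rw [← Category.assoc, hf, Category.assoc, Category.assoc, kinc_kι]

/-- The objects of the diagram. -/
noncomputable def Dobj (a : Idx P p) : X.Modules := cokernel (m a)

/-- The projection onto the objects of the diagram. -/
noncomputable def Dπ (a : Idx P p) : PS P a.1 ⟶ Dobj a := cokernel.π (m a)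

instance (a : Idx P p) : Epi (Dπ a) := by unfold Dπ; exact coequalizer.π_epi

@[reassoc (attr := simp)]
theorem m_Dπ (a : Idx P p) : m a ≫ Dπ a = 0 := cokernel.condition _

theorem m_incl_Dπ {a b : Idx P p} (h : a ≤ b) : m a ≫ incl P (Idx.subset h) ≫ Dπ b = 0 := by
  obtain ⟨f, hf⟩ := exists_fac h
  rw [← Category.assoc, ← hf, Category.assoc, m_Dπ, comp_zero]

/-- The transition maps of the diagram. -/
noncomputable def Dmap {a b : Idx P p} (h : a ≤ b) : Dobj a ⟶ Dobj b :=
  cokernel.desc (m a) (incl P (Idx.subset h) ≫ Dπ b) (m_incl_Dπ h)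

@[reassoc (attr := simp)]
theorem Dπ_Dmap {a b : Idx P p} (h : a ≤ b) : Dπ a ≫ Dmap h = incl P (Idx.subset h) ≫ Dπ b :=
  cokernel.π_desc _ _ _

/-- The cocone maps. -/
noncomputable def q (a : Idx P p) : Dobj a ⟶ F := cokernel.desc (m a) (pS P p a.1) (m_pS a)

@[reassoc (attr := simp)]
theorem Dπ_q (a : Idx P p) : Dπ a ≫ q a = pS P p a.1 := cokernel.π_desc _ _ _

@[reassoc (attr := simp)]
theorem Dmap_q {a b : Idx P p} (h : a ≤ b) : Dmap h ≫ q b = q a := by
  rw [← cancel_epi (Dπ a), Dπ_Dmap_assoc, Dπ_q, Dπ_q, incl_pS]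

variable (P p)

/-- The diagram. -/
noncomputable def D : Idx P p ⥤ X.Modules where
  obj a := Dobj a
  map f := Dmap (leOfHom f)
  map_id a := by
    rw [← cancel_epi (Dπ a), Dπ_Dmap, incl_refl, Category.id_comp, Category.comp_id]
  map_comp f g := by
    rw [← cancel_epi (Dπ _), Dπ_Dmap, Dπ_Dmap_assoc, Dπ_Dmap, incl_trans_assoc]

/-- The cocone. -/
noncomputable def cocone : Cocone (D P p) where
  pt := F
  ι := { app := fun a => q a
         naturality := fun a b f => by
          change Dmap (leOfHom f) ≫ q b = q a ≫ 𝟙 F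
          rw [Dmap_q, Category.comp_id] }

section Main

variable [CompactSpace X] [QuasiSeparatedSpace X] [F.IsQuasicoherent]
  (hP : ∀ i, SheafOfModules.IsFinitePresentation (R := X.ringCatSheaf) (P i))

include hP

omit [CompactSpace X] [QuasiSeparatedSpace X] in
theorem isFinitePresentation_PS (S : Finset I₀) :
    SheafOfModules.IsFinitePresentation (R := X.ringCatSheaf) (PS P S) :=
  isFinitePresentation_biproduct (fun i : S => P i.1) (fun i => hP i.1)

theorem isQuasicoherent_KS (S : Finset I₀) : (KS P p S).IsQuasicoherent :=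
  isQuasicoherent_kernel (pS P p S)
    (isQuasicoherent_of_isFinitePresentation (isFinitePresentation_PS P hP S)) inferInstance

theorem exists_isQFT (S : Finset I₀) : ∃ T : LSub (KS P p S), T.IsQFT := by
  have := isQuasicoherent_KS P p hP S
  obtain ⟨E, hE, -⟩ := exists_isQFT_through_section (F := KS P p S) (isAffineOpen_bot X) 0
  exact ⟨E, hE⟩

theorem nonempty_idx : Nonempty (Idx P p) := by
  obtain ⟨T, hT⟩ := exists_isQFT P p hP ∅
  exact ⟨⟨∅, ⟨T, hT⟩⟩⟩

theorem isFinitePresentation_Dobj (a : Idx P p) :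
    SheafOfModules.IsFinitePresentation (R := X.ringCatSheaf) (Dobj a) := by
  have := isQuasicoherent_KS P p hP a.1
  have hq : a.2.1.toModules.IsQuasicoherent := a.2.2.isQuasicoherent
  exact isFinitePresentation_cokernel_of_mono (m a) a.2.2.isFiniteType
    (isFinitePresentation_PS P hP a.1)

theorem isDirected_idx : IsDirected (Idx P p) (· ≤ ·) := by
  classical
  refine ⟨fun a b => ?_⟩
  have h₁ : a.1 ⊆ a.1 ∪ b.1 := Finset.subset_union_left
  have h₂ : b.1 ⊆ a.1 ∪ b.1 := Finset.subset_union_right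
  have := isQuasicoherent_KS P p hP (a.1 ∪ b.1)
  have hqa : a.2.1.toModules.IsQuasicoherent :=
    have := isQuasicoherent_KS P p hP a.1
    a.2.2.isQuasicoherent
  have hqb : b.2.1.toModules.IsQuasicoherent :=
    have := isQuasicoherent_KS P p hP b.1
    b.2.2.isQuasicoherent
  have hfa : SheafOfModules.IsFiniteType (R := X.ringCatSheaf) a.2.1.toModules :=
    have := isQuasicoherent_KS P p hP a.1
    a.2.2.isFiniteType
  have hfb : SheafOfModules.IsFiniteType (R := X.ringCatSheaf) b.2.1.toModules :=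
    have := isQuasicoherent_KS P p hP b.1
    b.2.2.isFiniteType
  let T₁ : LSub (KS P p (a.1 ∪ b.1)) := LSub.ofImage (a.2.1.ι ≫ kinc P p h₁)
  let T₂ : LSub (KS P p (a.1 ∪ b.1)) := LSub.ofImage (b.2.1.ι ≫ kinc P p h₂)
  have hT₁ : T₁.IsQFT := LSub.ofImage_isQFT hfa _
  have hT₂ : T₂.IsQFT := LSub.ofImage_isQFT hfb _
  refine ⟨⟨a.1 ∪ b.1, ⟨T₁.sup T₂, hT₁.sup hT₂⟩⟩, ⟨h₁, fun U t ht => ?_⟩, ⟨h₂, fun U t ht => ?_⟩⟩
  · apply LSub.le_sup_left T₁ T₂ U
    exact LSub.app_mem_ofImage (a.2.1.ι ≫ kinc P p h₁) U (a.2.1.sec U t ht)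
  · apply LSub.le_sup_right T₁ T₂ U
    exact LSub.app_mem_ofImage (b.2.1.ι ≫ kinc P p h₂) U (b.2.1.sec U t ht)

/-- The cocone is a colimit cocone as soon as the maps `p i` are jointly surjective on stalks. -/
theorem nonempty_isColimit_cocone
    (hsurj : ∀ (x : X) (e : ↑(F.presheaf.stalk x)), ∃ (i : I₀) (a : ↑((P i).presheaf.stalk x)),
      (stalkMap (p i) x).hom a = e) :
    Nonempty (IsColimit (cocone P p)) := by
  classical
  have hne := nonempty_idx P p hP
  have hdir := isDirected_idx P p hP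
  let c := colimit.cocone (D P p)
  have hc : IsColimit c := colimit.isColimit (D P p)
  let θ : colimit (D P p) ⟶ F := colimit.desc (D P p) (cocone P p)
  have hθ : ∀ j, colimit.ι (D P p) j ≫ θ = q j := fun j => colimit.ι_desc _ _
  have hiso : IsIso θ := by
    apply isIso_of_stalkMap_bijective
    intro x
    constructor
    · rw [injective_iff_map_eq_zero]
      intro z hz
      obtain ⟨j, (b : ↑((Dobj j).presheaf.stalk x)), hb⟩ := exists_stalk_rep (D P p) c hc x z
      change (stalkMap (colimit.ι (D P p) j) x).hom b = z at hb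
      have hqb : (stalkMap (q j) x).hom b = 0 := by
        have h1 := stalkMap_comp_apply' (colimit.ι (D P p) j) θ x b
        rw [hθ j] at h1
        exact h1.trans (by rw [hb]; exact hz)
      obtain ⟨a', ha'⟩ := stalkMap_surjective_of_epi (Dπ j) x b
      have hpa : (stalkMap (pS P p j.1) x).hom a' = 0 := by
        rw [← Dπ_q j, stalkMap_comp_apply', ha', hqb]
      obtain ⟨k, hk⟩ := exists_stalk_kernel_of_stalkMap_eq_zero (pS P p j.1) x a' hpa
      change (stalkMap (kι P p j.1) x).hom k = a' at hk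
      obtain ⟨W₀, hxW₀, κ₀, hκ₀⟩ := TopCat.Presheaf.exists_germ_eq (KS P p j.1).presheaf k
      obtain ⟨_, ⟨W, hW : IsAffineOpen W, rfl⟩, hxW, hWW₀⟩ :=
        X.isBasis_affineOpens.exists_subset_of_mem_open hxW₀ W₀.2
      have hle₀ : W ≤ W₀ := hWW₀
      have := isQuasicoherent_KS P p hP j.1
      obtain ⟨T₀, hT₀, hκ⟩ := exists_isQFT_through_section (F := KS P p j.1) hW
        (mres (KS P p j.1) hle₀ κ₀)
      let j' : Idx P p := ⟨j.1, ⟨j.2.1.sup T₀, j.2.2.sup hT₀⟩⟩
      have hle : j ≤ j' := ⟨Finset.Subset.refl _, fun U t ht => by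
        rw [kinc_refl]
        exact LSub.le_sup_left j.2.1 T₀ U ht⟩
      have hκ' : mres (KS P p j.1) hle₀ κ₀ ∈ j'.2.1.obj W := LSub.le_sup_right j.2.1 T₀ W hκ
      have hk' : k = (stalkMap j'.2.1.ι x).hom
          (j'.2.1.toModules.presheaf.germ W x hxW (j'.2.1.sec W _ hκ')) := by
        rw [stalkMap_germ, LSub.ι_app_sec, ← hκ₀]
        exact (TopCat.Presheaf.germ_res_apply (KS P p j.1).presheaf (homOfLE hle₀) x hxW κ₀).symm
      have hzero : (stalkMap (Dmap hle) x).hom b = 0 := by
        rw [← ha', ← stalkMap_comp_apply', Dπ_Dmap, incl_refl, Category.id_comp, ← hk, hk',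
          ← stalkMap_comp_apply', ← stalkMap_comp_apply']
        have : j'.2.1.ι ≫ kι P p j.1 ≫ Dπ j' = 0 := by
          rw [← Category.assoc]
          exact m_Dπ j'
        rw [this, stalkMap_zero]
      have hw : (D P p).map (homOfLE hle) ≫ colimit.ι (D P p) j' = colimit.ι (D P p) j :=
        colimit.w (D P p) (homOfLE hle)
      have h2 := stalkMap_comp_apply' ((D P p).map (homOfLE hle)) (colimit.ι (D P p) j') x b
      rw [hw] at h2
      rw [← hb]
      refine h2.trans ?_
      change (stalkMap (colimit.ι (D P p) j') x).hom ((stalkMap (Dmap hle) x).hom b) = 0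
      rw [hzero]
      exact map_zero _
    · intro e
      obtain ⟨i, a, ha⟩ := hsurj x e
      obtain ⟨T, hT⟩ := exists_isQFT P p hP {i}
      let j : Idx P p := ⟨{i}, ⟨T, hT⟩⟩
      let a1 : ↑((PS P j.1).presheaf.stalk x) :=
        (stalkMap (inj P i (Finset.mem_singleton_self i)) x).hom a
      let a2 : ↑((Dobj j).presheaf.stalk x) := (stalkMap (Dπ j) x).hom a1
      refine ⟨(stalkMap (colimit.ι (D P p) j) x).hom a2, ?_⟩
      have h1 := stalkMap_comp_apply' (colimit.ι (D P p) j) θ x a2
      rw [hθ j] at h1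
      have h2 := stalkMap_comp_apply' (Dπ j) (q j) x a1
      rw [Dπ_q] at h2
      have h3 := stalkMap_comp_apply' (inj P i (Finset.mem_singleton_self i)) (pS P p j.1) x a
      rw [inj_pS] at h3
      exact h1.symm.trans (h2.symm.trans (h3.symm.trans ha))
  have hiso' : IsIso ((colimit.isColimit (D P p)).desc (cocone P p)) := hiso
  exact ⟨IsColimit.ofPointIso (colimit.isColimit (D P p)) (t := cocone P p)⟩

end Main

end FPColim

/-- On a quasi-compact quasi-separated scheme every quasi-coherent module is a directed colimit of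
finitely presented modules (Stacks 01PJ). -/
theorem exists_filtered_fp_colimit [CompactSpace X] [QuasiSeparatedSpace X] (F : X.Modules)
    [F.IsQuasicoherent] :
    ∃ (J : Type u) (_ : Preorder J) (_ : IsDirected J (· ≤ ·)) (_ : Nonempty J)
      (D : J ⥤ X.Modules) (c : Cocone D), Nonempty (IsColimit c) ∧ c.pt = F ∧
      ∀ j, SheafOfModules.IsFinitePresentation (R := X.ringCatSheaf) (D.obj j) := by
  let I₀ := {E : LSub F // E.IsQFT}
  have key : ∀ E : I₀, ∃ (P : X.Modules) (ε : P ⟶ E.1.toModules),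
      SheafOfModules.IsFinitePresentation (R := X.ringCatSheaf) P ∧ Epi ε := fun E => by
    have := E.2.isQuasicoherent
    exact exists_fp_epi E.1.toModules E.2.isFiniteType
  choose P π hP hπ using key
  let p : ∀ E : I₀, P E ⟶ F := fun E => π E ≫ E.1.ι
  have hsurj : ∀ (x : X) (e : ↑(F.presheaf.stalk x)), ∃ (i : I₀) (a : ↑((P i).presheaf.stalk x)),
      (stalkMap (p i) x).hom a = e := by
    intro x e
    obtain ⟨W₀, hxW₀, s₀, rfl⟩ := TopCat.Presheaf.exists_germ_eq F.presheaf e
    obtain ⟨_, ⟨W, hW : IsAffineOpen W, rfl⟩, hxW, hWW₀⟩ :=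
      X.isBasis_affineOpens.exists_subset_of_mem_open hxW₀ W₀.2
    have hle₀ : W ≤ W₀ := hWW₀
    obtain ⟨E, hE, hs⟩ := exists_isQFT_through_section (F := F) hW (mres F hle₀ s₀)
    have := hπ ⟨E, hE⟩
    obtain ⟨a, ha⟩ := stalkMap_surjective_of_epi (π ⟨E, hE⟩) x
      (E.toModules.presheaf.germ W x hxW (E.sec W _ hs))
    refine ⟨⟨E, hE⟩, a, ?_⟩
    change (stalkMap (π ⟨E, hE⟩ ≫ E.ι) x).hom a = _
    rw [stalkMap_comp_apply', ha, stalkMap_germ, LSub.ι_app_sec]
    exact TopCat.Presheaf.germ_res_apply F.presheaf (homOfLE hle₀) x hxW s₀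
  exact ⟨FPColim.Idx P p, inferInstance, FPColim.isDirected_idx P p hP,
    FPColim.nonempty_idx P p hP, FPColim.D P p, FPColim.cocone P p,
    FPColim.nonempty_isColimit_cocone P p hP hsurj, rfl,
    fun j => FPColim.isFinitePresentation_Dobj P p hP j⟩

end Groth.Agent.Lib.Helper18.FPM
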