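import Mathlib
import Groth.Agent.Lib.Helper18.FPQuot
import Groth.Agent.Lib.Helper18.DirQuot
import Groth.Agent.Lib.Helper18.LSubQcqs
import Groth.Agent.Lib.Helper18.LSubFactor

/-!
# Finite-type quasi-coherent modules as directed colimits of finitely presented quotients

`exists_directed_fp_colimit`: on a qcqs scheme, a quasi-coherent module of finite type is a directed
colimit of finitely presented modules with epimorphic transition maps (Stacks 01PK-type).
-/
set_option autoImplicit false
universe u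
open CategoryTheory CategoryTheory.Limits AlgebraicGeometry TopologicalSpace Opposite

namespace Groth.Agent.Lib.Helper18.FPM

open Groth.Agent.Lib.Helper49 Groth.Agent.Lib.Helper45 Groth.Agent.Lib.Helper18.LSubM

variable {X : Scheme.{u}}

/-- On a qcqs scheme, a quasi-coherent module of finite type is a directed colimit of finitely
presented modules with epimorphic transition maps. -/
theorem exists_directed_fp_colimit [CompactSpace X] [QuasiSeparatedSpace X] (F : X.Modules)
    [F.IsQuasicoherent] (hF : SheafOfModules.IsFiniteType (R := X.ringCatSheaf) F) :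
    ∃ (J : Type u) (_ : PartialOrder J) (_ : IsDirected J (· ≤ ·)) (_ : Nonempty J)
      (D : J ⥤ X.Modules) (ι : D ⟶ (Functor.const J).obj F),
      Nonempty (IsColimit (Cocone.mk F ι)) ∧
      (∀ j, SheafOfModules.IsFinitePresentation (R := X.ringCatSheaf) (D.obj j)) ∧
      ∀ (j j' : J) (h : j ⟶ j'), Epi (D.map h) := by
  obtain ⟨P, ε, hP, hε⟩ := exists_fp_epi F hF
  have hPq : P.IsQuasicoherent := isQuasicoherent_of_isFinitePresentation hP
  let K := kernel ε
  let κ : K ⟶ P := kernel.ι ε
  have hK : K.IsQuasicoherent := isQuasicoherent_kernel ε hPq inferInstance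
  let J := {E : LSub K // E.IsQFT}
  have hdir : IsDirected J (· ≤ ·) :=
    ⟨fun a b => ⟨⟨a.1.sup b.1, a.2.sup b.2⟩, LSub.le_sup_left a.1 b.1, LSub.le_sup_right a.1 b.1⟩⟩
  have hne : Nonempty J := by
    obtain ⟨E, hE, -⟩ := exists_isQFT_through_section (F := K) (isAffineOpen_bot X) 0
    exact ⟨⟨E, hE⟩⟩
  let m : ∀ E : J, E.1.toModules ⟶ P := fun E => E.1.ι ≫ κ
  have hm : ∀ E : J, m E ≫ ε = 0 := by
    intro E
    rw [Category.assoc, kernel.condition, comp_zero]
  have hfac : ∀ E E' : J, E ≤ E' → ∃ f : E.1.toModules ⟶ E'.1.toModules, f ≫ m E' = m E := by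
    intro E E' hle
    obtain ⟨f, hf⟩ := exists_factor E.1.ι E'.1.ι (fun W a y hy =>
      ⟨W, le_rfl, hy, E'.1.sec W (E.1.ι.app W a) (hle W (E.1.ι_app_mem W a)), by
        rw [LSub.ι_app_sec, mres_self]⟩)
    exact ⟨f, by rw [← Category.assoc, hf]⟩
  have hex : ∀ (T : X.Modules) (h : P ⟶ T), (∀ E : J, m E ≫ h = 0) → kernel.ι ε ≫ h = 0 := by
    intro T h hh
    apply Scheme.Modules.hom_ext
    intro W
    ext k
    change (κ ≫ h).app W k = 0
    apply eq_of_locally_eq
    intro y hy
    obtain ⟨_, ⟨W₁, hW₁, rfl⟩, hyW₁, hle₀⟩ :=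
      X.isBasis_affineOpens.exists_subset_of_mem_open hy W.2
    have hle : W₁ ≤ W := hle₀
    have hW₁ : IsAffineOpen W₁ := hW₁
    refine ⟨W₁, hle, hyW₁, ?_⟩
    obtain ⟨E, hE, hk⟩ := exists_isQFT_through_section (F := K) hW₁ (mres K hle k)
    rw [map_zero, ← app_mres]
    have h1 : mres K hle k = E.ι.app W₁ (E.sec W₁ _ hk) := (LSub.ι_app_sec E W₁ _ hk).symm
    rw [h1]
    have h2 := hh ⟨E, hE⟩
    change ((E.ι ≫ κ) ≫ h).app W₁ (E.sec W₁ _ hk) = 0
    change (E.ι ≫ κ) ≫ h = 0 at h2
    rw [h2]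
    rfl
  refine ⟨J, inferInstance, hdir, hne, DirQuot.D m hfac, DirQuot.ι ε m hfac hm,
    DirQuot.nonempty_isColimit ε m hfac hm hex, fun E => ?_, fun E E' h => ?_⟩
  · have : Mono (m E) := mono_comp _ _
    have : E.1.toModules.IsQuasicoherent := E.2.isQuasicoherent
    exact isFinitePresentation_cokernel_of_mono (m E) E.2.isFiniteType hP
  · change Epi (DirQuot.trans m hfac (leOfHom h))
    infer_instance

end Groth.Agent.Lib.Helper18.FPM
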