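import Mathlib
import Groth.Agent.Lib.Helper18.FiniteFP

/-!
# A finite morphism to a qcqs scheme is a directed limit of finite, finitely presented ones with
closed immersions as transition maps (helper18)
-/

set_option autoImplicit false
set_option linter.style.haveILetI false
universe u
open AlgebraicGeometry CategoryTheory Limits TopologicalSpace Opposite

namespace Groth.Agent.Lib.Helper18.FiniteLim

variable {W : Scheme.{u}}

/-- finite type sub-ideal sheaves of `I` containing `K₀` -/
abbrev FTBetween (K₀ I : W.IdealSheafData) : Type u :=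
  {K : W.IdealSheafData // K₀ ≤ K ∧ K ≤ I ∧ ∀ V : W.affineOpens, (K.ideal V).FG}

instance (K₀ I : W.IdealSheafData) : IsDirected (FTBetween K₀ I) (· ≤ ·) :=
  ⟨fun K K' => ⟨⟨K.1 ⊔ K'.1, K.2.1.trans le_sup_left, sup_le K.2.2.1 K'.2.2.1, fun V => by
    rw [Scheme.IdealSheafData.ideal_sup]; exact Submodule.FG.sup (K.2.2.2 V) (K'.2.2.2 V)⟩,
    le_sup_left (a := K.1), le_sup_right (a := K.1)⟩⟩

/-- the forgetful functor -/
def forgetFT (K₀ I : W.IdealSheafData) : FTBetween K₀ I ⥤ W.IdealSheafData :=
  (Subtype.mono_coe _).functor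

/-- the cocone with vertex `I` -/
def coconeFT (K₀ I : W.IdealSheafData) : Cocone (forgetFT K₀ I) where
  pt := I
  ι := { app := fun K => homOfLE K.2.2.1 }

/-- on a qcqs scheme an ideal sheaf is the colimit of its finite type sub-ideal sheaves containing
a given finite type sub-ideal sheaf -/
def isColimitCoconeFT [CompactSpace W] [QuasiSeparatedSpace W] (K₀ I : W.IdealSheafData)
    (hK₀ : K₀ ≤ I) (hfg : ∀ V : W.affineOpens, (K₀.ideal V).FG) : IsColimit (coconeFT K₀ I) where
  desc s := homOfLE (by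
    intro V x hx
    obtain ⟨K, hK, hxK, hKfg⟩ := FTApprox.exists_le_ft_mem I V x hx
    have hle : K ≤ K ⊔ K₀ := le_sup_left
    exact leOfHom (s.ι.app ⟨K ⊔ K₀, le_sup_right, sup_le hK hK₀, fun V' => by
      rw [Scheme.IdealSheafData.ideal_sup]; exact Submodule.FG.sup (hKfg V') (hfg V')⟩) V
      (hle V hxK))
  fac _ _ := Subsingleton.elim _ _
  uniq _ _ _ := Subsingleton.elim _ _

end Groth.Agent.Lib.Helper18.FiniteLim

namespace Groth.Agent.Lib.Helper18.FiniteLim

open Groth.Agent.Lib.Helper18.SymQC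

/-- **A finite morphism to a qcqs scheme is a directed limit of finite, finitely presented
`S`-schemes with closed immersions as transition maps.** -/
theorem exists_limit {X S : Scheme.{u}} (f : X ⟶ S) [IsFinite f]
    [CompactSpace S] [QuasiSeparatedSpace S] :
    ∃ (I : Type u) (_ : Preorder I) (_ : IsDirected I (fun a b => a ≤ b)) (_ : Nonempty I)
      (D : Iᵒᵖ ⥤ Over S) (c : Limits.Cone D) (_ : Limits.IsLimit c),
      (∀ i, IsFinite (D.obj i).hom ∧ LocallyOfFinitePresentation (D.obj i).hom) ∧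
      (∀ (i j : Iᵒᵖ) (a : i ⟶ j), IsClosedImmersion (D.map a).left) ∧
      Nonempty (c.pt ≅ Over.mk f) := by
  obtain ⟨W, p, c, K₀, hp, hlfp, hc, hcf, hWc, hWq, hK₀, hK₀fg, hfin⟩ :=
    exists_embedding_finite f
  let L := (Scheme.IdealSheafData.subschemeFunctor W).rightOp
  have : PreservesColimitsOfSize.{u, u} L := W.kerAdjunction.leftAdjoint_preservesColimits
  have hne : Nonempty (FTBetween K₀ c.ker) := ⟨⟨K₀, le_rfl, hK₀, hK₀fg⟩⟩
  let D' : (FTBetween K₀ c.ker)ᵒᵖ ⥤ Over W := (forgetFT K₀ c.ker ⋙ L).leftOp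
  let cW : Cone D' := coneLeftOpOfCocone (L.mapCocone (coconeFT K₀ c.ker))
  have hcW : IsLimit cW :=
    isLimitConeLeftOpOfCocone _ (isColimitOfPreserves L (isColimitCoconeFT K₀ c.ker hK₀ hK₀fg))
  have hconn : IsConnected (FTBetween K₀ c.ker)ᵒᵖ := IsCofiltered.isConnected _
  have hcS : IsLimit ((Over.map p).mapCone cW) := by
    have h1 : IsLimit ((Over.forget W).mapCone cW) := isLimitOfPreserves (Over.forget W) hcW
    exact isLimitOfReflects (Over.forget S) h1
  refine ⟨FTBetween K₀ c.ker, inferInstance, inferInstance, hne, D' ⋙ Over.map p,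
    (Over.map p).mapCone cW, hcS, ?_, ?_, ?_⟩
  · intro i
    refine ⟨hfin i.unop.1 i.unop.2.1, ?_⟩
    have h1 : LocallyOfFinitePresentation i.unop.1.subschemeι :=
      Groth.Agent.Lib.Helper49.PrinPartFP.locallyOfFinitePresentation_subschemeι _ i.unop.2.2.2
    change LocallyOfFinitePresentation (i.unop.1.subschemeι ≫ p)
    infer_instance
  · intro i j a
    change IsClosedImmersion (Scheme.IdealSheafData.inclusion (leOfHom a.unop))
    have h2 : IsClosedImmersion (Scheme.IdealSheafData.inclusion (leOfHom a.unop) ≫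
        j.unop.1.subschemeι) := by
      rw [Scheme.IdealSheafData.inclusion_subschemeι]
      infer_instance
    exact IsClosedImmersion.of_comp _ j.unop.1.subschemeι
  · refine ⟨Over.isoMk (asIso c.toImage).symm ?_⟩
    change (asIso c.toImage).inv ≫ f = c.imageι ≫ p
    rw [Iso.inv_comp_eq, ← hcf, ← Category.assoc]
    congr 1
    exact c.toImage_imageι.symm

end Groth.Agent.Lib.Helper18.FiniteLim
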