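import Mathlib

/-!
# Freeness of a finite module over a Noetherian local ring can be tested on infinitesimal levels
(helper18)
-/

set_option autoImplicit false
set_option linter.style.haveILetI false
universe u

namespace Groth.Agent.Lib.Helper18.FreeLevels

open TensorProduct

section BaseChange

variable {R : Type u} [CommRing R] {S : Type u} [CommRing S] [Algebra R S]
  {M : Type u} [AddCommGroup M] [Module R M]
  {N : Type u} [AddCommGroup N] [Module R N] [Module S N] [IsScalarTower R S N]
  (ψ : M →ₗ[R] N) (hψ : IsBaseChange S ψ)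

include hψ in
/-- a base change along a surjective ring map is surjective -/
theorem surjective_of_isBaseChange (hs : Function.Surjective (algebraMap R S)) :
    Function.Surjective ψ := by
  intro y
  induction y using hψ.inductionOn with
  | zero => exact ⟨0, map_zero _⟩
  | tmul m => exact ⟨m, rfl⟩
  | smul s n ih =>
    obtain ⟨m, rfl⟩ := ih
    obtain ⟨a, rfl⟩ := hs s
    exact ⟨a • m, by rw [map_smul, algebraMap_smul]⟩
  | add n₁ n₂ h₁ h₂ =>
    obtain ⟨m₁, rfl⟩ := h₁
    obtain ⟨m₂, rfl⟩ := h₂
    exact ⟨m₁ + m₂, map_add _ _ _⟩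

include hψ in
/-- the kernel of a base change along a surjective ring map with kernel `K` is `K M` -/
theorem ker_le_of_isBaseChange (hs : Function.Surjective (algebraMap R S)) :
    LinearMap.ker ψ ≤ (RingHom.ker (algebraMap R S)) • (⊤ : Submodule R M) := by
  intro m hm
  set K := RingHom.ker (algebraMap R S)
  have h1 : (1 : S) ⊗ₜ[R] m = 0 := by
    apply hψ.equiv.injective
    rw [hψ.equiv_tmul, one_smul, map_zero]
    exact hm
  let e : (R ⧸ K) ≃ₐ[R] S := Ideal.quotientKerAlgEquivOfSurjective (f := Algebra.ofId R S) hs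
  have h2 : (1 : R ⧸ K) ⊗ₜ[R] m = 0 := by
    have h3 : (TensorProduct.congr e.toLinearEquiv (LinearEquiv.refl R M))
        ((1 : R ⧸ K) ⊗ₜ[R] m) = (1 : S) ⊗ₜ[R] m := by
      rw [TensorProduct.congr_tmul]
      simp
    apply (TensorProduct.congr e.toLinearEquiv (LinearEquiv.refl R M)).injective
    rw [h3, h1, map_zero]
  have h4 := congrArg (TensorProduct.quotTensorEquivQuotSMul M K) h2
  have h5 : (1 : R ⧸ K) = Ideal.Quotient.mk K 1 := rfl
  rw [h5, TensorProduct.quotTensorEquivQuotSMul_mk_tmul, map_zero, one_smul] at h4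
  exact (Submodule.Quotient.mk_eq_zero _).mp h4

end BaseChange

section Levels

variable (R : Type u) [CommRing R] (M : Type u) [AddCommGroup M] [Module R M]

/-- `M` becomes free of rank `r` after base change along a quotient map of `R` whose kernel lies
in `K` -/
def LevelFree (r : ℕ) (K : Ideal R) : Prop :=
  ∃ (S : Type u) (_ : CommRing S) (_ : Algebra R S) (N : Type u) (_ : AddCommGroup N)
    (_ : Module R N) (_ : Module S N) (_ : IsScalarTower R S N) (ψ : M →ₗ[R] N),
    Function.Surjective (algebraMap R S) ∧ RingHom.ker (algebraMap R S) ≤ K ∧ IsBaseChange S ψ ∧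
      Module.Free S N ∧ Module.finrank S N = r ∧ Nontrivial S

variable {R M}

/-- **A finite module over a Noetherian local ring which is free of rank `r` modulo all powers of
the maximal ideal (or smaller ideals) is free of rank `r`.** -/
theorem free_of_levels [IsNoetherianRing R] [IsLocalRing R] [Module.Finite R M] (r : ℕ)
    (h : ∀ n : ℕ, LevelFree R M r (IsLocalRing.maximalIdeal R ^ (n + 1))) :
    Module.Free R M ∧ Module.finrank R M = r := by
  classical
  -- level zero: choose generators
  obtain ⟨S₀, _, _, N₀, _, _, _, _, ψ₀, hs₀, hK₀, hb₀, hfree₀, hrank₀, hnt₀⟩ := h 0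
  have hsurj₀ := surjective_of_isBaseChange ψ₀ hb₀ hs₀
  haveI : Module.Finite R N₀ := Module.Finite.of_surjective ψ₀ hsurj₀
  haveI : Module.Finite S₀ N₀ := Module.Finite.of_restrictScalars_finite R S₀ N₀
  let b : Module.Basis (Fin r) S₀ N₀ := Module.finBasisOfFinrankEq S₀ N₀ hrank₀
  choose m hm using fun i => hsurj₀ (b i)
  let φ : (Fin r → R) →ₗ[R] M := Fintype.linearCombination R m
  have hφ : ∀ a : Fin r → R, φ a = ∑ i, a i • m i := fun a => Fintype.linearCombination_apply R m a
  -- surjectivity by Nakayama
  have hsurj : Function.Surjective φ := by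
    rw [← LinearMap.range_eq_top, eq_top_iff]
    refine Submodule.le_of_le_smul_of_le_jacobson_bot (I := IsLocalRing.maximalIdeal R)
      (Module.Finite.fg_top) (IsLocalRing.maximalIdeal_le_jacobson _) ?_
    intro x _
    choose a ha using fun i => hs₀ (b.repr (ψ₀ x) i)
    have h1 : ψ₀ (x - φ a) = 0 := by
      rw [map_sub, hφ, map_sum, sub_eq_zero]
      conv_lhs => rw [← b.sum_repr (ψ₀ x)]
      refine Finset.sum_congr rfl fun i _ => ?_
      rw [map_smul, hm i, ← ha i, algebraMap_smul]
    have h2 : x - φ a ∈ (IsLocalRing.maximalIdeal R) • (⊤ : Submodule R M) := by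
      have h3 := ker_le_of_isBaseChange ψ₀ hb₀ hs₀ h1
      refine Submodule.smul_mono_left ?_ h3
      simpa using hK₀
    have h4 : x = φ a + (x - φ a) := by abel
    rw [h4]
    exact Submodule.add_mem_sup (LinearMap.mem_range_self φ a) h2
  -- injectivity by Krull
  have hinj : Function.Injective φ := by
    rw [← LinearMap.ker_eq_bot, eq_bot_iff]
    intro v hv
    have hv0 : φ v = 0 := hv
    have key : ∀ n : ℕ, ∀ i, v i ∈ IsLocalRing.maximalIdeal R ^ (n + 1) := by
      intro n
      obtain ⟨S, _, _, N, _, _, _, _, ψ, hs, hK, hb, hfree, hrank, hnt⟩ := h n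
      have hsurjN := surjective_of_isBaseChange ψ hb hs
      let c : Fin r → N := fun i => ψ (m i)
      have hspan : ⊤ ≤ Submodule.span S (Set.range c) := by
        intro y _
        obtain ⟨x, rfl⟩ := hsurjN y
        obtain ⟨a, rfl⟩ := hsurj x
        rw [hφ, map_sum]
        refine Submodule.sum_mem _ fun i _ => ?_
        rw [map_smul, ← algebraMap_smul S (a i) (ψ (m i))]
        exact Submodule.smul_mem _ _ (Submodule.subset_span ⟨i, rfl⟩)
      have hli : LinearIndependent S c :=
        linearIndependent_of_top_le_span_of_card_eq_finrank hspan (by simp [hrank])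
      have h0 : ∑ i, algebraMap R S (v i) • c i = 0 := by
        have h1 : ψ (φ v) = 0 := by rw [hv0, map_zero]
        rw [hφ, map_sum] at h1
        rw [← h1]
        refine Finset.sum_congr rfl fun i _ => ?_
        rw [map_smul, algebraMap_smul]
      intro i
      have h2 := Fintype.linearIndependent_iff.mp hli (fun i => algebraMap R S (v i)) h0 i
      exact hK ((RingHom.mem_ker).mpr h2)
    have hbot : ∀ i, v i = 0 := by
      intro i
      have h1 : v i ∈ ⨅ k : ℕ, IsLocalRing.maximalIdeal R ^ k := by
        rw [Ideal.mem_iInf]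
        intro k
        rcases k with _ | k
        · simp
        · exact key k i
      rw [Ideal.iInf_pow_eq_bot_of_isLocalRing _ (IsLocalRing.maximalIdeal.isMaximal R).ne_top] at h1
      exact h1
    exact (Submodule.mem_bot R).mpr (funext hbot)
  let e : (Fin r → R) ≃ₗ[R] M := LinearEquiv.ofBijective φ ⟨hinj, hsurj⟩
  refine ⟨Module.Free.of_equiv e, ?_⟩
  rw [← e.finrank_eq, Module.finrank_fin_fun]

end Levels

end Groth.Agent.Lib.Helper18.FreeLevels
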