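import Mathlib

/-!
# The kernel of the stalk map of a closed subscheme (helper18)
-/

set_option autoImplicit false
set_option linter.style.haveILetI false
universe u
open AlgebraicGeometry CategoryTheory Limits TopologicalSpace Opposite

namespace Groth.Agent.Lib.Helper18.SubschemeStalkKer

variable {X : Scheme.{u}}

/-- the kernel of the stalk map of the closed subscheme `V(𝓚) → X` is generated by the germs of the
sections of `𝓚` over any affine open neighbourhood -/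
theorem mem_map_germ_of_stalkMap_eq_zero (𝓚 : X.IdealSheafData) (z : 𝓚.subscheme)
    (U : X.affineOpens) (hx : 𝓚.subschemeι z ∈ U.1)
    (a : X.presheaf.stalk (𝓚.subschemeι z)) (ha : (𝓚.subschemeι.stalkMap z).hom a = 0) :
    a ∈ Ideal.map (X.presheaf.germ U.1 (𝓚.subschemeι z) hx).hom (𝓚.ideal U) := by
  have hU : IsAffineOpen U.1 := U.2
  have hV : IsAffineOpen (𝓚.subschemeι ⁻¹ᵁ U.1) := hU.preimage 𝓚.subschemeι
  have hzV : z ∈ 𝓚.subschemeι ⁻¹ᵁ U.1 := hx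
  letI := X.presheaf.algebra_section_stalk ⟨𝓚.subschemeι z, hx⟩
  haveI := hU.isLocalization_stalk ⟨𝓚.subschemeι z, hx⟩
  letI := 𝓚.subscheme.presheaf.algebra_section_stalk ⟨z, hzV⟩
  haveI := hV.isLocalization_stalk ⟨z, hzV⟩
  set 𝔭 := (hU.primeIdealOf ⟨𝓚.subschemeι z, hx⟩).asIdeal with h𝔭
  set 𝔮 := (hV.primeIdealOf ⟨z, hzV⟩).asIdeal with h𝔮
  set φ : Γ(X, U.1) →+* Γ(𝓚.subscheme, 𝓚.subschemeι ⁻¹ᵁ U.1) := (𝓚.subschemeι.app U.1).hom
    with hφdef
  have hφ : Function.Surjective φ := 𝓚.subschemeι_app_surjective U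
  have hker : RingHom.ker φ = 𝓚.ideal U := 𝓚.ker_subschemeι_app U
  have hcomap : 𝔮.comap φ = 𝔭 := by
    have := IsAffineOpen.comap_primeIdealOf_appLE (f := 𝓚.subschemeι) U.1 hU
      (𝓚.subschemeι ⁻¹ᵁ U.1) hV le_rfl hzV
    rw [h𝔭, ← this, hφdef, Scheme.Hom.app_eq_appLE]
    rfl
  -- write `a = s / t`
  obtain ⟨⟨s, t⟩, hst⟩ := IsLocalization.surj 𝔭.primeCompl a
  have hst' : a * (X.presheaf.germ U.1 _ hx).hom t = (X.presheaf.germ U.1 _ hx).hom s := hst
  -- the image of `s` has zero germ at `z`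
  have h1 : (𝓚.subscheme.presheaf.germ (𝓚.subschemeι ⁻¹ᵁ U.1) z hzV).hom (φ s) = 0 := by
    have h2 := Scheme.Hom.germ_stalkMap_apply 𝓚.subschemeι U.1 z hx s
    have h3 := congrArg (𝓚.subschemeι.stalkMap z).hom hst'
    rw [map_mul, ha, zero_mul] at h3
    exact h2.symm.trans h3.symm
  have h1' : algebraMap Γ(𝓚.subscheme, 𝓚.subschemeι ⁻¹ᵁ U.1) (𝓚.subscheme.presheaf.stalk z) (φ s) = 0 :=
    h1
  obtain ⟨⟨t', ht'⟩, ht's⟩ := (IsLocalization.map_eq_zero_iff 𝔮.primeCompl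
    (𝓚.subscheme.presheaf.stalk z) (φ s)).mp h1'
  obtain ⟨t'', rfl⟩ := hφ t'
  have ht''p : t'' ∈ 𝔭.primeCompl := by
    intro hmem
    apply ht'
    rw [← hcomap] at hmem
    exact hmem
  have h4 : t'' * s ∈ 𝓚.ideal U := by
    rw [← hker, RingHom.mem_ker, map_mul]
    exact ht's
  -- units
  have hu1 : IsUnit ((X.presheaf.germ U.1 _ hx).hom t.1) :=
    IsLocalization.map_units (M := 𝔭.primeCompl) (X.presheaf.stalk (𝓚.subschemeι z)) t
  have hu2 : IsUnit ((X.presheaf.germ U.1 _ hx).hom t'') :=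
    IsLocalization.map_units (M := 𝔭.primeCompl) (X.presheaf.stalk (𝓚.subschemeι z)) ⟨t'', ht''p⟩
  have h5 : a * ((X.presheaf.germ U.1 _ hx).hom t.1 * (X.presheaf.germ U.1 _ hx).hom t'') ∈
      Ideal.map (X.presheaf.germ U.1 (𝓚.subschemeι z) hx).hom (𝓚.ideal U) := by
    rw [← mul_assoc, hst', ← map_mul, mul_comm]
    exact Ideal.mem_map_of_mem _ h4
  exact (Ideal.mul_unit_mem_iff_mem _ (hu1.mul hu2)).mp h5

end Groth.Agent.Lib.Helper18.SubschemeStalkKer
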