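import Mathlib
import Groth.Prelude.Def_FlatMod2
import Groth.Agent.Lib.Helper18.FreeLevels
import Groth.Agent.Lib.Helper18.SubschemeStalkKer
import Groth.Agent.Lib.Helper23.FibreFree
import Groth.Agent.Lib.Helper16.FlatPull.Stalk

/-!
# Local freeness along a closed subset from local freeness on all infinitesimal neighbourhoods
(helper18)
-/

set_option autoImplicit false
set_option linter.style.haveILetI false
universe u
open AlgebraicGeometry CategoryTheory Limits TopologicalSpace Opposite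

namespace Groth.Agent.Lib.Helper18.FormalFree

open Groth.Agent.Lib.Helper18.FreeLevels Groth.Agent.Lib.Helper18.SubschemeStalkKer
  Groth.Agent.Lib

variable {X : Scheme.{u}}

/-- germs of sections of `𝓙` at a point of its support are non-units -/
theorem map_germ_le_maximalIdeal (𝓙 : X.IdealSheafData) (x : X) (hxs : x ∈ 𝓙.support)
    (U : X.affineOpens) (hx : x ∈ U.1) :
    Ideal.map (X.presheaf.germ U.1 x hx).hom (𝓙.ideal U) ≤
      IsLocalRing.maximalIdeal (X.presheaf.stalk x) := by
  rw [Ideal.map_le_iff_le_comap]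
  intro f hf
  rw [Ideal.mem_comap, IsLocalRing.mem_maximalIdeal, mem_nonunits_iff]
  intro hu
  have h1 := (Scheme.IdealSheafData.mem_support_iff_of_mem (I := 𝓙) (U := U) hx).mp hxs
  rw [Scheme.mem_zeroLocus_iff] at h1
  exact h1 f hf ((Scheme.mem_basicOpen X f x hx).mpr hu)

/-- the level datum at a point of the `n`-th infinitesimal neighbourhood -/
theorem levelFree_stalk (𝓙 𝓚 : X.IdealSheafData) (n r : ℕ) (h𝓚 : 𝓚 = 𝓙 ^ (n + 1))
    (F : X.Modules) [F.IsQuasicoherent]
    (h : FlatMod.IsFinLocFreeOfRank r ((Scheme.Modules.pullback 𝓚.subschemeι).obj F))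
    (z : 𝓚.subscheme) :
    LevelFree (X.presheaf.stalk (𝓚.subschemeι z))
      ↑(F.presheaf.stalk (𝓚.subschemeι z)) r
      (IsLocalRing.maximalIdeal (X.presheaf.stalk (𝓚.subschemeι z)) ^ (n + 1)) := by
  have hQ : ((Scheme.Modules.pullback 𝓚.subschemeι).obj F).IsQuasicoherent :=
    Helper16.FlatPull.isQuasicoherent_pullback 𝓚.subschemeι F
  letI alg := (𝓚.subschemeι.stalkMap z).hom.toAlgebra
  letI mod : Module (X.presheaf.stalk (𝓚.subschemeι.base z))
      (((Scheme.Modules.pullback 𝓚.subschemeι).obj F).presheaf.stalk z) :=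
    FlatMod.moduleStalkOver 𝓚.subschemeι ((Scheme.Modules.pullback 𝓚.subschemeι).obj F) z
  haveI tow : IsScalarTower (X.presheaf.stalk (𝓚.subschemeι.base z))
      (𝓚.subscheme.presheaf.stalk z)
      (((Scheme.Modules.pullback 𝓚.subschemeι).obj F).presheaf.stalk z) :=
    IsScalarTower.of_compHom _ _ _
  obtain ⟨ψ, hψ⟩ := Helper16.FlatPull.exists_isBaseChange_stalk 𝓚.subschemeι F z
  obtain ⟨W, hzW, ⟨e⟩⟩ := h z
  have hfr := Helper23.FibreFree.free_and_finrank_stalk_of_iso_restrict_freeMod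
    ((Scheme.Modules.pullback 𝓚.subschemeι).obj F) W r e z hzW
  have hsurj : Function.Surjective (algebraMap (X.presheaf.stalk (𝓚.subschemeι.base z))
      (𝓚.subscheme.presheaf.stalk z)) := 𝓚.subschemeι.stalkMap_surjective z
  have hker : RingHom.ker (algebraMap (X.presheaf.stalk (𝓚.subschemeι.base z))
      (𝓚.subscheme.presheaf.stalk z)) ≤
      IsLocalRing.maximalIdeal (X.presheaf.stalk (𝓚.subschemeι.base z)) ^ (n + 1) := by
    intro a ha
    obtain ⟨_, ⟨U, hU : IsAffineOpen U, rfl⟩, hxU, -⟩ :=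
      X.isBasis_affineOpens.exists_subset_of_mem_open (Set.mem_univ (𝓚.subschemeι.base z))
        isOpen_univ
    have h1 := mem_map_germ_of_stalkMap_eq_zero 𝓚 z ⟨U, hU⟩ hxU a ha
    have h2 : 𝓚.ideal ⟨U, hU⟩ = (𝓙.ideal ⟨U, hU⟩) ^ (n + 1) := by
      rw [h𝓚, Scheme.IdealSheafData.ideal_pow]
      rfl
    rw [h2, Ideal.map_pow] at h1
    have hxs : 𝓚.subschemeι.base z ∈ 𝓙.support := by
      have h3 : 𝓚.subschemeι.base z ∈ Set.range 𝓚.subschemeι := ⟨z, rfl⟩
      rw [Scheme.IdealSheafData.range_subschemeι] at h3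
      have h4 : 𝓚.support = 𝓙.support := by
        rw [h𝓚]
        exact Scheme.IdealSheafData.support_pow_succ 𝓙 n
      rw [h4] at h3
      exact h3
    exact Ideal.pow_right_mono
      (map_germ_le_maximalIdeal 𝓙 (𝓚.subschemeι.base z) hxs ⟨U, hU⟩ hxU) _ h1
  exact ⟨_, inferInstance, alg, _, inferInstance, mod, inferInstance, tow, ψ, hsurj, hker, hψ,
    hfr.1, hfr.2, inferInstance⟩

/-- **On a locally Noetherian scheme, a coherent module whose restrictions to all infinitesimal
neighbourhoods of `V(𝓙)` are locally free of rank `r` has free stalks of rank `r` along `V(𝓙)`.** -/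
theorem free_stalk_of_levels [IsLocallyNoetherian X] (𝓙 : X.IdealSheafData) (F : X.Modules)
    [F.IsQuasicoherent] (hF : SheafOfModules.IsFinitePresentation (R := X.ringCatSheaf) F) (r : ℕ)
    (h : ∀ n : ℕ, FlatMod.IsFinLocFreeOfRank r
      ((Scheme.Modules.pullback (𝓙 ^ (n + 1)).subschemeι).obj F))
    (x : X) (hx : x ∈ 𝓙.support) :
    Module.Free (X.presheaf.stalk x) ↑(F.presheaf.stalk x) ∧
      Module.finrank (X.presheaf.stalk x) ↑(F.presheaf.stalk x) = r := by
  haveI := Helper23.FibreFree.finite_stalk F hF x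
  refine free_of_levels r (fun n => ?_)
  have h1 : x ∈ Set.range (𝓙 ^ (n + 1)).subschemeι := by
    rw [Scheme.IdealSheafData.range_subschemeι, Scheme.IdealSheafData.support_pow_succ]
    exact hx
  obtain ⟨z, rfl⟩ := h1
  exact levelFree_stalk 𝓙 (𝓙 ^ (n + 1)) n r rfl F (h n) z

/-- the locus where the stalks are free of rank `r` is open and contains `V(𝓙)` -/
theorem isFinLocFreeOfRank_of_levels_of_forall_closed [IsLocallyNoetherian X]
    (𝓙 : X.IdealSheafData) (F : X.Modules)
    [F.IsQuasicoherent] (hF : SheafOfModules.IsFinitePresentation (R := X.ringCatSheaf) F) (r : ℕ)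
    (h : ∀ n : ℕ, FlatMod.IsFinLocFreeOfRank r
      ((Scheme.Modules.pullback (𝓙 ^ (n + 1)).subschemeι).obj F))
    (hcl : ∀ T : Set X, IsClosed T → Disjoint T (𝓙.support : Set X) → T = ∅) :
    FlatMod.IsFinLocFreeOfRank r F := by
  rw [Helper23.FibreFree.isFinLocFreeOfRank_iff_isFLFR F hF r]
  have hopen := Helper23.FibreFree.isOpen_setOf_free_and_finrank F hF (fun m => m = r)
  set W := {x : X | Module.Free (X.presheaf.stalk x) ↑(F.presheaf.stalk x) ∧
      Module.finrank (X.presheaf.stalk x) ↑(F.presheaf.stalk x) = r} with hW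
  have hZW : (𝓙.support : Set X) ⊆ W := fun x hx => free_stalk_of_levels 𝓙 F hF r h x hx
  have hempty : Wᶜ = ∅ := by
    refine hcl Wᶜ hopen.isClosed_compl ?_
    rw [Set.disjoint_left]
    intro x hx hxZ
    exact hx (hZW hxZ)
  intro z
  have hz : z ∈ W := by
    by_contra hzW
    have : z ∈ Wᶜ := hzW
    rw [hempty] at this
    exact this
  exact hz

end Groth.Agent.Lib.Helper18.FormalFree
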