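import Mathlib

/-!
# Quotients of polynomial rings and localization of the coefficients (helper18)
-/

set_option autoImplicit false
set_option linter.style.haveILetI false
set_option linter.unusedSectionVars false
universe u
open MvPolynomial

namespace Groth.Agent.Lib.Helper18.QuotLoc

attribute [local instance] MvPolynomial.gradedAlgebra

variable {A A' : Type u} [CommRing A] [CommRing A'] (φ : A →+* A') (f : A)
  (hloc : @IsLocalization.Away _ _ f A' _ φ.toAlgebra) {σ : Type*} [DecidableEq σ]

theorem map_homogeneousComponent (d : ℕ) (p : MvPolynomial σ A) :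
    MvPolynomial.map φ (homogeneousComponent d p) = homogeneousComponent d (MvPolynomial.map φ p) := by
  ext m
  rw [coeff_map, coeff_homogeneousComponent, coeff_homogeneousComponent, coeff_map]
  split_ifs
  · rfl
  · exact map_zero φ

include hloc in
/-- clearing denominators in a polynomial -/
theorem exists_map_eq_pow_mul (p' : MvPolynomial σ A') :
    ∃ (N : ℕ) (p : MvPolynomial σ A), MvPolynomial.map φ p = C (φ f) ^ N * p' := by
  letI := φ.toAlgebra
  haveI := hloc
  letI : Algebra (MvPolynomial σ A) (MvPolynomial σ A') := MvPolynomial.algebraMvPolynomial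
  have hpoly : IsLocalization ((Submonoid.powers f).map (C : A →+* MvPolynomial σ A))
      (MvPolynomial σ A') := MvPolynomial.isLocalization (Submonoid.powers f) A'
  have halg : ∀ p : MvPolynomial σ A,
      algebraMap (MvPolynomial σ A) (MvPolynomial σ A') p = MvPolynomial.map φ p := fun p => rfl
  obtain ⟨⟨p, c⟩, hpc⟩ := IsLocalization.surj
    ((Submonoid.powers f).map (C : A →+* MvPolynomial σ A)) p'
  obtain ⟨c0, hc0, hc0'⟩ := c.2
  obtain ⟨N, rfl⟩ := (Submonoid.mem_powers_iff _ _).mp hc0
  refine ⟨N, p, ?_⟩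
  have := hpc
  rw [halg, halg] at this
  rw [← this]
  simp only [← hc0']
  rw [MvPolynomial.map_C, map_pow, map_pow, mul_comm]

include hloc in
theorem isUnit_C : IsUnit (C (φ f) : MvPolynomial σ A') := by
  letI := φ.toAlgebra
  haveI := hloc
  exact (IsLocalization.Away.algebraMap_isUnit (S := A') f).map C

variable (I : Ideal (MvPolynomial σ A)) (I' : Ideal (MvPolynomial σ A'))

include hloc in
/-- a criterion for an ideal of `A'[T]` to be the extension of an ideal of `A[T]` -/
theorem eq_map_of_forall (h1 : I.map (MvPolynomial.map φ) ≤ I')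
    (h2 : ∀ p : MvPolynomial σ A, MvPolynomial.map φ p ∈ I' → ∃ M : ℕ, C f ^ M * p ∈ I) :
    I.map (MvPolynomial.map φ) = I' := by
  refine le_antisymm h1 ?_
  intro p' hp'
  obtain ⟨N, p, hp⟩ := exists_map_eq_pow_mul φ f hloc p'
  have h3 : MvPolynomial.map φ p ∈ I' := by
    rw [hp]
    exact I'.mul_mem_left _ hp'
  obtain ⟨M, hM⟩ := h2 p h3
  have h4 := Ideal.mem_map_of_mem (MvPolynomial.map φ) hM
  rw [map_mul, map_pow, MvPolynomial.map_C, hp, ← mul_assoc, ← pow_add] at h4
  exact (Ideal.unit_mul_mem_iff_mem _ ((isUnit_C φ f hloc).pow (M + N))).mp h4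

include hloc in
/-- the same criterion, for homogeneous ideals and forms -/
theorem eq_map_of_forall_homogeneous (hI' : I'.IsHomogeneous (homogeneousSubmodule σ A'))
    (h1 : I.map (MvPolynomial.map φ) ≤ I')
    (h2 : ∀ (d : ℕ) (p : MvPolynomial σ A), p ∈ homogeneousSubmodule σ A d →
      MvPolynomial.map φ p ∈ I' → ∃ M : ℕ, C f ^ M * p ∈ I) :
    I.map (MvPolynomial.map φ) = I' := by
  classical
  refine eq_map_of_forall φ f hloc I I' h1 ?_
  intro p hp
  have hcomp : ∀ d, MvPolynomial.map φ (homogeneousComponent d p) ∈ I' := by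
    intro d
    rw [map_homogeneousComponent]
    exact homogeneousComponent_mem_of_mem hI' hp d
  choose M hM using fun d => h2 d (homogeneousComponent d p)
    (homogeneousComponent_mem d p) (hcomp d)
  obtain ⟨K, hK⟩ : ∃ K, ∀ d ∈ Finset.range (p.totalDegree + 1), M d ≤ K :=
    ⟨_, fun d hd => Finset.le_sup hd⟩
  refine ⟨K, ?_⟩
  rw [← sum_homogeneousComponent p, Finset.mul_sum]
  refine Ideal.sum_mem _ fun d hd => ?_
  obtain ⟨k, hk⟩ := Nat.exists_eq_add_of_le (hK d hd)
  rw [hk, pow_add, mul_comm (C f ^ M d), mul_assoc]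
  exact I.mul_mem_left _ (hM d)

include hloc in
/-- membership in an extended ideal -/
theorem exists_pow_mul_mem_of_map_mem (p : MvPolynomial σ A)
    (hp : MvPolynomial.map φ p ∈ I.map (MvPolynomial.map φ)) : ∃ k : ℕ, C f ^ k * p ∈ I := by
  letI := φ.toAlgebra
  haveI := hloc
  letI : Algebra (MvPolynomial σ A) (MvPolynomial σ A') := MvPolynomial.algebraMvPolynomial
  have hpoly : IsLocalization ((Submonoid.powers f).map (C : A →+* MvPolynomial σ A))
      (MvPolynomial σ A') := MvPolynomial.isLocalization (Submonoid.powers f) A'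
  have h1 : algebraMap (MvPolynomial σ A) (MvPolynomial σ A') p ∈
      I.map (algebraMap (MvPolynomial σ A) (MvPolynomial σ A')) := hp
  rw [IsLocalization.algebraMap_mem_map_algebraMap_iff
    ((Submonoid.powers f).map (C : A →+* MvPolynomial σ A))] at h1
  obtain ⟨m, ⟨c0, hc0, rfl⟩, hm⟩ := h1
  obtain ⟨k, rfl⟩ := (Submonoid.mem_powers_iff _ _).mp hc0
  exact ⟨k, by rwa [map_pow] at hm⟩

/-- the induced map on quotients -/
noncomputable def quotMap (h : I.map (MvPolynomial.map φ) ≤ I') :
    MvPolynomial σ A ⧸ I →+* MvPolynomial σ A' ⧸ I' :=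
  Ideal.quotientMap I' (MvPolynomial.map φ) (Ideal.map_le_iff_le_comap.mp h)

theorem quotMap_mk (h : I.map (MvPolynomial.map φ) ≤ I') (p : MvPolynomial σ A) :
    quotMap φ I I' h (Ideal.Quotient.mk I p) = Ideal.Quotient.mk I' (MvPolynomial.map φ p) :=
  rfl

include hloc in
/-- the quotient by an extended ideal is the localization of the quotient -/
theorem isLocalization_quotMap (hI' : I.map (MvPolynomial.map φ) = I') :
    @IsLocalization.Away _ _ (Ideal.Quotient.mk I (C f)) (MvPolynomial σ A' ⧸ I') _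
      (quotMap φ I I' hI'.le).toAlgebra := by
  letI := (quotMap φ I I' hI'.le).toAlgebra
  have hmap : ∀ x, algebraMap (MvPolynomial σ A ⧸ I) (MvPolynomial σ A' ⧸ I') x =
      quotMap φ I I' hI'.le x := fun _ => rfl
  refine IsLocalization.Away.mk _ ?_ ?_ ?_
  · rw [hmap, quotMap_mk, MvPolynomial.map_C]
    exact (isUnit_C φ f hloc).map (Ideal.Quotient.mk I')
  · intro s
    obtain ⟨p', rfl⟩ := Ideal.Quotient.mk_surjective s
    obtain ⟨N, p, hp⟩ := exists_map_eq_pow_mul φ f hloc p'
    refine ⟨N, Ideal.Quotient.mk I p, ?_⟩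
    rw [hmap, hmap, quotMap_mk, quotMap_mk, MvPolynomial.map_C, hp, map_mul, map_pow, mul_comm]
  · intro a b hab
    obtain ⟨p, rfl⟩ := Ideal.Quotient.mk_surjective a
    obtain ⟨q, rfl⟩ := Ideal.Quotient.mk_surjective b
    rw [hmap, hmap, quotMap_mk, quotMap_mk, Ideal.Quotient.eq, ← map_sub, ← hI'] at hab
    obtain ⟨k, hk⟩ := exists_pow_mul_mem_of_map_mem φ f hloc I (p - q) hab
    refine ⟨k, ?_⟩
    rw [← map_pow, ← map_mul, ← map_mul, Ideal.Quotient.eq, ← mul_sub]
    exact hk

end Groth.Agent.Lib.Helper18.QuotLoc
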