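import Mathlib
import Groth.Agent.Lib.Helper18.HProjIdeal
import Groth.Agent.Lib.Helper18.QuotLoc
import Groth.Agent.Lib.Helper18.AffGr2
import Groth.Agent.Lib.Helper17.GradedQuotient

/-!
# The quasi-coherent graded algebra of a closed subscheme of `P^n_S` (helper18)
-/

set_option autoImplicit false
set_option linter.style.haveILetI false
set_option linter.unusedSectionVars false
universe u
open AlgebraicGeometry CategoryTheory Limits TopologicalSpace Opposite
open scoped HomogeneousIdeal

namespace Groth.Agent.Lib.Helper18.HProj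

open Groth.Agent.Lib.Helper17 Groth.Agent.Lib.Helper18.AffAlg Groth.Agent.Lib.Helper18.GrTransport
  Groth.Agent.Lib.Helper18.QuotLoc Groth.Agent.Lib.Helper93

variable {S : Scheme.{u}} (n : ℕ) {X : Scheme.{u}} (i : X ⟶ CohB1.ProjSpaceOver n S)
  [IsClosedImmersion i]

/-- **the graded ideal over a basic open is the extension of the graded ideal** -/
theorem map_IU_basicOpen (U : S.Opens) (hU : IsAffineOpen U) (r : Γ(S, U)) :
    (IU n i U hU).map (MvPolynomial.map (S.presheaf.map (homOfLE (S.basicOpen_le r)).op).hom) =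
      IU n i (S.basicOpen r) (hU.basicOpen r) := by
  have hA : IsLocalization.Away r Γ(S, S.basicOpen r) := hU.isLocalization_basicOpen r
  refine eq_map_of_forall_homogeneous (S.presheaf.map (homOfLE (S.basicOpen_le r)).op).hom r hA
    _ _ (IU_isHomogeneous n i _ (hU.basicOpen r)) (map_IU_le n i _ hU (hU.basicOpen r)) ?_
  intro d p hp hmap
  exact exists_pow_mul_mem_IU n i U hU r hp hmap

/-- the ideal over an object of the affine Zariski site -/
noncomputable abbrev idealA (U : S.AffineZariskiSite) :
    Ideal (MvPolynomial (Fin (n + 1)) Γ(S, U.1)) := IU n i U.1 U.2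

/-- restriction of the quotients -/
noncomputable def resQ {U V : S.AffineZariskiSite} (h : V.1 ≤ U.1) :
    MvPolynomial (Fin (n + 1)) Γ(S, U.1) ⧸ idealA n i U →+*
      MvPolynomial (Fin (n + 1)) Γ(S, V.1) ⧸ idealA n i V :=
  quotMap (S.presheaf.map (homOfLE h).op).hom _ _ (map_IU_le n i h U.2 V.2)

theorem resQ_mk {U V : S.AffineZariskiSite} (h : V.1 ≤ U.1)
    (p : MvPolynomial (Fin (n + 1)) Γ(S, U.1)) :
    resQ n i h (Ideal.Quotient.mk _ p) =
      Ideal.Quotient.mk _ (MvPolynomial.map (S.presheaf.map (homOfLE h).op).hom p) := rfl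

theorem resQ_self (U : S.AffineZariskiSite) : resQ n i (le_refl U.1) = RingHom.id _ := by
  refine Ideal.Quotient.ringHom_ext (RingHom.ext fun p => ?_)
  have h0 : (S.presheaf.map (homOfLE (le_refl U.1)).op).hom = RingHom.id _ := by
    have : homOfLE (le_refl U.1) = 𝟙 U.1 := rfl
    rw [this, op_id, S.presheaf.map_id]
    rfl
  change resQ n i (le_refl U.1) (Ideal.Quotient.mk _ p) = Ideal.Quotient.mk _ p
  rw [resQ_mk, h0, MvPolynomial.map_id]

theorem resQ_comp {U V W : S.AffineZariskiSite} (h : V.1 ≤ U.1) (h' : W.1 ≤ V.1) :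
    (resQ n i h').comp (resQ n i h) = resQ n i (h'.trans h) := by
  refine Ideal.Quotient.ringHom_ext (RingHom.ext fun p => ?_)
  have h0 : (S.presheaf.map (homOfLE h').op).hom.comp (S.presheaf.map (homOfLE h).op).hom =
      (S.presheaf.map (homOfLE (h'.trans h)).op).hom := by
    rw [← CommRingCat.hom_comp, ← Functor.map_comp]
    rfl
  change resQ n i h' (resQ n i h (Ideal.Quotient.mk _ p)) =
    resQ n i (h'.trans h) (Ideal.Quotient.mk _ p)
  rw [resQ_mk, resQ_mk, resQ_mk, MvPolynomial.map_map, h0]

/-- the presheaf of quotients on the affine opens -/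
noncomputable def quotFunctor : S.AffineZariskiSiteᵒᵖ ⥤ CommRingCat.{u} where
  obj U := CommRingCat.of (MvPolynomial (Fin (n + 1)) Γ(S, U.unop.1) ⧸ idealA n i U.unop)
  map {U V} k := CommRingCat.ofHom
    (resQ n i (Scheme.AffineZariskiSite.toOpens_mono (leOfHom k.unop)))
  map_id U := by
    ext : 1
    exact resQ_self n i U.unop
  map_comp {U V W} k l := by
    ext : 1
    exact (resQ_comp n i _ _).symm

/-- the structure map -/
noncomputable def quotStr :
    (Scheme.AffineZariskiSite.toOpensFunctor S).op ⋙ S.presheaf ⟶ quotFunctor n i where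
  app U := CommRingCat.ofHom
    ((Ideal.Quotient.mk (idealA n i U.unop)).comp
      (MvPolynomial.C : Γ(S, U.unop.1) →+* MvPolynomial (Fin (n + 1)) Γ(S, U.unop.1)))
  naturality {U V} k := by
    ext r
    change Ideal.Quotient.mk _ (MvPolynomial.C _) =
      resQ n i _ (Ideal.Quotient.mk _ (MvPolynomial.C r))
    rw [resQ_mk, MvPolynomial.map_C]
    rfl

theorem quotStr_app (U : S.AffineZariskiSite) (r : Γ(S, U.1)) :
    ((quotStr n i).app (op U)).hom r = Ideal.Quotient.mk _ (MvPolynomial.C r) := rfl

theorem coequifibered_quotStr : (quotStr n i).Coequifibered := by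
  rw [Scheme.AffineZariskiSite.coequifibered_iff_forall_isLocalizationAway]
  intro U r
  have hA : IsLocalization.Away r Γ(S, S.basicOpen r) := U.2.isLocalization_basicOpen r
  exact isLocalization_quotMap (S.presheaf.map (homOfLE (S.basicOpen_le r)).op).hom r hA
    (idealA n i U) _ (map_IU_basicOpen n i U.1 U.2 r)

/-- the grading of the quotient -/
noncomputable abbrev qDeg (U : S.AffineZariskiSite) :
    ℕ → Submodule Γ(S, U.1) (MvPolynomial (Fin (n + 1)) Γ(S, U.1) ⧸ idealA n i U) :=
  GQ.grading (CohB1.polyGrading n Γ(S, U.1)) (idealA n i U)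

noncomputable instance qGraded (U : S.AffineZariskiSite) : GradedAlgebra (qDeg n i U) :=
  GQ.gradedAlgebra _ _ (IU_isHomogeneous n i U.1 U.2)

/-- the affine-local graded data `U ↦ Γ(U)[T]/I_U` -/
noncomputable def hprojGrData : GrData S where
  F := quotFunctor n i
  str := quotStr n i
  coeq := coequifibered_quotStr n i
  deg U := toSubN (qDeg n i U)
  graded U := gradedRing_comapDeg (RingEquiv.refl _) (qDeg n i U)
  map_mem := fun {U V} k {d x} hx => by
    obtain ⟨a, ha, rfl⟩ := GQ.exists_of_mem_grading _ _ hx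
    exact GQ.mk_mem_grading _ _ (MvPolynomial.IsHomogeneous.map ha _)
  str_mem := fun U r => GQ.mk_mem_grading _ _ (C_mem_zero n r)

/-- the quasi-coherent graded algebra `O_S[T]/𝓘` of the closed subscheme -/
noncomputable def hprojAlg : RelProj.QCGrAlg S := grAlg (hprojGrData n i)

end Groth.Agent.Lib.Helper18.HProj
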