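import Mathlib
import Groth.Agent.Lib.Helper18.HProjData
import Groth.Agent.Lib.Helper18.ProjEquiv
import Groth.Agent.Lib.Helper18.LocProj

/-!
# A closed subscheme of `P^n_S` is a relative `Proj` (helper18)
-/

set_option autoImplicit false
set_option linter.style.haveILetI false
set_option linter.unusedSectionVars false
universe u
open AlgebraicGeometry CategoryTheory Limits TopologicalSpace Opposite
open scoped HomogeneousIdeal

namespace Groth.Agent.Lib.Helper18.HProj

open Groth.Agent.Lib.Helper17 Groth.Agent.Lib.Helper18.AffAlg Groth.Agent.Lib.Helper18.GrTransport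
  Groth.Agent.Lib.Helper18.QuotLoc Groth.Agent.Lib.Helper93 Groth.Agent.Lib.Helper18.LocProj

theorem exists_finset_of_fg {R B : Type u} [CommRing R] [CommRing B] [Algebra R B]
    (N : Submodule R B) (h : N.FG) :
    ∃ T : Finset B, (↑T : Set B) ⊆ (N : Set B) ∧
      ∀ x ∈ N, ∃ c : B → R, x = ∑ t ∈ T, algebraMap R B (c t) * t := by
  obtain ⟨T, hT⟩ := h
  refine ⟨T, ?_, ?_⟩
  · rw [← hT]; exact Submodule.subset_span
  · intro x hx
    rw [← hT, Submodule.mem_span_finset] at hx
    obtain ⟨c, -, hc⟩ := hx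
    exact ⟨c, by rw [← hc]; exact Finset.sum_congr rfl fun t _ => Algebra.smul_def _ _⟩

variable {S : Scheme.{u}} (n : ℕ) {X : Scheme.{u}} (i : X ⟶ CohB1.ProjSpaceOver n S)
  [IsClosedImmersion i]

theorem isGenDegOne_hprojAlg : (hprojAlg n i).IsGenDegOne :=
  isGenDegOne_grAlg (hprojGrData n i) (fun U => closure_quot_eq_top n (idealA n i U))

theorem isFTDeg_hprojAlg : (hprojAlg n i).IsFTDeg 1 := by
  refine isFTDeg_grAlg (hprojGrData n i) 1 (fun U => ?_)
  obtain ⟨T, hT, hgen⟩ := exists_finset_of_fg _ (fg_quot_one n (idealA n i U))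
  exact ⟨T, hT, fun x hx => hgen x hx⟩

variable (U : S.Opens) (hU : IsAffineOpen U)

noncomputable instance qGradedU : GradedAlgebra
    (GQ.grading (CohB1.polyGrading n Γ(S, U)) (IU n i U hU)) :=
  GQ.gradedAlgebra _ _ (IU_isHomogeneous n i U hU)

/-- sections of `hprojAlg` over an affine open -/
noncomputable def secQ : (hprojAlg n i).presheaf.obj (op U) ≃+*
    MvPolynomial (Fin (n + 1)) Γ(S, U) ⧸ IU n i U hU :=
  gamE (hprojGrData n i).toData U hU

theorem mem_deg_iff_secQ (d : ℕ) (x : (hprojAlg n i).presheaf.obj (op U)) :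
    x ∈ (hprojAlg n i).deg U hU d ↔ secQ n i U hU x ∈ qDeg n i (mkAff U hU) d := Iff.rfl

theorem secQ_str (r : Γ(S, U)) :
    secQ n i U hU (((hprojAlg n i).str.app (op U)).hom r) =
      Ideal.Quotient.mk _ (MvPolynomial.C r) :=
  gamE_str (hprojGrData n i).toData U hU r

/-- the quotient homomorphism -/
noncomputable abbrev quotH : CohB1.polyGrading n Γ(S, U) →+*ᵍ qDeg n i (mkAff U hU) :=
  GQ.quotHom (CohB1.polyGrading n Γ(S, U)) (IU n i U hU)

theorem irrelevant_le_quotH :
    (qDeg n i (mkAff U hU))₊ ≤ (CohB1.polyGrading n Γ(S, U))₊.map (quotH n i U hU) :=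
  PC.irrelevant_le_map_of_surjective (CohB1.polyGrading n Γ(S, U)) (quotH n i U hU)
    (GQ.quotHom_surjective _ _)

instance : IsClosedImmersion (Proj.map (quotH n i U hU) (irrelevant_le_quotH n i U hU)) :=
  PC.isClosedImmersion_map_of_surjective _ _ (GQ.quotHom_surjective _ _) _

theorem ker_map_quotH :
    (Proj.map (quotH n i U hU) (irrelevant_le_quotH n i U hU)).ker = (iU n i U hU).ker :=
  PC.ker_map_quotHom (CohB1.polyGrading n Γ(S, U)) (iU n i U hU).ker MvPolynomial.X
    (PnCover.X_mem n Γ(S, U)) (PnCover.irrelevant_le_span n Γ(S, U))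
    (irrelevant_le_quotH n i U hU)

/-- `f⁻¹(U) ≅ Proj (Γ(U)[T]/I_U)` -/
noncomputable def lamU :
    ((fOf n i ⁻¹ᵁ U : X.Opens) : Scheme.{u}) ≅ Proj (qDeg n i (mkAff U hU)) :=
  haveI : IsIso (IsClosedImmersion.lift
      (Proj.map (quotH n i U hU) (irrelevant_le_quotH n i U hU)) (iU n i U hU)
      (ker_map_quotH n i U hU).le) :=
    IsClosedImmersion.isIso_lift _ _ (ker_map_quotH n i U hU)
  asIso (IsClosedImmersion.lift
      (Proj.map (quotH n i U hU) (irrelevant_le_quotH n i U hU)) (iU n i U hU)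
      (ker_map_quotH n i U hU).le)

theorem lamU_hom_map :
    (lamU n i U hU).hom ≫ Proj.map (quotH n i U hU) (irrelevant_le_quotH n i U hU) =
      iU n i U hU :=
  IsClosedImmersion.lift_fac _ _ _

/-- transport along `secQ` -/
noncomputable def tauU :
    Proj (qDeg n i (mkAff U hU)) ≅ Proj ((hprojAlg n i).deg U hU) :=
  ProjEquiv.projIso ((hprojAlg n i).deg U hU) (qDeg n i (mkAff U hU)) (secQ n i U hU)
    (mem_deg_iff_secQ n i U hU)

/-- the charts -/
noncomputable def chartU :
    ((fOf n i ⁻¹ᵁ U : X.Opens) : Scheme.{u}) ≅ Proj ((hprojAlg n i).deg U hU) :=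
  lamU n i U hU ≪≫ tauU n i U hU

/-- the closed immersion `Proj hprojAlg(U) ⟶ Proj Γ(U)[T]` -/
noncomputable def cU : Proj ((hprojAlg n i).deg U hU) ⟶ Proj (CohB1.polyGrading n Γ(S, U)) :=
  (tauU n i U hU).inv ≫ Proj.map (quotH n i U hU) (irrelevant_le_quotH n i U hU)

instance : Mono (cU n i U hU) := by
  unfold cU
  infer_instance

theorem chartU_hom_cU : (chartU n i U hU).hom ≫ cU n i U hU = iU n i U hU := by
  unfold chartU cU
  rw [Iso.trans_hom, Category.assoc, Iso.hom_inv_id_assoc, lamU_hom_map]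

theorem tauU_inv_toSpecZero :
    (tauU n i U hU).inv ≫ Proj.toSpecZero (qDeg n i (mkAff U hU)) =
      Proj.toSpecZero ((hprojAlg n i).deg U hU) ≫
        Spec.map (CommRingCat.ofHom (Groth.Agent.Lib.Helper42.zeroHom
          (ProjEquiv.symmGr ((hprojAlg n i).deg U hU) (qDeg n i (mkAff U hU)) (secQ n i U hU)
            (mem_deg_iff_secQ n i U hU)))) :=
  Groth.Agent.Lib.Helper42.map_toSpecZero _ _

theorem cU_toSpec :
    cU n i U hU ≫ toSpecP n Γ(S, U) =
      Proj.toSpecZero ((hprojAlg n i).deg U hU) ≫ Spec.map ((hprojAlg n i).strZero U hU) := by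
  unfold cU
  change (tauU n i U hU).inv ≫ Proj.map (quotH n i U hU) (irrelevant_le_quotH n i U hU) ≫
    Proj.toSpecZero _ ≫ Spec.map (CommRingCat.ofHom (algebraMap Γ(S, U) _)) = _
  rw [← Category.assoc (Proj.map (quotH n i U hU) _), Groth.Agent.Lib.Helper42.map_toSpecZero,
    Category.assoc, reassoc_of% (tauU_inv_toSpecZero n i U hU), ← Spec.map_comp, ← Spec.map_comp]
  congr 2
  refine CommRingCat.hom_ext (RingHom.ext fun r => Subtype.ext ?_)
  change (secQ n i U hU).symm (Ideal.Quotient.mk _ (MvPolynomial.C r)) =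
    ((hprojAlg n i).str.app (op U)).hom r
  rw [← secQ_str n i U hU r, RingEquiv.symm_apply_apply]

theorem chartU_over :
    (chartU n i U hU).hom ≫ Proj.toSpecZero ((hprojAlg n i).deg U hU) ≫
        Spec.map ((hprojAlg n i).strZero U hU) ≫ hU.fromSpec =
      (fOf n i ⁻¹ᵁ U).ι ≫ fOf n i := by
  rw [← Category.assoc (Proj.toSpecZero _), ← cU_toSpec n i U hU, Category.assoc,
    ← Category.assoc, chartU_hom_cU, iU_toSpec_fromSpec]

/-- the graded surjection `Γ(U)[T] → hprojAlg(U)` -/
noncomputable def qU : CohB1.polyGrading n Γ(S, U) →+*ᵍ (hprojAlg n i).deg U hU :=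
  (ProjEquiv.symmGr ((hprojAlg n i).deg U hU) (qDeg n i (mkAff U hU)) (secQ n i U hU)
    (mem_deg_iff_secQ n i U hU)).comp (quotH n i U hU)

theorem qU_apply (a : MvPolynomial (Fin (n + 1)) Γ(S, U)) :
    qU n i U hU a = (secQ n i U hU).symm (Ideal.Quotient.mk _ a) := rfl

theorem cU_eq : ∃ h, cU n i U hU = Proj.map (qU n i U hU) h :=
  ⟨_, (Proj.map_comp _ _ _ _).symm⟩

theorem res_qU (r : Γ(S, U)) (a : MvPolynomial (Fin (n + 1)) Γ(S, U)) :
    (hprojAlg n i).res hU (hU.basicOpen r) (S.basicOpen_le r) (qU n i U hU a) =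
      qU n i (S.basicOpen r) (hU.basicOpen r) (psiRes n (S.basicOpen_le r) a) := by
  apply (secQ n i (S.basicOpen r) (hU.basicOpen r)).injective
  rw [qU_apply, qU_apply, RingEquiv.apply_symm_apply, RelProj.QCGrAlg.res_apply]
  have h1 := gamE_res_basic (hprojGrData n i).toData hU (hU.basicOpen r) r rfl
    (S.basicOpen_le r) ((secQ n i U hU).symm (Ideal.Quotient.mk _ a))
  refine h1.trans ?_
  change resQ n i (U := mkAff U hU) (V := mkAff (S.basicOpen r) (hU.basicOpen r))
    (S.basicOpen_le r) (secQ n i U hU ((secQ n i U hU).symm (Ideal.Quotient.mk _ a))) = _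
  rw [RingEquiv.apply_symm_apply, resQ_mk]
  rfl

theorem chartU_res (r : Γ(S, U)) :
    X.homOfLE ((fOf n i).preimage_mono (S.basicOpen_le r)) ≫ (chartU n i U hU).hom =
      (chartU n i (S.basicOpen r) (hU.basicOpen r)).hom ≫
        Proj.map ((hprojAlg n i).res hU (hU.basicOpen r) (S.basicOpen_le r))
          ((hprojAlg n i).irrelevant_le_map U hU r) := by
  have key : Proj.map ((hprojAlg n i).res hU (hU.basicOpen r) (S.basicOpen_le r))
        ((hprojAlg n i).irrelevant_le_map U hU r) ≫ cU n i U hU =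
      cU n i (S.basicOpen r) (hU.basicOpen r) ≫ mVU n (S.basicOpen_le r) := by
    obtain ⟨h1, e1⟩ := cU_eq n i U hU
    obtain ⟨h2, e2⟩ := cU_eq n i (S.basicOpen r) (hU.basicOpen r)
    rw [e1, e2, ← Proj.map_comp, ← Proj.map_comp]
    refine Groth.Agent.Lib.Helper42.proj_map_congr ?_ _ _
    apply DFunLike.ext
    intro a
    exact res_qU n i U hU r a
  rw [← cancel_mono (cU n i U hU), Category.assoc, chartU_hom_cU, Category.assoc, key,
    ← Category.assoc, chartU_hom_cU, homOfLE_iU n i (S.basicOpen_le r) hU (hU.basicOpen r)]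

/-- **a closed subscheme of `P^n_S` is the relative `Proj` of `O_S[T]/𝓘`** -/
theorem isRelProj_hprojAlg :
    RelProj.IsRelProj (hprojAlg n i) (fOf n i) (chartU n i) where
  chart_over := chartU_over n i
  chart_res := chartU_res n i

/-- **a closed subscheme of `P^n_S` is projective over `S`** -/
theorem isProjective_fOf : RelProj.IsProjective (fOf n i) :=
  ⟨hprojAlg n i, X, fOf n i, chartU n i, Iso.refl X, isGenDegOne_hprojAlg n i,
    isFTDeg_hprojAlg n i, isRelProj_hprojAlg n i, Category.id_comp _⟩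

/-- **an H-projective morphism is projective** -/
theorem isProjective_of_isHProjective {X S : Scheme.{u}} (f : X ⟶ S)
    (hf : RelProj.IsHProjective f) : RelProj.IsProjective f := by
  obtain ⟨n, i, hi, hif⟩ := hf
  subst hif
  exact isProjective_fOf n i

end Groth.Agent.Lib.Helper18.HProj
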