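import Groth.Agent.Lib.Helper18.LSub

/-!
# Good families of submodules: quasi-coherence of a subsheaf in terms of sections

Shared library of helper18 (namespace `Groth.Agent.Lib.Helper18.LSubM`).
`spanRes`, Lemma L (`exists_pow_smul_mem_of_mres_mem_spanRes`), `LSub.Good`, `LSub.Sat`, goodness on basic opens, local nature of goodness.
-/

set_option autoImplicit false
universe u v
open CategoryTheory CategoryTheory.Limits AlgebraicGeometry TopologicalSpace Opposite
open Groth.Agent.Lib.Helper49 Groth.Agent.Lib.Helper45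

namespace Groth.Agent.Lib.Helper18.LSubM

section


variable {X : Scheme.{u}} {F : X.Modules}

/-- The submodule of `Γ(F, D)` spanned by the restrictions of the elements of `N ⊆ Γ(F, V)`. -/
noncomputable def spanRes {V D : X.Opens} (N : Submodule Γ(X, V) Γ(F, V)) (h : D ≤ V) :
    Submodule Γ(X, D) Γ(F, D) :=
  Submodule.span Γ(X, D) (mres F h '' (N : Set Γ(F, V)))

theorem mres_mem_spanRes {V D : X.Opens} {N : Submodule Γ(X, V) Γ(F, V)} (h : D ≤ V)
    {n : Γ(F, V)} (hn : n ∈ N) : mres F h n ∈ spanRes N h :=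
  Submodule.subset_span ⟨n, hn, rfl⟩

theorem spanRes_mono {V D : X.Opens} {N N' : Submodule Γ(X, V) Γ(F, V)} (hNN' : N ≤ N')
    (h : D ≤ V) : spanRes N h ≤ spanRes N' h :=
  Submodule.span_mono (Set.image_mono hNN')

theorem mres_mem_spanRes_of_mem_spanRes {V D D' : X.Opens} {N : Submodule Γ(X, V) Γ(F, V)}
    (h : D ≤ V) (h' : D' ≤ D) {s : Γ(F, D)} (hs : s ∈ spanRes N h) :
    mres F h' s ∈ spanRes N (h'.trans h) := by
  induction hs using Submodule.span_induction with
  | mem x hx =>
    obtain ⟨n, hn, rfl⟩ := hx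
    rw [mres_mres]
    exact mres_mem_spanRes _ hn
  | zero => rw [map_zero]; exact Submodule.zero_mem _
  | add x y _ _ hx hy => rw [map_add]; exact Submodule.add_mem _ hx hy
  | smul a x _ hx => rw [mres_smul]; exact Submodule.smul_mem _ _ hx

theorem spanRes_spanRes_le {V D D' : X.Opens} (N : Submodule Γ(X, V) Γ(F, V))
    (h : D ≤ V) (h' : D' ≤ D) : spanRes (spanRes N h) h' ≤ spanRes N (h'.trans h) := by
  refine Submodule.span_le.mpr ?_
  rintro _ ⟨s, hs, rfl⟩
  exact mres_mem_spanRes_of_mem_spanRes h h' hs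

theorem spanRes_fg {V D : X.Opens} {N : Submodule Γ(X, V) Γ(F, V)} (hN : N.FG) (h : D ≤ V) :
    (spanRes N h).FG := by
  classical
  obtain ⟨s, rfl⟩ := hN
  refine ⟨s.image (mres F h), le_antisymm ?_ ?_⟩
  · refine Submodule.span_mono ?_
    rw [Finset.coe_image]
    exact Set.image_mono Submodule.subset_span
  · refine Submodule.span_le.mpr ?_
    rintro _ ⟨n, hn, rfl⟩
    induction hn using Submodule.span_induction with
    | mem x hx => exact Submodule.subset_span (by rw [Finset.coe_image]; exact ⟨x, hx, rfl⟩)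
    | zero => rw [map_zero]; exact Submodule.zero_mem _
    | add x y _ _ hx hy => rw [map_add]; exact Submodule.add_mem _ hx hy
    | smul a x _ hx => rw [mres_smul]; exact Submodule.smul_mem _ _ hx

/-- If the span of the restrictions of `N` is finitely generated, it is already spanned by the
restrictions of a finitely generated submodule of `N`. -/
theorem exists_fg_le_spanRes_eq {V D : X.Opens} (N : Submodule Γ(X, V) Γ(F, V)) (h : D ≤ V)
    (hfg : (spanRes N h).FG) :
    ∃ N₀ : Submodule Γ(X, V) Γ(F, V), N₀ ≤ N ∧ N₀.FG ∧ spanRes N₀ h = spanRes N h := by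
  classical
  unfold spanRes at hfg
  obtain ⟨s', hs', hspan⟩ := (Submodule.fg_span_iff_fg_span_finset_subset _).mp hfg
  obtain ⟨s'', hs'', rfl⟩ := Finset.subset_set_image_iff.mp hs'
  refine ⟨Submodule.span _ (s'' : Set Γ(F, V)), Submodule.span_le.mpr hs'', ⟨s'', rfl⟩, ?_⟩
  refine le_antisymm (spanRes_mono (Submodule.span_le.mpr hs'') h) ?_
  unfold spanRes
  rw [hspan]
  refine Submodule.span_mono ?_
  rw [Finset.coe_image]
  exact Set.image_mono Submodule.subset_span


end


section


variable {X : Scheme.{u}} {F : X.Modules}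

theorem isUnit_fres_basicOpen {V : X.Opens} (g : Γ(X, V)) :
    IsUnit (fres (X.basicOpen_le g) g) :=
  RingedSpace.isUnit_res_basicOpen _ g

/-- Functions on a basic open of an affine open are fractions. -/
theorem exists_pow_mul_eq_fres {V : X.Opens} (hV : IsAffineOpen V) (g : Γ(X, V))
    (a : Γ(X, X.basicOpen g)) :
    ∃ (k : ℕ) (b : Γ(X, V)), (fres (X.basicOpen_le g) g) ^ k * a = fres (X.basicOpen_le g) b := by
  have := hV.isLocalization_basicOpen g
  obtain ⟨⟨b, ⟨_, k, rfl⟩⟩, hb⟩ := IsLocalization.surj (Submonoid.powers g) a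
  refine ⟨k, b, ?_⟩
  rw [mul_comm, ← map_pow]
  exact hb

/-- Lemma L: membership in the span of restrictions on `D(g)` gives membership after
multiplication by a power of `g`. -/
theorem exists_pow_smul_mem_of_mres_mem_spanRes {V : X.Opens} (hV : IsAffineOpen V)
    (hF : IsLocalizingOn F V) (N : Submodule Γ(X, V) Γ(F, V)) (g : Γ(X, V)) (t : Γ(F, V))
    (ht : mres F (X.basicOpen_le g) t ∈ spanRes N (X.basicOpen_le g)) :
    ∃ k : ℕ, g ^ k • t ∈ N := by
  have key : ∀ s ∈ spanRes N (X.basicOpen_le g), ∃ (k : ℕ) (n : Γ(F, V)), n ∈ N ∧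
      (fres (X.basicOpen_le g) g) ^ k • s = mres F (X.basicOpen_le g) n := by
    intro s hs
    induction hs using Submodule.span_induction with
    | mem x hx =>
      obtain ⟨n, hn, rfl⟩ := hx
      exact ⟨0, n, hn, by rw [pow_zero, one_smul]⟩
    | zero => exact ⟨0, 0, Submodule.zero_mem _, by rw [smul_zero, map_zero]⟩
    | add x y _ _ hx hy =>
      obtain ⟨k₁, n₁, hn₁, h₁⟩ := hx
      obtain ⟨k₂, n₂, hn₂, h₂⟩ := hy
      refine ⟨k₁ + k₂, g ^ k₂ • n₁ + g ^ k₁ • n₂,
        Submodule.add_mem _ (Submodule.smul_mem _ _ hn₁) (Submodule.smul_mem _ _ hn₂), ?_⟩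
      rw [smul_add, map_add, mres_smul, mres_smul, ← h₁, ← h₂, map_pow, map_pow, smul_smul,
        smul_smul, ← pow_add, ← pow_add, add_comm k₂ k₁]
    | smul a x _ hx =>
      obtain ⟨k, n, hn, h⟩ := hx
      obtain ⟨j, b, hb⟩ := exists_pow_mul_eq_fres hV g a
      refine ⟨j + k, b • n, Submodule.smul_mem _ _ hn, ?_⟩
      rw [mres_smul, ← h, ← hb, smul_smul, smul_smul]
      congr 1
      rw [pow_add]
      ring
  obtain ⟨k, n, hn, h⟩ := key _ ht
  have h0 : mres F (X.basicOpen_le g) (g ^ k • t - n) = 0 := by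
    rw [map_sub, mres_smul, map_pow, h, sub_self]
  obtain ⟨j, hj⟩ := hF.exists_pow_smul_eq_zero g (g ^ k • t - n) h0
  refine ⟨j + k, ?_⟩
  rw [smul_sub, sub_eq_zero, smul_smul, ← pow_add] at hj
  rw [hj]
  exact Submodule.smul_mem _ _ hn

namespace LSub

variable (S : LSub F)

/-- `K` is good at the open `T`: a section of `F` over `T` whose restriction to `D(f)` lies in `K`
is multiplied into `K(T)` by a power of `f`. -/
def Good (T : X.Opens) : Prop :=
  ∀ (f : Γ(X, T)) (t : Γ(F, T)), mres F (X.basicOpen_le f) t ∈ S.obj (X.basicOpen f) →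
    ∃ m : ℕ, f ^ m • t ∈ S.obj T

/-- A good family is localizing on `T` as soon as the ambient module is. -/
theorem isLocalizingOn_toModules {T : X.Opens} (hF : IsLocalizingOn F T) (hS : S.Good T) :
    IsLocalizingOn S.toModules T := by
  constructor
  · intro f s
    obtain ⟨n, t, ht⟩ := hF.exists_restrict_eq_pow_smul f (S.ι.app _ s)
    have hmem : mres F (X.basicOpen_le f) t ∈ S.obj (X.basicOpen f) := by
      change mres F _ t = _ at ht
      rw [ht]
      exact Submodule.smul_mem _ _ (S.ι_app_mem _ s)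
    obtain ⟨m, hm⟩ := hS f t hmem
    refine ⟨m + n, S.sec T (f ^ m • t) hm, ?_⟩
    apply S.ι_app_injective
    change mres F _ (f ^ m • t) = (fres (X.basicOpen_le f) f) ^ (m + n) • S.ι.app _ s
    change mres F _ t = (fres (X.basicOpen_le f) f) ^ n • _ at ht
    rw [mres_smul, ht, smul_smul, map_pow, pow_add]
  · intro f t ht
    obtain ⟨n, hn⟩ := hF.exists_pow_smul_eq_zero f (S.ι.app T t) (by
      have := congrArg (S.ι.app _) ht
      rw [map_zero] at this
      exact this)
    refine ⟨n, ?_⟩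
    apply S.ι_app_injective
    rw [map_zero]
    exact hn

end LSub


end


section


variable {X : Scheme.{u}} {F : X.Modules}

namespace LSub

variable (S : LSub F)

/-- A unit multiple lies in the submodule iff the element does. -/
theorem mem_of_isUnit_smul_mem {U : X.Opens} {r : Γ(X, U)} (hr : IsUnit r) {t : Γ(F, U)}
    (h : r • t ∈ S.obj U) : t ∈ S.obj U := by
  obtain ⟨u, rfl⟩ := hr
  have := Submodule.smul_mem (S.obj U) (↑u⁻¹ : Γ(X, U)) h
  rwa [smul_smul, Units.inv_mul, one_smul] at this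

/-- For a family good at an affine open `T`, the sections over `D(g)` are spanned by the
restrictions of the sections over `T`. -/
theorem Good.le_spanRes {T : X.Opens} (hF : IsLocalizingOn F T) (hS : S.Good T) (g : Γ(X, T)) :
    S.obj (X.basicOpen g) ≤ spanRes (S.obj T) (X.basicOpen_le g) := by
  intro k hk
  obtain ⟨a, n, hn⟩ := hF.exists_restrict_eq_pow_smul g k
  change mres F _ n = (fres (X.basicOpen_le g) g) ^ a • k at hn
  have hmem : mres F (X.basicOpen_le g) n ∈ S.obj (X.basicOpen g) := by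
    rw [hn]; exact Submodule.smul_mem _ _ hk
  obtain ⟨m, hm⟩ := hS g n hmem
  have h1 : (fres (X.basicOpen_le g) g) ^ (m + a) • k ∈ spanRes (S.obj T) (X.basicOpen_le g) := by
    have := mres_mem_spanRes (X.basicOpen_le g) hm
    rwa [mres_smul, hn, smul_smul, map_pow, ← pow_add] at this
  have hu : IsUnit ((fres (X.basicOpen_le g) g) ^ (m + a)) := (isUnit_fres_basicOpen g).pow _
  obtain ⟨u, hu'⟩ := hu
  have := Submodule.smul_mem _ (↑u⁻¹ : Γ(X, X.basicOpen g)) h1
  rwa [← hu', smul_smul, Units.inv_mul, one_smul] at this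

theorem spanRes_le {T D : X.Opens} (h : D ≤ T) : spanRes (S.obj T) h ≤ S.obj D := by
  refine Submodule.span_le.mpr ?_
  rintro _ ⟨n, hn, rfl⟩
  exact S.res_mem h hn

theorem Good.obj_basicOpen_eq {T : X.Opens} (hF : IsLocalizingOn F T) (hS : S.Good T)
    (g : Γ(X, T)) : S.obj (X.basicOpen g) = spanRes (S.obj T) (X.basicOpen_le g) :=
  le_antisymm (hS.le_spanRes S hF g) (S.spanRes_le _)

theorem Good.fg_basicOpen {T : X.Opens} (hF : IsLocalizingOn F T) (hS : S.Good T)
    (hfg : (S.obj T).FG) (g : Γ(X, T)) : (S.obj (X.basicOpen g)).FG := by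
  rw [hS.obj_basicOpen_eq S hF g]
  exact spanRes_fg hfg _

/-- Goodness passes to basic opens of an affine open. -/
theorem Good.basicOpen {T : X.Opens} (hT : IsAffineOpen T) (hF : IsLocalizingOn F T)
    (hS : S.Good T) (g : Γ(X, T)) : S.Good (X.basicOpen g) := by
  intro f' t' ht'
  obtain ⟨a, t'', ht''⟩ := hF.exists_restrict_eq_pow_smul g t'
  change mres F _ t'' = (fres (X.basicOpen_le g) g) ^ a • t' at ht''
  obtain ⟨b, f'', hf''⟩ := exists_pow_mul_eq_fres hT g f'
  -- the function `f₁ = g * f''` on `T`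
  set f₁ : Γ(X, T) := g * f'' with hf₁
  have hres : fres (X.basicOpen_le g) f₁ = (fres (X.basicOpen_le g) g) ^ (b + 1) * f' := by
    rw [hf₁, map_mul, ← hf'', pow_succ]
    ring
  have hle_g : X.basicOpen f₁ ≤ X.basicOpen g := by
    rw [hf₁, Scheme.basicOpen_mul]; exact inf_le_left
  have hle : X.basicOpen f₁ ≤ X.basicOpen f' := by
    have h1 : X.basicOpen (fres (X.basicOpen_le g) f₁) = X.basicOpen g ⊓ X.basicOpen f₁ :=
      basicOpen_fres _ _
    have h2 : X.basicOpen (fres (X.basicOpen_le g) f₁) ≤ X.basicOpen f' := by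
      rw [hres, Scheme.basicOpen_mul]; exact inf_le_right
    calc X.basicOpen f₁ = X.basicOpen g ⊓ X.basicOpen f₁ := (inf_eq_right.mpr hle_g).symm
      _ = X.basicOpen (fres (X.basicOpen_le g) f₁) := h1.symm
      _ ≤ X.basicOpen f' := h2
  have hmem : mres F (X.basicOpen_le f₁) t'' ∈ S.obj (X.basicOpen f₁) := by
    have e : mres F (X.basicOpen_le f₁) t'' =
        mres F hle_g (mres F (X.basicOpen_le g) t'') := by rw [mres_mres]
    rw [e, ht'', mres_smul]
    refine Submodule.smul_mem _ _ ?_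
    have e2 : mres F hle_g t' = mres F hle (mres F (X.basicOpen_le f') t') := by rw [mres_mres]
    rw [e2]
    exact S.res_mem hle ht'
  obtain ⟨m, hm⟩ := hS f₁ t'' hmem
  refine ⟨m, ?_⟩
  have h3 := S.res_mem (X.basicOpen_le g) hm
  have e3 : (fres (X.basicOpen_le g) f₁) ^ m • ((fres (X.basicOpen_le g) g) ^ a • t') =
      (fres (X.basicOpen_le g) g) ^ ((b + 1) * m + a) • (f' ^ m • t') := by
    rw [hres, mul_pow, ← pow_mul, smul_smul, smul_smul]
    congr 1
    ring
  rw [mres_smul, ht'', map_pow, e3] at h3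
  exact S.mem_of_isUnit_smul_mem ((isUnit_fres_basicOpen g).pow _) h3

/-- Goodness is local: an open quasi-compact set covered by good opens is good. -/
theorem Good.of_cover {T : X.Opens} (hT : IsCompact (T : Set X))
    (H : ∀ x ∈ T, ∃ T' : X.Opens, T' ≤ T ∧ x ∈ T' ∧ S.Good T') : S.Good T := by
  intro f t ht
  have H' : ∀ x : T, ∃ T' : X.Opens, T' ≤ T ∧ x.1 ∈ T' ∧ S.Good T' := fun x => H x.1 x.2
  choose T' hT'le hxT' hT'good using H'
  have key : ∀ x : T, ∃ m : ℕ, (fres (hT'le x) f) ^ m • mres F (hT'le x) t ∈ S.obj (T' x) := by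
    intro x
    apply hT'good x
    have hle : X.basicOpen (fres (hT'le x) f) ≤ X.basicOpen f := by
      rw [basicOpen_fres]; exact inf_le_right
    have e : mres F (X.basicOpen_le (fres (hT'le x) f)) (mres F (hT'le x) t) =
        mres F hle (mres F (X.basicOpen_le f) t) := by rw [mres_mres, mres_mres]
    rw [e]
    exact S.res_mem hle ht
  choose m hm using key
  obtain ⟨s, hs⟩ := hT.elim_finite_subcover (fun x : T => ((T' x : X.Opens) : Set X))
    (fun x => (T' x).2) (fun x hx => Set.mem_iUnion.mpr ⟨⟨x, hx⟩, hxT' ⟨x, hx⟩⟩)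
  refine ⟨s.sup m, ?_⟩
  apply S.isLocal
  intro x hx
  obtain ⟨y, hy⟩ := Set.mem_iUnion.mp (hs hx)
  obtain ⟨hys, hxy⟩ := Set.mem_iUnion.mp hy
  refine ⟨T' y, hT'le y, hxy, ?_⟩
  have hle : m y ≤ s.sup m := Finset.le_sup hys
  rw [mres_smul, map_pow, ← Nat.sub_add_cancel hle, pow_add, mul_smul]
  exact Submodule.smul_mem _ _ (hm y)

/-- `K` is saturated with respect to the open `W`: membership can be tested after restriction to
`W`. Such families correspond to subsheaves of the restriction of `F` to `W`. -/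
def Sat (W : X.Opens) : Prop :=
  ∀ (T : X.Opens) (t : Γ(F, T)), mres F (inf_le_left : T ⊓ W ≤ T) t ∈ S.obj (T ⊓ W) → t ∈ S.obj T

theorem Sat.good {W : X.Opens} (hS : S.Sat W) {T : X.Opens} (h : S.Good (T ⊓ W)) : S.Good T := by
  intro f t ht
  have hle : X.basicOpen (fres (inf_le_left : T ⊓ W ≤ T) f) ≤ X.basicOpen f := by
    rw [basicOpen_fres]; exact inf_le_right
  obtain ⟨m, hm⟩ := h (fres inf_le_left f) (mres F inf_le_left t) (by
    have e : mres F (X.basicOpen_le (fres (inf_le_left : T ⊓ W ≤ T) f)) (mres F inf_le_left t) =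
        mres F hle (mres F (X.basicOpen_le f) t) := by rw [mres_mres, mres_mres]
    rw [e]
    exact S.res_mem hle ht)
  refine ⟨m, hS T _ ?_⟩
  rw [mres_smul, map_pow]
  exact hm

end LSub


end

end Groth.Agent.Lib.Helper18.LSubM
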