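import Groth.Agent.Lib.Helper18.LSubSection

/-!
# Sums of quasi-coherent subsheaves given by local families

Shared library of helper18 (namespace `Groth.Agent.Lib.Helper18.LSubM`).
`LSub.sup K₁ K₂` is the (sheafified) sum; on an affine open where both are good it is the sum of
the submodules of sections, and it is again good.
-/

set_option autoImplicit false
universe u v
open CategoryTheory CategoryTheory.Limits AlgebraicGeometry TopologicalSpace Opposite
open Groth.Agent.Lib.Helper49 Groth.Agent.Lib.Helper45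

namespace Groth.Agent.Lib.Helper18.LSubM

variable {X : Scheme.{u}} {F : X.Modules}

/-- Elements of the span of restrictions to `D(g)` become restrictions after multiplication by a
power of `g`. -/
theorem exists_pow_smul_eq_mres_of_mem_spanRes {V : X.Opens} (hV : IsAffineOpen V)
    (N : Submodule Γ(X, V) Γ(F, V)) (g : Γ(X, V)) (s : Γ(F, X.basicOpen g))
    (hs : s ∈ spanRes N (X.basicOpen_le g)) :
    ∃ (k : ℕ) (n : Γ(F, V)), n ∈ N ∧
      (fres (X.basicOpen_le g) g) ^ k • s = mres F (X.basicOpen_le g) n := by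
  induction hs using Submodule.span_induction with
  | mem x hx =>
    obtain ⟨n, hn, rfl⟩ := hx
    exact ⟨0, n, hn, by rw [pow_zero, one_smul]⟩
  | zero => exact ⟨0, 0, Submodule.zero_mem _, by rw [smul_zero, map_zero]⟩
  | add x y _ _ hx hy =>
    obtain ⟨k₁, n₁, hn₁, h₁⟩ := hx
    obtain ⟨k₂, n₂, hn₂, h₂⟩ := hy
    refine ⟨k₁ + k₂, g ^ k₂ • n₁ + g ^ k₁ • n₂,
      Submodule.add_mem _ (Submodule.smul_mem _ _ hn₁) (Submodule.smul_mem _ _ hn₂), ?_⟩
    rw [smul_add, map_add, mres_smul, mres_smul, ← h₁, ← h₂, map_pow, map_pow, smul_smul,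
      smul_smul, ← pow_add, ← pow_add, add_comm k₂ k₁]
  | smul a x _ hx =>
    obtain ⟨k, n, hn, h⟩ := hx
    obtain ⟨j, b, hb⟩ := exists_pow_mul_eq_fres hV g a
    refine ⟨j + k, b • n, Submodule.smul_mem _ _ hn, ?_⟩
    rw [mres_smul, ← h, ← hb, smul_smul, smul_smul]
    congr 1
    rw [pow_add]
    ring

namespace LSub

/-- The sum of two subsheaves: sections which are locally sums. -/
noncomputable def sup (K₁ K₂ : LSub F) : LSub F where
  obj T :=
    { carrier := {t | ∀ x ∈ T, ∃ (D : X.Opens) (hD : D ≤ T), x ∈ D ∧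
        ∃ a ∈ K₁.obj D, ∃ b ∈ K₂.obj D, mres F hD t = a + b}
      zero_mem' := fun x hx => ⟨T, le_rfl, hx, 0, Submodule.zero_mem _, 0, Submodule.zero_mem _,
        by rw [map_zero, add_zero]⟩
      add_mem' := by
        intro s t hs ht x hx
        obtain ⟨D₁, h₁, hx₁, a₁, ha₁, b₁, hb₁, e₁⟩ := hs x hx
        obtain ⟨D₂, h₂, hx₂, a₂, ha₂, b₂, hb₂, e₂⟩ := ht x hx
        refine ⟨D₁ ⊓ D₂, inf_le_left.trans h₁, ⟨hx₁, hx₂⟩,
          mres F inf_le_left a₁ + mres F inf_le_right a₂,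
          Submodule.add_mem _ (K₁.res_mem _ ha₁) (K₁.res_mem _ ha₂),
          mres F inf_le_left b₁ + mres F inf_le_right b₂,
          Submodule.add_mem _ (K₂.res_mem _ hb₁) (K₂.res_mem _ hb₂), ?_⟩
        have e₁' := congrArg (mres F (inf_le_left : D₁ ⊓ D₂ ≤ D₁)) e₁
        have e₂' := congrArg (mres F (inf_le_right : D₁ ⊓ D₂ ≤ D₂)) e₂
        rw [mres_mres, map_add] at e₁' e₂'
        rw [map_add, e₁', e₂']
        abel
      smul_mem' := by
        intro c t ht x hx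
        obtain ⟨D, h, hxD, a, ha, b, hb, e⟩ := ht x hx
        refine ⟨D, h, hxD, fres h c • a, Submodule.smul_mem _ _ ha, fres h c • b,
          Submodule.smul_mem _ _ hb, ?_⟩
        rw [mres_smul, e, smul_add] }
  res_mem := by
    intro U T h t ht x hx
    obtain ⟨D, hD, hxD, a, ha, b, hb, e⟩ := ht x (h hx)
    refine ⟨D ⊓ T, inf_le_right, ⟨hxD, hx⟩, mres F inf_le_left a, K₁.res_mem _ ha,
      mres F inf_le_left b, K₂.res_mem _ hb, ?_⟩
    have e' := congrArg (mres F (inf_le_left : D ⊓ T ≤ D)) e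
    rw [mres_mres, map_add] at e'
    rw [mres_mres, e']
  isLocal := by
    intro U t H x hx
    obtain ⟨T, hTU, hxT, hm⟩ := H x hx
    obtain ⟨D, hD, hxD, a, ha, b, hb, e⟩ := hm x hxT
    refine ⟨D, hD.trans hTU, hxD, a, ha, b, hb, ?_⟩
    rw [mres_mres] at e
    exact e

theorem le_sup_left (K₁ K₂ : LSub F) : K₁ ≤ K₁.sup K₂ := by
  intro T t ht x hx
  exact ⟨T, le_rfl, hx, t, ht, 0, Submodule.zero_mem _, by rw [mres_self, add_zero]⟩

theorem le_sup_right (K₁ K₂ : LSub F) : K₂ ≤ K₁.sup K₂ := by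
  intro T t ht x hx
  exact ⟨T, le_rfl, hx, 0, Submodule.zero_mem _, t, ht, by rw [mres_self, zero_add]⟩

theorem sup_obj_le (K₁ K₂ : LSub F) (T : X.Opens) : K₁.obj T ⊔ K₂.obj T ≤ (K₁.sup K₂).obj T :=
  _root_.sup_le (le_sup_left K₁ K₂ T) (le_sup_right K₁ K₂ T)

/-- Local membership in the span of the sum, on basic opens. -/
theorem sup_locally_mem_spanRes {K₁ K₂ : LSub F} {T : X.Opens} (hT : IsAffineOpen T)
    (hF : IsLocalizingOn F T) (h₁ : K₁.Good T) (h₂ : K₂.Good T) {T₁ : X.Opens} (hT₁ : T₁ ≤ T)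
    (t : Γ(F, T)) (ht : mres F hT₁ t ∈ (K₁.sup K₂).obj T₁) :
    ∀ x ∈ T₁, ∃ (D : X.Opens) (hD : D ≤ T), x ∈ D ∧
      mres F hD t ∈ spanRes (K₁.obj T ⊔ K₂.obj T) hD := by
  intro x hx
  obtain ⟨D, hD, hxD, a, ha, b, hb, e⟩ := ht x hx
  obtain ⟨g, hgD, hxg⟩ := hT.exists_basicOpen_le (V := D) ⟨x, hxD⟩ (hT₁ hx)
  refine ⟨X.basicOpen g, X.basicOpen_le g, hxg, ?_⟩
  have e' := congrArg (mres F hgD) e
  rw [mres_mres, mres_mres, map_add] at e'
  rw [e']
  refine Submodule.add_mem _ ?_ ?_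
  · exact spanRes_mono _root_.le_sup_left _ (h₁.le_spanRes K₁ hF g (K₁.res_mem hgD ha))
  · exact spanRes_mono _root_.le_sup_right _ (h₂.le_spanRes K₂ hF g (K₂.res_mem hgD hb))

theorem sup_obj_affine {K₁ K₂ : LSub F} {T : X.Opens} (hT : IsAffineOpen T)
    (hF : IsLocalizingOn F T) (h₁ : K₁.Good T) (h₂ : K₂.Good T) :
    (K₁.sup K₂).obj T = K₁.obj T ⊔ K₂.obj T := by
  refine le_antisymm ?_ (sup_obj_le K₁ K₂ T)
  intro t ht
  obtain ⟨m, hm⟩ := exists_pow_smul_mem_of_locally_mem_spanRes hT hF (K₁.obj T ⊔ K₂.obj T) 1 t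
    (fun x hx => sup_locally_mem_spanRes hT hF h₁ h₂ le_rfl t (by rwa [mres_self]) x
      (X.basicOpen_le 1 hx))
  rwa [one_pow, one_smul] at hm

theorem sup_good {K₁ K₂ : LSub F} {T : X.Opens} (hT : IsAffineOpen T)
    (hF : IsLocalizingOn F T) (h₁ : K₁.Good T) (h₂ : K₂.Good T) : (K₁.sup K₂).Good T := by
  intro f t ht
  obtain ⟨m, hm⟩ := exists_pow_smul_mem_of_locally_mem_spanRes hT hF (K₁.obj T ⊔ K₂.obj T) f t
    (sup_locally_mem_spanRes hT hF h₁ h₂ (X.basicOpen_le f) t ht)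
  exact ⟨m, sup_obj_le K₁ K₂ T hm⟩

end LSub

end Groth.Agent.Lib.Helper18.LSubM
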