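import Groth.Agent.Lib.Helper18.LSubExt

/-!
# Transfinite extension of finite type quasi-coherent subsheaves (EGA I 9.4.7, general form)

Shared library of helper18 (namespace `Groth.Agent.Lib.Helper18.LSubM`).
`LSub.exists_extension`.
-/

set_option autoImplicit false
universe u v
open CategoryTheory CategoryTheory.Limits AlgebraicGeometry TopologicalSpace Opposite
open Groth.Agent.Lib.Helper49 Groth.Agent.Lib.Helper45

namespace Groth.Agent.Lib.Helper18.LSubM

section


variable {X : Scheme.{u}} {F : X.Modules}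

namespace LSub

theorem Sat.congr {S : LSub F} {W W' : X.Opens} (h : W = W') (hS : S.Sat W) : S.Sat W' := by
  subst h; exact hS

theorem Good.of_eq_on {S S' : LSub F} {T : X.Opens} (h : ∀ T' ≤ T, S'.obj T' = S.obj T')
    (hS : S.Good T) : S'.Good T := by
  intro f t ht
  rw [h _ (X.basicOpen_le f)] at ht
  obtain ⟨m, hm⟩ := hS f t ht
  exact ⟨m, by rw [h _ le_rfl]; exact hm⟩

theorem le_of_sat_of_eq_on {S S' : LSub F} {W : X.Opens} (hS : S.Sat W)
    (h : ∀ T ≤ W, S'.obj T = S.obj T) : S' ≤ S := by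
  intro T t ht
  apply hS T t
  rw [← h _ inf_le_right]
  exact S'.res_mem _ ht

section Transfinite

variable {L : Type v} (V : L → X.Opens) (W₀ : X.Opens)

/-- The open set covered at the stage `A`. -/
def WA (A : Set L) : X.Opens := W₀ ⊔ ⨆ l ∈ A, V l

theorem WA_mono {A B : Set L} (h : A ⊆ B) : WA V W₀ A ≤ WA V W₀ B :=
  sup_le_sup_left (biSup_mono h) _

theorem le_WA (A : Set L) : W₀ ≤ WA V W₀ A := le_sup_left

theorem V_le_WA {A : Set L} {l : L} (hl : l ∈ A) : V l ≤ WA V W₀ A :=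
  le_sup_of_le_right (le_biSup V hl)

theorem WA_insert (A : Set L) (l : L) : WA V W₀ (insert l A) = WA V W₀ A ⊔ V l := by
  unfold WA
  rw [iSup_insert, sup_comm (V l), sup_assoc]

theorem WA_empty : WA V W₀ (∅ : Set L) = W₀ := by
  unfold WA
  simp

variable [LinearOrder L] (K₀ : LSub F)

/-- A stage of the transfinite construction. -/
structure Stage where
  A : Set L
  K : LSub F
  lower : IsLowerSet A
  sat : K.Sat (WA V W₀ A)
  eq₀ : ∀ T ≤ W₀, K.obj T = K₀.obj T
  good : ∀ l ∈ A, K.Good (V l) ∧ (K.obj (V l)).FG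

variable {V W₀ K₀}

/-- The order on stages. -/
def Stage.r (s s' : Stage V W₀ K₀) : Prop :=
  s.A ⊆ s'.A ∧ ∀ T ≤ WA V W₀ s.A, s'.K.obj T = s.K.obj T

theorem Stage.r.le {s s' : Stage V W₀ K₀} (h : s.r s') : s'.K ≤ s.K :=
  le_of_sat_of_eq_on s.sat h.2

theorem Stage.r.trans {a b c : Stage V W₀ K₀} (h₁ : a.r b) (h₂ : b.r c) : a.r c :=
  ⟨h₁.1.trans h₂.1, fun T hT => (h₂.2 T (hT.trans (WA_mono V W₀ h₁.1))).trans (h₁.2 T hT)⟩

/-- Upper bound of a nonempty chain of stages. -/
theorem Stage.exists_ub (c : Set (Stage V W₀ K₀)) (hc : IsChain Stage.r c) (hne : c.Nonempty) :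
    ∃ ub : Stage V W₀ K₀, ∀ a ∈ c, a.r ub := by
  -- the intersection
  let Kc : LSub F := LSub.sInf ((fun s : Stage V W₀ K₀ => s.K) '' c)
  have hmem : ∀ {T : X.Opens} {t : Γ(F, T)}, t ∈ Kc.obj T ↔ ∀ s ∈ c, t ∈ s.K.obj T := by
    intro T t
    rw [mem_sInf_obj]
    constructor
    · intro h s hs
      exact h _ ⟨s, hs, rfl⟩
    · rintro h _ ⟨s, hs, rfl⟩
      exact h s hs
  have hclaim : ∀ s ∈ c, ∀ T ≤ WA V W₀ s.A, Kc.obj T = s.K.obj T := by
    intro s hs T hT
    refine le_antisymm (fun t ht => hmem.mp ht s hs) (fun t ht => hmem.mpr fun s' hs' => ?_)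
    by_cases hss' : s = s'
    · subst hss'; exact ht
    · rcases hc hs hs' hss' with h | h
      · rw [h.2 T hT]; exact ht
      · exact h.le T ht
  refine ⟨⟨⋃ s ∈ c, s.A, Kc, ?_, ?_, ?_, ?_⟩, fun s hs => ⟨Set.subset_biUnion_of_mem hs, hclaim s hs⟩⟩
  · -- lower set
    intro a b hba ha
    obtain ⟨s, hs, has⟩ := Set.mem_iUnion₂.mp ha
    exact Set.mem_iUnion₂.mpr ⟨s, hs, s.lower hba has⟩
  · -- saturated
    intro T t ht
    refine hmem.mpr fun s hs => s.sat T t ?_
    have hle : T ⊓ WA V W₀ s.A ≤ T ⊓ WA V W₀ (⋃ s ∈ c, s.A) :=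
      inf_le_inf_left _ (WA_mono V W₀ (Set.subset_biUnion_of_mem hs))
    have := s.K.res_mem hle (hmem.mp ht s hs)
    rwa [mres_mres] at this
  · -- unchanged on `W₀`
    intro T hT
    obtain ⟨s, hs⟩ := hne
    rw [hclaim s hs T (hT.trans (le_WA V W₀ _)), s.eq₀ T hT]
  · -- good
    intro l hl
    obtain ⟨s, hs, hls⟩ := Set.mem_iUnion₂.mp hl
    have hle : V l ≤ WA V W₀ s.A := V_le_WA V W₀ hls
    refine ⟨(s.good l hls).1.of_eq_on fun T' hT' => hclaim s hs T' (hT'.trans hle), ?_⟩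
    rw [hclaim s hs _ hle]
    exact (s.good l hls).2

end Transfinite

end LSub


end


section


variable {X : Scheme.{u}} {F : X.Modules}

namespace LSub

variable {L : Type v} [LinearOrder L] [WellFoundedLT L] {V : L → X.Opens} {W₀ : X.Opens}
  {K₀ : LSub F}

/-- Transfinite extension: a family saturated, locally good and locally of finite type on `W₀` can
be shrunk, without changing it on `W₀`, to a family which is good and of finite type on each
member of a well-ordered family of affine opens `V l`, provided the intersections of `V l` with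
`W₀` and with the union of the earlier `V m` are quasi-compact. -/
theorem exists_extension
    (hF : ∀ T : X.Opens, IsAffineOpen T → IsLocalizingOn F T)
    (hV : ∀ l, IsAffineOpen (V l))
    (hW : ∀ l, IsCompact ((V l : Set X) ∩ ⋃ m ∈ Set.Iio l, (V m : Set X)))
    (hW₀ : ∀ l, IsCompact ((V l : Set X) ∩ (W₀ : Set X)))
    (hsat₀ : K₀.Sat W₀)
    (hK₀ : ∀ x ∈ W₀, ∃ T : X.Opens, IsAffineOpen T ∧ x ∈ T ∧ T ≤ W₀ ∧ K₀.Good T ∧ (K₀.obj T).FG) :
    ∃ K : LSub F, (∀ T ≤ W₀, K.obj T = K₀.obj T) ∧ ∀ l, K.Good (V l) ∧ (K.obj (V l)).FG := by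
  have hchain : ∀ c : Set (Stage V W₀ K₀), IsChain Stage.r c → ∃ ub, ∀ a ∈ c, a.r ub := by
    intro c hc
    rcases c.eq_empty_or_nonempty with rfl | hne
    · refine ⟨⟨∅, K₀, fun _ _ _ h => h, hsat₀.congr (WA_empty V W₀).symm, fun _ _ => rfl,
        fun l hl => absurd hl (Set.notMem_empty l)⟩, fun a ha => absurd ha (Set.notMem_empty a)⟩
    · exact Stage.exists_ub c hc hne
  obtain ⟨m, hm⟩ := exists_maximal_of_chains_bounded hchain (fun h₁ h₂ => h₁.trans h₂)
  · suffices h : ∀ l, l ∈ m.A from ⟨m.K, m.eq₀, fun l => m.good l (h l)⟩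
    by_contra hcon
    push Not at hcon
    -- the least index not in `m.A`
    obtain ⟨l, hl, hlmin⟩ := WellFounded.has_min (wellFounded_lt (α := L)) {l | l ∉ m.A} hcon
    have hlt : ∀ l' < l, l' ∈ m.A := fun l' hl' => by
      by_contra h
      exact hlmin l' h hl'
    have hA : m.A = Set.Iio l := by
      ext l'
      refine ⟨fun h => ?_, hlt l'⟩
      by_contra hle
      exact hl (m.lower (not_lt.mp hle) h)
    -- compactness of `V l ⊓ WA`
    have hc : IsCompact ((V l ⊓ WA V W₀ m.A : X.Opens) : Set X) := by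
      have e : ((V l ⊓ WA V W₀ m.A : X.Opens) : Set X) =
          ((V l : Set X) ∩ (W₀ : Set X)) ∪ ((V l : Set X) ∩ ⋃ m ∈ Set.Iio l, (V m : Set X)) := by
        unfold WA
        rw [hA, Opens.coe_inf, Opens.coe_sup, Set.inter_union_distrib_left]
        congr 2
        ext x
        simp only [Opens.coe_iSup, Set.mem_iUnion, SetLike.mem_coe]
      rw [e]
      exact (hW₀ l).union (hW l)
    -- local goodness on `WA`
    have hK : ∀ x ∈ V l ⊓ WA V W₀ m.A, ∃ T : X.Opens, IsAffineOpen T ∧ x ∈ T ∧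
        T ≤ WA V W₀ m.A ∧ m.K.Good T ∧ (m.K.obj T).FG := by
      intro x hx
      rcases hx.2 with hx0 | hx1
      · obtain ⟨T, hT, hxT, hTW, hgood, hfg⟩ := hK₀ x hx0
        refine ⟨T, hT, hxT, hTW.trans (le_WA V W₀ _),
          hgood.of_eq_on fun T' hT' => m.eq₀ T' (hT'.trans hTW), ?_⟩
        rw [m.eq₀ T hTW]; exact hfg
      · obtain ⟨l', hl'⟩ := Opens.mem_iSup.mp hx1
        obtain ⟨hl'A, hxl'⟩ := Opens.mem_iSup.mp hl'
        exact ⟨V l', hV l', hxl', V_le_WA V W₀ hl'A, m.good l' hl'A⟩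
    obtain ⟨K', hK'sat, hK'eq, hK'le, hK'good, hK'fg⟩ :=
      step hF m.K (WA V W₀ m.A) m.sat (hV l) hc hK
    let m' : Stage V W₀ K₀ :=
      { A := insert l m.A
        K := K'
        lower := by
          intro a b hba ha
          rcases Set.mem_insert_iff.mp ha with rfl | ha
          · rcases hba.lt_or_eq with h | h
            · exact Set.mem_insert_of_mem _ (hlt b h)
            · exact h ▸ Set.mem_insert _ _
          · exact Set.mem_insert_of_mem _ (m.lower hba ha)
        sat := hK'sat.congr (WA_insert V W₀ m.A l).symm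
        eq₀ := fun T hT => (hK'eq T (hT.trans (le_WA V W₀ _))).trans (m.eq₀ T hT)
        good := by
          intro l' hl'
          rcases Set.mem_insert_iff.mp hl' with rfl | hl'
          · exact ⟨hK'good, hK'fg⟩
          · have hle : V l' ≤ WA V W₀ m.A := V_le_WA V W₀ hl'
            refine ⟨(m.good l' hl').1.of_eq_on fun T' hT' => hK'eq T' (hT'.trans hle), ?_⟩
            rw [hK'eq _ hle]
            exact (m.good l' hl').2 }
    have hmm' : m.r m' := ⟨Set.subset_insert _ _, hK'eq⟩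
    exact hl ((hm m' hmm').1 (Set.mem_insert l m.A))

end LSub


end

end Groth.Agent.Lib.Helper18.LSubM
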