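import Mathlib
import Groth.Agent.Lib.Helper18.LimModEpi

/-!
# Descent of right exactness and of factorisations through quotients to a finite stage of a limit
-/

set_option autoImplicit false
universe u
open CategoryTheory CategoryTheory.Limits AlgebraicGeometry TopologicalSpace

namespace Groth.Agent.Lib.Helper18.LimModExact

open Groth.Agent.Lib.Helper18.LimModZero Groth.Agent.Lib.Helper18.LimModEpi
  Groth.Agent.Lib.Helper11.PullbackChart Groth.Agent.Lib.Helper49

section Generic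

variable {C E E' : Type*} [Category C] [Category E] [Category E'] [Abelian C] [Abelian E]
  [Abelian E']

/-- `L f`, `L g` form a right exact sequence `L F ⟶ L G ⟶ L H ⟶ 0`. -/
def RE (L : C ⥤ E) {F G H : C} (f : F ⟶ G) (g : G ⟶ H) : Prop :=
  ∃ w : L.map f ≫ L.map g = 0, (ShortComplex.mk _ _ w).Exact ∧ Epi (L.map g)

variable {F G H : C} {f : F ⟶ G} {g : G ⟶ H}

theorem RE.of_natIso {L L' : C ⥤ E} (α : L ≅ L') (h : RE L f g) : RE L' f g := by
  obtain ⟨w, hw⟩ := h
  have w' : L'.map f ≫ L'.map g = 0 := by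
    have h1 : L'.map f ≫ L'.map g = α.inv.app F ≫ (L.map f ≫ L.map g) ≫ α.hom.app H := by
      simp
    rw [h1, w]; simp
  refine ⟨w', ?_⟩
  exact (ShortComplex.exact_and_epi_g_iff_of_iso
    (ShortComplex.isoMk (α.app F) (α.app G) (α.app H) (by simp) (by simp))).mp hw

theorem RE_iff_isColimit (L : C ⥤ E) :
    RE L f g ↔ ∃ w : L.map f ≫ L.map g = 0,
      Nonempty (IsColimit (CokernelCofork.ofπ (L.map g) w)) := by
  constructor
  · rintro ⟨w, hw⟩
    exact ⟨w, (ShortComplex.mk _ _ w).exact_and_epi_g_iff_g_is_cokernel.mp hw⟩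
  · rintro ⟨w, hw⟩
    exact ⟨w, (ShortComplex.mk _ _ w).exact_and_epi_g_iff_g_is_cokernel.mpr hw⟩

theorem RE.comp {L : C ⥤ E} (K : E ⥤ E') [K.Additive]
    [PreservesColimit (parallelPair (L.map f) 0) K] (h : RE L f g) : RE (L ⋙ K) f g := by
  obtain ⟨w, ⟨hw⟩⟩ := (RE_iff_isColimit L).mp h
  refine (RE_iff_isColimit (L ⋙ K)).mpr ⟨?_, ⟨?_⟩⟩
  · change K.map (L.map f) ≫ K.map (L.map g) = 0
    rw [← K.map_comp, w, K.map_zero]
  · exact CokernelCofork.mapIsColimit _ hw K

theorem RE_iff_isIso (L : C ⥤ E) [L.Additive] [PreservesColimit (parallelPair f 0) L]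
    (w : f ≫ g = 0) : RE L f g ↔ IsIso (L.map (cokernel.desc f g w)) := by
  have hcol : IsColimit ((CokernelCofork.ofπ (cokernel.π f) (cokernel.condition f)).map L) :=
    CokernelCofork.mapIsColimit _ (cokernelIsCokernel f) L
  have hfac : L.map (cokernel.π f) ≫ L.map (cokernel.desc f g w) = L.map g := by
    rw [← L.map_comp, cokernel.π_desc]
  rw [RE_iff_isColimit]
  constructor
  · rintro ⟨w', ⟨hw'⟩⟩
    let e := hcol.coconePointUniqueUpToIso hw'
    have he : L.map (cokernel.π f) ≫ e.hom = L.map g :=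
      hcol.comp_coconePointUniqueUpToIso_hom hw' WalkingParallelPair.one
    have h1 : e.hom = L.map (cokernel.desc f g w) := by
      apply Cofork.IsColimit.hom_ext hcol
      change L.map (cokernel.π f) ≫ e.hom = L.map (cokernel.π f) ≫ _
      rw [he, hfac]
    rw [← h1]
    infer_instance
  · intro hiso
    have w' : L.map f ≫ L.map g = 0 := by rw [← L.map_comp, w, L.map_zero]
    refine ⟨w', ⟨IsColimit.ofIsoColimit hcol
      (Cofork.ext (@asIso _ _ _ _ (L.map (cokernel.desc f g w)) hiso) ?_)⟩⟩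
    change L.map (cokernel.π f) ≫ L.map (cokernel.desc f g w) = L.map g
    exact hfac

/-- Factorisation through a quotient, for a right exact functor. -/
theorem exists_factor_iff (L : C ⥤ E) [L.Additive] {G' : C} (p₁ : F ⟶ G) (p₂ : F ⟶ G') [Epi p₁]
    [PreservesColimit (parallelPair (kernel.ι p₁) 0) L] :
    (∃ k : L.obj G ⟶ L.obj G', L.map p₁ ≫ k = L.map p₂) ↔ L.map (kernel.ι p₁ ≫ p₂) = 0 := by
  constructor
  · rintro ⟨k, hk⟩
    rw [L.map_comp, ← hk, ← Category.assoc, ← L.map_comp, kernel.condition, L.map_zero, zero_comp]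
  · intro h
    have hcol0 : IsColimit (CokernelCofork.ofπ p₁ (kernel.condition p₁)) :=
      Abelian.epiIsCokernelOfKernel (KernelFork.ofι (kernel.ι p₁) (kernel.condition p₁))
        (kernelIsKernel p₁)
    have hcol : IsColimit ((CokernelCofork.ofπ p₁ (kernel.condition p₁)).map L) :=
      CokernelCofork.mapIsColimit _ hcol0 L
    obtain ⟨l, hl⟩ := CokernelCofork.IsColimit.desc' hcol (L.map p₂)
      (by rw [← L.map_comp]; exact h)
    exact ⟨l, hl⟩

end Generic

section Main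

variable {I : Type u} [SmallCategory I] [IsCofiltered I] (D : I ⥤ Scheme.{u}) (c : Cone D)
  (hc : IsLimit c) [∀ (i j : I) (f : i ⟶ j), IsAffineHom (D.map f)] (i₀ : I)

omit [IsCofiltered I] [∀ (i j : I) (f : i ⟶ j), IsAffineHom (D.map f)] in
theorem RE.of_stage {F₀ G₀ H₀ : (D.obj i₀).Modules} {f₀ : F₀ ⟶ G₀} {g₀ : G₀ ⟶ H₀} {j : I}
    (φ : j ⟶ i₀) (h : RE (Scheme.Modules.pullback (D.map φ)) f₀ g₀) :
    RE (Scheme.Modules.pullback (c.π.app i₀)) f₀ g₀ :=
  (h.comp (Scheme.Modules.pullback (c.π.app j))).of_natIso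
    (Scheme.Modules.pullbackComp (c.π.app j) (D.map φ) ≪≫ Scheme.Modules.pullbackCongr (c.w φ))

include hc in
/-- **Descent of right exactness.** -/
theorem exists_RE_stage [CompactSpace (D.obj i₀)] {F₀ G₀ H₀ : (D.obj i₀).Modules}
    [F₀.IsQuasicoherent] [G₀.IsQuasicoherent] [H₀.IsQuasicoherent]
    (hF : SheafOfModules.IsFiniteType (R := (D.obj i₀).ringCatSheaf) F₀)
    (hG : SheafOfModules.IsFiniteType (R := (D.obj i₀).ringCatSheaf) G₀)
    (hH : SheafOfModules.IsFinitePresentation (R := (D.obj i₀).ringCatSheaf) H₀)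
    (f₀ : F₀ ⟶ G₀) (g₀ : G₀ ⟶ H₀) (h : RE (Scheme.Modules.pullback (c.π.app i₀)) f₀ g₀) :
    ∃ (j : I) (φ : j ⟶ i₀), RE (Scheme.Modules.pullback (D.map φ)) f₀ g₀ := by
  obtain ⟨w, -⟩ := id h
  have h0 : (Scheme.Modules.pullback (c.π.app i₀)).map (f₀ ≫ g₀) = 0 := by
    rw [Functor.map_comp]; exact w
  obtain ⟨j₁, φ₁, hz⟩ := exists_pullback_map_eq_zero D c hc i₀ (f₀ ≫ g₀) hF h0
  have w₁ : (Scheme.Modules.pullback (D.map φ₁)).map f₀ ≫
      (Scheme.Modules.pullback (D.map φ₁)).map g₀ = 0 := by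
    rw [← Functor.map_comp]; exact hz
  -- right exactness in the limit, seen from `j₁`
  have h1 : RE (Scheme.Modules.pullback (D.map φ₁) ⋙ Scheme.Modules.pullback (c.π.app j₁))
      f₀ g₀ :=
    h.of_natIso (Scheme.Modules.pullbackComp (c.π.app j₁) (D.map φ₁) ≪≫
      Scheme.Modules.pullbackCongr (c.w φ₁)).symm
  have h2 : RE (Scheme.Modules.pullback (c.π.app j₁))
      ((Scheme.Modules.pullback (D.map φ₁)).map f₀)
      ((Scheme.Modules.pullback (D.map φ₁)).map g₀) := h1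
  have h3 := (RE_iff_isIso (Scheme.Modules.pullback (c.π.app j₁)) w₁).mp h2
  -- finiteness at stage `j₁`
  have hG₁q : ((Scheme.Modules.pullback (D.map φ₁)).obj G₀).IsQuasicoherent :=
    Groth.Agent.Lib.Helper16.FlatPull.isQuasicoherent_pullback (D.map φ₁) G₀
  have hF₁q : ((Scheme.Modules.pullback (D.map φ₁)).obj F₀).IsQuasicoherent :=
    Groth.Agent.Lib.Helper16.FlatPull.isQuasicoherent_pullback (D.map φ₁) F₀
  have hH₁q : ((Scheme.Modules.pullback (D.map φ₁)).obj H₀).IsQuasicoherent :=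
    Groth.Agent.Lib.Helper16.FlatPull.isQuasicoherent_pullback (D.map φ₁) H₀
  have hG₁ : SheafOfModules.IsFiniteType (R := (D.obj j₁).ringCatSheaf)
      ((Scheme.Modules.pullback (D.map φ₁)).obj G₀) :=
    haveI := hG
    Groth.Agent.S8872.isFiniteType_pullback (D.map φ₁) G₀
  have hH₁ : SheafOfModules.IsFinitePresentation (R := (D.obj j₁).ringCatSheaf)
      ((Scheme.Modules.pullback (D.map φ₁)).obj H₀) :=
    Groth.Agent.S8913.isFinitePresentation_pullback (D.map φ₁) H₀ hH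
  have hCq : (cokernel ((Scheme.Modules.pullback (D.map φ₁)).map f₀)).IsQuasicoherent :=
    isQuasicoherent_cokernel _ hF₁q hG₁q
  have hC : SheafOfModules.IsFiniteType (R := (D.obj j₁).ringCatSheaf)
      (cokernel ((Scheme.Modules.pullback (D.map φ₁)).map f₀)) :=
    @isFiniteType_of_epi _ _ _ (cokernel.π ((Scheme.Modules.pullback (D.map φ₁)).map f₀))
      coequalizer.π_epi hG₁
  have hcpt : CompactSpace (D.obj j₁) := compactSpace_of_hom D i₀ φ₁
  obtain ⟨j₂, ψ, hj₂⟩ := exists_isIso_pullback_map D c hc j₁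
    (cokernel.desc _ _ w₁) hC hH₁ h3
  refine ⟨j₂, ψ ≫ φ₁, ?_⟩
  have h4 : RE (Scheme.Modules.pullback (D.map ψ))
      ((Scheme.Modules.pullback (D.map φ₁)).map f₀)
      ((Scheme.Modules.pullback (D.map φ₁)).map g₀) :=
    (RE_iff_isIso (Scheme.Modules.pullback (D.map ψ)) w₁).mpr hj₂
  have h5 : RE (Scheme.Modules.pullback (D.map φ₁) ⋙ Scheme.Modules.pullback (D.map ψ))
      f₀ g₀ := h4
  exact h5.of_natIso (Scheme.Modules.pullbackComp (D.map ψ) (D.map φ₁) ≪≫
    Scheme.Modules.pullbackCongr (D.map_comp ψ φ₁).symm)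

include hc in
/-- **Descent of factorisations through a quotient.** -/
theorem exists_factor_stage [CompactSpace (D.obj i₀)] {F₀ G₁ G₂ : (D.obj i₀).Modules}
    [F₀.IsQuasicoherent] [G₁.IsQuasicoherent] [G₂.IsQuasicoherent]
    (hF : SheafOfModules.IsFiniteType (R := (D.obj i₀).ringCatSheaf) F₀)
    (hG₁ : SheafOfModules.IsFinitePresentation (R := (D.obj i₀).ringCatSheaf) G₁)
    (p₁ : F₀ ⟶ G₁) (p₂ : F₀ ⟶ G₂) [Epi p₁]
    (h : ∃ k, (Scheme.Modules.pullback (c.π.app i₀)).map p₁ ≫ k =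
      (Scheme.Modules.pullback (c.π.app i₀)).map p₂) :
    ∃ (j : I) (φ : j ⟶ i₀) (k : (Scheme.Modules.pullback (D.map φ)).obj G₁ ⟶
        (Scheme.Modules.pullback (D.map φ)).obj G₂),
      (Scheme.Modules.pullback (D.map φ)).map p₁ ≫ k =
        (Scheme.Modules.pullback (D.map φ)).map p₂ := by
  have h0 := (exists_factor_iff (Scheme.Modules.pullback (c.π.app i₀)) p₁ p₂).mp h
  have hK : SheafOfModules.IsFiniteType (R := (D.obj i₀).ringCatSheaf) (kernel p₁) := by
    haveI := hF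
    exact Groth.Agent.Lib.Helper18.FPM.isFiniteType_kernel_of_epi _
      (fun T => Groth.Agent.Lib.Helper45.finite_sections_of_isFiniteType T.2 _)
      (fun T => finitePresentation_sections_of_isFinitePresentation _ hG₁ T.2)
  have hKq : (kernel p₁).IsQuasicoherent := isQuasicoherent_kernel _ inferInstance inferInstance
  obtain ⟨j, φ, hj⟩ := exists_pullback_map_eq_zero D c hc i₀ (kernel.ι p₁ ≫ p₂) hK h0
  obtain ⟨k, hk⟩ := (exists_factor_iff (Scheme.Modules.pullback (D.map φ)) p₁ p₂).mpr hj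
  exact ⟨j, φ, k, hk⟩

omit [IsCofiltered I] [∀ (i j : I) (f : i ⟶ j), IsAffineHom (D.map f)] in
theorem exists_factor_of_stage {F₀ G₁ G₂ : (D.obj i₀).Modules} (p₁ : F₀ ⟶ G₁) (p₂ : F₀ ⟶ G₂)
    [Epi p₁] {j : I} (φ : j ⟶ i₀)
    (h : ∃ k, (Scheme.Modules.pullback (D.map φ)).map p₁ ≫ k =
      (Scheme.Modules.pullback (D.map φ)).map p₂) :
    ∃ k, (Scheme.Modules.pullback (c.π.app i₀)).map p₁ ≫ k =
      (Scheme.Modules.pullback (c.π.app i₀)).map p₂ := by
  have h0 := (exists_factor_iff (Scheme.Modules.pullback (D.map φ)) p₁ p₂).mp h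
  exact (exists_factor_iff (Scheme.Modules.pullback (c.π.app i₀)) p₁ p₂).mpr
    (eq_zero_of_stage (c.π.app j) (D.map φ) (c.π.app i₀) (c.w φ) _ h0)

end Main

end Groth.Agent.Lib.Helper18.LimModExact
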