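import Mathlib
import Groth.Agent.Lib.Helper18.LimModEpi
import Groth.Agent.Lib.Helper49.TildeExact
import Groth.Agent.Lib.Helper49.CohNoeth
import Groth.Agent.Lib.Helper23.LimFlat

/-!
# Flat pullback preserves monomorphisms of quasi-coherent modules; descent of injectivity
-/

set_option autoImplicit false
universe u
open CategoryTheory CategoryTheory.Limits AlgebraicGeometry TopologicalSpace TensorProduct

namespace Groth.Agent.Lib.Helper18.LimModFlat

open Groth.Agent.Lib.Helper18.LimModZero Groth.Agent.Lib.Helper18.LimModEpi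
  Groth.Agent.Lib.Helper11.PullbackChart Groth.Agent.Lib.Helper49

section Local

variable {Z : Scheme.{u}} {A B : Z.Modules}

/-- A morphism of modules injective on all small opens is a monomorphism. -/
theorem mono_of_forall_app_injective (v : A ⟶ B) {ι : Type*} (W : ι → Z.Opens)
    (hW : ∀ x : Z, ∃ k, x ∈ W k)
    (h : ∀ k (T : Z.Opens), T ≤ W k → Function.Injective (v.app T)) : Mono v := by
  apply mono_of_app_injective
  intro O
  rw [injective_iff_map_eq_zero]
  intro s hs
  apply TopCat.Presheaf.section_ext (toSheafAb A) O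
  intro x hx
  obtain ⟨k, hk⟩ := hW x
  have hle : O ⊓ W k ≤ O := inf_le_left
  have h1 := Groth.Agent.Lib.Helper11.GenLocus.app_res v hle s
  have hs' : (v.app O).hom s = 0 := hs
  rw [hs', map_zero] at h1
  have h2 : (A.presheaf.map (homOfLE hle).op).hom s = 0 := by
    apply h k (O ⊓ W k) inf_le_right
    rw [map_zero]
    exact h1.symm
  rw [map_zero, ← TopCat.Presheaf.germ_res_apply A.presheaf (homOfLE hle) x ⟨hx, hk⟩]
  change A.presheaf.germ (O ⊓ W k) x ⟨hx, hk⟩ ((A.presheaf.map (homOfLE hle).op).hom s) = 0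
  rw [h2, map_zero]

/-- A morphism of modules whose pullbacks to the members of an affine open cover are
monomorphisms is a monomorphism. -/
theorem mono_of_forall_pullback_fromSpec_mono (v : A ⟶ B) {ι : Type*} (W : ι → Z.Opens)
    (hWa : ∀ k, IsAffineOpen (W k)) (hW : ∀ x : Z, ∃ k, x ∈ W k)
    (h : ∀ k, Mono ((Scheme.Modules.pullback (hWa k).fromSpec).map v)) : Mono v := by
  refine mono_of_forall_app_injective v W hW (fun k T hT => ?_)
  have h1 : Mono ((Scheme.Modules.restrictFunctor (hWa k).fromSpec).map v) :=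
    ((MorphismProperty.monomorphisms _).arrow_iso_iff
      (arrowIsoOfNatIso (Scheme.Modules.restrictFunctorIsoPullback (hWa k).fromSpec).symm v)).mp
      (h k)
  have h2 := app_injective_of_mono ((Scheme.Modules.restrictFunctor (hWa k).fromSpec).map v)
    ((hWa k).fromSpec ⁻¹ᵁ T)
  have h3 : Function.Injective
      (v.app ((hWa k).fromSpec ''ᵁ ((hWa k).fromSpec ⁻¹ᵁ T))) := h2
  have e : (hWa k).fromSpec ''ᵁ ((hWa k).fromSpec ⁻¹ᵁ T) = T := by
    rw [Scheme.Hom.image_preimage_eq_opensRange_inf, (hWa k).opensRange_fromSpec]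
    exact inf_eq_right.mpr hT
  rw [e] at h3
  exact h3

end Local

section Flat

set_option backward.isDefEq.respectTransparency false in
theorem mono_extendScalars_map {R S : Type u} [CommRing R] [CommRing S] (f : R →+* S)
    (hf : f.Flat) {M N : ModuleCat.{u} R} (v : M ⟶ N) [Mono v] :
    Mono ((ModuleCat.extendScalars f).map v) := by
  letI := f.toAlgebra
  have hflat : Module.Flat R S := hf
  have hv : Function.Injective v.hom := (ModuleCat.mono_iff_injective v).mp inferInstance
  rw [ModuleCat.mono_iff_injective]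
  exact Module.Flat.lTensor_preserves_injective_linearMap (M := S) v.hom hv

variable {X Y : Scheme.{u}} (h : X ⟶ Y) [Flat h] {A B : Y.Modules} [A.IsQuasicoherent]
  [B.IsQuasicoherent] (u : A ⟶ B)

/-- Pullback along a flat morphism preserves monomorphisms of quasi-coherent modules. -/
theorem mono_pullback_map_of_flat [Mono u] : Mono ((Scheme.Modules.pullback h).map u) := by
  refine mono_of_forall_pullback_fromSpec_mono _
    (ι := {p : Y.affineOpens × X.affineOpens // p.2.1 ≤ h ⁻¹ᵁ p.1.1})
    (fun p => p.1.2.1) (fun p => p.1.2.2) (fun x => ?_) (fun p => ?_)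
  · obtain ⟨U, W, hU, hW, hWU, hxW⟩ := Groth.Agent.Lib.Helper16.FlatPull.exists_charts h x
    exact ⟨⟨(⟨U, hU⟩, ⟨W, hW⟩), hWU⟩, hxW⟩
  · have hfl : (h.appLE p.1.1.1 p.1.2.1 p.2).hom.Flat :=
      HasRingHomProperty.appLE (P := @Flat) h inferInstance p.1.1 p.1.2 p.2
    have h1 : Mono ((ΓU p.1.1.2).map u) := by
      unfold ΓU
      have : Mono ((Scheme.Modules.restrictFunctor p.1.1.2.fromSpec).map u) := inferInstance
      have : (moduleSpecΓFunctor (R := Γ(Y, p.1.1.1))).IsRightAdjoint :=
        tilde.adjunction.isRightAdjoint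
      exact Functor.map_mono _ _
    have h2 := mono_extendScalars_map _ hfl ((ΓU p.1.1.2).map u)
    have h3 := mono_tilde_map ((ModuleCat.extendScalars (h.appLE p.1.1.1 p.1.2.1 p.2).hom).map
      ((ΓU p.1.1.2).map u))
    exact ((MorphismProperty.monomorphisms _).arrow_iso_iff
      (chartArrowIso h p.1.1.2 p.1.2.2 p.2 u)).mpr h3

end Flat

section Generic

variable {C E : Type*} [Category C] [Category E] [Abelian C] [Abelian E] (L : C ⥤ E)
  [L.Additive]

/-- A right exact functor which preserves the monomorphism `image f ⟶ G` and kills the kernel of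
`f` sends `f` to a monomorphism. -/
theorem mono_map_of_map_kernel_ι_eq_zero {F G : C} (f : F ⟶ G)
    [PreservesColimit (parallelPair (kernel.ι (Abelian.factorThruImage f)) 0) L]
    (hm : Mono (L.map (Abelian.image.ι f))) (h0 : L.map (kernel.ι f) = 0) : Mono (L.map f) := by
  have hk : kernel.ι (Abelian.factorThruImage f) ≫ f = 0 := by
    calc kernel.ι (Abelian.factorThruImage f) ≫ f
        = kernel.ι (Abelian.factorThruImage f) ≫
          (Abelian.factorThruImage f ≫ Abelian.image.ι f) := by rw [Abelian.image.fac f]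
      _ = 0 := by rw [← Category.assoc, kernel.condition, zero_comp]
  have h1 : L.map (kernel.ι (Abelian.factorThruImage f)) = 0 := by
    rw [← kernel.lift_ι f _ hk, L.map_comp, h0, comp_zero]
  have h2 : IsIso (L.map (Abelian.factorThruImage f)) :=
    isIso_map_of_map_ι_eq_zero L _ h1
  have e : L.map f = L.map (Abelian.factorThruImage f) ≫ L.map (Abelian.image.ι f) := by
    rw [← L.map_comp, Abelian.image.fac f]
  rw [e]
  exact mono_comp _ _

end Generic

section Main

variable {I : Type u} [SmallCategory I] [IsCofiltered I] (D : I ⥤ Scheme.{u}) (c : Cone D)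
  (hc : IsLimit c) [∀ (i j : I) (f : i ⟶ j), IsAffineHom (D.map f)] (i₀ : I)
  (hfl : ∀ (i j : I) (φ : i ⟶ j), Flat (D.map φ))
  {F₀ G₀ : (D.obj i₀).Modules} [F₀.IsQuasicoherent] [G₀.IsQuasicoherent] (f₀ : F₀ ⟶ G₀)

include hc hfl in
/-- **Descent of injectivity** (flat transition maps). -/
theorem exists_mono_pullback_map [CompactSpace (D.obj i₀)]
    (hker : SheafOfModules.IsFiniteType (R := (D.obj i₀).ringCatSheaf) (kernel f₀))
    (h : Mono ((Scheme.Modules.pullback (c.π.app i₀)).map f₀)) :
    ∃ (j : I) (φ : j ⟶ i₀), Mono ((Scheme.Modules.pullback (D.map φ)).map f₀) := by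
  have hKq : (kernel f₀).IsQuasicoherent := isQuasicoherent_kernel _ inferInstance inferInstance
  have h0 : (Scheme.Modules.pullback (c.π.app i₀)).map (kernel.ι f₀) = 0 := by
    rw [← cancel_mono ((Scheme.Modules.pullback (c.π.app i₀)).map f₀), ← Functor.map_comp,
      kernel.condition, Functor.map_zero, zero_comp]
  obtain ⟨j, φ, hj⟩ := exists_pullback_map_eq_zero D c hc i₀ (kernel.ι f₀) hker h0
  refine ⟨j, φ, ?_⟩
  have hIq : (Abelian.image f₀).IsQuasicoherent :=
    isQuasicoherent_kernel _ inferInstance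
      (isQuasicoherent_cokernel _ inferInstance inferInstance)
  have := hfl j i₀ φ
  have hm : Mono ((Scheme.Modules.pullback (D.map φ)).map (Abelian.image.ι f₀)) :=
    mono_pullback_map_of_flat (D.map φ) (Abelian.image.ι f₀)
  exact mono_map_of_map_kernel_ι_eq_zero _ f₀ hm hj

include hc hfl in
theorem mono_of_stage {j : I} (φ : j ⟶ i₀)
    (h : Mono ((Scheme.Modules.pullback (D.map φ)).map f₀)) :
    Mono ((Scheme.Modules.pullback (c.π.app i₀)).map f₀) := by
  have inst : ∀ {i j : I} (f : i ⟶ j), IsAffineHom (D.map f) := fun f => inferInstance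
  have hπ : Flat (c.π.app j) :=
    Groth.Agent.Lib.Helper23.flat_π_app D c hc j (fun k ψ => hfl k j ψ)
  have hFq : ((Scheme.Modules.pullback (D.map φ)).obj F₀).IsQuasicoherent :=
    Groth.Agent.Lib.Helper16.FlatPull.isQuasicoherent_pullback (D.map φ) F₀
  have hGq : ((Scheme.Modules.pullback (D.map φ)).obj G₀).IsQuasicoherent :=
    Groth.Agent.Lib.Helper16.FlatPull.isQuasicoherent_pullback (D.map φ) G₀
  have h1 : Mono ((Scheme.Modules.pullback (c.π.app j)).map
      ((Scheme.Modules.pullback (D.map φ)).map f₀)) :=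
    mono_pullback_map_of_flat (c.π.app j) _
  exact ((MorphismProperty.monomorphisms _).arrow_iso_iff
    (stageArrowIso (c.π.app j) (D.map φ) (c.π.app i₀) (c.w φ) f₀)).mp h1

end Main

end Groth.Agent.Lib.Helper18.LimModFlat
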