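import Mathlib
import Groth.Agent.Lib.Helper18.LimModFlat

/-!
# Descent of exactness (in the middle) of a pulled-back pair of morphisms, flat transition maps
-/

set_option autoImplicit false
universe u
open CategoryTheory CategoryTheory.Limits AlgebraicGeometry TopologicalSpace

namespace Groth.Agent.Lib.Helper18.LimModExact2

open Groth.Agent.Lib.Helper18.LimModZero Groth.Agent.Lib.Helper18.LimModEpi
  Groth.Agent.Lib.Helper18.LimModFlat Groth.Agent.Lib.Helper11.PullbackChart
  Groth.Agent.Lib.Helper49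

section Generic

variable {C E : Type*} [Category C] [Category E] [Abelian C] [Abelian E] (L : C ⥤ E)
  [L.Additive] {F G H : C} (f : F ⟶ G) (g : G ⟶ H)

theorem map_kernel_ι_comp : L.map (kernel.ι g) ≫ L.map g = 0 := by
  rw [← L.map_comp, kernel.condition, L.map_zero]

/-- A right exact functor preserving the monomorphisms `ker g ⟶ G` and `coim g ⟶ H` preserves the
kernel of `g`. -/
theorem nonempty_isLimit_map_kernel [PreservesColimit (parallelPair (kernel.ι g) 0) L]
    (hk : Mono (L.map (kernel.ι g))) (hn : Mono (L.map (Abelian.factorThruCoimage g))) :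
    Nonempty (IsLimit (KernelFork.ofι (L.map (kernel.ι g)) (map_kernel_ι_comp L g))) := by
  have hcol : IsColimit ((CokernelCofork.ofπ (cokernel.π (kernel.ι g))
      (cokernel.condition (kernel.ι g))).map L) :=
    CokernelCofork.mapIsColimit _ (cokernelIsCokernel (kernel.ι g)) L
  have hlim := Abelian.monoIsKernelOfCokernel _ hcol
  have hfac : L.map g = L.map (Abelian.coimage.π g) ≫ L.map (Abelian.factorThruCoimage g) := by
    rw [← L.map_comp, Abelian.coimage.fac]
  exact ⟨isKernelCompMono (hg := hn) hlim (L.map (Abelian.factorThruCoimage g)) hfac⟩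

theorem exact_iff [PreservesColimit (parallelPair f 0) L]
    [PreservesColimit (parallelPair (kernel.ι g) 0) L]
    (he : Epi (L.map (Abelian.coimage.π f))) (hk : Mono (L.map (kernel.ι g)))
    (hn : Mono (L.map (Abelian.factorThruCoimage g))) :
    (∃ w : L.map f ≫ L.map g = 0, (ShortComplex.mk _ _ w).Exact) ↔
      L.map (Abelian.factorThruCoimage f ≫ g) = 0 ∧ L.map (kernel.ι g ≫ cokernel.π f) = 0 := by
  obtain ⟨hlim⟩ := nonempty_isLimit_map_kernel L g hk hn
  let a := hlim.conePointUniqueUpToIso (kernelIsKernel (L.map g))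
  have ha : a.hom ≫ kernel.ι (L.map g) = L.map (kernel.ι g) :=
    hlim.conePointUniqueUpToIso_hom_comp (kernelIsKernel (L.map g)) WalkingParallelPair.zero
  have hb : cokernel.π (L.map f) ≫ cokernelComparison f L = L.map (cokernel.π f) :=
    π_comp_cokernelComparison f L
  have hbiso : IsIso (cokernelComparison f L) := inferInstance
  have key : ∀ w : L.map f ≫ L.map g = 0, (ShortComplex.mk _ _ w).Exact ↔
      L.map (kernel.ι g ≫ cokernel.π f) = 0 := by
    intro w
    rw [ShortComplex.exact_iff_kernel_ι_comp_cokernel_π_zero]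
    change kernel.ι (L.map g) ≫ cokernel.π (L.map f) = 0 ↔ _
    rw [L.map_comp, ← ha, ← hb]
    constructor
    · intro h
      rw [Category.assoc, ← Category.assoc (kernel.ι (L.map g)), h, zero_comp, comp_zero]
    · intro h
      rw [← cancel_epi a.hom, ← cancel_mono (cokernelComparison f L)]
      simpa only [Category.assoc, comp_zero, zero_comp] using h
  have hw : L.map f ≫ L.map g = L.map (Abelian.coimage.π f) ≫
      L.map (Abelian.factorThruCoimage f ≫ g) := by
    rw [← L.map_comp, ← L.map_comp, ← Category.assoc, Abelian.coimage.fac]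
  constructor
  · rintro ⟨w, hex⟩
    refine ⟨?_, (key w).mp hex⟩
    rw [← cancel_epi (L.map (Abelian.coimage.π f)), ← hw, w, comp_zero]
  · rintro ⟨h1, h2⟩
    have w : L.map f ≫ L.map g = 0 := by rw [hw, h1, comp_zero]
    exact ⟨w, (key w).mpr h2⟩

end Generic

section Flat

variable {X Y : Scheme.{u}} (h : X ⟶ Y) [Flat h] {F G H : Y.Modules} [F.IsQuasicoherent]
  [G.IsQuasicoherent] [H.IsQuasicoherent] (f : F ⟶ G) (g : G ⟶ H)

/-- Exactness of the pullback of a pair of maps of quasi-coherent modules along a flat morphism,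
as two vanishing conditions. -/
theorem exact_pullback_iff :
    (∃ w : (Scheme.Modules.pullback h).map f ≫ (Scheme.Modules.pullback h).map g = 0,
        (ShortComplex.mk _ _ w).Exact) ↔
      (Scheme.Modules.pullback h).map (Abelian.factorThruCoimage f ≫ g) = 0 ∧
        (Scheme.Modules.pullback h).map (kernel.ι g ≫ cokernel.π f) = 0 := by
  have hKq : (kernel g).IsQuasicoherent := isQuasicoherent_kernel _ inferInstance inferInstance
  have hCq : (Abelian.coimage g).IsQuasicoherent :=
    isQuasicoherent_cokernel _ hKq inferInstance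
  exact exact_iff _ f g inferInstance (mono_pullback_map_of_flat h (kernel.ι g))
    (mono_pullback_map_of_flat h (Abelian.factorThruCoimage g))

end Flat

section Main

variable {I : Type u} [SmallCategory I] [IsCofiltered I] (D : I ⥤ Scheme.{u}) (c : Cone D)
  (hc : IsLimit c) [∀ (i j : I) (f : i ⟶ j), IsAffineHom (D.map f)] (i₀ : I)
  [∀ (i j : I) (f : i ⟶ j), Flat (D.map f)]
  {F₀ G₀ H₀ : (D.obj i₀).Modules} [F₀.IsQuasicoherent] [G₀.IsQuasicoherent]
  [H₀.IsQuasicoherent] (f₀ : F₀ ⟶ G₀) (g₀ : G₀ ⟶ H₀)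

include hc in
theorem flat_π (i : I) : Flat (c.π.app i) := by
  have inst : ∀ {i j : I} (f : i ⟶ j), IsAffineHom (D.map f) := fun f => inferInstance
  exact Groth.Agent.Lib.Helper23.flat_π_app D c hc i (fun k ψ => inferInstance)

include hc in
/-- **Descent of exactness** (flat transition maps). -/
theorem exact_pullback_π_iff [CompactSpace (D.obj i₀)]
    (hIm : SheafOfModules.IsFiniteType (R := (D.obj i₀).ringCatSheaf) (Limits.image f₀))
    (hKer : SheafOfModules.IsFiniteType (R := (D.obj i₀).ringCatSheaf) (kernel g₀)) :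
    (∃ w : (Scheme.Modules.pullback (c.π.app i₀)).map f₀ ≫
          (Scheme.Modules.pullback (c.π.app i₀)).map g₀ = 0, (ShortComplex.mk _ _ w).Exact) ↔
      ∃ (j : I) (φ : j ⟶ i₀) (w : (Scheme.Modules.pullback (D.map φ)).map f₀ ≫
          (Scheme.Modules.pullback (D.map φ)).map g₀ = 0), (ShortComplex.mk _ _ w).Exact := by
  have hπ : Flat (c.π.app i₀) := flat_π D c hc i₀
  have hKfq : (kernel f₀).IsQuasicoherent := isQuasicoherent_kernel _ inferInstance inferInstance
  have hIq : (Abelian.coimage f₀).IsQuasicoherent :=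
    isQuasicoherent_cokernel _ hKfq inferInstance
  have hI : SheafOfModules.IsFiniteType (R := (D.obj i₀).ringCatSheaf) (Abelian.coimage f₀) :=
    isFiniteType_of_iso (Abelian.coimageIsoImage' f₀).symm hIm
  have hKq : (kernel g₀).IsQuasicoherent := isQuasicoherent_kernel _ inferInstance inferInstance
  have hQq : (cokernel f₀).IsQuasicoherent :=
    isQuasicoherent_cokernel _ inferInstance inferInstance
  constructor
  · intro h
    obtain ⟨h1, h2⟩ := (exact_pullback_iff (c.π.app i₀) f₀ g₀).mp h
    obtain ⟨j₁, φ₁, hj₁⟩ := exists_pullback_map_eq_zero D c hc i₀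
      (Abelian.factorThruCoimage f₀ ≫ g₀) hI h1
    obtain ⟨j₂, φ₂, hj₂⟩ := exists_pullback_map_eq_zero D c hc i₀
      (kernel.ι g₀ ≫ cokernel.π f₀) hKer h2
    obtain ⟨j, a, b, hab⟩ := IsCofiltered.cospan φ₁ φ₂
    refine ⟨j, a ≫ φ₁, ?_⟩
    refine (exact_pullback_iff (D.map (a ≫ φ₁)) f₀ g₀).mpr ⟨?_, ?_⟩
    · exact eq_zero_of_stage (D.map a) (D.map φ₁) (D.map (a ≫ φ₁)) (D.map_comp a φ₁).symm _ hj₁
    · exact eq_zero_of_stage (D.map b) (D.map φ₂) (D.map (a ≫ φ₁))
        (by rw [hab, D.map_comp]) _ hj₂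
  · rintro ⟨j, φ, h⟩
    obtain ⟨h1, h2⟩ := (exact_pullback_iff (D.map φ) f₀ g₀).mp h
    refine (exact_pullback_iff (c.π.app i₀) f₀ g₀).mpr ⟨?_, ?_⟩
    · exact eq_zero_of_stage (c.π.app j) (D.map φ) (c.π.app i₀) (c.w φ) _ h1
    · exact eq_zero_of_stage (c.π.app j) (D.map φ) (c.π.app i₀) (c.w φ) _ h2

end Main

end Groth.Agent.Lib.Helper18.LimModExact2
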