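import Groth.Agent.Lib.Helper18.LSubRestrict
import Groth.Agent.Lib.Helper18.LSubSection

/-!
# Schemes whose underlying space is locally Noetherian: a well-ordered cover by Noetherian affines

Shared library of helper18 (namespace `Groth.Agent.Lib.Helper18.LSubM`).
EGA I 9.4.7 a), 9.4.8, 9.4.9 for such schemes.
-/

set_option autoImplicit false
universe u v
open CategoryTheory CategoryTheory.Limits AlgebraicGeometry TopologicalSpace Opposite
open Groth.Agent.Lib.Helper49 Groth.Agent.Lib.Helper45

namespace Groth.Agent.Lib.Helper18.LSubM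

theorem isCompact_of_subset_of_noetherianSpace {α : Type*} [TopologicalSpace α] {T S : Set α}
    (hT : NoetherianSpace T) (h : S ⊆ T) : IsCompact S :=
  (noetherianSpace_set_iff T).mp hT S h

variable {X : Scheme.{u}}

/-- The Noetherian affine opens of `X`. -/
def NoethAffine (X : Scheme.{u}) : Type u :=
  {T : X.Opens // IsAffineOpen T ∧ NoetherianSpace (T : Set X)}

theorem exists_noethAffine_mem
    (hX : ∀ x : X, ∃ U : X.Opens, x ∈ U ∧ NoetherianSpace (U : Set X)) (x : X) :
    ∃ T : NoethAffine X, x ∈ T.1 := by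
  obtain ⟨U, hxU, hU⟩ := hX x
  obtain ⟨_, ⟨T, hT, rfl⟩, hxT, hTU⟩ :=
    X.isBasis_affineOpens.exists_subset_of_mem_open hxU U.2
  refine ⟨⟨T, hT, ?_⟩, hxT⟩
  rw [noetherianSpace_set_iff]
  intro t ht
  exact isCompact_of_subset_of_noetherianSpace hU (ht.trans hTU)

theorem iSup_noethAffine
    (hX : ∀ x : X, ∃ U : X.Opens, x ∈ U ∧ NoetherianSpace (U : Set X)) :
    ⨆ T : NoethAffine X, T.1 = ⊤ := by
  rw [eq_top_iff]
  intro x _
  obtain ⟨T, hT⟩ := exists_noethAffine_mem hX x
  exact Opens.mem_iSup.mpr ⟨T, hT⟩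

/-- EGA I 9.4.7 a): extension of quasi-coherent submodules of finite type from an open subscheme
of a scheme whose underlying space is locally Noetherian. -/
theorem exists_extension_of_mono_of_locallyNoetherianSpace
    (hX : ∀ x : X, ∃ U : X.Opens, x ∈ U ∧ NoetherianSpace (U : Set X))
    {Y : Scheme.{u}} {j : Y ⟶ X} [IsOpenImmersion j] {F : X.Modules} {G : Y.Modules}
    (i : G ⟶ F.restrict j) [F.IsQuasicoherent] [Mono i] [G.IsQuasicoherent]
    (hG : SheafOfModules.IsFiniteType (R := Y.ringCatSheaf) G) :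
    ∃ (G' : X.Modules) (i' : G' ⟶ F) (e : G'.restrict j ≅ G), Mono i' ∧ G'.IsQuasicoherent ∧
      SheafOfModules.IsFiniteType (R := X.ringCatSheaf) G' ∧
      e.hom ≫ i = (Scheme.Modules.restrictFunctor j).map i' := by
  obtain ⟨_, _⟩ := exists_wellFoundedLT (NoethAffine X)
  exact exists_extension_of_mono i hG (fun T : NoethAffine X => T.1) (fun T => T.2.1)
    (iSup_noethAffine hX)
    (fun T => isCompact_of_subset_of_noetherianSpace T.2.2 Set.inter_subset_left)
    (fun T => isCompact_of_subset_of_noetherianSpace T.2.2 Set.inter_subset_left)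

/-- EGA I 9.4.9 for a scheme whose underlying space is locally Noetherian. -/
theorem exists_sub_through_section_of_locallyNoetherianSpace
    (hX : ∀ x : X, ∃ U : X.Opens, x ∈ U ∧ NoetherianSpace (U : Set X))
    {F : X.Modules} [F.IsQuasicoherent] {U : X.Opens} (hU : IsAffineOpen U) (s : Γ(F, U)) :
    ∃ K : LSub F, K.toModules.IsQuasicoherent ∧
      SheafOfModules.IsFiniteType (R := X.ringCatSheaf) K.toModules ∧ s ∈ K.obj U := by
  obtain ⟨_, _⟩ := exists_wellFoundedLT (NoethAffine X)
  exact exists_sub_through_section (fun T : NoethAffine X => T.1) (fun T => T.2.1)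
    (iSup_noethAffine hX)
    (fun T => isCompact_of_subset_of_noetherianSpace T.2.2 Set.inter_subset_left)
    hU (fun T => isCompact_of_subset_of_noetherianSpace T.2.2 Set.inter_subset_left) s

/-- Open immersions into a scheme whose underlying space is locally Noetherian are
quasi-compact. -/
theorem quasiCompact_of_locallyNoetherianSpace
    (hX : ∀ x : X, ∃ U : X.Opens, x ∈ U ∧ NoetherianSpace (U : Set X))
    {Y : Scheme.{u}} (j : Y ⟶ X) [IsOpenImmersion j] : QuasiCompact j := by
  rw [quasiCompact_iff]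
  intro C hC hCc
  -- `C` is a Noetherian space
  have hCN : ∀ t : Set X, t ⊆ C → IsCompact t := by
    intro t ht
    choose U hxU hU using hX
    obtain ⟨s, hs⟩ := hCc.elim_finite_subcover (fun x : X => ((U x : X.Opens) : Set X))
      (fun x => (U x).2) (fun x _ => Set.mem_iUnion.mpr ⟨x, hxU x⟩)
    have e : t = ⋃ x ∈ s, (t ∩ (U x : Set X)) := by
      rw [← Set.inter_iUnion₂]
      exact (Set.inter_eq_left.mpr (ht.trans hs)).symm
    rw [e]
    exact s.finite_toSet.isCompact_biUnion fun x _ =>
      isCompact_of_subset_of_noetherianSpace (hU x) Set.inter_subset_right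
  have h1 : IsCompact (C ∩ Set.range j) := hCN _ Set.inter_subset_left
  rw [← Set.image_preimage_eq_inter_range] at h1
  exact j.isOpenEmbedding.isInducing.isCompact_iff.mpr h1

end Groth.Agent.Lib.Helper18.LSubM
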