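import Mathlib
import Groth.Prelude.Def_RelProj
import Groth.Agent.Lib.Helper18.LocProj

/-!
# Locally projective morphisms: restriction plumbing (helper18)
-/

set_option autoImplicit false
set_option linter.style.haveILetI false
set_option linter.unusedSectionVars false
universe u
open AlgebraicGeometry CategoryTheory Limits TopologicalSpace Opposite

namespace Groth.Agent.Lib.Helper18.LocProj

/-- if `V.ι` factors through the base of a pullback square over `f`, then `f ∣_ V` is a base change of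
the left side of that square -/
theorem exists_isPullback_restrict {X S Y T : Scheme.{u}} {f : X ⟶ S} {g : Y ⟶ T} {a : Y ⟶ X}
    {b : T ⟶ S} (h : IsPullback a g f b) (V : S.Opens) (k : (V : Scheme.{u}) ⟶ T)
    (hk : k ≫ b = V.ι) :
    ∃ k' : ((f ⁻¹ᵁ V : X.Opens) : Scheme.{u}) ⟶ Y, IsPullback k' (f ∣_ V) g k := by
  have hcomm : (f ⁻¹ᵁ V).ι ≫ f = (f ∣_ V ≫ k) ≫ b := by
    rw [Category.assoc, hk, morphismRestrict_ι]
  refine ⟨h.lift (f ⁻¹ᵁ V).ι (f ∣_ V ≫ k) hcomm, ?_⟩
  refine IsPullback.of_right ?_ (h.lift_snd _ _ hcomm) h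
  rw [h.lift_fst, hk]
  exact (isPullback_morphismRestrict f V).flip

/-- H-projectivity passes to `f ∣_ V` from any base change through which `V.ι` factors -/
theorem isHProjective_restrict_of_factors {X S Y T : Scheme.{u}} {f : X ⟶ S} {g : Y ⟶ T}
    {a : Y ⟶ X} {b : T ⟶ S} (h : IsPullback a g f b) (V : S.Opens) (k : (V : Scheme.{u}) ⟶ T)
    (hk : k ≫ b = V.ι) (hg : RelProj.IsHProjective g) : RelProj.IsHProjective (f ∣_ V) := by
  obtain ⟨k', hk'⟩ := exists_isPullback_restrict h V k hk
  exact isHProjective_of_isPullback hk' hg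

/-- H-projectivity passes to smaller opens -/
theorem isHProjective_restrict_of_le {X S : Scheme.{u}} (f : X ⟶ S) {U V : S.Opens} (hVU : V ≤ U)
    (hU : RelProj.IsHProjective (f ∣_ U)) : RelProj.IsHProjective (f ∣_ V) :=
  isHProjective_restrict_of_factors (isPullback_morphismRestrict f U).flip V (S.homOfLE hVU)
    (S.homOfLE_ι hVU) hU

/-- a morphism which is projective over an open `U` is H-projective over a neighbourhood of each
point of `U` -/
theorem exists_isHProjective_of_isProjective_restrict {X S : Scheme.{u}} (f : X ⟶ S) (U : S.Opens)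
    (hU : RelProj.IsProjective (f ∣_ U)) (s : S) (hs : s ∈ U) :
    ∃ V : S.Opens, s ∈ V ∧ V ≤ U ∧ IsAffineOpen V ∧ RelProj.IsHProjective (f ∣_ V) := by
  obtain ⟨_, ⟨(W : (U : Scheme.{u}).Opens), hW : IsAffineOpen W, rfl⟩, hxW, -⟩ :=
    (U : Scheme.{u}).isBasis_affineOpens.exists_subset_of_mem_open
      (Set.mem_univ (⟨s, hs⟩ : (U : Scheme.{u}))) isOpen_univ
  have h1 := isHProjective_restrict_of_isProjective (f ∣_ U) hU W hW
  refine ⟨U.ι ''ᵁ W, ⟨⟨s, hs⟩, hxW, rfl⟩, U.ι_image_le W, hW.image_of_isOpenImmersion U.ι, ?_⟩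
  have hp : IsPullback (((f ∣_ U) ⁻¹ᵁ W).ι ≫ (f ⁻¹ᵁ U).ι) ((f ∣_ U) ∣_ W) f (W.ι ≫ U.ι) :=
    (isPullback_morphismRestrict (f ∣_ U) W).flip.paste_horiz (isPullback_morphismRestrict f U).flip
  exact isHProjective_restrict_of_factors hp (U.ι ''ᵁ W) (U.ι.isoImage W).inv
    (U.ι.isoImage_inv_ι W) h1

/-- a morphism which is H-projective over an affine open is projective over it -/
theorem isProjective_restrict_of_isHProjective {X S : Scheme.{u}} (f : X ⟶ S) (V : S.Opens)
    (hV : IsAffineOpen V) (h : RelProj.IsHProjective (f ∣_ V)) : RelProj.IsProjective (f ∣_ V) := by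
  haveI : IsAffine (V : Scheme.{u}) := hV
  exact isProjective_of_isHProjective_of_isAffine _ h

/-- **locally projective iff locally H-projective** -/
theorem isLocallyProjective_iff {X S : Scheme.{u}} (f : X ⟶ S) :
    RelProj.IsLocallyProjective f ↔
      ∀ s : S, ∃ U : S.Opens, s ∈ U ∧ RelProj.IsHProjective (f ∣_ U) := by
  constructor
  · intro h s
    obtain ⟨U, hs, hU⟩ := h s
    obtain ⟨V, hsV, -, -, hV⟩ := exists_isHProjective_of_isProjective_restrict f U hU s hs
    exact ⟨V, hsV, hV⟩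
  · intro h s
    obtain ⟨U, hs, hU⟩ := h s
    obtain ⟨_, ⟨V, hV : IsAffineOpen V, rfl⟩, hsV, hVU⟩ :=
      S.isBasis_affineOpens.exists_subset_of_mem_open hs U.2
    exact ⟨V, hsV, isProjective_restrict_of_isHProjective f V hV
      (isHProjective_restrict_of_le f hVU hU)⟩

end Groth.Agent.Lib.Helper18.LocProj
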