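import Mathlib
import Groth.Prelude.Def_RelProj
import Groth.Agent.Lib.Helper18.LocProj2

/-!
# Base change of locally projective morphisms (helper18)
-/

set_option autoImplicit false
set_option linter.style.haveILetI false
set_option linter.unusedSectionVars false
universe u
open AlgebraicGeometry CategoryTheory Limits TopologicalSpace Opposite

namespace Groth.Agent.Lib.Helper18.LocProj

/-- a pullback square over `f` whose base factors through an open `V` is a pullback square over
`f ∣_ V` -/
theorem exists_isPullback_over_restrict {X S Y T : Scheme.{u}} {f : X ⟶ S} {F' : Y ⟶ T} {a : Y ⟶ X}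
    {b : T ⟶ S} (h : IsPullback a F' f b) (V : S.Opens) (k : T ⟶ (V : Scheme.{u}))
    (hk : k ≫ V.ι = b) :
    ∃ k' : Y ⟶ ((f ⁻¹ᵁ V : X.Opens) : Scheme.{u}), IsPullback k' F' (f ∣_ V) k := by
  have hV := (isPullback_morphismRestrict f V).flip
  have hcomm : a ≫ f = (F' ≫ k) ≫ V.ι := by
    rw [Category.assoc, hk, h.w]
  refine ⟨hV.lift a (F' ≫ k) hcomm, ?_⟩
  refine IsPullback.of_right ?_ (hV.lift_snd _ _ hcomm) hV
  rw [hV.lift_fst, hk]
  exact h

/-- local H-projectivity is stable under base change -/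
theorem locally_isHProjective_baseChange {X S S' : Scheme.{u}} (f : X ⟶ S) (g : S' ⟶ S)
    (hf : ∀ s : S, ∃ U : S.Opens, s ∈ U ∧ RelProj.IsHProjective (f ∣_ U)) (s' : S') :
    ∃ U' : S'.Opens, s' ∈ U' ∧ RelProj.IsHProjective (pullback.snd f g ∣_ U') := by
  obtain ⟨V, hsV, hV⟩ := hf (g s')
  refine ⟨g ⁻¹ᵁ V, hsV, ?_⟩
  have hp : IsPullback ((pullback.snd f g ⁻¹ᵁ (g ⁻¹ᵁ V)).ι ≫ pullback.fst f g)
      (pullback.snd f g ∣_ (g ⁻¹ᵁ V)) f ((g ⁻¹ᵁ V).ι ≫ g) :=
    (isPullback_morphismRestrict (pullback.snd f g) (g ⁻¹ᵁ V)).flip.paste_horiz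
      (IsPullback.of_hasPullback f g)
  obtain ⟨k', hk'⟩ := exists_isPullback_over_restrict hp V (g ∣_ V) (morphismRestrict_ι g V)
  exact isHProjective_of_isPullback hk' hV

/-- **a base change of a locally projective morphism is locally projective** -/
theorem isLocallyProjective_baseChange {X S S' : Scheme.{u}} (f : X ⟶ S)
    (hf : RelProj.IsLocallyProjective f) (g : S' ⟶ S) :
    RelProj.IsLocallyProjective (pullback.snd f g) :=
  (isLocallyProjective_iff _).mpr
    (locally_isHProjective_baseChange f g ((isLocallyProjective_iff f).mp hf))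

end Groth.Agent.Lib.Helper18.LocProj
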