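import Groth.Agent.Lib.Helper18.NilpAffine
import Groth.Agent.Lib.Helper18.AdicLevels

/-!
# Noetherian corollaries of "nilpotent thickenings of affine schemes are affine"

* a surjective closed immersion into a quasi-compact locally Noetherian scheme has nilpotent kernel;
* if `X ⟶ X'` is a surjective closed immersion, `X` is affine and `X'` is locally Noetherian, then
  `X'` is affine (so a locally Noetherian scheme is affine iff its reduction is).
-/

set_option autoImplicit false
universe u
open AlgebraicGeometry CategoryTheory Limits Opposite TopologicalSpace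

namespace Groth.Agent.Lib.Helper18

theorem exists_ker_pow_eq_bot_of_noetherian {Y₀ Y : Scheme.{u}} [IsLocallyNoetherian Y]
    [CompactSpace Y] (i : Y₀ ⟶ Y) [IsClosedImmersion i] [Surjective i] :
    ∃ m : ℕ, i.ker ^ m = ⊥ := by
  classical
  choose m hm using fun U : Y.affineOpens => ker_nilpotent_of_surjective i U
  have hex : ∀ y : Y, ∃ U : Y.affineOpens, y ∈ U.1 := by
    intro y
    obtain ⟨_, ⟨U, hU, rfl⟩, hyU, -⟩ :=
      Y.isBasis_affineOpens.exists_subset_of_mem_open (Set.mem_univ y) isOpen_univ
    exact ⟨⟨U, hU⟩, hyU⟩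
  choose W hW using hex
  obtain ⟨s, hs⟩ := isCompact_univ.elim_finite_subcover (fun y : Y => ((W y).1 : Set Y))
    (fun y => (W y).1.2) (fun y _ => Set.mem_iUnion.mpr ⟨y, hW y⟩)
  let M : ℕ := s.sup (fun y => m (W y))
  refine ⟨M, ?_⟩
  refine Scheme.IdealSheafData.ext_of_iSup_eq_top (fun y : ↥s => W y.1) ?_ (fun y => ?_)
  · rw [eq_top_iff]
    intro x _
    have := hs (Set.mem_univ x)
    simp only [Set.mem_iUnion] at this
    obtain ⟨y, hy, hxy⟩ := this
    exact Opens.mem_iSup.mpr ⟨⟨y, hy⟩, hxy⟩
  · rw [Scheme.IdealSheafData.ideal_pow, Scheme.IdealSheafData.ideal_bot]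
    apply le_bot_iff.mp
    change (i.ker.ideal (W y.1)) ^ M ≤ ⊥
    rw [← hm (W y.1)]
    exact Ideal.pow_le_pow_right (Finset.le_sup (f := fun y => m (W y)) y.2)

/-- If `X ⟶ X'` is a surjective closed immersion with `X` affine and `X'` locally Noetherian, then
`X'` is affine. -/
theorem isAffine_of_surjective_isClosedImmersion_of_isLocallyNoetherian {X X' : Scheme.{u}}
    [IsLocallyNoetherian X'] (t : X ⟶ X') [IsClosedImmersion t] [Surjective t] [IsAffine X] :
    IsAffine X' := by
  have : CompactSpace X' := by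
    constructor
    rw [← Set.range_eq_univ.mpr (‹Surjective t›).surj]
    exact isCompact_range t.continuous
  obtain ⟨m, hm⟩ := exists_ker_pow_eq_bot_of_noetherian t
  exact isAffine_of_isClosedImmersion_of_ker_pow_eq_bot t m hm

end Groth.Agent.Lib.Helper18
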