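import Mathlib

/-!
# Noetherianity along nilpotent thickenings (ring level)

`isNoetherianRing_of_surjective_of_ker_eq_pow`: `p : B' →+* B` surjective with `ker p = K' ^ m`
(`m ≥ 1`), `K'` nilpotent of exponent `m+1`, `B` Noetherian, and (only needed when `m = 1`) `K'`
finitely generated.  Then `B'` is Noetherian and `K'` is finitely generated.
-/

namespace Groth.Agent.Lib.Helper18

theorem ideal_le_of_le_sup_sq {R : Type*} [CommRing R] (K L : Ideal R)
    (h : K ≤ L ⊔ K ^ 2) (n : ℕ) (hn : K ^ (n + 1) = ⊥) : K ≤ L := by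
  have key : ∀ j : ℕ, K ≤ L ⊔ K ^ (j + 1) := by
    intro j
    induction j with
    | zero => simp
    | succ j ih =>
      have h2 : K ^ 2 ≤ L ⊔ K ^ (j + 1 + 1) := by
        rw [pow_two]
        calc K * K ≤ (L ⊔ K ^ (j + 1)) * K := Ideal.mul_mono_left ih
          _ = L * K ⊔ K ^ (j + 1) * K := Ideal.sup_mul _ _ _
          _ ≤ L ⊔ K ^ (j + 1 + 1) := sup_le_sup Ideal.mul_le_left (by rw [← pow_succ])
      exact h.trans (sup_le le_sup_left h2)
  have := key n
  rwa [hn, sup_bot_eq] at this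

theorem exists_fg_le_sup_ker {B' B : Type*} [CommRing B'] [CommRing B] (p : B' →+* B)
    (hp : Function.Surjective p) (K' : Ideal B') (hK : (K'.map p).FG) :
    ∃ L : Ideal B', L.FG ∧ L ≤ K' ∧ K' ≤ L ⊔ RingHom.ker p := by
  classical
  obtain ⟨s, hs⟩ := hK
  have hex : ∀ b : s, ∃ a ∈ K', p a = b := fun b =>
    (Ideal.mem_map_iff_of_surjective p hp).1 (hs ▸ Ideal.subset_span b.2)
  choose g hg1 hg2 using hex
  refine ⟨Ideal.span ((Finset.univ.image g : Finset B') : Set B'), ⟨_, rfl⟩, ?_, ?_⟩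
  · rw [Ideal.span_le]
    intro x hx
    simp only [Finset.coe_image, Finset.coe_univ, Set.image_univ, Set.mem_range] at hx
    obtain ⟨b, rfl⟩ := hx
    exact hg1 b
  · set L := Ideal.span ((Finset.univ.image g : Finset B') : Set B') with hL
    have h1 : K'.map p ≤ L.map p := by
      rw [← hs, Ideal.span_le]
      intro b hb
      have : p (g ⟨b, hb⟩) = b := hg2 ⟨b, hb⟩
      rw [← this]
      refine Ideal.mem_map_of_mem p (Ideal.subset_span ?_)
      simp
    calc K' ≤ (K'.map p).comap p := Ideal.le_comap_map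
      _ ≤ (L.map p).comap p := Ideal.comap_mono h1
      _ = L ⊔ RingHom.ker p := by
        rw [Ideal.comap_map_of_surjective p hp, RingHom.ker_eq_comap_bot]

theorem isNoetherianRing_of_surjective_of_ker_eq_pow {B' B : Type*} [CommRing B'] [CommRing B]
    (p : B' →+* B) (hp : Function.Surjective p) (K' : Ideal B') (m : ℕ) (hm : 1 ≤ m)
    (hker : RingHom.ker p = K' ^ m) (hnil : K' ^ (m + 1) = ⊥) [IsNoetherianRing B]
    (h1 : m = 1 → K'.FG) : IsNoetherianRing B' ∧ K'.FG := by
  have hKfg : K'.FG := by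
    rcases Nat.lt_or_ge m 2 with hlt | hge
    · exact h1 (by omega)
    · obtain ⟨L, hLfg, hLK, hKL⟩ := exists_fg_le_sup_ker p hp K'
        (IsNoetherian.noetherian _)
      have hle : K' ≤ L := by
        refine ideal_le_of_le_sup_sq K' L (hKL.trans (sup_le_sup le_rfl ?_)) m hnil
        rw [hker]
        exact Ideal.pow_le_pow_right hge
      rw [le_antisymm hle hLK]
      exact hLfg
  refine ⟨IsNoetherianRing.of_prime fun P hP => ?_, hKfg⟩
  have hKP : K' ≤ P := by
    refine hP.le_of_pow_le (n := m + 1) ?_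
    rw [hnil]; exact bot_le
  have hkerP : RingHom.ker p ≤ P := by
    rw [hker]; exact (Ideal.pow_le_self (by omega)).trans hKP
  refine Ideal.fg_of_fg_map_of_fg_inf_ker_of_surjective (f := p) (IsNoetherian.noetherian _) ?_ hp
  rw [inf_eq_right.mpr hkerP, hker]
  exact hKfg.pow

end Groth.Agent.Lib.Helper18
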