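import Mathlib
import Groth.Prelude.Def_OmegaPn

/-!
# Infinitesimal neighbourhoods of an immersion on an affine open inside the coborder

For an immersion `Δ : X ⟶ P`, `n : ℕ` and an affine open `D ≤ Δ.coborderRange` of `P`, the ring map
`rN : Γ(P, D) ⟶ Γ(N, j⁻¹ D)` (`N` the `n`-th infinitesimal neighbourhood of `Δ.liftCoborder`,
`j : N ⟶ P` the canonical immersion) is surjective with kernel the `(n+1)`-st power of the kernel
of `Γ(P, D) ⟶ Γ(X, Δ⁻¹ D)`.
-/

set_option autoImplicit false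
universe u
open AlgebraicGeometry CategoryTheory Limits TopologicalSpace Opposite

namespace Groth.Agent.Lib.Helper18.PPLocalA

open PrinPart

variable {X P : Scheme.{u}} (Δ : X ⟶ P) [IsImmersion Δ] (n : ℕ)

/-- the ring map `Γ(P, D) ⟶ Γ(N, j⁻¹ D)` -/
noncomputable def rN (D : P.Opens) : Γ(P, D) →+*
    Γ(infNbhd Δ.liftCoborder n, infNbhdι Δ.liftCoborder n ⁻¹ᵁ Δ.coborderRange.ι ⁻¹ᵁ D) :=
  ((infNbhdι Δ.liftCoborder n).app (Δ.coborderRange.ι ⁻¹ᵁ D)).hom.comp
    (Δ.coborderRange.ι.app D).hom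

theorem rN_eq (D : P.Opens) (x : Γ(P, D)) :
    rN Δ n D x = ((infNbhdι Δ.liftCoborder n ≫ Δ.coborderRange.ι).app D).hom x := rfl

variable {D : P.Opens} (hD : IsAffineOpen D) (hDC : D ≤ Δ.coborderRange)

include hD hDC in
theorem isAffineOpen_preimage : IsAffineOpen (Δ.coborderRange.ι ⁻¹ᵁ D) :=
  hD.preimage_of_isOpenImmersion _ (by rw [Scheme.Opens.opensRange_ι]; exact hDC)

include hDC in
theorem bijective_ι_app : Function.Bijective (Δ.coborderRange.ι.app D).hom := by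
  have : IsIso (Δ.coborderRange.ι.app D) :=
    Scheme.Hom.isIso_app _ D (by rw [Scheme.Opens.opensRange_ι]; exact hDC)
  exact (ConcreteCategory.isIso_iff_bijective (Δ.coborderRange.ι.app D)).mp this

include hD hDC in
theorem rN_surjective : Function.Surjective (rN Δ n D) := by
  unfold rN
  rw [RingHom.coe_comp]
  refine Function.Surjective.comp ?_ (bijective_ι_app Δ hDC).2
  exact Scheme.IdealSheafData.subschemeι_app_surjective (Δ.liftCoborder.ker ^ (n + 1))
    ⟨_, isAffineOpen_preimage Δ hD hDC⟩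

theorem app_eq_zero_iff (x : Γ(P, D)) :
    (Δ.app D).hom x = 0 ↔
      (Δ.liftCoborder.app (Δ.coborderRange.ι ⁻¹ᵁ D)).hom ((Δ.coborderRange.ι.app D).hom x) = 0 := by
  have h6 := Scheme.Hom.congr_app (Δ.liftCoborder_ι).symm D
  rw [Scheme.Hom.comp_app] at h6
  have h7 := congrArg (fun k => k.hom x) h6
  simp only [CommRingCat.hom_comp, RingHom.coe_comp, Function.comp_apply] at h7
  rw [h7]
  have h8 : Function.Injective (X.presheaf.map
      (eqToHom (congrArg (fun k : X ⟶ P => k ⁻¹ᵁ D) (Δ.liftCoborder_ι).symm)).op).hom := by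
    have : IsIso (X.presheaf.map
      (eqToHom (congrArg (fun k : X ⟶ P => k ⁻¹ᵁ D) (Δ.liftCoborder_ι).symm)).op) :=
      inferInstance
    exact ((ConcreteCategory.isIso_iff_bijective _).mp this).1
  constructor
  · intro hx
    exact h8 (hx.trans (map_zero _).symm)
  · intro hx
    refine Eq.trans (congrArg _ hx) (map_zero _)

include hD hDC in
theorem ker_rN : RingHom.ker (rN Δ n D) = RingHom.ker (Δ.app D).hom ^ (n + 1) := by
  set V : (Δ.coborderRange : Scheme.{u}).affineOpens :=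
    ⟨Δ.coborderRange.ι ⁻¹ᵁ D, isAffineOpen_preimage Δ hD hDC⟩ with hV
  let e : Γ(P, D) ≃+* Γ(Δ.coborderRange, Δ.coborderRange.ι ⁻¹ᵁ D) :=
    RingEquiv.ofBijective (Δ.coborderRange.ι.app D).hom (bijective_ι_app Δ hDC)
  have h2 : RingHom.ker ((infNbhdι Δ.liftCoborder n).app (Δ.coborderRange.ι ⁻¹ᵁ D)).hom =
      RingHom.ker (Δ.liftCoborder.app (Δ.coborderRange.ι ⁻¹ᵁ D)).hom ^ (n + 1) := by
    have h3 := Scheme.IdealSheafData.ker_subschemeι_app (Δ.liftCoborder.ker ^ (n + 1)) V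
    have h4 : (Δ.liftCoborder.ker ^ (n + 1)).ideal V = Δ.liftCoborder.ker.ideal V ^ (n + 1) := rfl
    rw [h4, Scheme.Hom.ker_apply] at h3
    exact h3
  have h5 : RingHom.ker (Δ.app D).hom =
      (RingHom.ker (Δ.liftCoborder.app (Δ.coborderRange.ι ⁻¹ᵁ D)).hom).comap e := by
    ext x
    rw [Ideal.mem_comap, RingHom.mem_ker, RingHom.mem_ker]
    exact app_eq_zero_iff Δ x
  have h9 : RingHom.ker (rN Δ n D) =
      (RingHom.ker ((infNbhdι Δ.liftCoborder n).app (Δ.coborderRange.ι ⁻¹ᵁ D)).hom).comap e := by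
    ext x
    rw [Ideal.mem_comap, RingHom.mem_ker, RingHom.mem_ker]
    rfl
  rw [h9, h5, h2, ← Ideal.map_symm, ← Ideal.map_symm, Ideal.map_pow]

end Groth.Agent.Lib.Helper18.PPLocalA
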