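import Mathlib
import Groth.Prelude.Def_OmegaPn

/-!
# The affine chart `Spec (B ⊗[A] B) ⟶ X ×_S X` of the diagonal

For affine opens `U ⊆ X`, `T ⊆ S` with `f(U) ⊆ T` (`B = Γ(X, U)`, `A = Γ(S, T)`), the open
immersion `kk : Spec (B ⊗[A] B) ⟶ X ×_S X` with range `pr₁⁻¹ U ∩ pr₂⁻¹ U`, the ring isomorphism
`φ : Γ(X ×_S X, D) ≃ B ⊗[A] B` (`D` the range of `kk`), its values on the functions pulled back
from the two factors, and the compatibility with the diagonal.  Also `D` is contained in the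
coborder of the diagonal.
-/

set_option autoImplicit false
set_option linter.style.haveILetI false
universe u
open AlgebraicGeometry CategoryTheory Limits TopologicalSpace Opposite TensorProduct

namespace Groth.Agent.Lib.Helper18.PPLocalB

variable {X S : Scheme.{u}} (f : X ⟶ S) {U : X.Opens} (hU : IsAffineOpen U) {T : S.Opens}
  (hT : IsAffineOpen T) (hUT : U ≤ f ⁻¹ᵁ T)

/-- the algebra structure `Γ(S, T) → Γ(X, U)` -/
@[reducible] noncomputable def algAB : Algebra Γ(S, T) Γ(X, U) := (f.appLE T U hUT).hom.toAlgebra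

include hT hU in
theorem fromSpec_comm :
    letI := algAB f hUT
    Spec.map (CommRingCat.ofHom (algebraMap Γ(S, T) Γ(X, U))) ≫ hT.fromSpec = hU.fromSpec ≫ f :=
  IsAffineOpen.SpecMap_appLE_fromSpec f hT hU hUT

/-- the chart of the fibre square -/
noncomputable def kk :
    letI := algAB f hUT
    Spec (CommRingCat.of (Γ(X, U) ⊗[Γ(S, T)] Γ(X, U))) ⟶ pullback f f :=
  letI := algAB f hUT
  (pullbackSpecIso Γ(S, T) Γ(X, U) Γ(X, U)).inv ≫
    pullback.map _ _ f f hU.fromSpec hU.fromSpec hT.fromSpec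
      (fromSpec_comm f hU hT hUT) (fromSpec_comm f hU hT hUT)

instance : letI := algAB f hUT; IsOpenImmersion (kk f hU hT hUT) := by
  letI := algAB f hUT
  unfold kk
  infer_instance

theorem kk_fst :
    letI := algAB f hUT
    kk f hU hT hUT ≫ pullback.fst f f =
      Spec.map (CommRingCat.ofHom (Algebra.TensorProduct.includeLeftRingHom
        (R := Γ(S, T)) (A := Γ(X, U)) (B := Γ(X, U)))) ≫ hU.fromSpec := by
  letI := algAB f hUT
  unfold kk
  rw [Category.assoc, pullback.lift_fst, pullbackSpecIso_inv_fst_assoc]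

theorem kk_snd :
    letI := algAB f hUT
    kk f hU hT hUT ≫ pullback.snd f f =
      Spec.map (CommRingCat.ofHom (RingHomClass.toRingHom (Algebra.TensorProduct.includeRight
        (R := Γ(S, T)) (A := Γ(X, U)) (B := Γ(X, U))))) ≫ hU.fromSpec := by
  letI := algAB f hUT
  unfold kk
  rw [Category.assoc, pullback.lift_snd, pullbackSpecIso_inv_snd_assoc]

theorem kk_diagonal :
    letI := algAB f hUT
    hU.fromSpec ≫ pullback.diagonal f =
      Spec.map (CommRingCat.ofHom
        (Algebra.TensorProduct.lmul' Γ(S, T) : Γ(X, U) ⊗[Γ(S, T)] Γ(X, U) →ₐ[Γ(S, T)] Γ(X, U)).toRingHom) ≫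
        kk f hU hT hUT := by
  letI := algAB f hUT
  unfold kk
  have h1 := (diagonal_SpecMap Γ(S, T) Γ(X, U)).symm
  rw [← Category.assoc, h1]
  apply pullback.hom_ext
  · rw [Category.assoc, Category.assoc, pullback.diagonal_fst, pullback.lift_fst,
      pullback.diagonal_fst_assoc, Category.comp_id]
  · rw [Category.assoc, Category.assoc, pullback.diagonal_snd, pullback.lift_snd,
      pullback.diagonal_snd_assoc, Category.comp_id]

theorem range_kk :
    letI := algAB f hUT
    Set.range (kk f hU hT hUT) =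
      pullback.fst f f ⁻¹' (U : Set X) ∩ pullback.snd f f ⁻¹' (U : Set X) := by
  letI := algAB f hUT
  have h2 : Set.range (kk f hU hT hUT) = Set.range (pullback.map _ _ f f hU.fromSpec hU.fromSpec
      hT.fromSpec (fromSpec_comm f hU hT hUT) (fromSpec_comm f hU hT hUT)) := by
    apply le_antisymm
    · rintro _ ⟨x, rfl⟩
      exact ⟨(pullbackSpecIso Γ(S, T) Γ(X, U) Γ(X, U)).inv x, rfl⟩
    · rintro _ ⟨x, rfl⟩
      refine ⟨(pullbackSpecIso Γ(S, T) Γ(X, U) Γ(X, U)).hom x, ?_⟩
      simp only [kk, Scheme.Hom.comp_apply]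
      rw [← Scheme.Hom.comp_apply (pullbackSpecIso Γ(S, T) Γ(X, U) Γ(X, U)).hom,
        Iso.hom_inv_id]
      rfl
  rw [h2, Scheme.Pullback.range_map, hU.range_fromSpec]

/-- the affine open `pr₁⁻¹ U ∩ pr₂⁻¹ U` of the fibre square -/
noncomputable def DD : (pullback f f).Opens :=
  letI := algAB f hUT
  (kk f hU hT hUT).opensRange

theorem mem_DD (z : ↥(pullback f f)) :
    z ∈ DD f hU hT hUT ↔ pullback.fst f f z ∈ U ∧ pullback.snd f f z ∈ U := by
  letI := algAB f hUT
  change z ∈ Set.range (kk f hU hT hUT) ↔ _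
  rw [range_kk]
  rfl

theorem isAffineOpen_DD : IsAffineOpen (DD f hU hT hUT) := by
  letI := algAB f hUT
  exact isAffineOpen_opensRange (kk f hU hT hUT)

theorem DD_le_fst : DD f hU hT hUT ≤ pullback.fst f f ⁻¹ᵁ U :=
  fun z hz => ((mem_DD f hU hT hUT z).mp hz).1

theorem DD_le_snd : DD f hU hT hUT ≤ pullback.snd f f ⁻¹ᵁ U :=
  fun z hz => ((mem_DD f hU hT hUT z).mp hz).2

theorem le_diagonal_preimage_DD : U ≤ pullback.diagonal f ⁻¹ᵁ DD f hU hT hUT := by
  intro x hx
  change pullback.diagonal f x ∈ DD f hU hT hUT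
  rw [mem_DD, ← Scheme.Hom.comp_apply, ← Scheme.Hom.comp_apply, pullback.diagonal_fst,
    pullback.diagonal_snd]
  exact ⟨hx, hx⟩

theorem diagonal_preimage_DD : pullback.diagonal f ⁻¹ᵁ DD f hU hT hUT = U := by
  apply le_antisymm
  · intro x hx
    have h1 : pullback.diagonal f x ∈ DD f hU hT hUT := hx
    rw [mem_DD, ← Scheme.Hom.comp_apply, pullback.diagonal_fst] at h1
    exact h1.1
  · exact le_diagonal_preimage_DD f hU hT hUT

/-- `D` is contained in the coborder of the diagonal -/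
theorem DD_le_coborderRange : DD f hU hT hUT ≤ (pullback.diagonal f).coborderRange := by
  letI := algAB f hUT
  intro z hz
  change z ∈ coborder (Set.range (pullback.diagonal f))
  rw [coborder, Set.mem_compl_iff, Set.mem_sdiff, not_and, not_not]
  intro hzc
  -- the closed subset `Z₀` of the chart
  let μ := Spec.map (CommRingCat.ofHom
    (Algebra.TensorProduct.lmul' Γ(S, T) : Γ(X, U) ⊗[Γ(S, T)] Γ(X, U) →ₐ[Γ(S, T)] Γ(X, U)).toRingHom)
  have hμ : IsClosedImmersion μ := by
    apply IsClosedImmersion.spec_of_surjective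
    intro b
    exact ⟨b ⊗ₜ 1, by simp⟩
  have hZ₀ : IsClosed (Set.range μ) := μ.isClosedEmbedding.isClosed_range
  obtain ⟨Z₁, hZ₁, hZ₁'⟩ :=
    ((kk f hU hT hUT).isOpenEmbedding.isInducing.isClosed_iff).mp hZ₀
  have hsub : Set.range (pullback.diagonal f) ∩ (DD f hU hT hUT : Set ↥(pullback f f)) ⊆ Z₁ := by
    rintro _ ⟨⟨x, rfl⟩, hx⟩
    have hxU : x ∈ U := by
      have := (mem_DD f hU hT hUT _).mp hx
      rw [← Scheme.Hom.comp_apply, pullback.diagonal_fst] at this
      exact this.1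
    obtain ⟨y, rfl⟩ : x ∈ Set.range hU.fromSpec := by rw [hU.range_fromSpec]; exact hxU
    have h1 : pullback.diagonal f (hU.fromSpec y) = kk f hU hT hUT (μ y) := by
      rw [← Scheme.Hom.comp_apply, kk_diagonal f hU hT hUT, Scheme.Hom.comp_apply]
    rw [h1]
    have h2 : μ y ∈ (kk f hU hT hUT) ⁻¹' Z₁ := by rw [hZ₁']; exact ⟨y, rfl⟩
    exact h2
  have hz1 : z ∈ closure (Set.range (pullback.diagonal f) ∩
      (DD f hU hT hUT : Set ↥(pullback f f))) := by
    have := (DD f hU hT hUT).2.inter_closure (t := Set.range (pullback.diagonal f)) ⟨hz, hzc⟩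
    rwa [Set.inter_comm] at this
  have hzZ₁ : z ∈ Z₁ := (closure_minimal hsub hZ₁) hz1
  obtain ⟨y, rfl⟩ := hz
  have hy : y ∈ (kk f hU hT hUT) ⁻¹' Z₁ := hzZ₁
  rw [hZ₁'] at hy
  obtain ⟨y', rfl⟩ := hy
  refine ⟨hU.fromSpec y', ?_⟩
  rw [← Scheme.Hom.comp_apply, kk_diagonal f hU hT hUT, Scheme.Hom.comp_apply]

end Groth.Agent.Lib.Helper18.PPLocalB
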