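import Mathlib
import Groth.Prelude.Def_OmegaPn
import Groth.Agent.Lib.Helper18.PPLocalB
import Groth.Agent.Lib.Helper18.LimSystem

/-!
# Functions on the affine chart of the fibre square

`Θ : B ⊗[A] B →+* Γ(X ×_S X, D)`, `a ⊗ b ↦ pr₁♯(a) · pr₂♯(b)`, is bijective
(`B = Γ(X, U)`, `A = Γ(S, T)`, `D = pr₁⁻¹ U ∩ pr₂⁻¹ U`).
-/

set_option autoImplicit false
set_option linter.style.haveILetI false
universe u
open AlgebraicGeometry CategoryTheory Limits TopologicalSpace Opposite TensorProduct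

namespace Groth.Agent.Lib.Helper18.PPLocalC

open Groth.Agent.Lib.Helper18.PPLocalB Groth.Agent.Lib.Helper18.LimSystem

variable {X S : Scheme.{u}} (f : X ⟶ S) {U : X.Opens} (hU : IsAffineOpen U) {T : S.Opens}
  (hT : IsAffineOpen T) (hUT : U ≤ f ⁻¹ᵁ T)

theorem fromSpec_appLE_top (x : Γ(X, U)) :
    (Scheme.ΓSpecIso Γ(X, U)).hom.hom
      ((hU.fromSpec.appLE U ⊤ (by rw [hU.fromSpec_preimage_self])).hom x) = x := by
  have h1 : hU.fromSpec.appLE U ⊤ (by rw [hU.fromSpec_preimage_self]) =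
      (Scheme.ΓSpecIso Γ(X, U)).inv := by
    rw [Scheme.Hom.appLE, hU.fromSpec_app_self, Category.assoc, ← Functor.map_comp]
    have : (eqToHom hU.fromSpec_preimage_self).op ≫
        (homOfLE (show (⊤ : (Spec Γ(X, U)).Opens) ≤ hU.fromSpec ⁻¹ᵁ U by
          rw [hU.fromSpec_preimage_self])).op = 𝟙 _ := Subsingleton.elim _ _
    rw [this, CategoryTheory.Functor.map_id, Category.comp_id]
  rw [h1]
  exact congrArg (fun k => k.hom x) (Scheme.ΓSpecIso Γ(X, U)).inv_hom_id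

theorem top_le_kk_preimage :
    letI := algAB f hUT
    (⊤ : (Spec (CommRingCat.of (Γ(X, U) ⊗[Γ(S, T)] Γ(X, U)))).Opens) ≤
      (kk f hU hT hUT) ⁻¹ᵁ DD f hU hT hUT := by
  letI := algAB f hUT
  unfold DD
  rw [Scheme.Hom.preimage_opensRange]

/-- the ring map `Γ(X ×_S X, D) ⟶ B ⊗[A] B` -/
noncomputable def φ :
    letI := algAB f hUT
    Γ(pullback f f, DD f hU hT hUT) →+* (Γ(X, U) ⊗[Γ(S, T)] Γ(X, U)) :=
  letI := algAB f hUT
  (Scheme.ΓSpecIso (CommRingCat.of (Γ(X, U) ⊗[Γ(S, T)] Γ(X, U)))).hom.hom.comp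
    ((kk f hU hT hUT).appLE (DD f hU hT hUT) ⊤ (top_le_kk_preimage f hU hT hUT)).hom

theorem φ_bijective : Function.Bijective (φ f hU hT hUT) := by
  letI := algAB f hUT
  unfold φ
  rw [RingHom.coe_comp]
  refine Function.Bijective.comp ?_ ?_
  · exact (ConcreteCategory.isIso_iff_bijective _).mp (inferInstance :
      IsIso (Scheme.ΓSpecIso (CommRingCat.of (Γ(X, U) ⊗[Γ(S, T)] Γ(X, U)))).hom)
  · have h1 : IsIso ((kk f hU hT hUT).app (DD f hU hT hUT)) :=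
      Scheme.Hom.isIso_app _ _ le_rfl
    have h2 : IsIso (homOfLE (top_le_kk_preimage f hU hT hUT)) :=
      ⟨homOfLE le_top, Subsingleton.elim _ _, Subsingleton.elim _ _⟩
    have h3 : IsIso ((kk f hU hT hUT).appLE (DD f hU hT hUT) ⊤
        (top_le_kk_preimage f hU hT hUT)) := by
      rw [Scheme.Hom.appLE]
      infer_instance
    exact (ConcreteCategory.isIso_iff_bijective _).mp h3

theorem φ_fst (a : Γ(X, U)) :
    letI := algAB f hUT
    φ f hU hT hUT (((pullback.fst f f).appLE U (DD f hU hT hUT) (DD_le_fst f hU hT hUT)).hom a) =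
      a ⊗ₜ[Γ(S, T)] 1 := by
  letI := algAB f hUT
  unfold φ
  rw [RingHom.comp_apply, ← RingHom.comp_apply (((kk f hU hT hUT).appLE _ _ _).hom),
    ← CommRingCat.hom_comp, Scheme.Hom.appLE_comp_appLE, appLE_of_eq (kk_fst f hU hT hUT),
    ← Scheme.Hom.appLE_comp_appLE _ _ U ⊤ ⊤ (by rw [hU.fromSpec_preimage_self]) le_top,
    CommRingCat.hom_comp, RingHom.comp_apply]
  have h1 := Scheme.ΓSpecIso_naturality (CommRingCat.ofHom
    (Algebra.TensorProduct.includeLeftRingHom (R := Γ(S, T)) (A := Γ(X, U)) (B := Γ(X, U))))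
  have h2 := congrArg (fun k => k.hom
    ((hU.fromSpec.appLE U ⊤ (by rw [hU.fromSpec_preimage_self])).hom a)) h1
  simp only [CommRingCat.hom_comp, RingHom.comp_apply, CommRingCat.hom_ofHom] at h2
  have h3 := fromSpec_appLE_top hU a
  have h4 : ∀ (g : Spec (CommRingCat.of (Γ(X, U) ⊗[Γ(S, T)] Γ(X, U))) ⟶ Spec (CommRingCat.of Γ(X, U)))
      (e : (⊤ : (Spec (CommRingCat.of (Γ(X, U) ⊗[Γ(S, T)] Γ(X, U)))).Opens) ≤ g ⁻¹ᵁ ⊤),
      g.appLE ⊤ ⊤ e = g.appTop := by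
    intro g e
    rw [Scheme.Hom.appTop, Scheme.Hom.app_eq_appLE]
    rfl
  rw [h4]
  refine h2.trans ?_
  exact congrArg (fun z => z ⊗ₜ[Γ(S, T)] (1 : Γ(X, U))) h3

theorem φ_snd (b : Γ(X, U)) :
    letI := algAB f hUT
    φ f hU hT hUT (((pullback.snd f f).appLE U (DD f hU hT hUT) (DD_le_snd f hU hT hUT)).hom b) =
      1 ⊗ₜ[Γ(S, T)] b := by
  letI := algAB f hUT
  unfold φ
  rw [RingHom.comp_apply, ← RingHom.comp_apply (((kk f hU hT hUT).appLE _ _ _).hom),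
    ← CommRingCat.hom_comp, Scheme.Hom.appLE_comp_appLE, appLE_of_eq (kk_snd f hU hT hUT),
    ← Scheme.Hom.appLE_comp_appLE _ _ U ⊤ ⊤ (by rw [hU.fromSpec_preimage_self]) le_top,
    CommRingCat.hom_comp, RingHom.comp_apply]
  have h1 := Scheme.ΓSpecIso_naturality (CommRingCat.ofHom
    (RingHomClass.toRingHom (Algebra.TensorProduct.includeRight
      (R := Γ(S, T)) (A := Γ(X, U)) (B := Γ(X, U)))))
  have h2 := congrArg (fun k => k.hom
    ((hU.fromSpec.appLE U ⊤ (by rw [hU.fromSpec_preimage_self])).hom b)) h1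
  simp only [CommRingCat.hom_comp, RingHom.comp_apply, CommRingCat.hom_ofHom] at h2
  have h3 := fromSpec_appLE_top hU b
  have h4 : ∀ (g : Spec (CommRingCat.of (Γ(X, U) ⊗[Γ(S, T)] Γ(X, U))) ⟶ Spec (CommRingCat.of Γ(X, U)))
      (e : (⊤ : (Spec (CommRingCat.of (Γ(X, U) ⊗[Γ(S, T)] Γ(X, U)))).Opens) ≤ g ⁻¹ᵁ ⊤),
      g.appLE ⊤ ⊤ e = g.appTop := by
    intro g e
    rw [Scheme.Hom.appTop, Scheme.Hom.app_eq_appLE]
    rfl
  rw [h4]
  refine h2.trans ?_
  exact congrArg (fun z => (1 : Γ(X, U)) ⊗ₜ[Γ(S, T)] z) h3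

end Groth.Agent.Lib.Helper18.PPLocalC
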