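import Mathlib
import Groth.Prelude.Def_OmegaPn
import Groth.Agent.Lib.Helper18.PPLocalA
import Groth.Agent.Lib.Helper18.PPLocalC

/-!
# The affine chart of the infinitesimal neighbourhoods of the diagonal

For affine opens `U ⊆ X`, `T ⊆ S` with `f(U) ⊆ T` (`B = Γ(X, U)`, `A = Γ(S, T)`), the ring map
`Ψ : B ⊗[A] B ⟶ Γ(X^{(n)}_Δ, pr₁⁻¹ U)`, `a ⊗ b ↦ pr₁♯ a · pr₂♯ b`, is surjective with kernel the
`(n+1)`-st power of the kernel of the multiplication `B ⊗[A] B ⟶ B`.
-/

set_option autoImplicit false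
set_option linter.style.haveILetI false
universe u
open AlgebraicGeometry CategoryTheory Limits TopologicalSpace Opposite TensorProduct

namespace Groth.Agent.Lib.Helper18.PPLocalD

open PrinPart Groth.Agent.Lib.Helper18.PPLocalA Groth.Agent.Lib.Helper18.PPLocalB
  Groth.Agent.Lib.Helper18.PPLocalC Groth.Agent.Lib.Helper18.LimSystem

theorem id_appLE {X : Scheme.{u}} (U : X.Opens) (e : U ≤ (𝟙 X) ⁻¹ᵁ U) :
    (𝟙 X : X ⟶ X).appLE U U e = 𝟙 _ := by
  have h1 : X.presheaf.map (homOfLE (le_refl U)).op = 𝟙 _ := by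
    have : (homOfLE (le_refl U)) = 𝟙 U := Subsingleton.elim _ _
    rw [this, op_id]
    exact X.presheaf.map_id _
  exact (Category.id_comp (X.presheaf.map (homOfLE (le_refl U)).op)).trans h1

variable {X S : Scheme.{u}} (f : X ⟶ S) (n : ℕ) {U : X.Opens} (hU : IsAffineOpen U) {T : S.Opens}
  (hT : IsAffineOpen T) (hUT : U ≤ f ⁻¹ᵁ T)

/-- `φ` as a ring isomorphism -/
noncomputable def φE :
    letI := algAB f hUT
    Γ(pullback f f, DD f hU hT hUT) ≃+* (Γ(X, U) ⊗[Γ(S, T)] Γ(X, U)) :=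
  letI := algAB f hUT
  RingEquiv.ofBijective (φ f hU hT hUT) (φ_bijective f hU hT hUT)

theorem φE_symm_tmul (a b : Γ(X, U)) :
    letI := algAB f hUT
    (φE f hU hT hUT).symm (a ⊗ₜ[Γ(S, T)] b) =
      ((pullback.fst f f).appLE U (DD f hU hT hUT) (DD_le_fst f hU hT hUT)).hom a *
      ((pullback.snd f f).appLE U (DD f hU hT hUT) (DD_le_snd f hU hT hUT)).hom b := by
  letI := algAB f hUT
  rw [RingEquiv.symm_apply_eq]
  change _ = φ f hU hT hUT _
  rw [map_mul, φ_fst, φ_snd, Algebra.TensorProduct.tmul_mul_tmul, mul_one, one_mul]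

theorem diag_φE_symm (x : letI := algAB f hUT; Γ(X, U) ⊗[Γ(S, T)] Γ(X, U)) :
    letI := algAB f hUT
    ((pullback.diagonal f).appLE (DD f hU hT hUT) U (le_diagonal_preimage_DD f hU hT hUT)).hom
      ((φE f hU hT hUT).symm x) = Algebra.TensorProduct.lmul' Γ(S, T) x := by
  letI := algAB f hUT
  induction x using TensorProduct.induction_on with
  | zero => simp
  | add x y hx hy => rw [map_add, map_add, map_add, hx, hy]
  | tmul a b =>
    rw [φE_symm_tmul, map_mul, ← RingHom.comp_apply, ← RingHom.comp_apply,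
      ← CommRingCat.hom_comp, ← CommRingCat.hom_comp, Scheme.Hom.appLE_comp_appLE,
      Scheme.Hom.appLE_comp_appLE, appLE_of_eq (pullback.diagonal_fst f),
      appLE_of_eq (pullback.diagonal_snd f), id_appLE, Algebra.TensorProduct.lmul'_apply_tmul]
    rfl

theorem diag_app_eq_zero_iff (x : Γ(pullback f f, DD f hU hT hUT)) :
    letI := algAB f hUT
    ((pullback.diagonal f).app (DD f hU hT hUT)).hom x = 0 ↔
      φE f hU hT hUT x ∈ KaehlerDifferential.ideal Γ(S, T) Γ(X, U) := by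
  letI := algAB f hUT
  have h1 : Function.Injective (X.presheaf.map
      (homOfLE (le_diagonal_preimage_DD f hU hT hUT)).op).hom := by
    have : IsIso (homOfLE (le_diagonal_preimage_DD f hU hT hUT)) :=
      ⟨homOfLE (diagonal_preimage_DD f hU hT hUT).le, Subsingleton.elim _ _, Subsingleton.elim _ _⟩
    have : IsIso (X.presheaf.map (homOfLE (le_diagonal_preimage_DD f hU hT hUT)).op) :=
      inferInstance
    exact ((ConcreteCategory.isIso_iff_bijective _).mp this).1
  have h2 := diag_φE_symm f hU hT hUT (φE f hU hT hUT x)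
  rw [RingEquiv.symm_apply_apply] at h2
  change _ ↔ _ ∈ RingHom.ker _
  rw [RingHom.mem_ker]
  rw [← h2]
  change _ ↔ (X.presheaf.map (homOfLE (le_diagonal_preimage_DD f hU hT hUT)).op).hom
    (((pullback.diagonal f).app (DD f hU hT hUT)).hom x) = 0
  constructor
  · intro hx
    rw [hx, map_zero]
  · intro hx
    exact h1 (hx.trans (map_zero _).symm)

theorem ker_diag_app :
    letI := algAB f hUT
    RingHom.ker ((pullback.diagonal f).app (DD f hU hT hUT)).hom =
      (KaehlerDifferential.ideal Γ(S, T) Γ(X, U)).comap (φE f hU hT hUT) := by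
  letI := algAB f hUT
  ext x
  rw [RingHom.mem_ker, Ideal.mem_comap]
  exact diag_app_eq_zero_iff f hU hT hUT x

theorem preimage_DD_eq :
    infNbhdι (diagCl f) n ⁻¹ᵁ ((pullback.diagonal f).coborderRange.ι ⁻¹ᵁ DD f hU hT hUT) =
      pr1 f n ⁻¹ᵁ U := by
  ext z
  change nbhdι f n z ∈ DD f hU hT hUT ↔ pr1 f n z ∈ U
  rw [mem_DD]
  change pr1 f n z ∈ U ∧ pr2 f n z ∈ U ↔ _
  rw [← pr1_apply]
  exact and_self_iff

/-- the ring map `B ⊗[A] B ⟶ Γ(X^{(n)}_Δ, pr₁⁻¹ U)` -/
noncomputable def Ψ :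
    letI := algAB f hUT
    (Γ(X, U) ⊗[Γ(S, T)] Γ(X, U)) →+* Γ(nbhd f n, pr1 f n ⁻¹ᵁ U) :=
  letI := algAB f hUT
  ((nbhd f n).presheaf.map (homOfLE (preimage_DD_eq f n hU hT hUT).ge).op).hom.comp
    ((rN (pullback.diagonal f) n (DD f hU hT hUT)).comp (φE f hU hT hUT).symm.toRingHom)

theorem res_bijective : Function.Bijective
    ((nbhd f n).presheaf.map (homOfLE (preimage_DD_eq f n hU hT hUT).ge).op).hom := by
  have : IsIso (homOfLE (preimage_DD_eq f n hU hT hUT).ge) :=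
    ⟨homOfLE (preimage_DD_eq f n hU hT hUT).le, Subsingleton.elim _ _, Subsingleton.elim _ _⟩
  have : IsIso ((nbhd f n).presheaf.map (homOfLE (preimage_DD_eq f n hU hT hUT).ge).op) :=
    inferInstance
  exact (ConcreteCategory.isIso_iff_bijective _).mp this

theorem Ψ_surjective : Function.Surjective (Ψ f n hU hT hUT) := by
  letI := algAB f hUT
  unfold Ψ
  rw [RingHom.coe_comp, RingHom.coe_comp]
  refine (res_bijective f n hU hT hUT).2.comp (Function.Surjective.comp ?_ ?_)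
  · exact rN_surjective (pullback.diagonal f) n (isAffineOpen_DD f hU hT hUT)
      (DD_le_coborderRange f hU hT hUT)
  · exact (φE f hU hT hUT).symm.surjective

theorem ker_Ψ :
    letI := algAB f hUT
    RingHom.ker (Ψ f n hU hT hUT) = KaehlerDifferential.ideal Γ(S, T) Γ(X, U) ^ (n + 1) := by
  letI := algAB f hUT
  have h1 := ker_rN (pullback.diagonal f) n (isAffineOpen_DD f hU hT hUT)
    (DD_le_coborderRange f hU hT hUT)
  rw [ker_diag_app f hU hT hUT, ← Ideal.map_symm, ← Ideal.map_pow, Ideal.map_symm] at h1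
  ext x
  rw [RingHom.mem_ker]
  have h3 : Ψ f n hU hT hUT x = 0 ↔
      rN (pullback.diagonal f) n (DD f hU hT hUT) ((φE f hU hT hUT).symm x) = 0 := by
    constructor
    · intro hx
      exact (res_bijective f n hU hT hUT).1 (hx.trans (map_zero _).symm)
    · intro hx
      change ((nbhd f n).presheaf.map (homOfLE (preimage_DD_eq f n hU hT hUT).ge).op).hom
        (rN (pullback.diagonal f) n (DD f hU hT hUT) ((φE f hU hT hUT).symm x)) = 0
      rw [hx, map_zero]
  rw [h3, ← RingHom.mem_ker, h1, Ideal.mem_comap, RingEquiv.apply_symm_apply]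

theorem Ψ_tmul (a b : Γ(X, U)) :
    letI := algAB f hUT
    Ψ f n hU hT hUT (a ⊗ₜ[Γ(S, T)] b) =
      ((pr1 f n).app U).hom a *
        ((pr2 f n).appLE U (pr1 f n ⁻¹ᵁ U) (preimage_pr1 f n U).le).hom b := by
  letI := algAB f hUT
  have key : ∀ (g : pullback f f ⟶ X) (hg : DD f hU hT hUT ≤ g ⁻¹ᵁ U)
      (hg' : pr1 f n ⁻¹ᵁ U ≤ (nbhdι f n ≫ g) ⁻¹ᵁ U) (c : Γ(X, U)),
      ((nbhd f n).presheaf.map (homOfLE (preimage_DD_eq f n hU hT hUT).ge).op).hom
        (rN (pullback.diagonal f) n (DD f hU hT hUT) ((g.appLE U (DD f hU hT hUT) hg).hom c)) =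
      ((nbhdι f n ≫ g).appLE U (pr1 f n ⁻¹ᵁ U) hg').hom c := by
    intro g hg hg' c
    have h1 : g.appLE U (DD f hU hT hUT) hg ≫ (nbhdι f n).appLE (DD f hU hT hUT)
        (pr1 f n ⁻¹ᵁ U) (preimage_DD_eq f n hU hT hUT).ge =
        (nbhdι f n ≫ g).appLE U (pr1 f n ⁻¹ᵁ U) hg' :=
      Scheme.Hom.appLE_comp_appLE _ _ _ _ _ _ _
    rw [← h1]
    rfl
  change ((nbhd f n).presheaf.map (homOfLE (preimage_DD_eq f n hU hT hUT).ge).op).hom
    (rN (pullback.diagonal f) n (DD f hU hT hUT) ((φE f hU hT hUT).symm (a ⊗ₜ[Γ(S, T)] b))) = _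
  rw [φE_symm_tmul, map_mul, map_mul, key (pullback.fst f f) (DD_le_fst f hU hT hUT) le_rfl,
    key (pullback.snd f f) (DD_le_snd f hU hT hUT) (preimage_pr1 f n U).le,
    Scheme.Hom.app_eq_appLE]
  rfl

end Groth.Agent.Lib.Helper18.PPLocalD
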