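import Mathlib
import Groth.Prelude.Def_OmegaPn
import Groth.Agent.Lib.Helper18.PPLocalD

/-!
# The augmentation ideal of `P^n_{X/S}` is nilpotent of order `n + 1`

For every open `U` of `X` and functions `a₀, …, aₙ` on `U`, the product of the
`pr₂♯ aᵢ - pr₁♯ aᵢ` vanishes on `pr₁⁻¹ U ⊆ X^{(n)}_Δ`.  Also: the opens `U` which are affine
and map into an affine open of `S` form a basis of `X`.
-/

set_option autoImplicit false
set_option linter.style.haveILetI false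
universe u
open AlgebraicGeometry CategoryTheory Limits TopologicalSpace Opposite TensorProduct

namespace Groth.Agent.Lib.Helper18.PPNil

open PrinPart Groth.Agent.Lib.Helper18.PPLocalA Groth.Agent.Lib.Helper18.PPLocalB
  Groth.Agent.Lib.Helper18.PPLocalC Groth.Agent.Lib.Helper18.PPLocalD

variable {X S : Scheme.{u}} (f : X ⟶ S) (n : ℕ)

/-- small affine opens mapping into an affine open of the base form a basis -/
theorem exists_affine_chart (U : X.Opens) (x : X) (hx : x ∈ U) :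
    ∃ (U' : X.Opens) (T : S.Opens), IsAffineOpen U' ∧ IsAffineOpen T ∧ U' ≤ f ⁻¹ᵁ T ∧ U' ≤ U ∧
      x ∈ U' := by
  obtain ⟨_, ⟨T, hT, rfl⟩, hxT, -⟩ :=
    S.isBasis_affineOpens.exists_subset_of_mem_open (Set.mem_univ (f x)) isOpen_univ
  have hx' : x ∈ U ⊓ f ⁻¹ᵁ T := ⟨hx, hxT⟩
  obtain ⟨_, ⟨U', hU', rfl⟩, hxU', hU'le⟩ :=
    X.isBasis_affineOpens.exists_subset_of_mem_open hx' (U ⊓ f ⁻¹ᵁ T).2
  exact ⟨U', T, hU', hT, fun y hy => (hU'le hy).2, fun y hy => (hU'le hy).1, hxU'⟩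

/-- `ρ = pr₂♯` on `pr₁⁻¹ U` -/
noncomputable abbrev ρ (U : X.Opens) : Γ(X, U) →+* Γ(nbhd f n, pr1 f n ⁻¹ᵁ U) :=
  ((pr2 f n).appLE U (pr1 f n ⁻¹ᵁ U) (preimage_pr1 f n U).le).hom

/-- `λ = pr₁♯` on `pr₁⁻¹ U` -/
noncomputable abbrev lam (U : X.Opens) : Γ(X, U) →+* Γ(nbhd f n, pr1 f n ⁻¹ᵁ U) :=
  ((pr1 f n).app U).hom

theorem ρ_res {U U' : X.Opens} (h : U' ≤ U) (a : Γ(X, U)) :
    ((nbhd f n).presheaf.map (homOfLE ((pr1 f n).preimage_mono h)).op).hom (ρ f n U a) =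
      ρ f n U' ((X.presheaf.map (homOfLE h).op).hom a) := by
  change ((pr2 f n).appLE U (pr1 f n ⁻¹ᵁ U) (preimage_pr1 f n U).le ≫
    (nbhd f n).presheaf.map (homOfLE ((pr1 f n).preimage_mono h)).op).hom a =
    (X.presheaf.map (homOfLE h).op ≫
      (pr2 f n).appLE U' (pr1 f n ⁻¹ᵁ U') (preimage_pr1 f n U').le).hom a
  rw [Scheme.Hom.appLE_map, Scheme.Hom.map_appLE]

theorem lam_res {U U' : X.Opens} (h : U' ≤ U) (a : Γ(X, U)) :
    ((nbhd f n).presheaf.map (homOfLE ((pr1 f n).preimage_mono h)).op).hom (lam f n U a) =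
      lam f n U' ((X.presheaf.map (homOfLE h).op).hom a) := by
  have := (pr1 f n).naturality (homOfLE h).op
  exact (congrArg (fun k => k.hom a) this).symm

theorem prod_sub_eq_zero (U : X.Opens) (a : Fin (n + 1) → Γ(X, U)) :
    ∏ i, (ρ f n U (a i) - lam f n U (a i)) = 0 := by
  refine TopCat.Sheaf.eq_of_locally_eq' (nbhd f n).sheaf
    (fun p : {p : X.Opens × S.Opens // IsAffineOpen p.1 ∧ IsAffineOpen p.2 ∧ p.1 ≤ f ⁻¹ᵁ p.2 ∧
      p.1 ≤ U} => pr1 f n ⁻¹ᵁ p.1.1) (pr1 f n ⁻¹ᵁ U)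
    (fun p => homOfLE ((pr1 f n).preimage_mono p.2.2.2.2)) ?_ _ _ (fun p => ?_)
  · intro z hz
    obtain ⟨U', T, hU', hT, hUT, hU'U, hzU'⟩ := exists_affine_chart f U (pr1 f n z) hz
    exact Opens.mem_iSup.mpr ⟨⟨(U', T), hU', hT, hUT, hU'U⟩, hzU'⟩
  · obtain ⟨⟨U', T⟩, hU', hT, hUT, hU'U⟩ := p
    letI := algAB f hUT
    change ((nbhd f n).presheaf.map (homOfLE ((pr1 f n).preimage_mono hU'U)).op).hom
      (∏ i, (ρ f n U (a i) - lam f n U (a i))) =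
      ((nbhd f n).presheaf.map (homOfLE ((pr1 f n).preimage_mono hU'U)).op).hom 0
    rw [map_zero, map_prod]
    have h1 : ∀ i, ((nbhd f n).presheaf.map (homOfLE ((pr1 f n).preimage_mono hU'U)).op).hom
        (ρ f n U (a i) - lam f n U (a i)) =
        Ψ f n hU' hT hUT ((1 : Γ(X, U')) ⊗ₜ[Γ(S, T)] ((X.presheaf.map (homOfLE hU'U).op).hom (a i)) -
          ((X.presheaf.map (homOfLE hU'U).op).hom (a i)) ⊗ₜ[Γ(S, T)] (1 : Γ(X, U'))) := by
      intro i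
      rw [map_sub, map_sub, ρ_res, lam_res, Ψ_tmul, Ψ_tmul, map_one, map_one, one_mul, mul_one]
    simp only [h1]
    rw [← map_prod, ← RingHom.mem_ker, ker_Ψ]
    have h2 := Ideal.prod_mem_prod (s := Finset.univ)
      (I := fun _ : Fin (n + 1) => KaehlerDifferential.ideal Γ(S, T) Γ(X, U'))
      (x := fun i => ((1 : Γ(X, U')) ⊗ₜ[Γ(S, T)] ((X.presheaf.map (homOfLE hU'U).op).hom (a i)) -
          ((X.presheaf.map (homOfLE hU'U).op).hom (a i)) ⊗ₜ[Γ(S, T)] (1 : Γ(X, U'))))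
      (fun i _ => KaehlerDifferential.one_smul_sub_smul_one_mem_ideal _ _)
    rw [Finset.prod_const, Finset.card_univ, Fintype.card_fin] at h2
    exact h2

end Groth.Agent.Lib.Helper18.PPNil
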