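import Mathlib
import Groth.Prelude.Def_OmegaPn
import Groth.Agent.Lib.Helper18.TransSec
import Groth.Agent.Lib.Helper18.ModHomMk
import Groth.Agent.Lib.Helper49.PrinPartBasic

/-!
# Transition maps between modules of the form `p₁_* p₂^* F`

For a pair of morphisms `p₁ p₂ : N ⟶ X` the module `(p₁)_* (p₂)^* F` (e.g. the principal parts
`PrinPart.PMod f n F`) is functorial in `(N, p₁, p₂)`: a morphism `w : N' ⟶ N` with
`w ≫ p₁ = p₁'`, `w ≫ p₂ = p₂'` induces `tmap : (p₁)_* (p₂)^* F ⟶ (p₁')_* (p₂')^* F`, which sends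
(restrictions of) pulled back sections to pulled back sections (`tsec_pullSLE`).

Application to principal parts: `PMod f m F ⟶ PMod f n F` for `n ≤ m`, compatible with `dP`
(`ppTrans`, `ppTrans_dP`), and `IsDiffOpLE` is monotone in the order.
-/

set_option autoImplicit false
universe u
open AlgebraicGeometry CategoryTheory Limits TopologicalSpace Opposite

namespace Groth.Agent.Lib.Helper18.PPTrans

open Groth.Agent.Lib.Helper49 Groth.Agent.Lib.Helper49.UnitChart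
  Groth.Agent.Lib.Helper11.PullbackBasis Groth.Agent.Lib.Helper18.TransSec

section General

variable {N' N X : Scheme.{u}} (w : N' ⟶ N) (p1 p2 : N ⟶ X) (p1' p2' : N' ⟶ X)
  (e1 : w ≫ p1 = p1') (e2 : w ≫ p2 = p2') (F : X.Modules)

/-- the transition map on sections -/
noncomputable def tsec (U : X.Opens) (x : Γ((Scheme.Modules.pullback p2).obj F, p1 ⁻¹ᵁ U)) :
    Γ((Scheme.Modules.pullback p2').obj F, p1' ⁻¹ᵁ U) :=
  ((compIso w p2 p2' e2 F).hom.app (p1' ⁻¹ᵁ U)).hom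
    (pullSLE w ((Scheme.Modules.pullback p2).obj F) (p1 ⁻¹ᵁ U) (p1' ⁻¹ᵁ U)
      (preimage_le_of_comp w p1 p1' e1 U) x)

theorem tsec_add (U : X.Opens) (x y : Γ((Scheme.Modules.pullback p2).obj F, p1 ⁻¹ᵁ U)) :
    tsec w p1 p2 p1' p2' e1 e2 F U (x + y) =
      tsec w p1 p2 p1' p2' e1 e2 F U x + tsec w p1 p2 p1' p2' e1 e2 F U y := by
  unfold tsec
  rw [pullSLE_add, map_add]

theorem tsec_smul (U : X.Opens) (a : Γ(N, p1 ⁻¹ᵁ U))
    (x : Γ((Scheme.Modules.pullback p2).obj F, p1 ⁻¹ᵁ U)) :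
    tsec w p1 p2 p1' p2' e1 e2 F U (a • x) =
      (w.appLE (p1 ⁻¹ᵁ U) (p1' ⁻¹ᵁ U) (preimage_le_of_comp w p1 p1' e1 U)).hom a •
        tsec w p1 p2 p1' p2' e1 e2 F U x := by
  unfold tsec
  rw [pullSLE_smul]
  exact Scheme.Modules.Hom.app_smul _ _ _

theorem tsec_mres {U U' : X.Opens} (h : U' ≤ U)
    (x : Γ((Scheme.Modules.pullback p2).obj F, p1 ⁻¹ᵁ U)) :
    mres ((Scheme.Modules.pullback p2').obj F) (p1'.preimage_mono h)
        (tsec w p1 p2 p1' p2' e1 e2 F U x) =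
      tsec w p1 p2 p1' p2' e1 e2 F U'
        (mres ((Scheme.Modules.pullback p2).obj F) (p1.preimage_mono h) x) := by
  unfold tsec
  rw [← app_mres, mres_pullSLE, pullSLE_mres]

theorem tsec_base (U : X.Opens) (r : Γ(X, U))
    (x : Γ((Scheme.Modules.pullback p2).obj F, p1 ⁻¹ᵁ U)) :
    tsec w p1 p2 p1' p2' e1 e2 F U ((p1.app U).hom r • x) =
      (p1'.app U).hom r • tsec w p1 p2 p1' p2' e1 e2 F U x := by
  rw [tsec_smul]
  congr 1
  subst e1
  rw [← RingHom.comp_apply, ← CommRingCat.hom_comp, Scheme.Hom.app_eq_appLE,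
    Scheme.Hom.appLE_comp_appLE, Scheme.Hom.app_eq_appLE]

/-- the transition map sends pulled back sections to pulled back sections -/
theorem tsec_pullSLE (U V : X.Opens) (hV : p1 ⁻¹ᵁ U ≤ p2 ⁻¹ᵁ V) (hV' : p1' ⁻¹ᵁ U ≤ p2' ⁻¹ᵁ V)
    (t : Γ(F, V)) :
    tsec w p1 p2 p1' p2' e1 e2 F U (pullSLE p2 F V (p1 ⁻¹ᵁ U) hV t) =
      pullSLE p2' F V (p1' ⁻¹ᵁ U) hV' t := by
  subst e2
  unfold tsec compIso
  rw [pullSLE_comp]
  have h1 : ∀ z, ((((Scheme.Modules.pullbackComp w p2 ≪≫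
      Scheme.Modules.pullbackCongr (rfl : w ≫ p2 = w ≫ p2)).app F).hom).app (p1' ⁻¹ᵁ U)).hom
      ((((Scheme.Modules.pullbackComp w p2).inv.app F).app (p1' ⁻¹ᵁ U)).hom z) = z := by
    intro z
    have h2 : (Scheme.Modules.pullbackComp w p2).inv.app F ≫
        ((Scheme.Modules.pullbackComp w p2 ≪≫
          Scheme.Modules.pullbackCongr (rfl : w ≫ p2 = w ≫ p2)).app F).hom = 𝟙 _ := by
      simp [Scheme.Modules.pullbackCongr]
    have h3 := congrArg (fun k => (Scheme.Modules.Hom.app k (p1' ⁻¹ᵁ U)).hom z) h2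
    exact h3
  exact h1 _

/-- the transition morphism `(p₁)_* (p₂)^* F ⟶ (p₁')_* (p₂')^* F` of `O_X`-modules -/
noncomputable def tmap :
    (Scheme.Modules.pushforward p1).obj ((Scheme.Modules.pullback p2).obj F) ⟶
      (Scheme.Modules.pushforward p1').obj ((Scheme.Modules.pullback p2').obj F) :=
  Groth.Agent.Lib.Helper18.ModHomMk.mkHom _ _
    (fun U => AddMonoidHom.mk' (tsec w p1 p2 p1' p2' e1 e2 F U) (tsec_add w p1 p2 p1' p2' e1 e2 F U))
    (fun h s => tsec_mres w p1 p2 p1' p2' e1 e2 F h s)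
    (fun U r s => tsec_base w p1 p2 p1' p2' e1 e2 F U r s)

theorem tmap_app (U : X.Opens) (x : Γ((Scheme.Modules.pullback p2).obj F, p1 ⁻¹ᵁ U)) :
    ((tmap w p1 p2 p1' p2' e1 e2 F).app U).hom x = tsec w p1 p2 p1' p2' e1 e2 F U x := rfl

end General

section PrinPart

open PrinPart

variable {X S : Scheme.{u}} (f : X ⟶ S)

/-- `dP` in terms of `pullSLE` -/
theorem dP_eq_pullSLE (n : ℕ) (F : X.Modules) (U : X.Opens) (t : Γ(F, U)) :
    dP f n F U t = pullSLE (pr2 f n) F U (pr1 f n ⁻¹ᵁ U) (preimage_pr1 f n U).le t := rfl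

theorem infNbhdMap_pr1 {n m : ℕ} (h : n ≤ m) :
    infNbhdMap (diagCl f) h ≫ pr1 f m = pr1 f n := by
  simp only [pr1, nbhdι, Category.assoc, infNbhdMap_ι_assoc]

theorem infNbhdMap_pr2 {n m : ℕ} (h : n ≤ m) :
    infNbhdMap (diagCl f) h ≫ pr2 f m = pr2 f n := by
  simp only [pr2, nbhdι, Category.assoc, infNbhdMap_ι_assoc]

/-- the transition map `P^m(F) ⟶ P^n(F)` for `n ≤ m` -/
noncomputable def ppTrans {n m : ℕ} (h : n ≤ m) (F : X.Modules) : PMod f m F ⟶ PMod f n F :=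
  tmap (infNbhdMap (diagCl f) h) (pr1 f m) (pr2 f m) (pr1 f n) (pr2 f n)
    (infNbhdMap_pr1 f h) (infNbhdMap_pr2 f h) F

theorem ppTrans_dP {n m : ℕ} (h : n ≤ m) (F : X.Modules) (U : X.Opens) (t : Γ(F, U)) :
    ((ppTrans f h F).app U).hom (dP f m F U t) = dP f n F U t := by
  have h1 := tsec_pullSLE (infNbhdMap (diagCl f) h) (pr1 f m) (pr2 f m) (pr1 f n) (pr2 f n)
    (infNbhdMap_pr1 f h) (infNbhdMap_pr2 f h) F U U (preimage_pr1 f m U).le
    (preimage_pr1 f n U).le t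
  exact h1

/-- a differential operator of order `≤ n` is of order `≤ m` for `n ≤ m` -/
theorem isDiffOpLE_of_le (F G : X.Modules) {n m : ℕ} (h : n ≤ m)
    (D : F.presheaf ⟶ G.presheaf) (hD : IsDiffOpLE f F G n D) : IsDiffOpLE f F G m D := by
  obtain ⟨u, hu⟩ := hD
  refine ⟨ppTrans f h F ≫ u, fun U t => ?_⟩
  rw [hu U t]
  have h1 := ppTrans_dP f h F U t
  change u.app U (dP f n F U t) = u.app U ((ppTrans f h F).app U (dP f m F U t))
  rw [← h1]

end PrinPart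

end Groth.Agent.Lib.Helper18.PPTrans
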