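import Mathlib
import Groth.Prelude.Def_OmegaPn
import Groth.Agent.Lib.Helper18.PPTrans
import Groth.Agent.Lib.Helper18.LimSystem
import Groth.Agent.Lib.Helper49.PrinPartZero

/-!
# Differential operators of order `≤ 0` are the `O_X`-linear maps
-/

set_option autoImplicit false
universe u
open AlgebraicGeometry CategoryTheory Limits TopologicalSpace Opposite

namespace Groth.Agent.Lib.Helper18.PPZero

open Groth.Agent.Lib.Helper49 Groth.Agent.Lib.Helper49.UnitChart
  Groth.Agent.Lib.Helper11.PullbackBasis Groth.Agent.Lib.Helper18.PPTrans PrinPart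
  Groth.Agent.Lib.Helper49.PrinPartZero

variable {X S : Scheme.{u}} (f : X ⟶ S)

theorem pr1_zero_eq_pr2_zero : pr1 f 0 = pr2 f 0 := by rw [pr1_zero, pr2_zero]

/-- `dP` is semilinear: `d^n(a t) = p₂♯(a) • d^n t`. -/
theorem dP_smul (n : ℕ) (F : X.Modules) (U : X.Opens) (a : Γ(X, U)) (t : Γ(F, U)) :
    dP f n F U (a • t) =
      (show Γ(nbhd f n, pr1 f n ⁻¹ᵁ U) from
        ((pr2 f n).appLE U (pr1 f n ⁻¹ᵁ U) (preimage_pr1 f n U).le).hom a) •
        (show Γ((Scheme.Modules.pullback (pr2 f n)).obj F, pr1 f n ⁻¹ᵁ U) from dP f n F U t) := by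
  rw [dP_eq_pullSLE, dP_eq_pullSLE]
  exact pullSLE_smul _ _ _ _ _ _ _

/-- for `n = 0` the operator `d^0` is `O_X`-linear -/
theorem dP_zero_smul (F : X.Modules) (U : X.Opens) (a : Γ(X, U)) (t : Γ(F, U)) :
    dP f 0 F U (a • t) = a • dP f 0 F U t := by
  rw [dP_smul]
  have h1 : ((pr2 f 0).appLE U (pr1 f 0 ⁻¹ᵁ U) (preimage_pr1 f 0 U).le).hom a =
      ((pr1 f 0).app U).hom a := by
    rw [Scheme.Hom.app_eq_appLE]
    rw [Groth.Agent.Lib.Helper18.LimSystem.appLE_of_eq (pr1_zero_eq_pr2_zero f).symm]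
  rw [h1]
  rfl

/-- `d^0` as a morphism of `O_X`-modules -/
noncomputable def dZero (F : X.Modules) : F ⟶ PMod f 0 F :=
  Groth.Agent.Lib.Helper18.ModHomMk.mkHom F (PMod f 0 F) (fun U => dP f 0 F U)
    (fun h s => (dP_map f 0 F h s).symm)
    (fun U r s => dP_zero_smul f F U r s)

instance isIso_dZero (F : X.Modules) : IsIso (dZero f F) := by
  rw [Scheme.Modules.Hom.isIso_iff_isIso_app]
  intro U
  rw [ConcreteCategory.isIso_iff_bijective]
  exact dP_zero_bijective f F U

theorem isDiffOpLE_zero_iff (F G : X.Modules) (D : F.presheaf ⟶ G.presheaf) :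
    IsDiffOpLE f F G 0 D ↔
      ∀ (U : X.Opens) (a : Γ(X, U)) (t : Γ(F, U)), D.app (op U) (a • t) = a • D.app (op U) t := by
  constructor
  · rintro ⟨u, hu⟩ U a t
    rw [hu U (a • t), hu U t, dP_zero_smul]
    exact Scheme.Modules.Hom.app_smul u a _
  · intro hlin
    let D' : F ⟶ G := Groth.Agent.Lib.Helper18.ModHomMk.mkHom F G (fun U => (D.app (op U)).hom)
      (fun {U V} h s => by
        have := D.naturality (homOfLE h).op
        exact (congrArg (fun k => k.hom s) this).symm)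
      (fun U r s => hlin U r s)
    refine ⟨inv (dZero f F) ≫ D', fun U t => ?_⟩
    have h1 : (inv (dZero f F)).app U ((dZero f F).app U t) = t := by
      have h2 : dZero f F ≫ inv (dZero f F) = 𝟙 F := IsIso.hom_inv_id _
      exact congrArg (fun k : F ⟶ F => (k.app U) t) h2
    change D.app (op U) t = D'.app U ((inv (dZero f F)).app U ((dZero f F).app U t))
    rw [h1]
    rfl

end Groth.Agent.Lib.Helper18.PPZero
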