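import Mathlib
import Groth.Prelude.Def_OmegaPn
import Groth.Agent.Lib.Helper18.PPNil
import Groth.Agent.Lib.Helper18.PPZero

/-!
# Operators of order `≤ 1`: the Leibniz identity for `d¹`, and linearity of `dⁿ` over the base
-/

set_option autoImplicit false
universe u
open AlgebraicGeometry CategoryTheory Limits TopologicalSpace Opposite

namespace Groth.Agent.Lib.Helper18.PPOrderOne

open PrinPart Groth.Agent.Lib.Helper18.PPNil Groth.Agent.Lib.Helper18.PPZero

variable {X S : Scheme.{u}} (f : X ⟶ S) (n : ℕ) (F : X.Modules)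

/-- the module `p₂^* F` on the infinitesimal neighbourhood -/
noncomputable abbrev MM : (nbhd f n).Modules := (Scheme.Modules.pullback (pr2 f n)).obj F

/-- `dⁿ` valued in the sections of `p₂^* F` -/
noncomputable def dN (U : X.Opens) (t : Γ(F, U)) : Γ(MM f n F, pr1 f n ⁻¹ᵁ U) := dP f n F U t

theorem dN_smul (U : X.Opens) (a : Γ(X, U)) (t : Γ(F, U)) :
    dN f n F U (a • t) = ρ f n U a • dN f n F U t := dP_smul f n F U a t

/-- back to the left `O_X`-module structure -/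
theorem lam_smul (U : X.Opens) (a : Γ(X, U)) (z : Γ(MM f n F, pr1 f n ⁻¹ᵁ U)) :
    (show Γ(PMod f n F, U) from lam f n U a • z) = a • (show Γ(PMod f n F, U) from z) := rfl

theorem dN_one_mul (U : X.Opens) (a b : Γ(X, U)) (t : Γ(F, U)) :
    dN f 1 F U ((a * b) • t) = lam f 1 U a • dN f 1 F U (b • t) + lam f 1 U b • dN f 1 F U (a • t) -
      lam f 1 U (a * b) • dN f 1 F U t := by
  have h0 := prod_sub_eq_zero f 1 U ![a, b]
  rw [Fin.prod_univ_two] at h0
  simp only [Matrix.cons_val_zero, Matrix.cons_val_one] at h0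
  have h1 : ((ρ f 1 U a - lam f 1 U a) * (ρ f 1 U b - lam f 1 U b)) • dN f 1 F U t = 0 := by
    rw [h0, zero_smul]
  have h2 : (ρ f 1 U a - lam f 1 U a) * (ρ f 1 U b - lam f 1 U b) =
      ρ f 1 U (a * b) - lam f 1 U a * ρ f 1 U b - lam f 1 U b * ρ f 1 U a + lam f 1 U (a * b) := by
    rw [map_mul, map_mul]; ring
  rw [h2, add_smul, sub_smul, sub_smul, mul_smul, mul_smul, ← dN_smul, ← dN_smul, ← dN_smul] at h1
  rw [← sub_eq_zero, ← h1]
  abel

theorem ρ_base (U : X.Opens) (V : S.Opens) (hUV : U ≤ f ⁻¹ᵁ V) (s : Γ(S, V)) :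
    ρ f n U ((f.appLE V U hUV).hom s) = lam f n U ((f.appLE V U hUV).hom s) := by
  have h1 : f.appLE V U hUV ≫ (pr2 f n).appLE U (pr1 f n ⁻¹ᵁ U) (preimage_pr1 f n U).le =
      (pr2 f n ≫ f).appLE V (pr1 f n ⁻¹ᵁ U)
        ((preimage_pr1 f n U).le.trans ((pr2 f n).preimage_mono hUV)) :=
    Scheme.Hom.appLE_comp_appLE _ _ _ _ _ _ _
  have h2 : f.appLE V U hUV ≫ (pr1 f n).appLE U (pr1 f n ⁻¹ᵁ U) le_rfl =
      (pr1 f n ≫ f).appLE V (pr1 f n ⁻¹ᵁ U) ((pr1 f n).preimage_mono hUV) :=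
    Scheme.Hom.appLE_comp_appLE _ _ _ _ _ _ _
  have h3 : (pr2 f n ≫ f).appLE V (pr1 f n ⁻¹ᵁ U)
        ((preimage_pr1 f n U).le.trans ((pr2 f n).preimage_mono hUV)) =
      (pr1 f n ≫ f).appLE V (pr1 f n ⁻¹ᵁ U) ((pr1 f n).preimage_mono hUV) :=
    Groth.Agent.Lib.Helper18.LimSystem.appLE_of_eq (pr1_comp f n).symm _ _ _
  have h4 := congrArg (fun k => k.hom s) (h1.trans (h3.trans h2.symm))
  rw [Scheme.Hom.appLE_eq_app] at h4
  exact h4

variable {F} {G : X.Modules}

/-- Leibniz identity for operators of order `≤ 1` -/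
theorem app_dP_mul (u : PMod f 1 F ⟶ G) (U : X.Opens) (a b : Γ(X, U)) (t : Γ(F, U)) :
    u.app U (dP f 1 F U ((a * b) • t)) = a • u.app U (dP f 1 F U (b • t)) +
      b • u.app U (dP f 1 F U (a • t)) - (a * b) • u.app U (dP f 1 F U t) := by
  have h1 : dP f 1 F U ((a * b) • t) = a • dP f 1 F U (b • t) + b • dP f 1 F U (a • t) -
      (a * b) • dP f 1 F U t := dN_one_mul f F U a b t
  rw [h1, map_sub, map_add, Scheme.Modules.Hom.app_smul, Scheme.Modules.Hom.app_smul,
    Scheme.Modules.Hom.app_smul]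

/-- operators of any order are linear over the base -/
theorem app_dP_base (u : PMod f n F ⟶ G) (U : X.Opens) (V : S.Opens) (hUV : U ≤ f ⁻¹ᵁ V)
    (s : Γ(S, V)) (t : Γ(F, U)) :
    u.app U (dP f n F U ((f.appLE V U hUV).hom s • t)) =
      (f.appLE V U hUV).hom s • u.app U (dP f n F U t) := by
  have h1 : dP f n F U ((f.appLE V U hUV).hom s • t) =
      (f.appLE V U hUV).hom s • dP f n F U t := by
    have h2 := dN_smul f n F U ((f.appLE V U hUV).hom s) t
    rw [ρ_base] at h2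
    exact h2
  rw [h1, Scheme.Modules.Hom.app_smul]

end Groth.Agent.Lib.Helper18.PPOrderOne
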