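import Mathlib
import Groth.Agent.Lib.Helper18.LSub
import Groth.Agent.Lib.Helper18.ModHomMk
import Groth.Agent.Lib.Helper49.UnitChart

/-!
# The pullback of a module is generated by the pulled back sections

For `h : Y ⟶ X` and an arbitrary `O_X`-module `F`, every section of `h^* F` is locally a finite
`O_Y`-linear combination of sections `h^* t` (`t` a local section of `F`).  Also the local closure
`LSub.locOf` of a restriction-stable family of submodules.
-/

set_option autoImplicit false
universe u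
open AlgebraicGeometry CategoryTheory Limits TopologicalSpace Opposite

namespace Groth.Agent.Lib.Helper18.PullGen

open Groth.Agent.Lib.Helper49 Groth.Agent.Lib.Helper49.UnitChart
  Groth.Agent.Lib.Helper11.PullbackBasis Groth.Agent.Lib.Helper18.LSubM

section Loc

variable {X : Scheme.{u}} {F : X.Modules} (P : ∀ U : X.Opens, Submodule Γ(X, U) Γ(F, U))
  (hP : ∀ {U V : X.Opens} (h : V ≤ U) {t : Γ(F, U)}, t ∈ P U → mres F h t ∈ P V)

/-- the local closure of a restriction-stable family of submodules -/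
noncomputable def locOf : LSub F where
  obj T :=
    { carrier := {t | ∀ x ∈ T, ∃ (D : X.Opens) (hD : D ≤ T), x ∈ D ∧ mres F hD t ∈ P D}
      zero_mem' := fun x hx => ⟨T, le_rfl, hx, by rw [map_zero]; exact (P T).zero_mem⟩
      add_mem' := by
        intro s t hs ht x hx
        obtain ⟨D₁, h₁, hx₁, e₁⟩ := hs x hx
        obtain ⟨D₂, h₂, hx₂, e₂⟩ := ht x hx
        refine ⟨D₁ ⊓ D₂, inf_le_left.trans h₁, ⟨hx₁, hx₂⟩, ?_⟩
        have e₁' := hP (inf_le_left : D₁ ⊓ D₂ ≤ D₁) e₁
        have e₂' := hP (inf_le_right : D₁ ⊓ D₂ ≤ D₂) e₂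
        rw [mres_mres] at e₁' e₂'
        rw [map_add]
        exact (P _).add_mem e₁' e₂'
      smul_mem' := by
        intro c t ht x hx
        obtain ⟨D, h, hxD, e⟩ := ht x hx
        refine ⟨D, h, hxD, ?_⟩
        rw [mres_smul]
        exact (P D).smul_mem _ e }
  res_mem := by
    intro U T h t ht x hx
    obtain ⟨D, hD, hxD, e⟩ := ht x (h hx)
    refine ⟨D ⊓ T, inf_le_right, ⟨hxD, hx⟩, ?_⟩
    have e' := hP (inf_le_left : D ⊓ T ≤ D) e
    rw [mres_mres] at e'
    rw [mres_mres]
    exact e'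
  isLocal := by
    intro U t H x hx
    obtain ⟨T, hTU, hxT, hm⟩ := H x hx
    obtain ⟨D, hD, hxD, e⟩ := hm x hxT
    refine ⟨D, hD.trans hTU, hxD, ?_⟩
    rw [mres_mres] at e
    exact e

theorem le_locOf (U : X.Opens) : P U ≤ (locOf P hP).obj U :=
  fun t ht x hx => ⟨U, le_rfl, hx, by rw [mres_self]; exact ht⟩

theorem mem_locOf_iff (U : X.Opens) (t : Γ(F, U)) :
    t ∈ (locOf P hP).obj U ↔
      ∀ x ∈ U, ∃ (D : X.Opens) (hD : D ≤ U), x ∈ D ∧ mres F hD t ∈ P D := Iff.rfl

end Loc

variable {X Y : Scheme.{u}} (h : Y ⟶ X) (F : X.Modules)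

/-- the submodule of `Γ(h^* F, W)` spanned by the pulled back sections -/
noncomputable def spanPull (W : Y.Opens) :
    Submodule Γ(Y, W) Γ((Scheme.Modules.pullback h).obj F, W) :=
  Submodule.span Γ(Y, W) {σ | ∃ (V : X.Opens) (hV : W ≤ h ⁻¹ᵁ V) (t : Γ(F, V)),
    σ = pullSLE h F V W hV t}

theorem pullSLE_mem_spanPull (V : X.Opens) (W : Y.Opens) (hV : W ≤ h ⁻¹ᵁ V) (t : Γ(F, V)) :
    pullSLE h F V W hV t ∈ spanPull h F W :=
  Submodule.subset_span ⟨V, hV, t, rfl⟩

theorem mres_mem_spanPull {W W' : Y.Opens} (hW : W' ≤ W)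
    {σ : Γ((Scheme.Modules.pullback h).obj F, W)} (hσ : σ ∈ spanPull h F W) :
    mres ((Scheme.Modules.pullback h).obj F) hW σ ∈ spanPull h F W' := by
  unfold spanPull at hσ
  induction hσ using Submodule.span_induction with
  | mem σ hσ =>
    obtain ⟨V, hV, t, rfl⟩ := hσ
    rw [mres_pullSLE]
    exact pullSLE_mem_spanPull h F V W' _ t
  | zero => rw [map_zero]; exact Submodule.zero_mem _
  | add σ τ _ _ hσ hτ => rw [map_add]; exact Submodule.add_mem _ hσ hτ
  | smul c σ _ hσ => rw [mres_smul]; exact Submodule.smul_mem _ _ hσ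

/-- the subsheaf of `h^* F` of sections locally generated by pulled back sections -/
noncomputable def genSub : LSub ((Scheme.Modules.pullback h).obj F) :=
  locOf (spanPull h F) (fun hW _ hσ => mres_mem_spanPull h F hW hσ)

theorem pullSLE_mem_genSub (V : X.Opens) (W : Y.Opens) (hV : W ≤ h ⁻¹ᵁ V) (t : Γ(F, V)) :
    pullSLE h F V W hV t ∈ (genSub h F).obj W :=
  le_locOf _ _ W (pullSLE_mem_spanPull h F V W hV t)

/-- the unit, corestricted to the subsheaf `genSub` -/
noncomputable def unitGen : F ⟶ (Scheme.Modules.pushforward h).obj (genSub h F).toModules :=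
  Groth.Agent.Lib.Helper18.ModHomMk.mkHom F
    ((Scheme.Modules.pushforward h).obj (genSub h F).toModules)
    (fun V =>
      { toFun := fun t => (genSub h F).sec (h ⁻¹ᵁ V) (pullSLE h F V (h ⁻¹ᵁ V) le_rfl t)
          (pullSLE_mem_genSub h F V _ le_rfl t)
        map_zero' := by
          apply (genSub h F).ι_app_injective
          change pullSLE h F V (h ⁻¹ᵁ V) le_rfl 0 = 0
          have := pullSLE_add h F V (h ⁻¹ᵁ V) le_rfl 0 0
          rw [add_zero] at this
          exact left_eq_add.mp this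
        map_add' := fun s t => by
          apply (genSub h F).ι_app_injective
          change pullSLE h F V (h ⁻¹ᵁ V) le_rfl (s + t) =
            pullSLE h F V (h ⁻¹ᵁ V) le_rfl s + pullSLE h F V (h ⁻¹ᵁ V) le_rfl t
          exact pullSLE_add h F V (h ⁻¹ᵁ V) le_rfl s t })
    (fun {V V'} hV t => by
      apply (genSub h F).ι_app_injective
      change mres ((Scheme.Modules.pullback h).obj F) (h.preimage_mono hV)
        (pullSLE h F V (h ⁻¹ᵁ V) le_rfl t) = pullSLE h F V' (h ⁻¹ᵁ V') le_rfl (mres F hV t)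
      rw [mres_pullSLE, pullSLE_mres])
    (fun V r t => by
      apply (genSub h F).ι_app_injective
      change pullSLE h F V (h ⁻¹ᵁ V) le_rfl (r • t) =
        (h.app V).hom r • pullSLE h F V (h ⁻¹ᵁ V) le_rfl t
      rw [pullSLE_smul, Scheme.Hom.appLE_eq_app])

theorem unitGen_comp :
    unitGen h F ≫ (Scheme.Modules.pushforward h).map (genSub h F).ι =
      (Scheme.Modules.pullbackPushforwardAdjunction h).unit.app F := by
  apply Scheme.Modules.hom_ext
  intro V
  ext t
  change pullSLE h F V (h ⁻¹ᵁ V) le_rfl t = pullS h F V t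
  unfold pullSLE
  rw [mres_self]

/-- every section of `h^* F` lies in `genSub` -/
theorem genSub_eq_top (W : Y.Opens) (σ : Γ((Scheme.Modules.pullback h).obj F, W)) :
    σ ∈ (genSub h F).obj W := by
  let adj := Scheme.Modules.pullbackPushforwardAdjunction h
  let φ : (Scheme.Modules.pullback h).obj F ⟶ (genSub h F).toModules :=
    (adj.homEquiv F (genSub h F).toModules).symm (unitGen h F)
  have h1 : φ ≫ (genSub h F).ι = 𝟙 _ := by
    apply (adj.homEquiv F _).injective
    rw [Adjunction.homEquiv_naturality_right, Equiv.apply_symm_apply, unitGen_comp,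
      Adjunction.homEquiv_unit, CategoryTheory.Functor.map_id]
    exact (Category.comp_id _).symm
  have h2 : (genSub h F).ι.app W (φ.app W σ) = σ :=
    congrArg (fun k : (Scheme.Modules.pullback h).obj F ⟶ (Scheme.Modules.pullback h).obj F =>
      (k.app W) σ) h1
  rw [← h2]
  exact (genSub h F).ι_app_mem W _

/-- every section of `h^* F` is locally a combination of pulled back sections -/
theorem exists_mem_spanPull (W : Y.Opens) (σ : Γ((Scheme.Modules.pullback h).obj F, W))
    (y : Y) (hy : y ∈ W) :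
    ∃ (W' : Y.Opens) (hW' : W' ≤ W), y ∈ W' ∧
      mres ((Scheme.Modules.pullback h).obj F) hW' σ ∈ spanPull h F W' :=
  genSub_eq_top h F W σ y hy

end Groth.Agent.Lib.Helper18.PullGen
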