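import Mathlib
import Groth.Prelude.Def_OmegaPn
import Groth.Agent.Lib.Helper18.PPOrderOne
import Groth.Agent.Lib.Helper18.PullGen
import Groth.Agent.Lib.Helper18.LSubFactor

/-!
# `P^n_{X/S}(F)` is generated by the image of `d^n`

Every section of `P^n_{X/S}(F)` is locally an `O_X`-linear combination of sections `d^n t`;
consequently two `O_X`-linear maps out of `P^n_{X/S}(F)` agreeing on the `d^n t` are equal.
-/

set_option autoImplicit false
set_option linter.style.haveILetI false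
universe u
open AlgebraicGeometry CategoryTheory Limits TopologicalSpace Opposite TensorProduct

namespace Groth.Agent.Lib.Helper18.PPGen

open PrinPart Groth.Agent.Lib.Helper18.PPNil Groth.Agent.Lib.Helper18.PPZero
  Groth.Agent.Lib.Helper18.PPOrderOne Groth.Agent.Lib.Helper18.PPLocalB
  Groth.Agent.Lib.Helper18.PPLocalD Groth.Agent.Lib.Helper18.PullGen
  Groth.Agent.Lib.Helper49 Groth.Agent.Lib.Helper49.UnitChart Groth.Agent.Lib.Helper18.PPTrans

variable {X S : Scheme.{u}} (f : X ⟶ S) (n : ℕ) (F : X.Modules)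

theorem pr1_toNbhd_apply (x : X) : pr1 f n (toNbhd f n x) = x := by
  rw [← Scheme.Hom.comp_apply, toNbhd_pr1]
  rfl

theorem toNbhd_pr1_apply (z : nbhd f n) : toNbhd f n (pr1 f n z) = z := by
  obtain ⟨y, rfl⟩ := toInfNbhd_surjective (diagCl f) n z
  change toNbhd f n (pr1 f n (toNbhd f n y)) = _
  rw [pr1_toNbhd_apply]

theorem preimage_pr1_toNbhd (W : (nbhd f n).Opens) : pr1 f n ⁻¹ᵁ (toNbhd f n ⁻¹ᵁ W) = W := by
  ext z
  change toNbhd f n (pr1 f n z) ∈ W ↔ z ∈ W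
  rw [toNbhd_pr1_apply]

theorem le_of_preimage_le {U V : X.Opens} (h : pr1 f n ⁻¹ᵁ U ≤ pr2 f n ⁻¹ᵁ V) : U ≤ V := by
  intro x hx
  have h1 : toNbhd f n x ∈ pr1 f n ⁻¹ᵁ U := by
    change pr1 f n (toNbhd f n x) ∈ U
    rwa [pr1_toNbhd_apply]
  have h2 : pr2 f n (toNbhd f n x) ∈ V := h h1
  rwa [← pr1_apply, pr1_toNbhd_apply] at h2

/-- the `O_X(U)`-span of the image of `d^n` -/
noncomputable def spanD (U : X.Opens) : Submodule Γ(X, U) Γ(PMod f n F, U) :=
  Submodule.span Γ(X, U) (Set.range (dP f n F U))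

variable {U : X.Opens} (hU : IsAffineOpen U) {T : S.Opens} (hT : IsAffineOpen T)
  (hUT : U ≤ f ⁻¹ᵁ T)

theorem ρ_smul_mem (b : Γ(X, U)) (q : Γ(PMod f n F, U)) (hq : q ∈ spanD f n F U) :
    (show Γ(PMod f n F, U) from ρ f n U b • (show Γ(MM f n F, pr1 f n ⁻¹ᵁ U) from q)) ∈
      spanD f n F U := by
  unfold spanD at hq
  induction hq using Submodule.span_induction with
  | mem q hq =>
    obtain ⟨t, rfl⟩ := hq
    have h1 := dN_smul f n F U b t
    change (show Γ(PMod f n F, U) from ρ f n U b • dN f n F U t) ∈ spanD f n F U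
    rw [← h1]
    exact Submodule.subset_span ⟨b • t, rfl⟩
  | zero =>
    change (show Γ(PMod f n F, U) from ρ f n U b • (0 : Γ(MM f n F, pr1 f n ⁻¹ᵁ U))) ∈ _
    rw [smul_zero]
    exact Submodule.zero_mem _
  | add q₁ q₂ _ _ h₁ h₂ =>
    change (show Γ(PMod f n F, U) from ρ f n U b •
      ((show Γ(MM f n F, pr1 f n ⁻¹ᵁ U) from q₁) + (show Γ(MM f n F, pr1 f n ⁻¹ᵁ U) from q₂))) ∈ _
    rw [smul_add]
    exact Submodule.add_mem _ h₁ h₂
  | smul a q _ h₁ =>
    change (show Γ(PMod f n F, U) from ρ f n U b •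
      (lam f n U a • (show Γ(MM f n F, pr1 f n ⁻¹ᵁ U) from q))) ∈ _
    rw [smul_smul, mul_comm, ← smul_smul]
    exact Submodule.smul_mem _ a h₁

include hU hT hUT in
theorem smul_mem (c : Γ(nbhd f n, pr1 f n ⁻¹ᵁ U)) (q : Γ(MM f n F, pr1 f n ⁻¹ᵁ U))
    (hq : (show Γ(PMod f n F, U) from q) ∈ spanD f n F U) :
    (show Γ(PMod f n F, U) from c • q) ∈ spanD f n F U := by
  letI := algAB f hUT
  obtain ⟨x, rfl⟩ := Ψ_surjective f n hU hT hUT c
  induction x using TensorProduct.induction_on with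
  | zero =>
    rw [map_zero, zero_smul]
    exact Submodule.zero_mem _
  | add x y hx hy =>
    rw [map_add, add_smul]
    exact Submodule.add_mem _ hx hy
  | tmul a b =>
    rw [Ψ_tmul, ← smul_smul]
    exact Submodule.smul_mem _ a (ρ_smul_mem f n F b q hq)

include hU hT hUT in
theorem spanPull_le (σ : Γ(MM f n F, pr1 f n ⁻¹ᵁ U))
    (hσ : σ ∈ spanPull (pr2 f n) F (pr1 f n ⁻¹ᵁ U)) :
    (show Γ(PMod f n F, U) from σ) ∈ spanD f n F U := by
  unfold spanPull at hσ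
  induction hσ using Submodule.span_induction with
  | mem σ hσ =>
    obtain ⟨V, hV, t, rfl⟩ := hσ
    have hUV : U ≤ V := le_of_preimage_le f n hV
    have h1 := pullSLE_mres (pr2 f n) F hUV (pr1 f n ⁻¹ᵁ U) (preimage_pr1 f n U).le t
    have h2 : (show Γ(PMod f n F, U) from pullSLE (pr2 f n) F V (pr1 f n ⁻¹ᵁ U) hV t) =
        dP f n F U (mres F hUV t) := h1.symm
    rw [h2]
    exact Submodule.subset_span ⟨_, rfl⟩
  | zero => exact Submodule.zero_mem _
  | add σ τ _ _ hσ hτ => exact Submodule.add_mem _ hσ hτ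
  | smul c σ _ hσ => exact smul_mem f n F hU hT hUT c σ hσ

/-- sections of `P^n(F)` are locally combinations of the `d^n t` -/
theorem exists_mem_spanD (U : X.Opens) (σ : Γ(PMod f n F, U)) (x : X) (hx : x ∈ U) :
    ∃ (U' : X.Opens) (hU' : U' ≤ U), x ∈ U' ∧ mres (PMod f n F) hU' σ ∈ spanD f n F U' := by
  have hz : toNbhd f n x ∈ pr1 f n ⁻¹ᵁ U := by
    change pr1 f n (toNbhd f n x) ∈ U
    rwa [pr1_toNbhd_apply]
  obtain ⟨W', hW', hzW', hmem⟩ := exists_mem_spanPull (pr2 f n) F (pr1 f n ⁻¹ᵁ U)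
    (show Γ(MM f n F, pr1 f n ⁻¹ᵁ U) from σ) (toNbhd f n x) hz
  have hxU₁ : x ∈ U ⊓ toNbhd f n ⁻¹ᵁ W' := ⟨hx, hzW'⟩
  obtain ⟨U', T, hU'a, hTa, hU'T, hU'le, hxU'⟩ := exists_affine_chart f _ x hxU₁
  have hle : pr1 f n ⁻¹ᵁ U' ≤ W' := by
    intro z hz'
    have : pr1 f n z ∈ toNbhd f n ⁻¹ᵁ W' := (hU'le hz').2
    change toNbhd f n (pr1 f n z) ∈ W' at this
    rwa [toNbhd_pr1_apply] at this
  refine ⟨U', fun y hy => (hU'le hy).1, hxU', ?_⟩
  have h1 := mres_mem_spanPull (pr2 f n) F hle hmem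
  rw [mres_mres] at h1
  exact spanPull_le f n F hU'a hTa hU'T _ h1

variable {F} {G : X.Modules}

/-- two `O_X`-linear maps out of `P^n(F)` agreeing on the `d^n t` are equal -/
theorem hom_ext_of_dP (a b : PMod f n F ⟶ G)
    (h : ∀ (U : X.Opens) (t : Γ(F, U)), a.app U (dP f n F U t) = b.app U (dP f n F U t)) :
    a = b := by
  apply Scheme.Modules.hom_ext
  intro U
  ext σ
  apply Groth.Agent.Lib.Helper18.LSubM.eq_of_locally_eq
  intro x hx
  obtain ⟨U', hU', hxU', hmem⟩ := exists_mem_spanD f n F U σ x hx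
  refine ⟨U', hU', hxU', ?_⟩
  rw [← Groth.Agent.Lib.Helper18.LSubM.app_mres, ← Groth.Agent.Lib.Helper18.LSubM.app_mres]
  unfold spanD at hmem
  generalize mres (PMod f n F) hU' σ = q at hmem ⊢
  induction hmem using Submodule.span_induction with
  | mem q hq =>
    obtain ⟨t, rfl⟩ := hq
    exact h U' t
  | zero => rw [map_zero, map_zero]
  | add q₁ q₂ _ _ h₁ h₂ => rw [map_add, map_add, h₁, h₂]
  | smul c q _ h₁ =>
    rw [Scheme.Modules.Hom.app_smul, Scheme.Modules.Hom.app_smul, h₁]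

end Groth.Agent.Lib.Helper18.PPGen
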