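import Mathlib

/-!
# `B ⊗[A] B ≃ B' ⊗[A'] B'` for compatible ring isomorphisms `A ≃ A'`, `B ≃ B'`

and the compatibility with the kernels of the multiplication maps.
-/

set_option autoImplicit false
set_option linter.style.haveILetI false
universe u
open TensorProduct

namespace Groth.Agent.Lib.Helper18.TensorIsoBase

variable {A B A' B' : Type u} [CommRing A] [CommRing B] [Algebra A B] [CommRing A'] [CommRing B']
  [Algebra A' B']

section Hom

variable (eA : A →+* A') (eB : B →+* B')
  (hc : ∀ a, eB (algebraMap A B a) = algebraMap A' B' (eA a))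

include hc in
theorem includeRight_comm (a : A) :
    (1 : B') ⊗ₜ[A'] eB (algebraMap A B a) = eB (algebraMap A B a) ⊗ₜ[A'] (1 : B') := by
  rw [hc, Algebra.algebraMap_eq_smul_one, TensorProduct.tmul_smul, TensorProduct.smul_tmul']

/-- the ring map `B ⊗[A] B ⟶ B' ⊗[A'] B'`, `b ⊗ b' ↦ eB b ⊗ eB b'` -/
noncomputable def τ : B ⊗[A] B →+* B' ⊗[A'] B' :=
  letI : Algebra A (B' ⊗[A'] B') :=
    ((Algebra.TensorProduct.includeLeftRingHom (R := A') (A := B') (B := B')).comp
      (eB.comp (algebraMap A B))).toAlgebra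
  (Algebra.TensorProduct.productMap
    (⟨(Algebra.TensorProduct.includeLeftRingHom (R := A') (A := B') (B := B')).comp eB,
      fun _ => rfl⟩ : B →ₐ[A] B' ⊗[A'] B')
    (⟨(RingHomClass.toRingHom (Algebra.TensorProduct.includeRight
      (R := A') (A := B') (B := B'))).comp eB,
      fun a => includeRight_comm eA eB hc a⟩ : B →ₐ[A] B' ⊗[A'] B')).toRingHom

theorem τ_tmul (b b' : B) : τ eA eB hc (b ⊗ₜ[A] b') = eB b ⊗ₜ[A'] eB b' := by
  change (eB b ⊗ₜ[A'] (1 : B')) * ((1 : B') ⊗ₜ[A'] eB b') = _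
  rw [Algebra.TensorProduct.tmul_mul_tmul, mul_one, one_mul]

theorem lmul_τ (x : B ⊗[A] B) :
    Algebra.TensorProduct.lmul' A' (τ eA eB hc x) = eB (Algebra.TensorProduct.lmul' A x) := by
  induction x using TensorProduct.induction_on with
  | zero => simp
  | add x y hx hy => rw [map_add, map_add, map_add, map_add, hx, hy]
  | tmul b b' =>
    rw [τ_tmul, Algebra.TensorProduct.lmul'_apply_tmul, Algebra.TensorProduct.lmul'_apply_tmul,
      map_mul]

end Hom

section Equiv

variable (eA : A ≃+* A') (eB : B ≃+* B')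
  (hc : ∀ a, eB (algebraMap A B a) = algebraMap A' B' (eA a))

include hc in
theorem hc_symm (a' : A') : eB.symm (algebraMap A' B' a') = algebraMap A B (eA.symm a') := by
  rw [RingEquiv.symm_apply_eq, hc, RingEquiv.apply_symm_apply]

/-- the ring isomorphism `B ⊗[A] B ≃ B' ⊗[A'] B'` -/
noncomputable def τE : B ⊗[A] B ≃+* B' ⊗[A'] B' :=
  RingEquiv.ofRingHom (τ (eA : A →+* A') (eB : B →+* B') hc)
    (τ (eA.symm : A' →+* A) (eB.symm : B' →+* B) (hc_symm eA eB hc))
    (by
      refine RingHom.ext fun x => ?_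
      induction x using TensorProduct.induction_on with
      | zero => simp
      | add x y hx hy =>
        rw [map_add, hx, hy, map_add]
      | tmul b b' =>
        rw [RingHom.comp_apply, τ_tmul, τ_tmul]
        simp)
    (by
      refine RingHom.ext fun x => ?_
      induction x using TensorProduct.induction_on with
      | zero => simp
      | add x y hx hy =>
        rw [map_add, hx, hy, map_add]
      | tmul b b' =>
        rw [RingHom.comp_apply, τ_tmul, τ_tmul]
        simp)

theorem τE_tmul (b b' : B) : τE eA eB hc (b ⊗ₜ[A] b') = eB b ⊗ₜ[A'] eB b' :=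
  τ_tmul (eA : A →+* A') (eB : B →+* B') hc b b'

theorem lmul_τE (x : B ⊗[A] B) :
    Algebra.TensorProduct.lmul' A' (τE eA eB hc x) = eB (Algebra.TensorProduct.lmul' A x) :=
  lmul_τ (eA : A →+* A') (eB : B →+* B') hc x

theorem mem_ideal_iff (x : B ⊗[A] B) :
    x ∈ KaehlerDifferential.ideal A B ↔ τE eA eB hc x ∈ KaehlerDifferential.ideal A' B' := by
  change x ∈ RingHom.ker _ ↔ _ ∈ RingHom.ker _
  rw [RingHom.mem_ker, RingHom.mem_ker]
  rw [lmul_τE, map_eq_zero_iff _ eB.injective]

theorem map_ideal :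
    Ideal.map (τE eA eB hc) (KaehlerDifferential.ideal A B) = KaehlerDifferential.ideal A' B' := by
  ext y
  rw [Ideal.mem_map_of_equiv]
  constructor
  · rintro ⟨x, hx, rfl⟩
    exact (mem_ideal_iff eA eB hc x).mp hx
  · intro hy
    refine ⟨(τE eA eB hc).symm y, ?_, RingEquiv.apply_symm_apply _ _⟩
    rw [mem_ideal_iff eA eB hc, RingEquiv.apply_symm_apply]
    exact hy

theorem mem_ideal_pow_iff (k : ℕ) (x : B ⊗[A] B) :
    x ∈ KaehlerDifferential.ideal A B ^ k ↔
      τE eA eB hc x ∈ KaehlerDifferential.ideal A' B' ^ k := by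
  rw [← map_ideal eA eB hc, ← Ideal.map_pow, Ideal.mem_map_of_equiv]
  constructor
  · intro hx
    exact ⟨x, hx, rfl⟩
  · rintro ⟨x', hx', h⟩
    rwa [← (τE eA eB hc).injective h]

end Equiv

end Groth.Agent.Lib.Helper18.TensorIsoBase
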