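import Mathlib
import Groth.Prelude.Def_OmegaPn
import Groth.Agent.Lib.Helper18.PPGen
import Groth.Agent.Lib.Helper18.TensorIsoBase

/-!
# Sections of `P^n_{X/S}` over an affine chart

For affine opens `U ⊆ X`, `T ⊆ S` with `f(U) ⊆ T`, the additive map
`Γ(X, U) ⊗[Γ(S, T)] Γ(X, U) ⟶ Γ(P^n_{X/S}, U)`, `a ⊗ b ↦ a • d^n b` is surjective with kernel the
`(n+1)`-st power of the kernel of the multiplication.
-/

set_option autoImplicit false
set_option linter.style.haveILetI false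
universe u
open AlgebraicGeometry CategoryTheory Limits TopologicalSpace Opposite TensorProduct

namespace Groth.Agent.Lib.Helper18.PPAffine

open PrinPart Groth.Agent.Lib.Helper18.PPNil Groth.Agent.Lib.Helper18.PPZero
  Groth.Agent.Lib.Helper18.PPOrderOne Groth.Agent.Lib.Helper18.PPLocalB
  Groth.Agent.Lib.Helper18.PPLocalD
  Groth.Agent.Lib.Helper49 Groth.Agent.Lib.Helper49.UnitChart Groth.Agent.Lib.Helper18.PPTrans
  Groth.Agent.Lib.Helper11.PullbackBasis Groth.Agent.Lib.Helper11.GenLocus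
  Groth.Agent.Lib.Helper11 Groth.Agent.Lib.Helper11.CounitEpi

variable {X S : Scheme.{u}} (f : X ⟶ S) (n : ℕ)

/-- sections of `P^n_{X/S}` over `U` as functions on `pr₁⁻¹ U` -/
noncomputable def υ (U : X.Opens) : Γ(P f n, U) →+ Γ(nbhd f n, pr1 f n ⁻¹ᵁ U) :=
  (((pullbackUnitIso (pr2 f n)).hom.app (pr1 f n ⁻¹ᵁ U)).hom : Γ(MM f n (Coh.structureModule X),
    pr1 f n ⁻¹ᵁ U) →+ Γ(Coh.structureModule (nbhd f n), pr1 f n ⁻¹ᵁ U))

theorem υ_bijective (U : X.Opens) : Function.Bijective (υ f n U) := by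
  have h1 : IsIso ((pullbackUnitIso (pr2 f n)).hom.app (pr1 f n ⁻¹ᵁ U)) :=
    Scheme.Modules.Hom.isIso_iff_isIso_app.mp inferInstance _
  exact (ConcreteCategory.isIso_iff_bijective _).mp h1

theorem υ_dn (U : X.Opens) (t : Γ(X, U)) : υ f n U (dn f n U t) = ρ f n U t := by
  have h1 : dn f n U t = mres (MM f n (Coh.structureModule X)) (preimage_pr1 f n U).le
      (pullS (pr2 f n) (Coh.structureModule X) U (toO U t)) := rfl
  rw [h1]
  change ((pullbackUnitIso (pr2 f n)).hom.app (pr1 f n ⁻¹ᵁ U)).hom _ = _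
  rw [UnitChart.app_mres, pullbackUnitIso_hom_pullS]
  rfl

theorem υ_smul (U : X.Opens) (a : Γ(X, U)) (z : Γ(P f n, U)) :
    υ f n U (a • z) = lam f n U a * υ f n U z := by
  change ((pullbackUnitIso (pr2 f n)).hom.app (pr1 f n ⁻¹ᵁ U)).hom
    (lam f n U a • (show Γ(MM f n (Coh.structureModule X), pr1 f n ⁻¹ᵁ U) from z)) = _
  rw [Scheme.Modules.Hom.app_smul]
  rfl

variable {U : X.Opens} (hU : IsAffineOpen U) {T : S.Opens} (hT : IsAffineOpen T)
  (hUT : U ≤ f ⁻¹ᵁ T)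

include hU hT in
theorem chart (ψ : letI := algAB f hUT; (Γ(X, U) ⊗[Γ(S, T)] Γ(X, U)) →+ Γ(P f n, U))
    (hψ : letI := algAB f hUT; ∀ a b : Γ(X, U), ψ (a ⊗ₜ[Γ(S, T)] b) = a • dn f n U b) :
    letI := algAB f hUT
    Function.Surjective ψ ∧
      ∀ x, ψ x = 0 ↔ x ∈ KaehlerDifferential.ideal Γ(S, T) Γ(X, U) ^ (n + 1) := by
  letI := algAB f hUT
  have h1 : ∀ x, υ f n U (ψ x) = Ψ f n hU hT hUT x := by
    intro x
    induction x using TensorProduct.induction_on with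
    | zero => rw [map_zero, map_zero, map_zero]
    | add x y hx hy => rw [map_add, map_add, map_add, hx, hy]
    | tmul a b => rw [hψ, υ_smul, υ_dn, Ψ_tmul]
  constructor
  · intro σ
    obtain ⟨x, hx⟩ := Ψ_surjective f n hU hT hUT (υ f n U σ)
    refine ⟨x, (υ_bijective f n U).1 ?_⟩
    rw [h1, hx]
  · intro x
    rw [← ker_Ψ f n hU hT hUT, RingHom.mem_ker, ← h1]
    constructor
    · intro hx
      rw [hx, map_zero]
    · intro hx
      exact (υ_bijective f n U).1 (hx.trans (map_zero _).symm)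

end Groth.Agent.Lib.Helper18.PPAffine
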