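import Mathlib
import Groth.Prelude.Def_OmegaPn
import Groth.Agent.Lib.Helper18.PPAffine

/-!
# The presentation `B ⊗[A] B ⟶ Γ(P^n_{X/S}, U)` on an affine chart
-/

set_option autoImplicit false
set_option linter.style.haveILetI false
universe u
open AlgebraicGeometry CategoryTheory Limits TopologicalSpace Opposite TensorProduct

namespace Groth.Agent.Lib.Helper18.PPAffine

open PrinPart Groth.Agent.Lib.Helper18.PPNil Groth.Agent.Lib.Helper18.PPLocalB
  Groth.Agent.Lib.Helper18.PPLocalD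

variable {X S : Scheme.{u}} (f : X ⟶ S) (n : ℕ) {U : X.Opens} (hU : IsAffineOpen U) {T : S.Opens}
  (hT : IsAffineOpen T) (hUT : U ≤ f ⁻¹ᵁ T)

/-- the additive map `a ⊗ b ↦ a • d^n b` -/
noncomputable def psi :
    letI := algAB f hUT
    (Γ(X, U) ⊗[Γ(S, T)] Γ(X, U)) →+ Γ(P f n, U) :=
  letI := algAB f hUT
  (AddEquiv.ofBijective (υ f n U) (υ_bijective f n U)).symm.toAddMonoidHom.comp
    (Ψ f n hU hT hUT).toAddMonoidHom

theorem υ_psi (x : letI := algAB f hUT; Γ(X, U) ⊗[Γ(S, T)] Γ(X, U)) :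
    υ f n U (psi f n hU hT hUT x) = Ψ f n hU hT hUT x := by
  letI := algAB f hUT
  exact (AddEquiv.ofBijective (υ f n U) (υ_bijective f n U)).apply_symm_apply _

theorem psi_tmul (a b : Γ(X, U)) :
    letI := algAB f hUT
    psi f n hU hT hUT (a ⊗ₜ[Γ(S, T)] b) = a • dn f n U b := by
  letI := algAB f hUT
  apply (υ_bijective f n U).1
  rw [υ_psi, υ_smul, υ_dn, Ψ_tmul]

theorem psi_smul (b : Γ(X, U)) (x : letI := algAB f hUT; Γ(X, U) ⊗[Γ(S, T)] Γ(X, U)) :
    letI := algAB f hUT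
    psi f n hU hT hUT (b • x) = b • psi f n hU hT hUT x := by
  letI := algAB f hUT
  apply (υ_bijective f n U).1
  rw [υ_psi, υ_smul, υ_psi]
  have h1 : b • x = (b ⊗ₜ[Γ(S, T)] (1 : Γ(X, U))) * x := by
    rw [Algebra.smul_def, Algebra.TensorProduct.algebraMap_apply]
    rfl
  rw [h1, map_mul, Ψ_tmul, map_one, mul_one]

theorem psi_spec :
    letI := algAB f hUT
    Function.Surjective (psi f n hU hT hUT) ∧
      ∀ x, psi f n hU hT hUT x = 0 ↔ x ∈ KaehlerDifferential.ideal Γ(S, T) Γ(X, U) ^ (n + 1) :=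
  chart f n hU hT hUT (psi f n hU hT hUT) (psi_tmul f n hU hT hUT)

end Groth.Agent.Lib.Helper18.PPAffine
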