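import Mathlib
import Groth.Prelude.Def_OmegaPn
import Groth.Prelude.Def_DiffOp
import Groth.Agent.Lib.Helper18.PPAffine2
import Groth.Agent.Lib.Helper18.AffineHomExt
import Groth.Agent.Lib.Helper49.PrinPartBasic
import Groth.Agent.S3815

/-!
# Differential operators on an affine scheme from ring-level differential operators (helper18)
-/

set_option autoImplicit false
set_option linter.style.haveILetI false
universe u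
open AlgebraicGeometry CategoryTheory Limits TopologicalSpace Opposite TensorProduct

namespace Groth.Agent.Lib.Helper18.PPAffineDiff

open PrinPart Groth.Agent.Lib.Helper18.PPAffine Groth.Agent.Lib.Helper18.PPLocalB
  Groth.Agent.Lib.Helper18.PPLocalD Groth.Agent.Lib.Helper18.PPNil
  Groth.Agent.Lib.Helper18.PPOrderOne Groth.Agent.Lib.Helper49.UnitChart
  Groth.Agent.Lib.Helper18.PPTrans

variable {X S : Scheme.{u}} [IsAffine X] [IsAffine S] (f : X ⟶ S) (F : X.Modules)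
  [F.IsQuasicoherent] (k : ℕ)

theorem exists_beta (hUT : (⊤ : X.Opens) ≤ f ⁻¹ᵁ (⊤ : S.Opens)) :
    letI := algAB f hUT
    ∃ β : Γ(PMod f k F, ⊤) →+ PP16.PM k Γ(S, ⊤) Γ(X, ⊤) Γ(F, ⊤),
      (∀ (a : Γ(X, ⊤)) (q : Γ(PMod f k F, ⊤)),
        β (a • q) = algebraMap Γ(X, ⊤) (PP16.P k Γ(S, ⊤) Γ(X, ⊤)) a • β q) ∧
      ∀ m : Γ(F, ⊤), β (dP f k F ⊤ m) = PP16.dM k Γ(S, ⊤) Γ(X, ⊤) Γ(F, ⊤) m := by
  letI := algAB f hUT
  have hU : IsAffineOpen (⊤ : X.Opens) := isAffineOpen_top X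
  have hT : IsAffineOpen (⊤ : S.Opens) := isAffineOpen_top S
  have hW : IsAffineOpen (pr1 f k ⁻¹ᵁ (⊤ : X.Opens)) := hU.preimage (pr1 f k)
  -- the ring of functions on the neighbourhood is `P^k`
  let Ψb : PP16.P k Γ(S, ⊤) Γ(X, ⊤) →+* Γ(nbhd f k, pr1 f k ⁻¹ᵁ ⊤) :=
    Ideal.Quotient.lift _ (Ψ f k hU hT hUT) (fun x hx => by
      have := ker_Ψ f k hU hT hUT
      rw [← this] at hx
      exact hx)
  have hΨb : Function.Bijective Ψb := by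
    constructor
    · rw [injective_iff_map_eq_zero]
      intro y hy
      obtain ⟨x, rfl⟩ := Ideal.Quotient.mk_surjective y
      rw [Ideal.Quotient.eq_zero_iff_mem, ← ker_Ψ f k hU hT hUT]
      exact hy
    · exact Ideal.Quotient.lift_surjective_of_surjective _ _ (Ψ_surjective f k hU hT hUT)
  let χe : PP16.P k Γ(S, ⊤) Γ(X, ⊤) ≃+* Γ(nbhd f k, pr1 f k ⁻¹ᵁ ⊤) :=
    RingEquiv.ofBijective Ψb hΨb
  have hχ : ∀ x, χe.symm (Ψ f k hU hT hUT x) = Ideal.Quotient.mk _ x := by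
    intro x
    rw [RingEquiv.symm_apply_eq]
    rfl
  have hχρ : ∀ a : Γ(X, ⊤), χe.symm (ρ f k ⊤ a) = PP16.dn k Γ(S, ⊤) Γ(X, ⊤) a := by
    intro a
    have h1 := Ψ_tmul f k hU hT hUT 1 a
    rw [map_one, one_mul] at h1
    have h2 : ρ f k ⊤ a = Ψ f k hU hT hUT ((1 : Γ(X, ⊤)) ⊗ₜ[Γ(S, ⊤)] a) := h1.symm
    rw [h2, hχ]
    rfl
  have hχlam : ∀ a : Γ(X, ⊤), χe.symm (lam f k ⊤ a) =
      algebraMap Γ(X, ⊤) (PP16.P k Γ(S, ⊤) Γ(X, ⊤)) a := by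
    intro a
    have h1 := Ψ_tmul f k hU hT hUT a 1
    rw [map_one, mul_one] at h1
    have h2 : lam f k ⊤ a = Ψ f k hU hT hUT (a ⊗ₜ[Γ(S, ⊤)] (1 : Γ(X, ⊤))) := h1.symm
    rw [h2, hχ]
    rfl
  -- module structures
  letI modN : Module Γ(nbhd f k, pr1 f k ⁻¹ᵁ ⊤) (PP16.PM k Γ(S, ⊤) Γ(X, ⊤) Γ(F, ⊤)) :=
    Module.compHom _ χe.symm.toRingHom
  letI iAR : Algebra Γ(X, ⊤) Γ(nbhd f k, pr1 f k ⁻¹ᵁ ⊤) :=
    ((pr2 f k).appLE ⊤ (pr1 f k ⁻¹ᵁ ⊤) (preimage_pr1 f k ⊤).le).hom.toAlgebra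
  letI : Module Γ(X, ⊤) Γ((Scheme.Modules.pullback (pr2 f k)).obj F, pr1 f k ⁻¹ᵁ ⊤) :=
    Module.compHom _ ((pr2 f k).appLE ⊤ (pr1 f k ⁻¹ᵁ ⊤) (preimage_pr1 f k ⊤).le).hom
  haveI : IsScalarTower Γ(X, ⊤) Γ(nbhd f k, pr1 f k ⁻¹ᵁ ⊤)
      Γ((Scheme.Modules.pullback (pr2 f k)).obj F, pr1 f k ⁻¹ᵁ ⊤) :=
    IsScalarTower.of_compHom _ _ _
  obtain ⟨c, hc, hb⟩ := exists_isBaseChange_pullSLE (pr2 f k) hU hW (preimage_pr1 f k ⊤).le F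
  have hsm : ∀ (a : Γ(X, ⊤)) (z : PP16.PM k Γ(S, ⊤) Γ(X, ⊤) Γ(F, ⊤)),
      (PP16.dn k Γ(S, ⊤) Γ(X, ⊤) a : PP16.P k Γ(S, ⊤) Γ(X, ⊤)) • z = a • z := by
    intro a z
    induction z using TensorProduct.induction_on with
    | zero => rw [smul_zero, smul_zero]
    | tmul p m => rfl
    | add x y hx hy => rw [smul_add, smul_add, hx, hy]
  haveI : IsScalarTower Γ(X, ⊤) Γ(nbhd f k, pr1 f k ⁻¹ᵁ ⊤)
      (PP16.PM k Γ(S, ⊤) Γ(X, ⊤) Γ(F, ⊤)) := ⟨fun a r z => by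
    show χe.symm (a • r) • z = a • (χe.symm r • z)
    have h1 : a • r = ρ f k ⊤ a * r := by
      rw [Algebra.smul_def]; rfl
    rw [h1, map_mul, hχρ, mul_smul, hsm]⟩
  let g : Γ(F, ⊤) →ₗ[Γ(X, ⊤)] PP16.PM k Γ(S, ⊤) Γ(X, ⊤) Γ(F, ⊤) :=
    TensorProduct.mk Γ(X, ⊤) (PP16.Pr k Γ(S, ⊤) Γ(X, ⊤)) Γ(F, ⊤) 1
  let β := hb.lift g
  refine ⟨β.toAddMonoidHom, fun a q => ?_, fun m => ?_⟩
  · show β (lam f k ⊤ a • (show Γ((Scheme.Modules.pullback (pr2 f k)).obj F, pr1 f k ⁻¹ᵁ ⊤)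
      from q)) = _
    rw [map_smul]
    show χe.symm (lam f k ⊤ a) • β q = _
    rw [hχlam]
    rfl
  · show β (dP f k F ⊤ m) = _
    rw [dP_eq_pullSLE, ← hc, hb.lift_eq]
    rfl

theorem appLE_top_top (hUT : (⊤ : X.Opens) ≤ f ⁻¹ᵁ (⊤ : S.Opens)) :
    f.appLE ⊤ ⊤ hUT = f.appTop := by
  rw [Scheme.Hom.appTop, Scheme.Hom.app_eq_appLE]
  rfl

variable (G : X.Modules)

/-- **ring-level differential operators on an affine scheme globalise** -/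
theorem exists_isDiffOpLE [iA : Algebra Γ(S, ⊤) Γ(X, ⊤)]
    (hA : ∀ r, algebraMap Γ(S, ⊤) Γ(X, ⊤) r = f.appTop.hom r)
    [Module Γ(S, ⊤) Γ(F, ⊤)] [IsScalarTower Γ(S, ⊤) Γ(X, ⊤) Γ(F, ⊤)]
    [Module Γ(S, ⊤) Γ(G, ⊤)] [IsScalarTower Γ(S, ⊤) Γ(X, ⊤) Γ(G, ⊤)]
    (D' : Γ(F, ⊤) →ₗ[Γ(S, ⊤)] Γ(G, ⊤))
    (hD' : Diff16.IsDiffOpLE Γ(S, ⊤) Γ(X, ⊤) Γ(F, ⊤) Γ(G, ⊤) k D') :
    ∃ D : F.presheaf ⟶ G.presheaf, PrinPart.IsDiffOpLE f F G k D ∧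
      ∀ m : Γ(F, ⊤), (D.app (op ⊤)).hom m = D' m := by
  have hUT : (⊤ : X.Opens) ≤ f ⁻¹ᵁ (⊤ : S.Opens) := le_of_eq rfl
  obtain rfl : iA = algAB f hUT := Algebra.algebra_ext _ _ (fun r => by
    rw [hA]
    show _ = (f.appLE ⊤ ⊤ hUT).hom r
    rw [appLE_top_top])
  letI := algAB f hUT
  obtain ⟨u, hu, -⟩ := (Groth.Agent.S3815.result k Γ(S, ⊤) Γ(X, ⊤) Γ(F, ⊤) Γ(G, ⊤) D').mp hD'
  obtain ⟨β, hβ1, hβ2⟩ := exists_beta f F k hUT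
  haveI : (PMod f k F).IsQuasicoherent :=
    Groth.Agent.Lib.Helper49.PrinPartBasic.isQuasicoherent_PMod f k F
  let w : Γ(PMod f k F, ⊤) →ₗ[Γ(X, ⊤)] Γ(G, ⊤) :=
    { toFun := fun q => u (β q)
      map_add' := fun x y => by rw [map_add, map_add]
      map_smul' := fun a q => by
        rw [hβ1, hu.1]
        rfl }
  obtain ⟨ū, hū⟩ := Groth.Agent.Lib.Helper18.AffineHomExt.exists_hom_of_top (PMod f k F) G w
  refine ⟨dPHom f k F ≫ ū.mapPresheaf, ⟨ū, fun U t => rfl⟩, fun m => ?_⟩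
  show (ū.app ⊤).hom (dP f k F ⊤ m) = D' m
  rw [hū]
  show u (β (dP f k F ⊤ m)) = D' m
  rw [hβ2, hu.2]

end Groth.Agent.Lib.Helper18.PPAffineDiff
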