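import Groth.Prelude.Def_PP16
import Mathlib.RingTheory.TensorProduct.Quotient
import Mathlib.RingTheory.IsTensorProduct

/-!
# Base change of principal parts (helper18)

* `isPushout_quotient_self`, `isPushout_quotient`: quotients of a pushout square by an ideal and its extension.
* `tensorMapAlgebra`, `isPushout_tensorMap`: `B' ⊗[A'] B' = (B ⊗[A] B) ⊗[B] B'` for a pushout `B' = B ⊗[A] A'`.
* `ideal_map_tensorMap_eq`: the kernel of multiplication of `B'/A'` is the extension of that of `B/A`.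
-/

set_option autoImplicit false
universe u
open scoped TensorProduct
open PP16

namespace Groth.Agent.Lib.Helper18

section quot

variable {S S' : Type*} [CommRing S] [CommRing S'] [Algebra S S']

theorem isPushout_quotient_self (J : Ideal S) (J' : Ideal S')
    (hJ : J.map (algebraMap S S') = J') [Algebra (S ⧸ J) (S' ⧸ J')]
    [IsScalarTower S (S ⧸ J) (S' ⧸ J')] : Algebra.IsPushout S S' (S ⧸ J) (S' ⧸ J') := by
  subst hJ
  rw [Algebra.isPushout_iff]
  refine IsBaseChange.of_equiv
    (Algebra.TensorProduct.quotIdealMapEquivTensorQuot S' J).symm.toLinearEquiv (fun x => ?_)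
  obtain ⟨s, rfl⟩ := Ideal.Quotient.mk_surjective x
  simp only [AlgEquiv.toLinearEquiv_apply, AlgHom.toLinearMap_apply, IsScalarTower.coe_toAlgHom']
  rw [← Ideal.Quotient.algebraMap_eq, ← IsScalarTower.algebraMap_apply,
    IsScalarTower.algebraMap_apply S S' (S' ⧸ Ideal.map (algebraMap S S') J)]
  erw [Algebra.TensorProduct.quotIdealMapEquivTensorQuot_symm_tmul]
  simp [Algebra.smul_def]

variable {R R' : Type*} [CommRing R] [CommRing R'] [Algebra R S] [Algebra R R'] [Algebra R' S']
  [Algebra R S'] [IsScalarTower R R' S'] [IsScalarTower R S S']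

theorem isPushout_quotient [Algebra.IsPushout R S R' S'] (J : Ideal S) (J' : Ideal S')
    (hJ : J.map (algebraMap S S') = J') [Algebra (S ⧸ J) (S' ⧸ J')]
    [IsScalarTower S (S ⧸ J) (S' ⧸ J')] [IsScalarTower R (S ⧸ J) (S' ⧸ J')] :
    Algebra.IsPushout R (S ⧸ J) R' (S' ⧸ J') := by
  have h1 : IsBaseChange S (IsScalarTower.toAlgHom R R' S').toLinearMap :=
    Algebra.IsPushout.out
  have h2 : Algebra.IsPushout S (S ⧸ J) S' (S' ⧸ J') :=
    (isPushout_quotient_self J J' hJ).symm
  rw [Algebra.isPushout_iff] at h2 ⊢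
  have h3 := h1.comp h2
  have e : (IsScalarTower.toAlgHom R R' (S' ⧸ J')).toLinearMap =
      ((IsScalarTower.toAlgHom S S' (S' ⧸ J')).toLinearMap.restrictScalars R).comp
        (IsScalarTower.toAlgHom R R' S').toLinearMap := by
    ext x
    simp
  rw [e]
  exact h3

end quot

end Groth.Agent.Lib.Helper18

namespace Groth.Agent.Lib.Helper18

variable (A B A' B' : Type u) [CommRing A] [CommRing B] [Algebra A B]
    [CommRing A'] [CommRing B'] [Algebra A' B'] [Algebra A A'] [Algebra B B'] [Algebra A B']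
    [IsScalarTower A A' B'] [IsScalarTower A B B']

/-- `B' ⊗[A'] B'` as an algebra over `B ⊗[A] B` via `PP16.tensorMap`. -/
@[instance_reducible]
def tensorMapAlgebra : Algebra (B ⊗[A] B) (B' ⊗[A'] B') := (tensorMap A B A' B').toRingHom.toAlgebra

attribute [local instance] tensorMapAlgebra

theorem algebraMap_tensorMapAlgebra (x : B ⊗[A] B) :
    algebraMap (B ⊗[A] B) (B' ⊗[A'] B') x = tensorMap A B A' B' x := rfl

instance isScalarTower_tensorMapAlgebra : IsScalarTower B (B ⊗[A] B) (B' ⊗[A'] B') :=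
  IsScalarTower.of_algebraMap_eq (fun b => by
    rw [algebraMap_tensorMapAlgebra, Algebra.TensorProduct.algebraMap_apply,
      Algebra.TensorProduct.algebraMap_apply, tensorMap_tmul, map_one]
    rfl)

end Groth.Agent.Lib.Helper18

namespace Groth.Agent.Lib.Helper18

variable (A B A' B' : Type u) [CommRing A] [CommRing B] [Algebra A B]
    [CommRing A'] [CommRing B'] [Algebra A' B'] [Algebra A A'] [Algebra B B'] [Algebra A B']
    [IsScalarTower A A' B'] [IsScalarTower A B B']

attribute [local instance] tensorMapAlgebra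

open TensorProduct in
theorem isPushout_tensorMap [Algebra.IsPushout A B A' B'] :
    Algebra.IsPushout B (B ⊗[A] B) B' (B' ⊗[A'] B') := by
  have : Algebra.IsPushout A A' B B' := Algebra.IsPushout.symm inferInstance
  refine Algebra.IsPushout.symm ?_
  rw [Algebra.isPushout_iff]
  let e1 : B' ⊗[B] (B ⊗[A] B) ≃ₗ[B'] B' ⊗[A] B := AlgebraTensorModule.cancelBaseChange A B B' B' B
  let e3 : B' ⊗[A'] (A' ⊗[A] B) ≃ₗ[B'] B' ⊗[A] B :=
    AlgebraTensorModule.cancelBaseChange A A' B' B' B
  let e2 : B' ⊗[A'] (A' ⊗[A] B) ≃ₗ[B'] B' ⊗[A'] B' :=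
    AlgebraTensorModule.congr (LinearEquiv.refl B' B')
      (Algebra.IsPushout.equiv A A' B B').toLinearEquiv
  refine IsBaseChange.of_equiv (e1 ≪≫ₗ e3.symm ≪≫ₗ e2) (fun x => ?_)
  induction x with
  | zero => simp
  | add x y hx hy => rw [tmul_add, map_add, map_add, hx, hy]
  | tmul b c =>
    simp only [LinearEquiv.trans_apply, e1, e2, e3, AlgebraTensorModule.cancelBaseChange_tmul,
      AlgebraTensorModule.cancelBaseChange_symm_tmul, AlgebraTensorModule.congr_tmul,
      LinearEquiv.refl_apply, AlgEquiv.toLinearEquiv_apply, Algebra.IsPushout.equiv_tmul,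
      AlgHom.toLinearMap_apply, IsScalarTower.coe_toAlgHom', algebraMap_tensorMapAlgebra,
      tensorMap_tmul, map_one, one_mul, Algebra.smul_def, mul_one]

end Groth.Agent.Lib.Helper18

namespace Groth.Agent.Lib.Helper18

variable (A B A' B' : Type u) [CommRing A] [CommRing B] [Algebra A B]
    [CommRing A'] [CommRing B'] [Algebra A' B'] [Algebra A A'] [Algebra B B'] [Algebra A B']
    [IsScalarTower A A' B'] [IsScalarTower A B B']

open TensorProduct in
theorem ideal_map_tensorMap_eq [h : Algebra.IsPushout A B A' B'] :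
    (KaehlerDifferential.ideal A B).map (tensorMap A B A' B') = KaehlerDifferential.ideal A' B' := by
  refine le_antisymm (ideal_map_tensorMap_le A B A' B') ?_
  rw [← KaehlerDifferential.span_range_eq_ideal A' B', Ideal.span_le]
  rintro _ ⟨b', rfl⟩
  have key : ∀ b : B, (1 : B') ⊗ₜ[A'] algebraMap B B' b - algebraMap B B' b ⊗ₜ[A'] (1 : B') ∈
      (KaehlerDifferential.ideal A B).map (tensorMap A B A' B') := by
    intro b
    have := Ideal.mem_map_of_mem (tensorMap A B A' B')
      (KaehlerDifferential.one_smul_sub_smul_one_mem_ideal A b)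
    rwa [map_sub, tensorMap_tmul, tensorMap_tmul, map_one] at this
  refine h.out.inductionOn b' (fun s => (1 : B') ⊗ₜ[A'] s - s ⊗ₜ[A'] (1 : B') ∈
      (KaehlerDifferential.ideal A B).map (tensorMap A B A' B')) ?_ ?_ ?_ ?_
  · simp
  · intro a'
    have : (1 : B') ⊗ₜ[A'] (algebraMap A' B' a') = (algebraMap A' B' a') ⊗ₜ[A'] (1 : B') := by
      rw [Algebra.algebraMap_eq_smul_one, TensorProduct.tmul_smul, TensorProduct.smul_tmul']
    simp [this]
  · intro b x hx
    have e : (1 : B') ⊗ₜ[A'] (b • x) - (b • x) ⊗ₜ[A'] (1 : B') =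
        ((1 : B') ⊗ₜ[A'] algebraMap B B' b) * ((1 : B') ⊗ₜ[A'] x - x ⊗ₜ[A'] (1 : B')) +
        ((1 : B') ⊗ₜ[A'] algebraMap B B' b - algebraMap B B' b ⊗ₜ[A'] (1 : B')) *
          (x ⊗ₜ[A'] (1 : B')) := by
      simp only [Algebra.smul_def, mul_sub, sub_mul, Algebra.TensorProduct.tmul_mul_tmul, one_mul,
        mul_one]
      ring
    rw [e]
    exact Ideal.add_mem _ (Ideal.mul_mem_left _ _ hx) (Ideal.mul_mem_right _ _ (key b))
  · intro x y hx hy
    have e : (1 : B') ⊗ₜ[A'] (x + y) - (x + y) ⊗ₜ[A'] (1 : B') =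
        ((1 : B') ⊗ₜ[A'] x - x ⊗ₜ[A'] (1 : B')) + ((1 : B') ⊗ₜ[A'] y - y ⊗ₜ[A'] (1 : B')) := by
      rw [TensorProduct.tmul_add, TensorProduct.add_tmul]; ring
    rw [e]
    exact Ideal.add_mem _ hx hy

end Groth.Agent.Lib.Helper18
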