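import Groth.Prelude.Def_PP16
import Groth.Agent.Lib.Helper18.PPBaseChange

/-!
# Base change of principal parts: module version through presentations (helper18)

* `bijective_of_isBaseChange₂`: a semilinear map between two base changes of the same module,
  compatible with the structure maps, is bijective.
* `isBaseChange_of_presentations`: if `N` (resp. `N'`) is presented as `(B ⊗[A] B) / I^(n+1)`
  (resp. `(B' ⊗[A'] B') / I'^(n+1)`) by additive maps `psi`, `psi'` which are linear for the left
  structure, `B' = B ⊗[A] A'`, and `κ : N → N'` is compatible with `PP16.tensorMap`, then `κ` is a base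
  change along `B → B'`.
-/

set_option autoImplicit false
universe u
open scoped TensorProduct
open PP16

namespace Groth.Agent.Lib.Helper18.PPBCAlg

section Bij

variable {R S : Type*} [CommRing R] [CommRing S] [Algebra R S]
  {N M O : Type*} [AddCommGroup N] [Module R N] [AddCommGroup M] [Module R M] [Module S M]
  [IsScalarTower R S M] [AddCommGroup O] [Module R O] [Module S O] [IsScalarTower R S O]

theorem bijective_of_isBaseChange₂ (c : N →ₗ[R] M) (hc : IsBaseChange S c) (κ : N →ₗ[R] O)
    (hκ : IsBaseChange S κ) (e : M →+ O) (hlin : ∀ (s : S) (m : M), e (s • m) = s • e m)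
    (he : ∀ n, e (c n) = κ n) : Function.Bijective e := by
  let Φ : M ≃ₗ[S] O := hc.equiv.symm ≪≫ₗ hκ.equiv
  have hΦ : ∀ p, e p = Φ p := by
    intro p
    refine hc.inductionOn p (fun p => e p = Φ p) ?_ ?_ ?_ ?_
    · simp
    · intro n
      have : Φ (c n) = κ n := by
        simp [Φ, IsBaseChange.equiv_symm_apply, IsBaseChange.equiv_tmul]
      rw [this, he]
    · intro s q hq
      show e (s • q) = Φ (s • q)
      rw [hlin, hq, map_smul]
    · intro x y hx hy
      show e (x + y) = Φ (x + y)
      rw [map_add, map_add, hx, hy]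
  have : (e : M → O) = Φ := funext hΦ
  rw [this]
  exact Φ.bijective

end Bij

section Quot

variable {R : Type*} [CommRing R] {E N Q : Type*} [AddCommGroup E] [Module R E] [AddCommGroup N]
  [Module R N] [AddCommGroup Q] [Module R Q]

/-- two surjective linear maps with the same kernel have isomorphic targets -/
noncomputable def equivOfKerEq (q : E →ₗ[R] Q) (hq : Function.Surjective q) (p : E →ₗ[R] N)
    (hp : Function.Surjective p) (hk : LinearMap.ker q = LinearMap.ker p) : Q ≃ₗ[R] N :=
  (LinearMap.quotKerEquivOfSurjective q hq).symm ≪≫ₗ (Submodule.quotEquivOfEq _ _ hk) ≪≫ₗ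
    LinearMap.quotKerEquivOfSurjective p hp

theorem equivOfKerEq_apply (q : E →ₗ[R] Q) (hq : Function.Surjective q) (p : E →ₗ[R] N)
    (hp : Function.Surjective p) (hk : LinearMap.ker q = LinearMap.ker p) (x : E) :
    equivOfKerEq q hq p hp hk (q x) = p x := by
  unfold equivOfKerEq
  have h1 : (LinearMap.quotKerEquivOfSurjective q hq).symm (q x) =
      Submodule.Quotient.mk x := by
    rw [LinearEquiv.symm_apply_eq]
    rfl
  simp only [LinearEquiv.trans_apply, h1]
  rfl

end Quot

section Main

variable (n : ℕ) (A B A' B' : Type u) [CommRing A] [CommRing B] [Algebra A B]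
    [CommRing A'] [CommRing B'] [Algebra A' B'] [Algebra A A'] [Algebra B B'] [Algebra A B']
    [IsScalarTower A A' B'] [IsScalarTower A B B'] [Algebra.IsPushout A B A' B']

attribute [local instance] PP16.mapAlgebra PP16.isScalarTower_mapAlgebra

/-- the ring-level base change of principal parts, as a base change of modules -/
theorem isBaseChange_map :
    IsBaseChange B' (IsScalarTower.toAlgHom B (PP16.P n A B) (PP16.P n A' B')).toLinearMap := by
  let _ := Groth.Agent.Lib.Helper18.tensorMapAlgebra A B A' B'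
  have := Groth.Agent.Lib.Helper18.isPushout_tensorMap A B A' B'
  have : IsScalarTower (B ⊗[A] B) (PP16.P n A B) (PP16.P n A' B') :=
    IsScalarTower.of_algebraMap_eq (R := B ⊗[A] B) (S := PP16.P n A B) (A := PP16.P n A' B')
      (fun x => rfl)
  have h : Algebra.IsPushout B (PP16.P n A B) B' (PP16.P n A' B') :=
    Groth.Agent.Lib.Helper18.isPushout_quotient (R := B) (S := B ⊗[A] B) (R' := B')
    (S' := B' ⊗[A'] B') ((KaehlerDifferential.ideal A B) ^ (n + 1))
    ((KaehlerDifferential.ideal A' B') ^ (n + 1))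
    (by
      rw [← Groth.Agent.Lib.Helper18.ideal_map_tensorMap_eq A B A' B', Ideal.map_pow]
      rfl)
  exact h.symm.out

variable {n A B A' B'}
variable {N N' : Type u} [AddCommGroup N] [Module B N] [AddCommGroup N'] [Module B' N'] [Module B N']
  [IsScalarTower B B' N']

theorem isBaseChange_of_presentations
    (psi : (B ⊗[A] B) →+ N) (hpsi_smul : ∀ (b : B) x, psi (b • x) = b • psi x)
    (hpsi_surj : Function.Surjective psi)
    (hpsi_ker : ∀ x, psi x = 0 ↔ x ∈ KaehlerDifferential.ideal A B ^ (n + 1))
    (psi' : (B' ⊗[A'] B') →+ N') (hpsi'_smul : ∀ (b : B') x, psi' (b • x) = b • psi' x)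
    (hpsi'_surj : Function.Surjective psi')
    (hpsi'_ker : ∀ x, psi' x = 0 ↔ x ∈ KaehlerDifferential.ideal A' B' ^ (n + 1))
    (κ : N →ₗ[B] N') (hκ : ∀ x, κ (psi x) = psi' (PP16.tensorMap A B A' B' x)) :
    IsBaseChange B' κ := by
  -- linear versions
  let p : (B ⊗[A] B) →ₗ[B] N := { toFun := psi, map_add' := map_add psi, map_smul' := hpsi_smul }
  let p' : (B' ⊗[A'] B') →ₗ[B'] N' :=
    { toFun := psi', map_add' := map_add psi', map_smul' := hpsi'_smul }
  let q : (B ⊗[A] B) →ₗ[B] PP16.P n A B :=
    (Ideal.Quotient.mkₐ B ((KaehlerDifferential.ideal A B) ^ (n + 1))).toLinearMap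
  let q' : (B' ⊗[A'] B') →ₗ[B'] PP16.P n A' B' :=
    (Ideal.Quotient.mkₐ B' ((KaehlerDifferential.ideal A' B') ^ (n + 1))).toLinearMap
  have hq : Function.Surjective q := Ideal.Quotient.mk_surjective
  have hq' : Function.Surjective q' := Ideal.Quotient.mk_surjective
  have hk : LinearMap.ker q = LinearMap.ker p := by
    ext x
    rw [LinearMap.mem_ker, LinearMap.mem_ker]
    show Ideal.Quotient.mk _ x = 0 ↔ psi x = 0
    rw [Ideal.Quotient.eq_zero_iff_mem, hpsi_ker]
  have hk' : LinearMap.ker q' = LinearMap.ker p' := by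
    ext x
    rw [LinearMap.mem_ker, LinearMap.mem_ker]
    show Ideal.Quotient.mk _ x = 0 ↔ psi' x = 0
    rw [Ideal.Quotient.eq_zero_iff_mem, hpsi'_ker]
  let eN := equivOfKerEq q hq p hpsi_surj hk
  let eN' := equivOfKerEq q' hq' p' hpsi'_surj hk'
  refine (IsBaseChange.iff_of_equiv_comm (R := B) (S := B') eN eN' ?_).mp (isBaseChange_map n A B A' B')
  apply LinearMap.ext
  intro y
  obtain ⟨x, rfl⟩ := hq y
  show κ (eN (q x)) = eN' (PP16.map n A B A' B' (Ideal.Quotient.mk _ x))
  rw [equivOfKerEq_apply, PP16.map_mk]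
  exact (hκ x).trans (equivOfKerEq_apply q' hq' p' hpsi'_surj hk' _).symm

end Main

end Groth.Agent.Lib.Helper18.PPBCAlg
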