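import Mathlib
import Groth.Prelude.Def_OmegaPn
import Groth.Agent.Lib.Helper18.PPAffine2
import Groth.Agent.Lib.Helper18.PPBCAlg
import Groth.Agent.Lib.Helper49.UnitChart
import Groth.Agent.Lib.Helper49.PrinPartBasic
import Groth.Agent.Lib.Helper42.QCohAffineSections
import Groth.Agent.Lib.Helper45.RegularSections

/-!
# Base change of sheaves of principal parts (helper18)

`isIso_of_isPMap`: for a cartesian square, the canonical map `u^* P^n_{X/S} ⟶ P^n_{X'/S'}` is an
isomorphism.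
-/

set_option autoImplicit false
set_option linter.style.haveILetI false
universe u
open AlgebraicGeometry CategoryTheory Limits TopologicalSpace Opposite TensorProduct

namespace Groth.Agent.Lib.Helper18.PPBC

open PrinPart Groth.Agent.Lib.Helper18.PPAffine Groth.Agent.Lib.Helper18.PPLocalB
  Groth.Agent.Lib.Helper49 Groth.Agent.Lib.Helper49.UnitChart
  Groth.Agent.Lib.Helper11.PullbackBasis

variable {X S X' S' : Scheme.{u}} (f : X ⟶ S) (f' : X' ⟶ S') (u : X' ⟶ X) (n : ℕ)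

theorem dn_mres {U V : X.Opens} (e : V ≤ U) (b : Γ(X, U)) :
    mres (P f n) e (dn f n U b) = dn f n V ((X.presheaf.map (homOfLE e).op).hom b) :=
  (dP_map f n (Coh.structureModule X) e (OmegaSh.strSect X U b)).symm

variable (φ : (Scheme.Modules.pullback u).obj (P f n) ⟶ P f' n) (hφ : IsPMap f f' u n φ)

include hφ in
theorem phi_pullSLE_smul_dn {U : X.Opens} {V' : X'.Opens} (hle : V' ≤ u ⁻¹ᵁ U) (a b : Γ(X, U)) :
    (φ.app V').hom (pullSLE u (P f n) U V' hle (a • dn f n U b)) =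
      (u.appLE U V' hle).hom a • dn f' n V' ((u.appLE U V' hle).hom b) := by
  rw [pullSLE_smul]
  refine (Scheme.Modules.Hom.app_smul φ _ _).trans ?_
  congr 1
  unfold pullSLE
  rw [app_mres]
  have h1 : (φ.app (u ⁻¹ᵁ U)).hom (pullS u (P f n) U (dn f n U b)) =
      dn f' n (u ⁻¹ᵁ U) ((u.app U).hom b) := hφ U b
  rw [h1, dn_mres]
  rfl

variable {f f' u n φ} {g : S' ⟶ S}

include hφ in
theorem app_bijective (hsq : IsPullback u f' f g) {T : S.Opens} (hT : IsAffineOpen T)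
    {T' : S'.Opens} (hT' : IsAffineOpen T') (hT'T : T' ≤ g ⁻¹ᵁ T) {U : X.Opens}
    (hU : IsAffineOpen U) (hUT : U ≤ f ⁻¹ᵁ T) {V' : X'.Opens}
    (hV'eq : V' = u ⁻¹ᵁ U ⊓ f' ⁻¹ᵁ T') : Function.Bijective (φ.app V').hom := by
  have hV'U : V' ≤ u ⁻¹ᵁ U := hV'eq ▸ inf_le_left
  have hV'T' : V' ≤ f' ⁻¹ᵁ T' := hV'eq ▸ inf_le_right
  have hpo := (isIso_pushoutSection_iff hsq hT'T hUT hV'eq).mp
    (isIso_pushoutSection_of_isAffineOpen hsq hT'T hUT hV'eq hT hT' hU)
  have hV' : IsAffineOpen V' := by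
    have : IsAffine _ := hT
    have : IsAffine _ := hT'
    have : IsAffine _ := hU
    exact .of_isIso (Scheme.Hom.isPullback_resLE hsq hT'T hUT hV'eq).isoPullback.hom
  haveI : (Coh.structureModule X).IsQuasicoherent :=
    Groth.Agent.Lib.Helper45.isQuasicoherent_structureModule X
  haveI : (P f n).IsQuasicoherent :=
    Groth.Agent.Lib.Helper49.PrinPartBasic.isQuasicoherent_PMod f n _
  -- algebra instances
  letI iAB : Algebra Γ(S, T) Γ(X, U) := algAB f hUT
  letI iA'B' : Algebra Γ(S', T') Γ(X', V') := algAB f' hV'T'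
  letI iAA' : Algebra Γ(S, T) Γ(S', T') := (g.appLE T T' hT'T).hom.toAlgebra
  letI iBB' : Algebra Γ(X, U) Γ(X', V') := (u.appLE U V' hV'U).hom.toAlgebra
  letI iAB' : Algebra Γ(S, T) Γ(X', V') :=
    (f.appLE T U hUT ≫ u.appLE U V' hV'U).hom.toAlgebra
  haveI : IsScalarTower Γ(S, T) Γ(X, U) Γ(X', V') :=
    IsScalarTower.of_algebraMap_eq (fun x => rfl)
  haveI : IsScalarTower Γ(S, T) Γ(S', T') Γ(X', V') :=
    IsScalarTower.of_algebraMap_eq (fun x => congrArg (fun k => k.hom x) hpo.w)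
  haveI hpush : Algebra.IsPushout Γ(S, T) Γ(X, U) Γ(S', T') Γ(X', V') :=
    CommRingCat.isPushout_iff_isPushout.mp hpo
  -- modules
  letI : Module Γ(X, U) Γ(P f' n, V') := Module.compHom _ (u.appLE U V' hV'U).hom
  haveI : IsScalarTower Γ(X, U) Γ(X', V') Γ(P f' n, V') := IsScalarTower.of_compHom _ _ _
  letI : Module Γ(X, U) Γ((Scheme.Modules.pullback u).obj (P f n), V') :=
    Module.compHom _ (u.appLE U V' hV'U).hom
  haveI : IsScalarTower Γ(X, U) Γ(X', V') Γ((Scheme.Modules.pullback u).obj (P f n), V') :=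
    IsScalarTower.of_compHom _ _ _
  obtain ⟨c₂, hc₂, hb₂⟩ := exists_isBaseChange_pullSLE u hU hV' hV'U (P f n)
  let κ : Γ(P f n, U) →ₗ[Γ(X, U)] Γ(P f' n, V') :=
    { toFun := fun t => (φ.app V').hom (pullSLE u (P f n) U V' hV'U t)
      map_add' := fun s t => by rw [pullSLE_add, map_add]
      map_smul' := fun r t => by
        rw [pullSLE_smul]
        exact Scheme.Modules.Hom.app_smul φ _ _ }
  have hκ : ∀ x, κ (psi f n hU hT hUT x) =
      psi f' n hV' hT' hV'T' (PP16.tensorMap Γ(S, T) Γ(X, U) Γ(S', T') Γ(X', V') x) := by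
    intro x
    induction x using TensorProduct.induction_on with
    | zero => simp
    | tmul a b =>
      rw [psi_tmul, PP16.tensorMap_tmul, psi_tmul]
      exact phi_pullSLE_smul_dn f f' u n φ hφ hV'U a b
    | add x y hx hy => rw [map_add, map_add, map_add, map_add, hx, hy]
  have hκbc : IsBaseChange Γ(X', V') κ :=
    Groth.Agent.Lib.Helper18.PPBCAlg.isBaseChange_of_presentations (n := n)
      (psi f n hU hT hUT) (psi_smul f n hU hT hUT) (psi_spec f n hU hT hUT).1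
      (psi_spec f n hU hT hUT).2 (psi f' n hV' hT' hV'T') (psi_smul f' n hV' hT' hV'T')
      (psi_spec f' n hV' hT' hV'T').1 (psi_spec f' n hV' hT' hV'T').2 κ hκ
  refine Groth.Agent.Lib.Helper18.PPBCAlg.bijective_of_isBaseChange₂ c₂ hb₂ κ hκbc
    (φ.app V').hom (fun s m => Scheme.Modules.Hom.app_smul φ s m) (fun t => ?_)
  rw [hc₂]
  rfl

include hφ in
/-- **Base change of principal parts.** For a cartesian square the canonical map
`u^* P^n_{X/S} ⟶ P^n_{X'/S'}` is an isomorphism. -/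
theorem isIso_of_isPMap (hsq : IsPullback u f' f g) : IsIso φ := by
  haveI : (Coh.structureModule X).IsQuasicoherent :=
    Groth.Agent.Lib.Helper45.isQuasicoherent_structureModule X
  haveI : (Coh.structureModule X').IsQuasicoherent :=
    Groth.Agent.Lib.Helper45.isQuasicoherent_structureModule X'
  haveI : (P f n).IsQuasicoherent :=
    Groth.Agent.Lib.Helper49.PrinPartBasic.isQuasicoherent_PMod f n _
  haveI : (P f' n).IsQuasicoherent :=
    Groth.Agent.Lib.Helper49.PrinPartBasic.isQuasicoherent_PMod f' n _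
  haveI : ((Scheme.Modules.pullback u).obj (P f n)).IsQuasicoherent :=
    Groth.Agent.Lib.Helper16.FlatPull.isQuasicoherent_pullback u _
  apply Groth.Agent.Lib.Helper42.isIso_of_app_bijective_of_cover
  intro x'
  obtain ⟨_, ⟨T, hT, rfl⟩, hxT, -⟩ :=
    S.isBasis_affineOpens.exists_subset_of_mem_open (Set.mem_univ (f (u x'))) isOpen_univ
  have hgx : g (f' x') ∈ T := by
    have h1 : (f' ≫ g) x' = (u ≫ f) x' := by rw [hsq.w]
    rw [Scheme.Hom.comp_apply, Scheme.Hom.comp_apply] at h1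
    rw [h1]
    exact hxT
  obtain ⟨_, ⟨T', hT', rfl⟩, hxT', hT'le⟩ :=
    S'.isBasis_affineOpens.exists_subset_of_mem_open (show f' x' ∈ g ⁻¹ᵁ T from hgx) (g ⁻¹ᵁ T).2
  obtain ⟨_, ⟨U, hU, rfl⟩, hxU, hUle⟩ :=
    X.isBasis_affineOpens.exists_subset_of_mem_open (show u x' ∈ f ⁻¹ᵁ T from hxT) (f ⁻¹ᵁ T).2
  have hpo := isIso_pushoutSection_of_isAffineOpen hsq (UT := T') (UX := U) hT'le hUle rfl hT hT' hU
  have hV' : IsAffineOpen (u ⁻¹ᵁ U ⊓ f' ⁻¹ᵁ T') := by
    have : IsAffine _ := hT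
    have : IsAffine _ := hT'
    have : IsAffine _ := hU
    exact .of_isIso (Scheme.Hom.isPullback_resLE hsq hT'le hUle rfl).isoPullback.hom
  exact ⟨u ⁻¹ᵁ U ⊓ f' ⁻¹ᵁ T', hV', ⟨hxU, hxT'⟩, app_bijective hφ hsq hT hT' hT'le hU hUle rfl⟩

end Groth.Agent.Lib.Helper18.PPBC
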