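import Mathlib

/-!
# Algebra for the comultiplication `P^{n+n'} → P^{n'}(P^n)` (helper18)
-/

set_option autoImplicit false
open TensorProduct

namespace Groth.Agent.Lib.Helper18.PPDeltaAlg

section Pow

variable {T : Type*} [CommRing T] (K₁ K₂ : Ideal T)

theorem sup_pow_succ_le (n m : ℕ) :
    (K₁ ⊔ K₂) ^ (n + m + 1) ≤ K₁ ^ (n + 1) ⊔ K₂ ^ (m + 1) := by
  rw [← Ideal.add_eq_sup, ← Ideal.add_eq_sup, add_pow, Ideal.sum_eq_sup]
  apply Finset.sup_le
  intro i hi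
  by_cases hn : n + 1 ≤ i
  · exact (Ideal.mul_le_left.trans (Ideal.mul_le_left.trans
      ((Ideal.pow_le_pow_right hn).trans le_sup_left)))
  · refine (Ideal.mul_le_left.trans (Ideal.mul_le_right.trans
      ((Ideal.pow_le_pow_right ?_).trans le_sup_right)))
    omega

end Pow

section Theta

variable {A B : Type*} [CommRing A] [CommRing B] [Algebra A B] {T : Type*} [CommRing T]

/-- the ring hom `a ⊗ b ↦ φ₁ a * φ₂ b` -/
theorem exists_theta (φ₁ φ₂ : B →+* T)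
    (h : ∀ s : A, φ₁ (algebraMap A B s) = φ₂ (algebraMap A B s)) :
    ∃ θ : (B ⊗[A] B) →+* T, ∀ a b, θ (a ⊗ₜ b) = φ₁ a * φ₂ b := by
  let _ : Algebra A T := (φ₁.comp (algebraMap A B)).toAlgebra
  let f₁ : B →ₐ[A] T := { φ₁ with commutes' := fun s => rfl }
  let f₂ : B →ₐ[A] T := { φ₂ with commutes' := fun s => (h s).symm }
  refine ⟨(Algebra.TensorProduct.lift f₁ f₂ (fun _ _ => Commute.all _ _)).toRingHom, fun a b => ?_⟩
  show Algebra.TensorProduct.lift f₁ f₂ _ (a ⊗ₜ b) = _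
  rw [Algebra.TensorProduct.lift_tmul]
  rfl

variable {R R' : Type*} [CommRing R] [CommRing R']

theorem theta_vanish (θ : (B ⊗[A] B) →+* T) (Ψ : (B ⊗[A] B) →+* R) (Ψ' : (B ⊗[A] B) →+* R')
    (ι₁ : R →+* T) (ι₂ : R' →+* T) (n n' : ℕ)
    (hΨ : ∀ x ∈ KaehlerDifferential.ideal A B ^ (n + 1), Ψ x = 0)
    (hΨ' : ∀ x ∈ KaehlerDifferential.ideal A B ^ (n' + 1), Ψ' x = 0)
    (hθ : ∀ b : B, θ (1 ⊗ₜ b - b ⊗ₜ 1) =
      ι₁ (Ψ (1 ⊗ₜ b - b ⊗ₜ 1)) + ι₂ (Ψ' (1 ⊗ₜ b - b ⊗ₜ 1))) :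
    ∀ x ∈ KaehlerDifferential.ideal A B ^ (n + n' + 1), θ x = 0 := by
  set I := KaehlerDifferential.ideal A B with hI
  let K₁ : Ideal T := (I.map Ψ).map ι₁
  let K₂ : Ideal T := (I.map Ψ').map ι₂
  have h1 : I.map θ ≤ K₁ ⊔ K₂ := by
    rw [hI, ← KaehlerDifferential.span_range_eq_ideal, Ideal.map_span, Ideal.span_le]
    rintro _ ⟨_, ⟨b, rfl⟩, rfl⟩
    rw [SetLike.mem_coe, hθ]
    have hb : (1 : B) ⊗ₜ[A] b - b ⊗ₜ[A] (1 : B) ∈ I :=
      KaehlerDifferential.one_smul_sub_smul_one_mem_ideal A b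
    exact Ideal.add_mem _
      (Ideal.mem_sup_left (Ideal.mem_map_of_mem _ (Ideal.mem_map_of_mem _ hb)))
      (Ideal.mem_sup_right (Ideal.mem_map_of_mem _ (Ideal.mem_map_of_mem _ hb)))
  have h2 : K₁ ^ (n + 1) = ⊥ := by
    show ((I.map Ψ).map ι₁) ^ (n + 1) = ⊥
    rw [← Ideal.map_pow, ← Ideal.map_pow]
    have : (I ^ (n + 1)).map Ψ = ⊥ := by
      rw [Ideal.map_eq_bot_iff_le_ker]
      intro x hx
      exact hΨ x hx
    rw [this, Ideal.map_bot]
  have h3 : K₂ ^ (n' + 1) = ⊥ := by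
    show ((I.map Ψ').map ι₂) ^ (n' + 1) = ⊥
    rw [← Ideal.map_pow, ← Ideal.map_pow]
    have : (I ^ (n' + 1)).map Ψ' = ⊥ := by
      rw [Ideal.map_eq_bot_iff_le_ker]
      intro x hx
      exact hΨ' x hx
    rw [this, Ideal.map_bot]
  intro x hx
  have h4 : θ x ∈ (I ^ (n + n' + 1)).map θ := Ideal.mem_map_of_mem _ hx
  rw [Ideal.map_pow] at h4
  have h5 := (sup_pow_succ_le K₁ K₂ n n') (Ideal.pow_right_mono h1 _ h4)
  rw [h2, h3, bot_sup_eq] at h5
  exact h5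

end Theta

section EQ

variable {B R' R Q : Type*} [CommRing B] [CommRing R'] [CommRing R] [Algebra B R'] [Algebra B R]
  [AddCommGroup Q] [Module R' Q]

theorem exists_eQ (g : R →+ Q) (hg : ∀ (b : B) (r : R), g (b • r) = algebraMap B R' b • g r) :
    ∃ e : (R' ⊗[B] R) →+ Q, ∀ (r' : R') (r : R), e (r' ⊗ₜ r) = r' • g r := by
  let F : R' →+ R →+ Q :=
    { toFun := fun r' => (DistribSMul.toAddMonoidHom Q r').comp g
      map_zero' := by ext; simp
      map_add' := fun a b => by ext; simp [add_smul] }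
  refine ⟨TensorProduct.liftAddHom F (fun b r' r => ?_), fun r' r => rfl⟩
  show (b • r') • g r = r' • g (b • r)
  rw [hg, Algebra.smul_def, mul_comm, mul_smul]

end EQ

section Lift

variable {E P Q : Type*} [AddCommGroup E] [AddCommGroup P] [AddCommGroup Q]

theorem exists_lift_of_surjective (psi : E →+ P) (hs : Function.Surjective psi) (g : E →+ Q)
    (hk : ∀ x, psi x = 0 → g x = 0) : ∃ δ : P →+ Q, ∀ x, δ (psi x) = g x := by
  refine ⟨psi.liftOfRightInverse (Function.surjInv hs) (Function.rightInverse_surjInv hs)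
    ⟨g, fun x hx => hk x hx⟩, fun x => ?_⟩
  exact AddMonoidHom.liftOfRightInverse_comp_apply _ _ _ _ _

end Lift

end Groth.Agent.Lib.Helper18.PPDeltaAlg
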