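import Mathlib
import Groth.Prelude.Def_OmegaPn
import Groth.Agent.Lib.Helper18.PPAffine2
import Groth.Agent.Lib.Helper18.PPDeltaAlg
import Groth.Agent.Lib.Helper18.PPGen
import Groth.Agent.Lib.Helper49.ModGlue
import Groth.Agent.Lib.Helper49.UnitChart

/-!
# The comultiplication `δ : P^{n+n'} ⟶ P^{n'}(P^n)` (helper18)
-/

set_option autoImplicit false
set_option linter.style.haveILetI false
universe u
open AlgebraicGeometry CategoryTheory Limits TopologicalSpace Opposite TensorProduct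

namespace Groth.Agent.Lib.Helper18.PPDelta

open PrinPart Groth.Agent.Lib.Helper18.PPAffine Groth.Agent.Lib.Helper18.PPLocalB
  Groth.Agent.Lib.Helper18.PPLocalD Groth.Agent.Lib.Helper18.PPNil
  Groth.Agent.Lib.Helper18.PPOrderOne Groth.Agent.Lib.Helper18.PPDeltaAlg

variable {X S : Scheme.{u}} (f : X ⟶ S) (n n' : ℕ) {U : X.Opens} (hU : IsAffineOpen U)
  {T : S.Opens} (hT : IsAffineOpen T) (hUT : U ≤ f ⁻¹ᵁ T)

include hU hT hUT in
/-- on an affine chart, the map `a • d^{n+n'} b ↦ a • d^{n'}(d^n b)` is well defined -/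
theorem exists_chart_delta :
    ∃ δ : Γ(P f (n + n'), U) →+ Γ(PMod f n' (P f n), U), ∀ a b : Γ(X, U),
      δ (a • dn f (n + n') U b) = a • dP f n' (P f n) U (dn f n U b) := by
  letI := algAB f hUT
  letI iR' : Algebra Γ(X, U) Γ(nbhd f n', pr1 f n' ⁻¹ᵁ U) := (ρ f n' U).toAlgebra
  letI iR : Algebra Γ(X, U) Γ(nbhd f n, pr1 f n ⁻¹ᵁ U) := (lam f n U).toAlgebra
  -- the two maps `B → R' ⊗[B] R`
  let φ₁ : Γ(X, U) →+* Γ(nbhd f n', pr1 f n' ⁻¹ᵁ U) ⊗[Γ(X, U)] Γ(nbhd f n, pr1 f n ⁻¹ᵁ U) :=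
    (Algebra.TensorProduct.includeLeftRingHom).comp (lam f n' U)
  let φ₂ : Γ(X, U) →+* Γ(nbhd f n', pr1 f n' ⁻¹ᵁ U) ⊗[Γ(X, U)] Γ(nbhd f n, pr1 f n ⁻¹ᵁ U) :=
    (Algebra.TensorProduct.includeRight (R := Γ(X, U))
      (A := Γ(nbhd f n', pr1 f n' ⁻¹ᵁ U)) (B := Γ(nbhd f n, pr1 f n ⁻¹ᵁ U))).toRingHom.comp
      (ρ f n U)
  have hbal : ∀ b : Γ(X, U),
      (1 : Γ(nbhd f n', pr1 f n' ⁻¹ᵁ U)) ⊗ₜ[Γ(X, U)] (lam f n U b) =
        (ρ f n' U b) ⊗ₜ[Γ(X, U)] (1 : Γ(nbhd f n, pr1 f n ⁻¹ᵁ U)) := by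
    intro b
    have e1 : lam f n U b = b • (1 : Γ(nbhd f n, pr1 f n ⁻¹ᵁ U)) := by
      rw [Algebra.smul_def, mul_one]; rfl
    have e2 : ρ f n' U b = b • (1 : Γ(nbhd f n', pr1 f n' ⁻¹ᵁ U)) := by
      rw [Algebra.smul_def, mul_one]; rfl
    rw [e1, e2, TensorProduct.tmul_smul, TensorProduct.smul_tmul']
  have h12 : ∀ s : Γ(S, T), φ₁ (algebraMap Γ(S, T) Γ(X, U) s) =
      φ₂ (algebraMap Γ(S, T) Γ(X, U) s) := by
    intro s
    show (lam f n' U ((f.appLE T U hUT).hom s)) ⊗ₜ[Γ(X, U)] (1 : Γ(nbhd f n, pr1 f n ⁻¹ᵁ U)) =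
      (1 : Γ(nbhd f n', pr1 f n' ⁻¹ᵁ U)) ⊗ₜ[Γ(X, U)] (ρ f n U ((f.appLE T U hUT).hom s))
    rw [ρ_base f n U T hUT s, hbal, ρ_base f n' U T hUT s]
  obtain ⟨θ, hθ⟩ := exists_theta φ₁ φ₂ h12
  -- vanishing on `I^{n+n'+1}`
  have hΨ1 : ∀ b : Γ(X, U), Ψ f n hU hT hUT ((1 : Γ(X, U)) ⊗ₜ[Γ(S, T)] b - b ⊗ₜ[Γ(S, T)] 1) =
      ρ f n U b - lam f n U b := by
    intro b
    rw [map_sub, Ψ_tmul, Ψ_tmul, map_one, map_one, one_mul, mul_one]
  have hΨ2 : ∀ b : Γ(X, U), Ψ f n' hU hT hUT ((1 : Γ(X, U)) ⊗ₜ[Γ(S, T)] b - b ⊗ₜ[Γ(S, T)] 1) =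
      ρ f n' U b - lam f n' U b := by
    intro b
    rw [map_sub, Ψ_tmul, Ψ_tmul, map_one, map_one, one_mul, mul_one]
  have hvan := theta_vanish θ (Ψ f n hU hT hUT) (Ψ f n' hU hT hUT)
    (Algebra.TensorProduct.includeRight (R := Γ(X, U))
      (A := Γ(nbhd f n', pr1 f n' ⁻¹ᵁ U)) (B := Γ(nbhd f n, pr1 f n ⁻¹ᵁ U))).toRingHom
    (Algebra.TensorProduct.includeLeftRingHom) n n'
    (fun x hx => by
      have := ker_Ψ f n hU hT hUT
      rw [← this] at hx
      exact hx)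
    (fun x hx => by
      have := ker_Ψ f n' hU hT hUT
      rw [← this] at hx
      exact hx)
    (fun b => by
      rw [hΨ1, hΨ2, map_sub, hθ, hθ, map_one, map_one, one_mul, mul_one]
      show (1 : Γ(nbhd f n', pr1 f n' ⁻¹ᵁ U)) ⊗ₜ[Γ(X, U)] (ρ f n U b) -
        (lam f n' U b) ⊗ₜ[Γ(X, U)] (1 : Γ(nbhd f n, pr1 f n ⁻¹ᵁ U)) =
        (1 : Γ(nbhd f n', pr1 f n' ⁻¹ᵁ U)) ⊗ₜ[Γ(X, U)] (ρ f n U b - lam f n U b) +
        (ρ f n' U b - lam f n' U b) ⊗ₜ[Γ(X, U)] (1 : Γ(nbhd f n, pr1 f n ⁻¹ᵁ U))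
      rw [TensorProduct.tmul_sub, TensorProduct.sub_tmul, hbal]
      abel)
  -- the map to sections
  let υe := AddEquiv.ofBijective (υ f n U) (υ_bijective f n U)
  let g : Γ(nbhd f n, pr1 f n ⁻¹ᵁ U) →+ Γ(MM f n' (P f n), pr1 f n' ⁻¹ᵁ U) :=
    (dP f n' (P f n) U).comp υe.symm.toAddMonoidHom
  have hg : ∀ (b : Γ(X, U)) (r : Γ(nbhd f n, pr1 f n ⁻¹ᵁ U)),
      g (b • r) = algebraMap Γ(X, U) Γ(nbhd f n', pr1 f n' ⁻¹ᵁ U) b • g r := by
    intro b r
    have e1 : υe.symm (b • r) = b • υe.symm r := by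
      apply υe.injective
      rw [AddEquiv.apply_symm_apply]
      show _ = υ f n U (b • υe.symm r)
      rw [υ_smul]
      have : υ f n U (υe.symm r) = r := υe.apply_symm_apply r
      rw [this, Algebra.smul_def]
      rfl
    show dP f n' (P f n) U (υe.symm (b • r)) = _
    rw [e1]
    exact dN_smul f n' (P f n) U b (υe.symm r)
  obtain ⟨e, he⟩ := exists_eQ g hg
  obtain ⟨δ, hδ⟩ := exists_lift_of_surjective (psi f (n + n') hU hT hUT)
    (psi_spec f (n + n') hU hT hUT).1 (e.comp θ.toAddMonoidHom)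
    (fun x hx => by
      have hx' := ((psi_spec f (n + n') hU hT hUT).2 x).mp hx
      show e (θ x) = 0
      rw [hvan x hx', map_zero])
  refine ⟨δ, fun a b => ?_⟩
  rw [← psi_tmul f (n + n') hU hT hUT a b]
  refine (hδ _).trans ?_
  show e (θ (a ⊗ₜ[Γ(S, T)] b)) = _
  rw [hθ]
  show e ((lam f n' U a) ⊗ₜ[Γ(X, U)] (1 : Γ(nbhd f n, pr1 f n ⁻¹ᵁ U)) *
    (1 : Γ(nbhd f n', pr1 f n' ⁻¹ᵁ U)) ⊗ₜ[Γ(X, U)] (ρ f n U b)) = _
  rw [Algebra.TensorProduct.tmul_mul_tmul, mul_one, one_mul, he]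
  have e2 : υe.symm (ρ f n U b) = dn f n U b := by
    apply υe.injective
    rw [AddEquiv.apply_symm_apply]
    exact (υ_dn f n U b).symm
  show lam f n' U a • (show Γ(MM f n' (P f n), pr1 f n' ⁻¹ᵁ U) from
    dP f n' (P f n) U (υe.symm (ρ f n U b))) = _
  rw [e2]
  rfl

include hU hT hUT in
/-- induction principle for sections of `P^n` over a chart -/
theorem chart_induction {motive : Γ(P f n, U) → Prop} (h0 : motive 0)
    (hadd : ∀ x y, motive x → motive y → motive (x + y))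
    (hgen : ∀ a b : Γ(X, U), motive (a • dn f n U b)) : ∀ s, motive s := by
  letI := algAB f hUT
  intro s
  obtain ⟨x, rfl⟩ := (psi_spec f n hU hT hUT).1 s
  induction x using TensorProduct.induction_on with
  | zero => rw [map_zero]; exact h0
  | tmul a b => rw [psi_tmul]; exact hgen a b
  | add x y hx hy => rw [map_add]; exact hadd _ _ hx hy

end Groth.Agent.Lib.Helper18.PPDelta

namespace Groth.Agent.Lib.Helper18.PPDelta

open PrinPart Groth.Agent.Lib.Helper49 Groth.Agent.Lib.Helper49.ModGlue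

variable {X S : Scheme.{u}} (f : X ⟶ S) (n n' : ℕ)

/-- affine opens lying over an affine open of the base -/
def chartBasis : Set X.Opens :=
  {U | IsAffineOpen U ∧ ∃ T : S.Opens, IsAffineOpen T ∧ U ≤ f ⁻¹ᵁ T}

theorem isBasis_chartBasis : Opens.IsBasis (chartBasis f) := by
  rw [Opens.isBasis_iff_nbhd]
  intro U x hx
  obtain ⟨U', T, hU', hT, hU'T, hU'U, hxU'⟩ :=
    Groth.Agent.Lib.Helper18.PPNil.exists_affine_chart f U x hx
  exact ⟨U', ⟨hU', T, hT, hU'T⟩, hxU', hU'U⟩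

/-- the local comultiplication on a chart -/
noncomputable def chartδ (V : chartBasis f) :
    Γ(P f (n + n'), V.1) →+ Γ(PMod f n' (P f n), V.1) :=
  Classical.choose (exists_chart_delta f n n' V.2.1 V.2.2.choose_spec.1 V.2.2.choose_spec.2)

theorem chartδ_spec (V : chartBasis f) (a b : Γ(X, V.1)) :
    chartδ f n n' V (a • dn f (n + n') V.1 b) = a • dP f n' (P f n) V.1 (dn f n V.1 b) :=
  Classical.choose_spec
    (exists_chart_delta f n n' V.2.1 V.2.2.choose_spec.1 V.2.2.choose_spec.2) a b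

theorem res_dn {U V : X.Opens} (e : V ≤ U) (b : Γ(X, U)) :
    res (P f n) e (dn f n U b) = dn f n V ((X.presheaf.map (homOfLE e).op).hom b) :=
  (dP_map f n (Coh.structureModule X) e (OmegaSh.strSect X U b)).symm

theorem res_dP (F : X.Modules) {U V : X.Opens} (e : V ≤ U) (t : Γ(F, U)) :
    res (PMod f n F) e (dP f n F U t) = dP f n F V (res F e t) :=
  (dP_map f n F e t).symm

/-- the local comultiplications form a compatible family -/
noncomputable def localδ : LocalHom (P f (n + n')) (PMod f n' (P f n)) (chartBasis f) where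
  φ := chartδ f n n'
  smul := fun V r s => by
    refine chart_induction f (n + n') V.2.1 V.2.2.choose_spec.1 V.2.2.choose_spec.2
      (motive := fun s => chartδ f n n' V (r • s) = r • chartδ f n n' V s) ?_ ?_ ?_ s
    · rw [smul_zero, map_zero, smul_zero]
    · intro x y hx hy
      rw [smul_add, map_add, map_add, hx, hy, smul_add]
    · intro a b
      rw [smul_smul, chartδ_spec, chartδ_spec, smul_smul]
  compat := fun V W h s => by
    refine chart_induction f (n + n') V.2.1 V.2.2.choose_spec.1 V.2.2.choose_spec.2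
      (motive := fun s => res (PMod f n' (P f n)) h (chartδ f n n' V s) =
        chartδ f n n' W (res (P f (n + n')) h s)) ?_ ?_ ?_ s
    · rw [map_zero, map_zero, map_zero, map_zero]
    · intro x y hx hy
      rw [map_add, map_add, map_add, map_add, hx, hy]
    · intro a b
      rw [chartδ_spec, res_smul, res_smul, res_dP, res_dn, res_dn, chartδ_spec]

/-- **existence of the comultiplication** -/
theorem exists_delta : ∃ δ : P f (n + n') ⟶ PMod f n' (P f n), ∀ (U : X.Opens) (t : Γ(X, U)),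
    δ.app U (dn f (n + n') U t) = dP f n' (P f n) U (dn f n U t) := by
  refine ⟨(localδ f n n').glue (isBasis_chartBasis f), fun U t => ?_⟩
  refine eq_of_basis (isBasis_chartBasis f) (PMod f n' (P f n)) _ _ (fun V hV => ?_)
  have h1 : res (PMod f n' (P f n)) hV
      ((((localδ f n n').glue (isBasis_chartBasis f)).app U).hom (dn f (n + n') U t)) =
      (((localδ f n n').glue (isBasis_chartBasis f)).app V.1).hom
        (res (P f (n + n')) hV (dn f (n + n') U t)) :=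
    (Groth.Agent.Lib.Helper49.UnitChart.app_mres _ hV _).symm
  refine h1.trans ?_
  rw [res_dn, res_dP, res_dn]
  refine ((localδ f n n').glue_app (isBasis_chartBasis f) V _).trans ?_
  have h2 := chartδ_spec f n n' V 1 ((X.presheaf.map (homOfLE hV).op).hom t)
  rw [one_smul, one_smul] at h2
  exact h2

end Groth.Agent.Lib.Helper18.PPDelta
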