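import Mathlib
import Groth.Prelude.Def_OmegaPn
import Groth.Prelude.Def_FlatMod2
import Groth.Agent.Lib.Helper18.PPAffine
import Groth.Agent.Lib.Helper49.PrinPartInvol
import Groth.Agent.Lib.Helper49.PrinPartBasic
import Groth.Agent.Lib.Helper80.FlatHartogs
import Groth.Agent.Lib.Helper19.FpqcModDesc
import Groth.Agent.Lib.Helper45.RegularSections

/-!
# Flatness of `P^n` and exactness of `F ↦ P^n(F)` (helper18)

* `preservesFiniteLimits_pullback_of_flat`: pullback of modules along a flat morphism preserves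
  finite limits.
* `flat_pr1`, `flat_pr2`: if `P^n_{X/S}` is a flat `O_X`-module then both projections
  `X^{(n)}_Δ ⟶ X` are flat.
* `preservesFiniteLimits_PMod`: then `F ↦ P^n(F)` preserves finite limits.
-/

set_option autoImplicit false
set_option linter.style.haveILetI false
universe u
open AlgebraicGeometry CategoryTheory Limits TopologicalSpace Opposite

namespace Groth.Agent.Lib.Helper18.PPFlat

section General

variable {X Y : Scheme.{u}} (h : X ⟶ Y)

/-- pullback of modules along a flat morphism preserves finite limits -/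
theorem preservesFiniteLimits_pullback_of_flat [Flat h] :
    PreservesFiniteLimits (Scheme.Modules.pullback h) := by
  rw [Functor.preservesFiniteLimits_iff_forall_exact_map_and_mono]
  intro S hS
  have hc : PreservesFiniteColimits (Scheme.Modules.pullback h) := by
    have := (Scheme.Modules.pullbackPushforwardAdjunction h).leftAdjoint_preservesColimits
    infer_instance
  have h1 := (Functor.preservesFiniteColimits_iff_forall_exact_map_and_epi _).mp hc S hS
  have := hS.mono_f
  exact ⟨h1.1, Groth.Agent.Helper19.FpqcModDesc.mono_pullback_of_flat h S.f⟩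

end General

section PP

open PrinPart Groth.Agent.Lib.Helper18.PPAffine Groth.Agent.Lib.Helper18.PPNil

variable {X S : Scheme.{u}} (f : X ⟶ S) (n : ℕ)

/-- if `P^n` is flat, `Γ(X, U) → Γ(X^{(n)}_Δ, pr₁⁻¹ U)` is flat for affine `U` -/
theorem flat_lam (hP : FlatMod.IsFlat (P f n)) {U : X.Opens} (hU : IsAffineOpen U) :
    (lam f n U).Flat := by
  haveI : (Coh.structureModule X).IsQuasicoherent :=
    Groth.Agent.Lib.Helper45.isQuasicoherent_structureModule X
  haveI : (P f n).IsQuasicoherent :=
    Groth.Agent.Lib.Helper49.PrinPartBasic.isQuasicoherent_PMod f n _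
  have h1 : Module.Flat Γ(X, U) Γ(P f n, U) :=
    Groth.Agent.Lib.Helper80.flat_sections_of_isFlat (P f n) hP hU
  letI := (lam f n U).toAlgebra
  let e : Γ(P f n, U) ≃ₗ[Γ(X, U)] Γ(nbhd f n, pr1 f n ⁻¹ᵁ U) :=
    { AddEquiv.ofBijective (υ f n U) (υ_bijective f n U) with
      map_smul' := fun a z => by
        show υ f n U (a • z) = lam f n U a * υ f n U z
        exact υ_smul f n U a z }
  exact Module.Flat.of_linearEquiv e.symm

theorem flat_pr1 (hP : FlatMod.IsFlat (P f n)) : Flat (pr1 f n) := by
  rw [HasRingHomProperty.iff_exists_appLE (P := @Flat)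
    (RingHom.Flat.stableUnderComposition.stableUnderCompositionWithLocalizationAway
      RingHom.Flat.holdsForLocalizationAway).left]
  intro y
  obtain ⟨_, ⟨U, hU, rfl⟩, hyU, -⟩ :=
    X.isBasis_affineOpens.exists_subset_of_mem_open (Set.mem_univ (pr1 f n y)) isOpen_univ
  refine ⟨⟨U, hU⟩, ⟨pr1 f n ⁻¹ᵁ U, hU.preimage (pr1 f n)⟩, hyU, le_rfl, ?_⟩
  have h := flat_lam f n hP hU
  rwa [show lam f n U = ((pr1 f n).appLE U (pr1 f n ⁻¹ᵁ U) le_rfl).hom by
    rw [← Scheme.Hom.app_eq_appLE]] at h

theorem flat_pr2 (hP : FlatMod.IsFlat (P f n)) : Flat (pr2 f n) := by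
  have hs := Groth.Agent.Lib.Helper49.PrinPartInvol.sigma_spec f n
  haveI : IsIso (Groth.Agent.Lib.Helper49.PrinPartInvol.sigma f n) :=
    ⟨⟨Groth.Agent.Lib.Helper49.PrinPartInvol.sigma f n, hs.2.1, hs.2.1⟩⟩
  haveI := flat_pr1 f n hP
  rw [← hs.2.2.1]
  infer_instance

/-- **`F ↦ P^n(F)` is exact when `P^n` is flat.** -/
theorem preservesFiniteLimits_PMod (hP : FlatMod.IsFlat (P f n)) :
    PreservesFiniteLimits
      ((Scheme.Modules.pullback (pr2 f n)) ⋙ (Scheme.Modules.pushforward (pr1 f n))) := by
  haveI := flat_pr2 f n hP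
  haveI := preservesFiniteLimits_pullback_of_flat (pr2 f n)
  haveI : PreservesFiniteLimits (Scheme.Modules.pushforward (pr1 f n)) := by
    have := (Scheme.Modules.pullbackPushforwardAdjunction (pr1 f n)).rightAdjoint_preservesLimits
    infer_instance
  infer_instance

end PP

end Groth.Agent.Lib.Helper18.PPFlat
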