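import Groth.Agent.H18.PPBasic
import Mathlib.RingTheory.Localization.BaseChange

/-! helper18: principal parts and localization of the base -/

set_option autoImplicit false
universe u
open scoped TensorProduct
open PP16

namespace Groth.Agent.Lib.Helper18


section
variable (A B A' B' : Type u) [CommRing A] [CommRing B] [Algebra A B]
  [CommRing A'] [CommRing B'] [Algebra A' B'] [Algebra A A'] [Algebra B B'] [Algebra A B']
  [IsScalarTower A A' B'] [IsScalarTower A B B']

theorem ideal_map_tensorMap_of_surjective (h : Function.Surjective (algebraMap B B')) :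
    (KaehlerDifferential.ideal A B).map (tensorMap A B A' B') = KaehlerDifferential.ideal A' B' := by
  apply le_antisymm (ideal_map_tensorMap_le A B A' B')
  rw [← KaehlerDifferential.span_range_eq_ideal, Ideal.span_le]
  rintro _ ⟨c, rfl⟩
  obtain ⟨b, rfl⟩ := h c
  have : (1 : B') ⊗ₜ[A'] (algebraMap B B' b) - (algebraMap B B' b) ⊗ₜ[A'] (1 : B') =
      tensorMap A B A' B' ((1 : B) ⊗ₜ[A] b - b ⊗ₜ[A] (1 : B)) := by
    rw [map_sub, tensorMap_tmul, tensorMap_tmul, map_one]
  show (1 : B') ⊗ₜ[A'] (algebraMap B B' b) - (algebraMap B B' b) ⊗ₜ[A'] (1 : B') ∈ _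
  rw [this]
  exact Ideal.mem_map_of_mem _ (KaehlerDifferential.one_smul_sub_smul_one_mem_ideal A b)

end

variable (n : ℕ) (A B A' B' : Type u) [CommRing A] [CommRing B] [Algebra A B]
    [CommRing A'] [CommRing B'] [Algebra A A'] [Algebra B B'] [Algebra A' B'] [Algebra A B']
    [IsScalarTower A A' B'] [IsScalarTower A B B'] (R : Submonoid A) (S : Submonoid B) [IsLocalization R A']
    [IsLocalization S B']

include R in
theorem tensorMap_loc_bijective : Function.Bijective (tensorMap A B' A' B') := by
  have : TensorProduct.CompatibleSMul A A' B' B' := IsLocalization.tensorProduct_compatibleSMul R A' B' B'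
  have h1 : ∀ x, tensorMap A B' A' B' x = TensorProduct.mapOfCompatibleSMul A' A A B' B' x := by
    intro x
    induction x using TensorProduct.induction_on with
    | zero => simp
    | tmul c c' => rw [tensorMap_tmul]; simp
    | add x y hx hy => rw [map_add, map_add, hx, hy]
  have : (tensorMap A B' A' B' : B' ⊗[A] B' → B' ⊗[A'] B') = (TensorProduct.equivOfCompatibleSMul A' A A B' B') := by
    ext x
    rw [h1]
    rfl
  rw [this]
  exact (TensorProduct.equivOfCompatibleSMul A' A A B' B').bijective

end Groth.Agent.Lib.Helper18
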