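import Mathlib
import Groth.Agent.Lib.Helper18.SymLoc

/-!
# The symmetric algebra of a direct sum is the tensor product (pushout form) (helper18)
-/

set_option autoImplicit false
set_option linter.style.haveILetI false
universe u
open CategoryTheory Limits

namespace Groth.Agent.Lib.Helper18.SymProd

open Groth.Agent.Lib.Helper18.SymLoc

variable {R : Type u} [CommRing R] {M N P : Type u} [AddCommGroup M] [Module R M]
  [AddCommGroup N] [Module R N] [AddCommGroup P] [Module R P]

/-- functoriality of the symmetric algebra for linear maps, as a ring hom -/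
noncomputable def symLin (f : M →ₗ[R] P) : SymmetricAlgebra R M →+* SymmetricAlgebra R P :=
  symMap (RingHom.id R) f.toAddMonoidHom (fun r m => by simp)

@[simp] theorem symLin_ι (f : M →ₗ[R] P) (m : M) :
    symLin f (SymmetricAlgebra.ι R M m) = SymmetricAlgebra.ι R P (f m) :=
  symMap_ι _ _ _ m

@[simp] theorem symLin_algebraMap (f : M →ₗ[R] P) (r : R) :
    symLin f (algebraMap R _ r) = algebraMap R _ r :=
  symMap_algebraMap _ _ _ r

variable (inl : M →ₗ[R] P) (inr : N →ₗ[R] P) (fst : P →ₗ[R] M) (snd : P →ₗ[R] N)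

section desc

variable {T : Type u} [CommRing T] (f : SymmetricAlgebra R M →+* T)
  (g : SymmetricAlgebra R N →+* T)
  (hfg : ∀ r, f (algebraMap R _ r) = g (algebraMap R _ r))

/-- the induced map out of `Sym P` -/
noncomputable def desc : SymmetricAlgebra R P →+* T :=
  letI : Algebra R T := (f.comp (algebraMap R (SymmetricAlgebra R M))).toAlgebra
  (SymmetricAlgebra.lift (R := R) (M := P) (A := T)
    { toFun := fun p => f (SymmetricAlgebra.ι R M (fst p)) + g (SymmetricAlgebra.ι R N (snd p))
      map_add' := fun a b => by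
        simp only [map_add]
        abel
      map_smul' := fun r p => by
        have e1 : SymmetricAlgebra.ι R M (fst (r • p)) =
            algebraMap R _ r * SymmetricAlgebra.ι R M (fst p) := by
          rw [map_smul, map_smul, Algebra.smul_def]
        have e2 : SymmetricAlgebra.ι R N (snd (r • p)) =
            algebraMap R _ r * SymmetricAlgebra.ι R N (snd p) := by
          rw [map_smul, map_smul, Algebra.smul_def]
        rw [e1, e2, map_mul, map_mul, ← hfg, RingHom.id_apply, Algebra.smul_def, mul_add]
        rfl }).toRingHom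

theorem desc_algebraMap (r : R) :
    desc fst snd f g hfg (algebraMap R _ r) = f (algebraMap R _ r) := by
  letI : Algebra R T := (f.comp (algebraMap R (SymmetricAlgebra R M))).toAlgebra
  unfold desc
  exact AlgHom.commutes _ r

theorem desc_ι (p : P) :
    desc fst snd f g hfg (SymmetricAlgebra.ι R P p) =
      f (SymmetricAlgebra.ι R M (fst p)) + g (SymmetricAlgebra.ι R N (snd p)) := by
  letI : Algebra R T := (f.comp (algebraMap R (SymmetricAlgebra R M))).toAlgebra
  unfold desc
  exact SymmetricAlgebra.lift_ι_apply _ p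

variable (h1 : fst ∘ₗ inl = LinearMap.id) (h2 : snd ∘ₗ inr = LinearMap.id)
  (h3 : snd ∘ₗ inl = 0) (h4 : fst ∘ₗ inr = 0) (h5 : inl ∘ₗ fst + inr ∘ₗ snd = LinearMap.id)

include h1 h3 in
theorem desc_comp_inl : (desc fst snd f g hfg).comp (symLin inl) = f := by
  refine ringHom_ext _ _ (fun r => ?_) (fun m => ?_)
  · rw [RingHom.comp_apply, symLin_algebraMap, desc_algebraMap]
  · rw [RingHom.comp_apply, symLin_ι, desc_ι]
    have e1 : fst (inl m) = m := LinearMap.congr_fun h1 m
    have e3 : snd (inl m) = 0 := LinearMap.congr_fun h3 m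
    rw [e1, e3, map_zero, map_zero, add_zero]

include h2 h4 in
theorem desc_comp_inr : (desc fst snd f g hfg).comp (symLin inr) = g := by
  refine ringHom_ext _ _ (fun r => ?_) (fun m => ?_)
  · rw [RingHom.comp_apply, symLin_algebraMap, desc_algebraMap, hfg]
  · rw [RingHom.comp_apply, symLin_ι, desc_ι]
    have e2 : snd (inr m) = m := LinearMap.congr_fun h2 m
    have e4 : fst (inr m) = 0 := LinearMap.congr_fun h4 m
    rw [e2, e4, map_zero, map_zero, zero_add]

include h5 in
theorem desc_unique (h : SymmetricAlgebra R P →+* T) (hl : h.comp (symLin inl) = f)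
    (hr : h.comp (symLin inr) = g) : h = desc fst snd f g hfg := by
  refine ringHom_ext _ _ (fun r => ?_) (fun p => ?_)
  · rw [desc_algebraMap, ← hl, RingHom.comp_apply, symLin_algebraMap]
  · rw [desc_ι, ← hl, ← hr, RingHom.comp_apply, RingHom.comp_apply, symLin_ι, symLin_ι, ← map_add,
      ← map_add]
    have e5 : inl (fst p) + inr (snd p) = p := LinearMap.congr_fun h5 p
    rw [e5]

end desc

variable (h1 : fst ∘ₗ inl = LinearMap.id) (h2 : snd ∘ₗ inr = LinearMap.id)
  (h3 : snd ∘ₗ inl = 0) (h4 : fst ∘ₗ inr = 0) (h5 : inl ∘ₗ fst + inr ∘ₗ snd = LinearMap.id)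

include h1 h2 h3 h4 h5 in
/-- **`Sym(M ⊕ N) = Sym M ⊗ Sym N`**, as a pushout square of commutative rings. -/
theorem isPushout_sym :
    IsPushout (CommRingCat.ofHom (algebraMap R (SymmetricAlgebra R M)))
      (CommRingCat.ofHom (algebraMap R (SymmetricAlgebra R N)))
      (CommRingCat.ofHom (symLin inl)) (CommRingCat.ofHom (symLin inr)) := by
  have w : CommRingCat.ofHom (algebraMap R (SymmetricAlgebra R M)) ≫
        CommRingCat.ofHom (symLin inl) =
      CommRingCat.ofHom (algebraMap R (SymmetricAlgebra R N)) ≫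
        CommRingCat.ofHom (symLin inr) := by
    ext r
    change symLin inl (algebraMap R _ r) = symLin inr (algebraMap R _ r)
    rw [symLin_algebraMap, symLin_algebraMap]
  have hcond : ∀ s : PushoutCocone (CommRingCat.ofHom (algebraMap R (SymmetricAlgebra R M)))
      (CommRingCat.ofHom (algebraMap R (SymmetricAlgebra R N))),
      ∀ r, s.inl.hom (algebraMap R _ r) = s.inr.hom (algebraMap R _ r) := fun s r =>
    congrArg (fun k => k.hom r) s.condition
  refine ⟨⟨w⟩, ⟨PushoutCocone.IsColimit.mk _
    (fun s => CommRingCat.ofHom (desc fst snd s.inl.hom s.inr.hom (hcond s)))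
    (fun s => ?_) (fun s => ?_) (fun s m hl hr => ?_)⟩⟩
  · ext : 1
    exact desc_comp_inl inl fst snd s.inl.hom s.inr.hom (hcond s) h1 h3
  · ext : 1
    exact desc_comp_inr inr fst snd s.inl.hom s.inr.hom (hcond s) h2 h4
  · ext : 1
    refine desc_unique inl inr fst snd s.inl.hom s.inr.hom (hcond s) h5 m.hom ?_ ?_
    · exact congrArg (fun k => k.hom) hl
    · exact congrArg (fun k => k.hom) hr

end Groth.Agent.Lib.Helper18.SymProd
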