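import Mathlib
import Groth.Prelude.Def_RelSpec
import Groth.Agent.Lib.Helper18.SymQC5
import Groth.Agent.Lib.Helper18.SymProd
import Groth.Agent.Lib.Helper18.SpecMapClosed
import Groth.Agent.Lib.Helper49.QCohLocal
import Groth.Agent.Lib.Helper42.PullbackLocal

/-!
# `V(E ⊕ F) = V(E) ×_S V(F)` (helper18)
-/

set_option autoImplicit false
set_option linter.style.haveILetI false
universe u
open AlgebraicGeometry CategoryTheory Limits TopologicalSpace Opposite

namespace Groth.Agent.Lib.Helper18.SymQC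

open Groth.Agent.Lib.Helper18.SymLoc Groth.Agent.Lib.Helper18.SymProd RelSpec

variable {S : Scheme.{u}}

theorem isQuasicoherent_biprod (M N : S.Modules) [M.IsQuasicoherent] [N.IsQuasicoherent] :
    (M ⊞ N).IsQuasicoherent := by
  refine Groth.Agent.Lib.Helper49.isQuasicoherent_of_iso (biprod.isoProd M N).symm ?_
  refine Groth.Agent.Lib.Helper49.isQuasicoherent_finite_limit (pair M N) ?_
  rintro ⟨_ | _⟩
  · exact ‹M.IsQuasicoherent›
  · exact ‹N.IsQuasicoherent›

/-- a morphism of modules on sections, as a linear map -/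
noncomputable def appL {M N : S.Modules} (φ : M ⟶ N) (U : S.Opens) :
    Γ(M, U) →ₗ[Γ(S, U)] Γ(N, U) where
  toFun := φ.app U
  map_add' := map_add _
  map_smul' r m := Scheme.Modules.Hom.app_smul φ r m

@[simp] theorem appL_apply {M N : S.Modules} (φ : M ⟶ N) (U : S.Opens) (m : Γ(M, U)) :
    appL φ U m = φ.app U m := rfl

theorem appL_comp {M N K : S.Modules} (φ : M ⟶ N) (ψ : N ⟶ K) (U : S.Opens) :
    appL ψ U ∘ₗ appL φ U = appL (φ ≫ ψ) U := rfl

theorem appL_id (M : S.Modules) (U : S.Opens) : appL (𝟙 M) U = LinearMap.id := rfl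

theorem appL_zero (M N : S.Modules) (U : S.Opens) : appL (0 : M ⟶ N) U = 0 := rfl

theorem appL_add {M N : S.Modules} (φ ψ : M ⟶ N) (U : S.Opens) :
    appL (φ + ψ) U = appL φ U + appL ψ U := rfl

/-- the chart of a relative spectrum is the preimage of the affine open -/
theorem isPullback_ι_fromSpec (A : QCAlg S) (U : S.Opens) (hU : IsAffineOpen U) :
    IsPullback (A.ι U hU) (Spec.map (A.str.app (op U))) A.π hU.fromSpec := by
  refine (IsOpenImmersion.isPullback _ _ _ _ (A.ι_π U hU) ?_).flip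
  rw [hU.opensRange_fromSpec]
  exact A.π_preimage U hU

/-- compatibility of `liftU` with a map of modules covered by a map of algebras -/
theorem liftU_symLin {E F : S.Modules} (v : E ⟶ F) {A B : QCAlg S} (j : E ⟶ A.toModule)
    (k : F ⟶ B.toModule) (ψ : A ⟶ B) (hψ : j ≫ QCAlg.Hom.toModuleMap ψ = v ≫ k) (U : S.Opens) :
    (liftU F B k U).comp (symLin (appL v U)) = (ψ.hom.app (op U)).hom.comp (liftU E A j U) := by
  refine ringHom_ext _ _ (fun r => ?_) (fun m => ?_)
  · rw [RingHom.comp_apply, RingHom.comp_apply, symLin_algebraMap, liftU_algebraMap,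
      liftU_algebraMap]
    exact (congrArg (fun k => k.hom r) (NatTrans.congr_app ψ.comm (op U))).symm
  · rw [RingHom.comp_apply, RingHom.comp_apply, symLin_ι, liftU_ι, liftU_ι]
    exact (congrArg (fun k => toSec B U (k.app U m)) hψ).symm

section

variable (E F : S.Modules) [E.IsQuasicoherent] [F.IsQuasicoherent]
  (AE AF A : QCAlg S) (jE : E ⟶ AE.toModule) (jF : F ⟶ AF.toModule) (j : E ⊞ F ⟶ A.toModule)
  (hAE : IsSymAlg E AE jE) (hAF : IsSymAlg F AF jF) (hA : IsSymAlg (E ⊞ F) A j)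
  (ψE : AE ⟶ A) (ψF : AF ⟶ A)
  (hψE : jE ≫ QCAlg.Hom.toModuleMap ψE = biprod.inl ≫ j)
  (hψF : jF ≫ QCAlg.Hom.toModuleMap ψF = biprod.inr ≫ j)

include hAE hAF hA hψE hψF in
theorem isPushout_biprod (U : S.Opens) (hU : IsAffineOpen U) :
    IsPushout (AE.str.app (op U)) (AF.str.app (op U)) (ψE.hom.app (op U))
      (ψF.hom.app (op U)) := by
  have _ : (E ⊞ F).IsQuasicoherent := isQuasicoherent_biprod E F
  have h0 := isPushout_sym (R := Γ(S, U)) (appL (biprod.inl : E ⟶ E ⊞ F) U)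
    (appL (biprod.inr : F ⟶ E ⊞ F) U) (appL (biprod.fst : E ⊞ F ⟶ E) U)
    (appL (biprod.snd : E ⊞ F ⟶ F) U)
    (by rw [appL_comp, biprod.inl_fst, appL_id])
    (by rw [appL_comp, biprod.inr_snd, appL_id])
    (by rw [appL_comp, biprod.inl_snd, appL_zero])
    (by rw [appL_comp, biprod.inr_fst, appL_zero])
    (by rw [appL_comp, appL_comp, ← appL_add, biprod.total, appL_id])
  have bE := bijective_liftU E AE jE hAE U hU
  have bF := bijective_liftU F AF jF hAF U hU
  have bP := bijective_liftU (E ⊞ F) A j hA U hU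
  let eE : CommRingCat.of (SymmetricAlgebra Γ(S, U) Γ(E, U)) ≅ AE.presheaf.obj (op U) :=
    (RingEquiv.ofBijective (liftU E AE jE U) bE).toCommRingCatIso
  let eF : CommRingCat.of (SymmetricAlgebra Γ(S, U) Γ(F, U)) ≅ AF.presheaf.obj (op U) :=
    (RingEquiv.ofBijective (liftU F AF jF U) bF).toCommRingCatIso
  let eP : CommRingCat.of (SymmetricAlgebra Γ(S, U) Γ(E ⊞ F, U)) ≅ A.presheaf.obj (op U) :=
    (RingEquiv.ofBijective (liftU (E ⊞ F) A j U) bP).toCommRingCatIso
  refine h0.of_iso (Iso.refl _) eE eF eP ?_ ?_ ?_ ?_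
  · ext r
    exact liftU_algebraMap E AE jE U r
  · ext r
    exact liftU_algebraMap F AF jF U r
  · ext x
    exact congrArg (fun k => k x) (liftU_symLin biprod.inl jE j ψE hψE U)
  · ext x
    exact congrArg (fun k => k x) (liftU_symLin biprod.inr jF j ψF hψF U)

include hAE hAF hA hψE hψF in
/-- **`V(E ⊕ F) = V(E) ×_S V(F)`.** -/
theorem isPullback_vectorBundle_biprod :
    IsPullback (QCAlg.specMap ψE) (QCAlg.specMap ψF) AE.π AF.π := by
  refine Groth.Agent.Lib.Helper42.isPullback_of_cover_base _ _ _ _ AF.glueData.cover (fun U => ?_)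
  refine ⟨Spec (A.presheaf.obj (op U.1)), A.ι U.1 U.2, Spec.map (ψF.hom.app (op U.1)),
    SpecMapClosed.isPullback_chart ψF U.1 U.2, ?_⟩
  have hpo := isPushout_biprod E F AE AF A jE jF j hAE hAF hA ψE ψF hψE hψF U.1 U.2
  have h1 := isPullback_SpecMap_of_isPushout _ _ _ _ hpo
  have h2 := isPullback_ι_fromSpec AE U.1 U.2
  have h3 := h1.paste_horiz h2
  have e1 : A.ι U.1 U.2 ≫ QCAlg.specMap ψE = Spec.map (ψE.hom.app (op U.1)) ≫ AE.ι U.1 U.2 :=
    QCAlg.ι_specMap U.1 U.2 ψE
  have e2 : AF.glueData.cover.f U ≫ AF.π = Spec.map (AF.str.app (op U.1)) ≫ U.2.fromSpec :=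
    AF.ι_π U.1 U.2
  rw [e1]
  exact e2 ▸ h3

end

end Groth.Agent.Lib.Helper18.SymQC
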