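import Mathlib
import Groth.Prelude.Def_RelProj2
import Groth.Agent.Lib.Helper18.SymBiprod
import Groth.Agent.Lib.Helper42.RelProjLocal
import Groth.Agent.Lib.Helper69.CoprodClosed
import Groth.Agent.S8263

/-!
# `P(E) ⨿ P(F) → P(E ⊕ F)` is a closed immersion (helper18)
-/

set_option autoImplicit false
set_option linter.style.haveILetI false
universe u
open AlgebraicGeometry CategoryTheory Limits TopologicalSpace Opposite
open scoped HomogeneousIdeal

namespace Groth.Agent.Lib.Helper18.ProjBiprod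

/-- a homogeneous ideal modulo which everything is of degree zero contains the irrelevant ideal -/
theorem irrelevant_le_of_forall {A σ : Type*} [CommRing A] [SetLike σ A] [AddSubgroupClass σ A]
    (𝒜 : ℕ → σ) [GradedRing 𝒜] (I : HomogeneousIdeal 𝒜)
    (h : ∀ b : A, ∃ c ∈ 𝒜 0, ∃ t ∈ I.toIdeal, b = c + t) : 𝒜₊ ≤ I := by
  classical
  rw [HomogeneousIdeal.irrelevant_le]
  intro i hi b hb
  change b ∈ I.toIdeal
  obtain ⟨c, hc, t, ht, rfl⟩ := h b
  have h1 : (DirectSum.decompose 𝒜 (c + t) i : A) = c + t := DirectSum.decompose_of_mem_same 𝒜 hb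
  have h2 : (DirectSum.decompose 𝒜 c i : A) = 0 :=
    DirectSum.decompose_of_mem_ne 𝒜 hc (Nat.pos_iff_ne_zero.mp hi).symm
  rw [DirectSum.decompose_add, DirectSum.add_apply, AddMemClass.coe_add, h2, zero_add] at h1
  rw [← h1]
  exact I.isHomogeneous i ht

open Groth.Agent.Lib.Helper18.SymQC Groth.Agent.Lib.Helper18.SymLoc Groth.Agent.Lib.Helper18.SymProd
  Groth.Agent.Lib.Helper49 RelSpec

variable {Y : Scheme.{u}}

theorem total_apply (E F : Y.Modules) (U : Y.Opens) (p : Γ(E ⊞ F, U)) :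
    appL (biprod.inl : E ⟶ E ⊞ F) U (appL (biprod.fst : E ⊞ F ⟶ E) U p) +
      appL (biprod.inr : F ⟶ E ⊞ F) U (appL (biprod.snd : E ⊞ F ⟶ F) U p) = p := by
  have h : (appL (biprod.inl : E ⟶ E ⊞ F) U) ∘ₗ (appL (biprod.fst : E ⊞ F ⟶ E) U) +
      (appL (biprod.inr : F ⟶ E ⊞ F) U) ∘ₗ (appL (biprod.snd : E ⊞ F ⟶ F) U) = LinearMap.id := by
    rw [appL_comp, appL_comp, ← appL_add, biprod.total, appL_id]
  exact LinearMap.congr_fun h p

/-- in a graded symmetric algebra, a point of `Proj 𝒮(U)` cannot contain all of `j(E(U))` -/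
theorem not_forall_mem (E' : Y.Modules) [E'.IsQuasicoherent] (𝒮 : RelProj.QCGrAlg Y)
    (j : E' ⟶ 𝒮.toModule) (hj : RelProj.IsGrSymAlg E' 𝒮 j) (U : Y.Opens) (hU : IsAffineOpen U)
    (y : ProjectiveSpectrum (𝒮.deg U hU))
    (h : ∀ p : Γ(E', U), toSec 𝒮.toQCAlg U (j.app U p) ∈ y.asHomogeneousIdeal.toIdeal) : False := by
  refine y.not_irrelevant_le (irrelevant_le_of_forall _ _ (fun b => ?_))
  obtain ⟨s, rfl⟩ := (bijective_liftU E' 𝒮.toQCAlg j hj.1 U hU).2 b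
  induction s using SymmetricAlgebra.induction with
  | algebraMap r =>
    exact ⟨_, 𝒮.str_mem U hU r, 0, Ideal.zero_mem _, by rw [add_zero, liftU_algebraMap]⟩
  | ι p => exact ⟨0, zero_mem _, _, h p, by rw [zero_add, liftU_ι]⟩
  | mul a b ha hb =>
    obtain ⟨c, hc, t, ht, e⟩ := ha
    obtain ⟨c', hc', t', ht', e'⟩ := hb
    refine ⟨c * c', ?_, c * t' + t * c' + t * t', ?_, ?_⟩
    · have h1 := SetLike.mul_mem_graded hc hc'
      rwa [add_zero] at h1
    · exact Ideal.add_mem _ (Ideal.add_mem _ (Ideal.mul_mem_left _ _ ht')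
        (Ideal.mul_mem_right _ _ ht)) (Ideal.mul_mem_left _ _ ht')
    · rw [map_mul, e, e']
      ring
  | add a b ha hb =>
    obtain ⟨c, hc, t, ht, e⟩ := ha
    obtain ⟨c', hc', t', ht', e'⟩ := hb
    refine ⟨c + c', add_mem hc hc', t + t', Ideal.add_mem _ ht ht', ?_⟩
    rw [map_add, e, e']
    ring

/-- an algebra map of symmetric algebras covering a split epimorphism of modules is surjective
over affine opens -/
theorem surjective_of_retract {E E' : Y.Modules} [E.IsQuasicoherent] [E'.IsQuasicoherent]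
    (v : E' ⟶ E) (w : E ⟶ E') (hwv : w ≫ v = 𝟙 E) {A A' : QCAlg Y} (j : E ⟶ A.toModule)
    (j' : E' ⟶ A'.toModule) (hA : IsSymAlg E A j) (ψ : A' ⟶ A)
    (hψ : j' ≫ QCAlg.Hom.toModuleMap ψ = v ≫ j) (U : Y.Opens) (hU : IsAffineOpen U) :
    Function.Surjective (ψ.hom.app (op U)).hom := by
  have h1 := liftU_symLin v j' j ψ hψ U
  have h2 : (symLin (appL v U)).comp (symLin (appL w U)) = RingHom.id _ := by
    refine ringHom_ext _ _ (fun r => ?_) (fun m => ?_)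
    · rw [RingHom.comp_apply, symLin_algebraMap, symLin_algebraMap, RingHom.id_apply]
    · rw [RingHom.comp_apply, symLin_ι, symLin_ι, RingHom.id_apply]
      have h3 : appL v U (appL w U m) = m := by
        have h4 : (appL v U) ∘ₗ (appL w U) = LinearMap.id := by
          rw [appL_comp, hwv, appL_id]
        exact LinearMap.congr_fun h4 m
      rw [h3]
  intro x
  obtain ⟨s, rfl⟩ := (bijective_liftU E A j hA U hU).2 x
  refine ⟨liftU E' A' j' U (symLin (appL w U) s), ?_⟩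
  have h5 := congrArg (fun k => k (symLin (appL w U) s)) h1
  have h6 := congrArg (fun k => k s) h2
  simp only [RingHom.comp_apply, RingHom.id_apply] at h5 h6
  rw [← h5, h6]

section main

variable {PE PF P : Scheme.{u}} (E F : Y.Modules) [E.IsQuasicoherent] [F.IsQuasicoherent]
    (𝒮E 𝒮F 𝒮 : RelProj.QCGrAlg Y)
    (jE : E ⟶ 𝒮E.toModule) (hjE : RelProj.IsGrSymAlg E 𝒮E jE)
    (jF : F ⟶ 𝒮F.toModule) (hjF : RelProj.IsGrSymAlg F 𝒮F jF)
    (j : E ⊞ F ⟶ 𝒮.toModule) (hj : RelProj.IsGrSymAlg (E ⊞ F) 𝒮 j)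
    (πE : 𝒮.toQCAlg ⟶ 𝒮E.toQCAlg) (hπE : RelProj.IsGradedHom πE)
    (hjπE : j ≫ RelSpec.QCAlg.Hom.toModuleMap πE = biprod.fst ≫ jE)
    (πF : 𝒮.toQCAlg ⟶ 𝒮F.toQCAlg) (hπF : RelProj.IsGradedHom πF)
    (hjπF : j ≫ RelSpec.QCAlg.Hom.toModuleMap πF = biprod.snd ≫ jF)
    (hirrE : ∀ (U : Y.Opens) (hU : IsAffineOpen U),
      (𝒮E.deg U hU)₊ ≤ ((𝒮.deg U hU)₊).map (RelProj.gradedHomAt πE hπE U hU))
    (hirrF : ∀ (U : Y.Opens) (hU : IsAffineOpen U),
      (𝒮F.deg U hU)₊ ≤ ((𝒮.deg U hU)₊).map (RelProj.gradedHomAt πF hπF U hU))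
    (p : P ⟶ Y) (pE : PE ⟶ Y) (pF : PF ⟶ Y)
    (chart : ∀ (U : Y.Opens) (hU : IsAffineOpen U),
      ((p ⁻¹ᵁ U : P.Opens) : Scheme.{u}) ≅ Proj (𝒮.deg U hU))
    (chartE : ∀ (U : Y.Opens) (hU : IsAffineOpen U),
      ((pE ⁻¹ᵁ U : PE.Opens) : Scheme.{u}) ≅ Proj (𝒮E.deg U hU))
    (chartF : ∀ (U : Y.Opens) (hU : IsAffineOpen U),
      ((pF ⁻¹ᵁ U : PF.Opens) : Scheme.{u}) ≅ Proj (𝒮F.deg U hU))
    (hP : RelProj.IsRelProj 𝒮 p chart) (hPE : RelProj.IsRelProj 𝒮E pE chartE)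
    (hPF : RelProj.IsRelProj 𝒮F pF chartF)
    (hE' : PE ⟶ P) (hhE : RelProj.IsRelProjMap πE hπE hirrE chart chartE hE')
    (hF' : PF ⟶ P) (hhF : RelProj.IsRelProjMap πF hπF hirrF chart chartF hF')

include hj hjπE hjπF hP hPE hPF hhE hhF in
theorem disjoint_range : Disjoint (Set.range hE') (Set.range hF') := by
  haveI : (E ⊞ F).IsQuasicoherent := isQuasicoherent_biprod E F
  rw [Set.disjoint_left]
  rintro x ⟨a, rfl⟩ ⟨b, hb⟩
  obtain ⟨_, ⟨U, hU, rfl⟩, hxU, -⟩ :=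
    Y.isBasis_affineOpens.exists_subset_of_mem_open (Set.mem_univ (p (hE' a))) isOpen_univ
  have hcE : hE' ≫ p = pE :=
    Groth.Agent.Lib.Helper42.isRelProjMap_comp_base πE hπE hirrE hP hPE hE' hhE
  have hcF : hF' ≫ p = pF :=
    Groth.Agent.Lib.Helper42.isRelProjMap_comp_base πF hπF hirrF hP hPF hF' hhF
  have haU : a ∈ pE ⁻¹ᵁ U := by
    change pE a ∈ U
    rw [← hcE]
    exact hxU
  have hbU : b ∈ pF ⁻¹ᵁ U := by
    change pF b ∈ U
    rw [← hcF]
    change p (hF' b) ∈ U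
    rw [hb]
    exact hxU
  let a' : (pE ⁻¹ᵁ U : PE.Opens) := ⟨a, haU⟩
  let b' : (pF ⁻¹ᵁ U : PF.Opens) := ⟨b, hbU⟩
  let yE := (Proj.map (RelProj.gradedHomAt πE hπE U hU) (hirrE U hU)) ((chartE U hU).hom a')
  let yF := (Proj.map (RelProj.gradedHomAt πF hπF U hU) (hirrF U hU)) ((chartF U hU).hom b')
  have hE1 : hE' a = (p ⁻¹ᵁ U).ι ((chart U hU).inv yE) :=
    congrArg (fun k : ((pE ⁻¹ᵁ U : PE.Opens) : Scheme.{u}) ⟶ P => k a') (hhE U hU)
  have hF1 : hF' b = (p ⁻¹ᵁ U).ι ((chart U hU).inv yF) :=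
    congrArg (fun k : ((pF ⁻¹ᵁ U : PF.Opens) : Scheme.{u}) ⟶ P => k b') (hhF U hU)
  have h1 : (chart U hU).inv yE = (chart U hU).inv yF := by
    apply (p ⁻¹ᵁ U).ι.injective
    rw [← hE1, ← hF1, hb]
  have hy : yE = yF := by
    have h2 := congrArg (fun z => (chart U hU).hom z) h1
    have h3 : ∀ z, (chart U hU).hom ((chart U hU).inv z) = z := fun z =>
      congrArg (fun k : Proj (𝒮.deg U hU) ⟶ Proj (𝒮.deg U hU) => k z) (chart U hU).inv_hom_id
    simpa only [h3] using h2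
  refine not_forall_mem (E ⊞ F) 𝒮 j hj U hU yE (fun q => ?_)
  rw [← total_apply E F U q, map_add]
  refine Ideal.add_mem _ ?_ ?_
  · rw [hy]
    change (πF.hom.app (op U)).hom (toSec 𝒮.toQCAlg U (j.app U
      (appL (biprod.inl : E ⟶ E ⊞ F) U (appL (biprod.fst : E ⊞ F ⟶ E) U q)))) ∈
      ((chartF U hU).hom b').asHomogeneousIdeal.toIdeal
    have h3 : (πF.hom.app (op U)).hom (toSec 𝒮.toQCAlg U (j.app U
        (appL (biprod.inl : E ⟶ E ⊞ F) U (appL (biprod.fst : E ⊞ F ⟶ E) U q)))) = 0 := by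
      have h4 := congrArg (fun k : E ⊞ F ⟶ 𝒮F.toModule => toSec 𝒮F.toQCAlg U (k.app U
        (appL (biprod.inl : E ⟶ E ⊞ F) U (appL (biprod.fst : E ⊞ F ⟶ E) U q)))) hjπF
      refine h4.trans ?_
      change toSec 𝒮F.toQCAlg U (jF.app U ((biprod.inl ≫ biprod.snd : E ⟶ F).app U _)) = 0
      rw [biprod.inl_snd]
      exact map_zero _
    rw [h3]
    exact Ideal.zero_mem _
  · change (πE.hom.app (op U)).hom (toSec 𝒮.toQCAlg U (j.app U
      (appL (biprod.inr : F ⟶ E ⊞ F) U (appL (biprod.snd : E ⊞ F ⟶ F) U q)))) ∈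
      ((chartE U hU).hom a').asHomogeneousIdeal.toIdeal
    have h3 : (πE.hom.app (op U)).hom (toSec 𝒮.toQCAlg U (j.app U
        (appL (biprod.inr : F ⟶ E ⊞ F) U (appL (biprod.snd : E ⊞ F ⟶ F) U q)))) = 0 := by
      have h4 := congrArg (fun k : E ⊞ F ⟶ 𝒮E.toModule => toSec 𝒮E.toQCAlg U (k.app U
        (appL (biprod.inr : F ⟶ E ⊞ F) U (appL (biprod.snd : E ⊞ F ⟶ F) U q)))) hjπE
      refine h4.trans ?_
      change toSec 𝒮E.toQCAlg U (jE.app U ((biprod.inr ≫ biprod.fst : F ⟶ E).app U _)) = 0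
      rw [biprod.inr_fst]
      exact map_zero _
    rw [h3]
    exact Ideal.zero_mem _

include hjE hjF hj hjπE hjπF hP hPE hPF hhE hhF in
/-- **`P(E) ⨿ P(F) → P(E ⊕ F)` is a closed immersion.** -/
theorem isClosedImmersion_coprod : IsClosedImmersion (coprod.desc hE' hF') := by
  haveI : (E ⊞ F).IsQuasicoherent := isQuasicoherent_biprod E F
  have h1 : IsClosedImmersion hE' :=
    Groth.Agent.S8263.result πE hπE
      (fun U hU => surjective_of_retract (biprod.fst : E ⊞ F ⟶ E) biprod.inl biprod.inl_fst jE j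
        hjE.1 πE hjπE U hU) hirrE p pE chart chartE hP hPE hE' hhE
  have h2 : IsClosedImmersion hF' :=
    Groth.Agent.S8263.result πF hπF
      (fun U hU => surjective_of_retract (biprod.snd : E ⊞ F ⟶ F) biprod.inr biprod.inr_snd jF j
        hjF.1 πF hjπF U hU) hirrF p pF chart chartF hP hPF hF' hhF
  exact Groth.Agent.Lib.Helper69.CoprodClosed.isClosedImmersion_coprodDesc hE' hF'
    (disjoint_range E F 𝒮E 𝒮F 𝒮 jE jF j hj πE hπE hjπE πF hπF hjπF hirrE hirrF p pE pF chart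
      chartE chartF hP hPE hPF hE' hhE hF' hhF)

end main

end Groth.Agent.Lib.Helper18.ProjBiprod
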