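import Mathlib
import Groth.Prelude.Def_RelSpec
import Groth.Agent.Lib.Helper18.SymQC4

/-!
# Pushouts of quasi-coherent algebras can be checked on affine opens (helper18)
-/

set_option autoImplicit false
set_option linter.style.haveILetI false
universe u
open AlgebraicGeometry CategoryTheory Limits TopologicalSpace Opposite

namespace Groth.Agent.Lib.Helper18.QCAlgPushout

open RelSpec Groth.Agent.Lib.Helper18.SymQC

variable {S : Scheme.{u}}

section homOfAffine

variable (P : TopCat.Presheaf CommRingCat.{u} S) (B : QCAlg S)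
  (d : ∀ (U : S.Opens) (_ : IsAffineOpen U), P.obj (op U) ⟶ B.presheaf.obj (op U))
  (hd : ∀ {U V : S.Opens} (hU : IsAffineOpen U) (hV : IsAffineOpen V) (h : V ≤ U),
    P.map (homOfLE h).op ≫ d V hV = d U hU ≫ B.presheaf.map (homOfLE h).op)

/-- the family on the affine site -/
noncomputable def restrictHom :
    (Scheme.AffineZariskiSite.toOpensFunctor S).op ⋙ P ⟶
      (Scheme.AffineZariskiSite.toOpensFunctor S).op ⋙ B.presheaf where
  app U := d U.unop.1 U.unop.2
  naturality U V i :=
    hd U.unop.2 V.unop.2 (Scheme.AffineZariskiSite.toOpens_mono i.unop.le)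

/-- a map of presheaves of rings into a quasi-coherent algebra from compatible maps over affine
opens -/
noncomputable def homOfAffine : P ⟶ B.presheaf :=
  Functor.IsCoverDense.restrictHomEquivHom (G := Scheme.AffineZariskiSite.toOpensFunctor S)
    (K := Opens.grothendieckTopology S) (ℱ := P)
    (ℱ' := (⟨B.presheaf, B.isSheaf⟩ : TopCat.Sheaf CommRingCat.{u} S.carrier))
    (restrictHom P B d hd)

theorem homOfAffine_restrict :
    (Scheme.AffineZariskiSite.toOpensFunctor S).op.whiskerLeft (homOfAffine P B d hd) =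
      restrictHom P B d hd :=
  (Functor.IsCoverDense.restrictHomEquivHom (G := Scheme.AffineZariskiSite.toOpensFunctor S)
    (K := Opens.grothendieckTopology S) (ℱ := P)
    (ℱ' := (⟨B.presheaf, B.isSheaf⟩ : TopCat.Sheaf CommRingCat.{u} S.carrier))).symm_apply_apply _

theorem homOfAffine_app (U : S.Opens) (hU : IsAffineOpen U) :
    (homOfAffine P B d hd).app (op U) = d U hU :=
  NatTrans.congr_app (homOfAffine_restrict P B d hd) (op ⟨U, hU⟩)

end homOfAffine

/-- **A square of quasi-coherent algebras which is a pushout of rings over every affine open is a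
pushout of quasi-coherent algebras.** -/
theorem isPushout_of_affine {A₀ A₁ A₂ A₃ : QCAlg S} (f₁ : A₀ ⟶ A₁) (f₂ : A₀ ⟶ A₂) (g₁ : A₁ ⟶ A₃)
    (g₂ : A₂ ⟶ A₃)
    (h : ∀ (U : S.Opens) (_ : IsAffineOpen U), IsPushout (f₁.hom.app (op U)) (f₂.hom.app (op U))
      (g₁.hom.app (op U)) (g₂.hom.app (op U))) :
    IsPushout f₁ f₂ g₁ g₂ := by
  have w : f₁ ≫ g₁ = f₂ ≫ g₂ := by
    apply QCAlg.hom_ext
    refine hom_ext_affine A₃ _ _ (fun U hU => ?_)
    exact (h U hU).w
  refine ⟨⟨w⟩, ⟨PushoutCocone.IsColimit.mk w (fun s => ?_) (fun s => ?_) (fun s => ?_)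
    (fun s m hm₁ hm₂ => ?_)⟩⟩
  · -- the lift
    have hcond : ∀ (U : S.Opens), f₁.hom.app (op U) ≫ s.inl.hom.app (op U) =
        f₂.hom.app (op U) ≫ s.inr.hom.app (op U) := fun U =>
      congrArg (fun k : A₀ ⟶ s.pt => k.hom.app (op U)) s.condition
    refine ⟨homOfAffine A₃.presheaf s.pt
      (fun U hU => (h U hU).desc (s.inl.hom.app (op U)) (s.inr.hom.app (op U)) (hcond U)) ?_, ?_⟩
    · intro U V hU hV hle
      apply (h U hU).hom_ext
      · rw [← Category.assoc, ← g₁.hom.naturality, Category.assoc, (h V hV).inl_desc,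
          (h U hU).inl_desc_assoc, s.inl.hom.naturality]
      · rw [← Category.assoc, ← g₂.hom.naturality, Category.assoc, (h V hV).inr_desc,
          (h U hU).inr_desc_assoc, s.inr.hom.naturality]
    · refine hom_ext_affine s.pt _ _ (fun U hU => ?_)
      rw [NatTrans.comp_app, homOfAffine_app _ _ _ _ U hU]
      have h1 : A₃.str.app (op U) = A₁.str.app (op U) ≫ g₁.hom.app (op U) :=
        (NatTrans.congr_app g₁.comm (op U)).symm
      rw [h1, Category.assoc, (h U hU).inl_desc]
      exact NatTrans.congr_app s.inl.comm (op U)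
  · apply QCAlg.hom_ext
    refine hom_ext_affine s.pt _ _ (fun U hU => ?_)
    change g₁.hom.app (op U) ≫ (homOfAffine _ _ _ _).app (op U) = _
    rw [homOfAffine_app _ _ _ _ U hU, (h U hU).inl_desc]
  · apply QCAlg.hom_ext
    refine hom_ext_affine s.pt _ _ (fun U hU => ?_)
    change g₂.hom.app (op U) ≫ (homOfAffine _ _ _ _).app (op U) = _
    rw [homOfAffine_app _ _ _ _ U hU, (h U hU).inr_desc]
  · apply QCAlg.hom_ext
    refine hom_ext_affine s.pt _ _ (fun U hU => ?_)
    change m.hom.app (op U) = (homOfAffine _ _ _ _).app (op U)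
    rw [homOfAffine_app _ _ _ _ U hU]
    apply (h U hU).hom_ext
    · rw [(h U hU).inl_desc]
      exact congrArg (fun k : A₁ ⟶ s.pt => k.hom.app (op U)) hm₁
    · rw [(h U hU).inr_desc]
      exact congrArg (fun k : A₂ ⟶ s.pt => k.hom.app (op U)) hm₂

end Groth.Agent.Lib.Helper18.QCAlgPushout
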