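import Groth.Agent.Lib.Helper18.QCAlgGen
import Groth.Agent.Lib.Helper18.LocNoethCover

/-!
# The quasi-coherent subalgebra generated by a quasi-coherent submodule

Shared library of helper18 (namespace `Groth.Agent.Lib.Helper18.LSubM`).
`SubringFamily`: families of subrings of a presheaf of rings (presheaf, inclusion, sheaf condition);
`subAlg B E`: sections of the quasi-coherent algebra `B` which locally are polynomials in sections
of `E ⊆ B`; `subQCAlg B E hE : QCAlg X` with `subQCAlgHom`; `exists_subQCAlg_of_isQFT`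
(EGA I 9.6.6: quasi-coherent subalgebras of finite type through given sections).
-/

set_option autoImplicit false
universe u v
open CategoryTheory CategoryTheory.Limits AlgebraicGeometry TopologicalSpace Opposite
open Groth.Agent.Lib.Helper49 Groth.Agent.Lib.Helper45 RelSpec

namespace Groth.Agent.Lib.Helper18.LSubM

section


variable {X : TopCat.{u}} (P : TopCat.Presheaf CommRingCat.{u} X)

/-- A family of subrings of the sections of a presheaf of rings, stable under restriction. -/
structure SubringFamily where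
  obj : ∀ T : Opens X, Subring (P.obj (op T))
  res_mem : ∀ {U V : Opens X} (h : V ≤ U) {c : P.obj (op U)}, c ∈ obj U →
    (P.map (homOfLE h).op).hom c ∈ obj V

namespace SubringFamily

variable {P} (S : SubringFamily P)

/-- The presheaf of rings of a family of subrings. -/
noncomputable def presheaf : TopCat.Presheaf CommRingCat.{u} X where
  obj T := CommRingCat.of ↥(S.obj T.unop)
  map {U V} f := CommRingCat.ofHom
    ((P.map f).hom.restrict (S.obj U.unop) (S.obj V.unop) fun c hc => S.res_mem (leOfHom f.unop) hc)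
  map_id U := by
    ext c
    change (P.map (𝟙 U)).hom c.1 = c.1
    rw [P.map_id]
    rfl
  map_comp {U V W} f g := by
    ext c
    change (P.map (f ≫ g)).hom c.1 = (P.map g).hom ((P.map f).hom c.1)
    rw [P.map_comp]
    rfl

/-- The inclusion into the ambient presheaf. -/
noncomputable def incl : S.presheaf ⟶ P where
  app T := CommRingCat.ofHom (S.obj T.unop).subtype
  naturality {U V} f := by
    ext c
    rfl

theorem incl_app_apply (T : Opens X) (c : S.presheaf.obj (op T)) :
    (S.incl.app (op T)).hom c = (show ↥(S.obj T) from c).1 := rfl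

theorem incl_app_injective (T : Opens X) : Function.Injective (S.incl.app (op T)).hom :=
  fun _ _ h => Subtype.ext h

/-- A local family of subrings of a sheaf of rings is a sheaf. -/
theorem isSheaf (hP : P.IsSheaf)
    (hloc : ∀ (U : Opens X) (c : P.obj (op U)),
      (∀ x ∈ U, ∃ (V : Opens X) (h : V ≤ U), x ∈ V ∧ (P.map (homOfLE h).op).hom c ∈ S.obj V) →
      c ∈ S.obj U) : S.presheaf.IsSheaf := by
  rw [TopCat.Presheaf.isSheaf_iff_isSheafUniqueGluing]
  intro ι U sf hsf
  let sf' : ∀ i, P.obj (op (U i)) := fun i => (show ↥(S.obj (U i)) from sf i).1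
  have hsf'mem : ∀ i, sf' i ∈ S.obj (U i) := fun i => (show ↥(S.obj (U i)) from sf i).2
  have hcompat : TopCat.Presheaf.IsCompatible P U sf' := by
    intro i j
    exact congrArg Subtype.val (hsf i j)
  obtain ⟨s, hs, hsu⟩ := TopCat.Sheaf.existsUnique_gluing ⟨P, hP⟩ U sf' hcompat
  have hsmem : s ∈ S.obj (iSup U) := by
    apply hloc
    intro x hx
    obtain ⟨i, hi⟩ := Opens.mem_iSup.mp hx
    refine ⟨U i, le_iSup U i, hi, ?_⟩
    have : (P.map (homOfLE (le_iSup U i)).op).hom s = sf' i := hs i
    rw [this]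
    exact hsf'mem i
  refine ⟨(show ↥(S.obj (iSup U)) from ⟨s, hsmem⟩), ?_, ?_⟩
  · intro i
    apply Subtype.ext
    exact hs i
  · intro s' hs'
    apply Subtype.ext
    apply hsu
    intro i
    exact congrArg Subtype.val (hs' i)

end SubringFamily


end


section


variable {X : Scheme.{u}} (B : QCAlg X) (E : LSub B.toModule)

/-- Membership in the generated subring is local on an affine open where `E` is good. -/
theorem mem_gen_of_locally_mem {U : X.Opens} (hU : IsAffineOpen U) (hE : E.Good U)
    (b : B.presheaf.obj (op U))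
    (H : ∀ x ∈ U, ∃ (D : X.Opens) (h : D ≤ U), x ∈ D ∧ bres B h b ∈ gen B E D) :
    b ∈ gen B E U := by
  have H' : ∀ x : U, ∃ g : Γ(X, U), x.1 ∈ X.basicOpen g ∧
      ∃ n : ℕ, g ^ n • toM B b ∈ genSub B E U := by
    intro x
    obtain ⟨D, hD, hxD, hmem⟩ := H x.1 x.2
    obtain ⟨g, hgD, hxg⟩ := hU.exists_basicOpen_le (V := D) ⟨x.1, hxD⟩ x.2
    refine ⟨g, hxg, ?_⟩
    have hmem' : bres B (X.basicOpen_le g) b ∈ gen B E (X.basicOpen g) := by
      have := bres_mem_gen B E hgD hmem
      rwa [bres_bres] at this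
    obtain ⟨n, a, ha, hna⟩ := exists_pow_mul_eq_bres_of_mem_gen B E hU hE g _ hmem'
    have h0 : mres B.toModule (X.basicOpen_le g) (g ^ n • toM B b - toM B a) = 0 := by
      rw [map_sub, mres_smul, sub_eq_zero, map_pow]
      change toM B (bstr B _ (fres (X.basicOpen_le g) g ^ n) * bres B (X.basicOpen_le g) b) =
        toM B (bres B (X.basicOpen_le g) a)
      rw [map_pow, hna]
    obtain ⟨m, hm⟩ := (isLocalizingOn_toModule B hU).exists_pow_smul_eq_zero g _ h0
    refine ⟨m + n, ?_⟩
    rw [smul_sub, sub_eq_zero, smul_smul, ← pow_add] at hm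
    rw [hm]
    exact Submodule.smul_mem _ _ ((mem_genSub B E).mpr ha)
  choose g hxg n hn using H'
  have hcov' : U ≤ ⨆ a : Set.range g, X.basicOpen a.1 := by
    intro x hx
    exact Opens.mem_iSup.mpr ⟨⟨g ⟨x, hx⟩, ⟨x, hx⟩, rfl⟩, hxg ⟨x, hx⟩⟩
  have hspan : Ideal.span (Set.range g) = ⊤ := hU.self_le_iSup_basicOpen_iff.mp hcov'
  have : toM B b ∈ genSub B E U := by
    apply Submodule.mem_of_span_eq_top_of_smul_pow_mem _ (Set.range g) hspan
    rintro ⟨_, x, rfl⟩
    exact ⟨n x, hn x⟩
  exact this

/-- The subalgebra sheaf generated by `E`: sections which locally lie in the subring generated by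
the functions and the sections of `E`. -/
noncomputable def subAlg : SubringFamily B.presheaf where
  obj T :=
    { carrier := {c | ∀ x ∈ T, ∃ (D : X.Opens) (h : D ≤ T), x ∈ D ∧ bres B h c ∈ gen B E D}
      mul_mem' := by
        intro a b ha hb x hx
        obtain ⟨D₁, h₁, hx₁, hm₁⟩ := ha x hx
        obtain ⟨D₂, h₂, hx₂, hm₂⟩ := hb x hx
        refine ⟨D₁ ⊓ D₂, inf_le_left.trans h₁, ⟨hx₁, hx₂⟩, ?_⟩
        rw [map_mul]
        refine Subring.mul_mem _ ?_ ?_
        · have := bres_mem_gen B E (inf_le_left : D₁ ⊓ D₂ ≤ D₁) hm₁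
          rwa [bres_bres] at this
        · have := bres_mem_gen B E (inf_le_right : D₁ ⊓ D₂ ≤ D₂) hm₂
          rwa [bres_bres] at this
      one_mem' := fun x hx => ⟨T, le_rfl, hx, by rw [map_one]; exact Subring.one_mem _⟩
      add_mem' := by
        intro a b ha hb x hx
        obtain ⟨D₁, h₁, hx₁, hm₁⟩ := ha x hx
        obtain ⟨D₂, h₂, hx₂, hm₂⟩ := hb x hx
        refine ⟨D₁ ⊓ D₂, inf_le_left.trans h₁, ⟨hx₁, hx₂⟩, ?_⟩
        rw [map_add]
        refine Subring.add_mem _ ?_ ?_
        · have := bres_mem_gen B E (inf_le_left : D₁ ⊓ D₂ ≤ D₁) hm₁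
          rwa [bres_bres] at this
        · have := bres_mem_gen B E (inf_le_right : D₁ ⊓ D₂ ≤ D₂) hm₂
          rwa [bres_bres] at this
      zero_mem' := fun x hx => ⟨T, le_rfl, hx, by rw [map_zero]; exact Subring.zero_mem _⟩
      neg_mem' := by
        intro a ha x hx
        obtain ⟨D, h, hxD, hm⟩ := ha x hx
        exact ⟨D, h, hxD, by rw [map_neg]; exact Subring.neg_mem _ hm⟩ }
  res_mem := by
    intro U V h c hc x hx
    obtain ⟨D, hD, hxD, hm⟩ := hc x (h hx)
    refine ⟨D ⊓ V, inf_le_right, ⟨hxD, hx⟩, ?_⟩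
    have := bres_mem_gen B E (inf_le_left : D ⊓ V ≤ D) hm
    rw [bres_bres] at this
    change bres B _ (bres B h c) ∈ _
    rw [bres_bres]
    exact this

theorem mem_subAlg_obj {T : X.Opens} {c : B.presheaf.obj (op T)} :
    c ∈ (subAlg B E).obj T ↔
      ∀ x ∈ T, ∃ (D : X.Opens) (h : D ≤ T), x ∈ D ∧ bres B h c ∈ gen B E D := Iff.rfl

theorem gen_le_subAlg_obj (T : X.Opens) : gen B E T ≤ (subAlg B E).obj T := by
  intro c hc x hx
  refine ⟨T, le_rfl, hx, ?_⟩
  have : bres B (le_refl T) c = c := by
    unfold bres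
    have : (homOfLE (le_refl T)).op = 𝟙 (op T) := rfl
    rw [this, B.presheaf.map_id]
    rfl
  rw [this]
  exact hc

theorem subAlg_obj_affine {U : X.Opens} (hU : IsAffineOpen U) (hE : E.Good U) :
    (subAlg B E).obj U = gen B E U :=
  le_antisymm (fun c hc => mem_gen_of_locally_mem B E hU hE c hc) (gen_le_subAlg_obj B E U)

theorem subAlg_isLocal (U : X.Opens) (c : B.presheaf.obj (op U))
    (H : ∀ x ∈ U, ∃ (V : X.Opens) (h : V ≤ U), x ∈ V ∧
      (B.presheaf.map (homOfLE h).op).hom c ∈ (subAlg B E).obj V) :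
    c ∈ (subAlg B E).obj U := by
  intro x hx
  obtain ⟨V, hV, hxV, hm⟩ := H x hx
  obtain ⟨D, hD, hxD, hm'⟩ := hm x hxV
  refine ⟨D, hD.trans hV, hxD, ?_⟩
  change bres B hD (bres B hV c) ∈ _ at hm'
  rw [bres_bres] at hm'
  exact hm'


end


section


variable {X : Scheme.{u}} (B : QCAlg X) (E : LSub B.toModule)

theorem bstr_mem_subAlg (T : X.Opens) (r : Γ(X, T)) : bstr B T r ∈ (subAlg B E).obj T :=
  gen_le_subAlg_obj B E T (bstr_mem_gen B E T r)

/-- The structure map of the subalgebra sheaf. -/
noncomputable def subStr : X.presheaf ⟶ (subAlg B E).presheaf where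
  app T := CommRingCat.ofHom
    ((bstr B T.unop).codRestrict ((subAlg B E).obj T.unop) (bstr_mem_subAlg B E T.unop))
  naturality {U V} f := by
    ext r
    apply Subtype.ext
    exact congrArg (fun ψ => ψ.hom r) (B.str.naturality f)

theorem subStr_incl : subStr B E ≫ (subAlg B E).incl = B.str := by
  ext T r
  rfl

/-- The inclusion on sections, as a ring map. -/
noncomputable def sval (T : X.Opens) :
    (subAlg B E).presheaf.obj (op T) →+* B.presheaf.obj (op T) :=
  ((subAlg B E).incl.app (op T)).hom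

theorem sval_injective (T : X.Opens) : Function.Injective (sval B E T) :=
  (subAlg B E).incl_app_injective T

theorem sval_mem (T : X.Opens) (c : (subAlg B E).presheaf.obj (op T)) :
    sval B E T c ∈ (subAlg B E).obj T :=
  (show ↥((subAlg B E).obj T) from c).2

/-- Sections of the subalgebra sheaf from elements of the family. -/
noncomputable def smk (T : X.Opens) (a : B.presheaf.obj (op T)) (ha : a ∈ (subAlg B E).obj T) :
    (subAlg B E).presheaf.obj (op T) :=
  (show ↥((subAlg B E).obj T) from ⟨a, ha⟩)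

@[simp] theorem sval_smk (T : X.Opens) (a : B.presheaf.obj (op T)) (ha : a ∈ (subAlg B E).obj T) :
    sval B E T (smk B E T a ha) = a := rfl

theorem sval_map {U V : X.Opens} (h : V ≤ U) (c : (subAlg B E).presheaf.obj (op U)) :
    sval B E V (((subAlg B E).presheaf.map (homOfLE h).op).hom c) = bres B h (sval B E U c) := rfl

theorem sval_subStr (T : X.Opens) (r : Γ(X, T)) :
    sval B E T (((subStr B E).app (op T)).hom r) = bstr B T r := rfl

theorem subAlg_isQC (hE : ∀ T : X.Opens, IsAffineOpen T → E.Good T) :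
    IsQC (subAlg B E).presheaf (subStr B E) := by
  intro U hU r
  let _ := ((subAlg B E).presheaf.map (homOfLE (X.basicOpen_le r)).op).hom.toAlgebra
  have halg : ∀ c : (subAlg B E).presheaf.obj (op U),
      algebraMap ((subAlg B E).presheaf.obj (op U)) ((subAlg B E).presheaf.obj (op (X.basicOpen r))) c =
      ((subAlg B E).presheaf.map (homOfLE (X.basicOpen_le r)).op).hom c := fun c => rfl
  have hD : IsAffineOpen (X.basicOpen r) := hU.basicOpen r
  rw [IsLocalization.Away, isLocalization_iff]
  refine ⟨?_, ?_, ?_⟩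
  · rintro ⟨_, n, rfl⟩
    rw [map_pow]
    refine IsUnit.pow _ ?_
    obtain ⟨u, hu⟩ := isUnit_fres_basicOpen r
    refine IsUnit.of_mul_eq_one (((subStr B E).app (op (X.basicOpen r))).hom (↑u⁻¹ : Γ(X, X.basicOpen r))) ?_
    rw [halg]
    apply sval_injective
    rw [map_mul, sval_map, sval_subStr, sval_subStr, bres_bstr, ← map_mul, ← hu, Units.mul_inv,
      map_one, map_one]
  · intro z
    have hz : sval B E _ z ∈ gen B E (X.basicOpen r) := by
      rw [← subAlg_obj_affine B E hD (hE _ hD)]
      exact sval_mem B E _ z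
    obtain ⟨n, a, ha, hna⟩ := exists_pow_mul_eq_bres_of_mem_gen B E hU (hE U hU) r _ hz
    refine ⟨⟨smk B E U a (gen_le_subAlg_obj B E U ha),
      ⟨((subStr B E).app (op U)).hom r ^ n, n, rfl⟩⟩, ?_⟩
    rw [halg, halg]
    apply sval_injective
    rw [map_mul, sval_map, sval_map, sval_smk, map_pow, map_pow, sval_subStr, bres_bstr, mul_comm,
      hna]
  · intro a b hab
    rw [halg, halg] at hab
    have hab' : bres B (X.basicOpen_le r) (sval B E U a) = bres B (X.basicOpen_le r) (sval B E U b) := by
      rw [← sval_map, ← sval_map, hab]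
    have h0 : mres B.toModule (X.basicOpen_le r) (toM B (sval B E U a - sval B E U b)) = 0 := by
      rw [← toM_bres, map_sub, hab', sub_self]
      rfl
    obtain ⟨n, hn⟩ := (isLocalizingOn_toModule B hU).exists_pow_smul_eq_zero r _ h0
    refine ⟨⟨((subStr B E).app (op U)).hom r ^ n, n, rfl⟩, ?_⟩
    apply sval_injective
    rw [map_mul, map_mul, map_pow, sval_subStr]
    have hn' : bstr B U (r ^ n) * (sval B E U a - sval B E U b) = 0 := hn
    rw [map_pow, mul_sub, sub_eq_zero] at hn'
    exact hn'

/-- The quasi-coherent subalgebra generated by a good family `E`. -/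
noncomputable def subQCAlg (hE : ∀ T : X.Opens, IsAffineOpen T → E.Good T) : QCAlg X where
  presheaf := (subAlg B E).presheaf
  isSheaf := (subAlg B E).isSheaf B.isSheaf (subAlg_isLocal B E)
  str := subStr B E
  isQC := subAlg_isQC B E hE

/-- The inclusion of the generated subalgebra. -/
noncomputable def subQCAlgHom (hE : ∀ T : X.Opens, IsAffineOpen T → E.Good T) :
    subQCAlg B E hE ⟶ B :=
  ⟨(subAlg B E).incl, subStr_incl B E⟩


end


section


variable {X : Scheme.{u}} (B : QCAlg X) (E : LSub B.toModule)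

theorem mem_subAlg_of_mem {T : X.Opens} {c : B.presheaf.obj (op T)} (hc : toM B c ∈ E.obj T) :
    c ∈ (subAlg B E).obj T :=
  gen_le_subAlg_obj B E T (mem_gen_of_mem B E hc)

/-- Over an affine open where `E` is good and finitely generated, the generated subalgebra is of
finite type over the functions. -/
theorem subStr_finiteType {V : X.Opens} (hV : IsAffineOpen V) (hgood : E.Good V)
    (hfg : (E.obj V).FG) : ((subStr B E).app (op V)).hom.FiniteType := by
  classical
  let _ : Algebra Γ(X, V) ((subAlg B E).presheaf.obj (op V)) :=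
    ((subStr B E).app (op V)).hom.toAlgebra
  have halg : ∀ r : Γ(X, V), algebraMap Γ(X, V) ((subAlg B E).presheaf.obj (op V)) r =
      ((subStr B E).app (op V)).hom r := fun r => rfl
  obtain ⟨S₀, hS₀⟩ := hfg
  have hS₀mem : ∀ s ∈ S₀, (show B.presheaf.obj (op V) from s) ∈ (subAlg B E).obj V := by
    intro s hs
    apply mem_subAlg_of_mem
    change s ∈ E.obj V
    rw [← hS₀]
    exact Submodule.subset_span hs
  let S' : Finset ((subAlg B E).presheaf.obj (op V)) :=
    S₀.attach.image fun s => smk B E V (show B.presheaf.obj (op V) from s.1) (hS₀mem s.1 s.2)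
  change Algebra.FiniteType Γ(X, V) ((subAlg B E).presheaf.obj (op V))
  refine ⟨⟨S', ?_⟩⟩
  rw [eq_top_iff]
  intro c _
  -- the image of the adjoined subalgebra in `B(V)`
  let Q : Subring (B.presheaf.obj (op V)) :=
    (Algebra.adjoin Γ(X, V) (S' : Set ((subAlg B E).presheaf.obj (op V)))).toSubring.map (sval B E V)
  have hbstr : ∀ r : Γ(X, V), bstr B V r ∈ Q := by
    intro r
    refine ⟨((subStr B E).app (op V)).hom r, ?_, rfl⟩
    rw [← halg]
    exact Subalgebra.algebraMap_mem _ r
  have hEQ : ∀ e : Γ(B.toModule, V), e ∈ E.obj V → (show B.presheaf.obj (op V) from e) ∈ Q := by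
    intro e he
    rw [← hS₀] at he
    induction he using Submodule.span_induction with
    | mem s hs =>
      refine ⟨smk B E V (show B.presheaf.obj (op V) from s) (hS₀mem s hs), ?_, rfl⟩
      apply Algebra.subset_adjoin
      exact Finset.mem_image.mpr ⟨⟨s, hs⟩, Finset.mem_attach _ _, rfl⟩
    | zero => exact Subring.zero_mem Q
    | add x y _ _ hx hy => exact Subring.add_mem Q hx hy
    | smul r x _ hx => exact Subring.mul_mem Q (hbstr r) hx
  have hgenQ : gen B E V ≤ Q := by
    refine Subring.closure_le.mpr ?_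
    rintro c (⟨r, rfl⟩ | hc)
    · exact hbstr r
    · exact hEQ _ hc
  have hc : sval B E V c ∈ Q := hgenQ (by
    rw [← subAlg_obj_affine B E hV hgood]; exact sval_mem B E V c)
  obtain ⟨c', hc', hcc'⟩ := hc
  rw [← sval_injective B E V hcc']
  exact hc'

/-- The quasi-coherent subalgebra of finite type generated by a quasi-coherent submodule of finite
type. -/
theorem exists_subQCAlg_of_isQFT (hE : E.IsQFT) :
    ∃ (B' : QCAlg X) (φ : B' ⟶ B),
      (∀ V : X.Opens, Function.Injective (φ.hom.app (op V)).hom) ∧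
      (∀ V : X.affineOpens, (B'.str.app (op (V : X.Opens))).hom.FiniteType) ∧
      ∀ (U : X.Opens) (b : B.presheaf.obj (op U)), toM B b ∈ E.obj U →
        b ∈ Set.range (φ.hom.app (op U)).hom := by
  refine ⟨subQCAlg B E (fun T hT => (hE T hT).1), subQCAlgHom B E _,
    fun V => sval_injective B E V, fun V => ?_, fun U b hb => ?_⟩
  · exact subStr_finiteType B E V.2 (hE V.1 V.2).1 (hE V.1 V.2).2
  · exact ⟨smk B E U b (mem_subAlg_of_mem B E hb), rfl⟩


end


end Groth.Agent.Lib.Helper18.LSubM
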