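import Mathlib
import Groth.Prelude.Def_Rees

/-!
# Functoriality and localization of Rees algebras (helper18)
-/

set_option autoImplicit false
set_option linter.style.haveILetI false
universe u
open Polynomial

namespace Groth.Agent.Lib.Helper18.ReesLoc

variable {A A' A'' : Type u} [CommRing A] [CommRing A'] [CommRing A'']

theorem map_mem_reesAlgebra (φ : A →+* A') (I : Ideal A) (I' : Ideal A') (h : I.map φ ≤ I')
    (x : A[X]) (hx : x ∈ reesAlgebra I) : Polynomial.map φ x ∈ reesAlgebra I' := by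
  rw [mem_reesAlgebra_iff] at hx ⊢
  intro n
  rw [coeff_map]
  have h1 : φ (x.coeff n) ∈ (I ^ n).map φ := Ideal.mem_map_of_mem φ (hx n)
  rw [Ideal.map_pow] at h1
  exact Ideal.pow_right_mono h n h1

/-- the map of Rees algebras induced by a ring map -/
noncomputable def reesMap (φ : A →+* A') (I : Ideal A) (I' : Ideal A') (h : I.map φ ≤ I') :
    reesAlgebra I →+* reesAlgebra I' :=
  RingHom.codRestrict ((Polynomial.mapRingHom φ).comp (reesAlgebra I).val.toRingHom)
    (reesAlgebra I') (fun x => map_mem_reesAlgebra φ I I' h x.1 x.2)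

@[simp] theorem coe_reesMap (φ : A →+* A') (I : Ideal A) (I' : Ideal A') (h : I.map φ ≤ I')
    (x : reesAlgebra I) : ((reesMap φ I I' h x : reesAlgebra I') : A'[X]) = Polynomial.map φ x.1 :=
  rfl

theorem reesMap_algebraMap (φ : A →+* A') (I : Ideal A) (I' : Ideal A') (h : I.map φ ≤ I')
    (a : A) : reesMap φ I I' h (algebraMap A (reesAlgebra I) a) =
      algebraMap A' (reesAlgebra I') (φ a) := by
  apply Subtype.ext
  change Polynomial.map φ (C a) = C (φ a)
  exact Polynomial.map_C φ

theorem reesMap_mem_deg (φ : A →+* A') (I : Ideal A) (I' : Ideal A') (h : I.map φ ≤ I')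
    {d : ℕ} {x : reesAlgebra I} (hx : x ∈ Rees.deg (reesAlgebra I) d) :
    reesMap φ I I' h x ∈ Rees.deg (reesAlgebra I') d := by
  intro m hm
  rw [coe_reesMap, coeff_map, hx m hm, map_zero]

theorem reesMap_id (I : Ideal A) (h : I.map (RingHom.id A) ≤ I) :
    reesMap (RingHom.id A) I I h = RingHom.id _ := by
  ext x : 1
  apply Subtype.ext
  rw [coe_reesMap, Polynomial.map_id]
  rfl

theorem reesMap_comp (φ : A →+* A') (ψ : A' →+* A'') (I : Ideal A) (I' : Ideal A')
    (I'' : Ideal A'') (h : I.map φ ≤ I') (h' : I'.map ψ ≤ I'') (h'' : I.map (ψ.comp φ) ≤ I'') :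
    (reesMap ψ I' I'' h').comp (reesMap φ I I' h) = reesMap (ψ.comp φ) I I'' h'' := by
  ext x : 1
  apply Subtype.ext
  rw [RingHom.comp_apply, coe_reesMap, coe_reesMap, coe_reesMap, Polynomial.map_map]

theorem reesMap_congr {φ ψ : A →+* A'} (e : φ = ψ) (I : Ideal A) (I' : Ideal A')
    (h : I.map φ ≤ I') (h' : I.map ψ ≤ I') : reesMap φ I I' h = reesMap ψ I I' h' := by
  subst e; rfl

section loc

attribute [local instance] Polynomial.algebra

variable (φ : A →+* A') (f : A) (hloc : @IsLocalization.Away A _ f A' _ φ.toAlgebra) (I : Ideal A)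

include hloc in
/-- an element whose image lies in the extended ideal is multiplied into the ideal by a power -/
theorem exists_pow_mul_mem (J : Ideal A) (a : A) (ha : φ a ∈ J.map φ) : ∃ k : ℕ, f ^ k * a ∈ J := by
  letI := φ.toAlgebra
  haveI := hloc
  obtain ⟨⟨b, s⟩, hbs⟩ := (IsLocalization.mem_map_algebraMap_iff (Submonoid.powers f) A').mp ha
  have h1 : algebraMap A A' (a * s) = algebraMap A A' b := by rw [map_mul]; exact hbs
  obtain ⟨c, hc⟩ := (IsLocalization.eq_iff_exists (Submonoid.powers f) A').mp h1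
  obtain ⟨k1, hk1⟩ := (Submonoid.mem_powers_iff _ _).mp c.2
  obtain ⟨k2, hk2⟩ := (Submonoid.mem_powers_iff _ _).mp s.2
  refine ⟨k1 + k2, ?_⟩
  have h2 : f ^ (k1 + k2) * a = (c : A) * (a * s) := by rw [pow_add, hk1, hk2]; ring
  rw [h2, hc]
  exact J.mul_mem_left _ b.2

include hloc in
theorem exists_pow_forall_coeff_mem (q : A[X])
    (hq : ∀ n, φ (q.coeff n) ∈ (I ^ n).map φ) : ∃ k : ℕ, ∀ n, f ^ k * q.coeff n ∈ I ^ n := by
  classical
  choose kk hkk using fun n => exists_pow_mul_mem φ f hloc (I ^ n) (q.coeff n) (hq n)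
  refine ⟨q.support.sup kk, fun n => ?_⟩
  by_cases hn : n ∈ q.support
  · have hle : kk n ≤ q.support.sup kk := Finset.le_sup hn
    obtain ⟨j, hj⟩ := Nat.exists_eq_add_of_le hle
    rw [hj, pow_add, mul_comm (f ^ kk n), mul_assoc]
    exact Ideal.mul_mem_left _ _ (hkk n)
  · rw [Polynomial.notMem_support_iff.mp hn, mul_zero]
    exact zero_mem _

include hloc in
/-- the Rees algebra of the extension of an ideal to a localization is the localization of the
Rees algebra -/
theorem isLocalization_reesMap (I' : Ideal A') (hI' : I.map φ = I') :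
    @IsLocalization.Away _ _ (algebraMap A (reesAlgebra I) f) (reesAlgebra I') _
      (reesMap φ I I' hI'.le).toAlgebra := by
  subst hI'
  letI := φ.toAlgebra
  haveI := hloc
  letI := (reesMap φ I (I.map φ) le_rfl).toAlgebra
  have hmap : ∀ x : reesAlgebra I, algebraMap (reesAlgebra I) (reesAlgebra (I.map φ)) x =
      reesMap φ I (I.map φ) le_rfl x := fun _ => rfl
  have hpoly : IsLocalization ((Submonoid.powers f).map (C : A →+* A[X])) A'[X] :=
    Polynomial.isLocalization (Submonoid.powers f) A'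
  have halg : ∀ p : A[X], algebraMap A[X] A'[X] p = Polynomial.map φ p := fun p => rfl
  refine IsLocalization.Away.mk _ ?_ ?_ ?_
  · -- unit
    rw [hmap, reesMap_algebraMap]
    exact (IsLocalization.Away.algebraMap_isUnit (S := A') f).map (algebraMap A' _)
  · -- surjectivity
    intro z
    obtain ⟨⟨p, c⟩, hpc⟩ := IsLocalization.surj ((Submonoid.powers f).map (C : A →+* A[X])) z.1
    obtain ⟨c0, hc0, hc0'⟩ := c.2
    obtain ⟨k0, rfl⟩ := (Submonoid.mem_powers_iff _ _).mp hc0
    have hpc' : z.1 * C (φ (f ^ k0)) = Polynomial.map φ p := by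
      have := hpc
      rw [halg, halg] at this
      rw [← this]
      simp only [← hc0']
      rw [Polynomial.map_C]
    have hq : ∀ n, φ (p.coeff n) ∈ (I ^ n).map φ := by
      intro n
      have h1 : (Polynomial.map φ p).coeff n = z.1.coeff n * φ (f ^ k0) := by
        rw [← hpc', coeff_mul_C]
      rw [coeff_map] at h1
      rw [h1, Ideal.map_pow]
      exact Ideal.mul_mem_right _ _ ((mem_reesAlgebra_iff _ _).mp z.2 n)
    obtain ⟨k, hk⟩ := exists_pow_forall_coeff_mem φ f hloc I p hq
    have hmem : C (f ^ k) * p ∈ reesAlgebra I := by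
      rw [mem_reesAlgebra_iff]
      intro n
      rw [coeff_C_mul]
      exact hk n
    refine ⟨k0 + k, ⟨C (f ^ k) * p, hmem⟩, ?_⟩
    apply Subtype.ext
    rw [hmap, hmap, reesMap_algebraMap]
    change z.1 * (C (φ f)) ^ (k0 + k) = Polynomial.map φ (C (f ^ k) * p)
    rw [Polynomial.map_mul, Polynomial.map_C, ← hpc', pow_add, map_pow, map_pow, map_pow, map_pow]
    ring
  · -- kernel
    intro a b hab
    have h1 : algebraMap A[X] A'[X] a.1 = algebraMap A[X] A'[X] b.1 := by
      rw [halg, halg]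
      exact congrArg Subtype.val hab
    obtain ⟨c, hc⟩ := (IsLocalization.eq_iff_exists
      ((Submonoid.powers f).map (C : A →+* A[X])) A'[X]).mp h1
    obtain ⟨c0, hc0, hc0'⟩ := c.2
    obtain ⟨k0, rfl⟩ := (Submonoid.mem_powers_iff _ _).mp hc0
    refine ⟨k0, ?_⟩
    apply Subtype.ext
    change (C f) ^ k0 * a.1 = (C f) ^ k0 * b.1
    have h2 : (c : A[X]) = C f ^ k0 := by rw [← hc0', map_pow]
    rw [← h2]
    exact hc

end loc

end Groth.Agent.Lib.Helper18.ReesLoc
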