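import Mathlib
import Groth.Prelude.Def_Rees
import Groth.Prelude.Def_RelProj
import Groth.Agent.Lib.Helper18.AffGr
import Groth.Agent.Lib.Helper18.ReesLoc

/-!
# The Rees algebra of a quasi-coherent ideal as a quasi-coherent graded algebra (helper18)
-/

set_option autoImplicit false
set_option linter.style.haveILetI false
universe u
open AlgebraicGeometry CategoryTheory Limits TopologicalSpace Opposite

namespace Groth.Agent.Lib.Helper18.ReesData

open Groth.Agent.Lib.Helper18.AffAlg Groth.Agent.Lib.Helper18.ReesLoc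
  Groth.Agent.Lib.Helper18.GrTransport

variable {X : Scheme.{u}} (𝓘 : X.IdealSheafData)

/-- the ideal over an object of the affine Zariski site -/
abbrev idealU (U : X.AffineZariskiSite) : Ideal Γ(X, U.1) := 𝓘.ideal ⟨U.1, U.2⟩

theorem map_idealU_le {U V : X.AffineZariskiSite} (h : V.1 ≤ U.1) :
    (idealU 𝓘 U).map (X.presheaf.map (homOfLE h).op).hom ≤ idealU 𝓘 V :=
  (𝓘.map_ideal (U := ⟨V.1, V.2⟩) (V := ⟨U.1, U.2⟩) h).le

/-- restriction of Rees algebras -/
noncomputable def resRees {U V : X.AffineZariskiSite} (h : V.1 ≤ U.1) :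
    reesAlgebra (idealU 𝓘 U) →+* reesAlgebra (idealU 𝓘 V) :=
  reesMap (X.presheaf.map (homOfLE h).op).hom _ _ (map_idealU_le 𝓘 h)

theorem resRees_self (U : X.AffineZariskiSite) : resRees 𝓘 (le_refl U.1) = RingHom.id _ := by
  have h0 : (X.presheaf.map (homOfLE (le_refl U.1)).op).hom = RingHom.id _ := by
    have : homOfLE (le_refl U.1) = 𝟙 U.1 := rfl
    rw [this, op_id, X.presheaf.map_id]
    rfl
  unfold resRees
  rw [reesMap_congr h0 _ _ _ (by rw [Ideal.map_id])]
  exact reesMap_id _ _

theorem resRees_comp {U V W : X.AffineZariskiSite} (h : V.1 ≤ U.1) (h' : W.1 ≤ V.1) :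
    (resRees 𝓘 h').comp (resRees 𝓘 h) = resRees 𝓘 (h'.trans h) := by
  have h0 : (X.presheaf.map (homOfLE h').op).hom.comp (X.presheaf.map (homOfLE h).op).hom =
      (X.presheaf.map (homOfLE (h'.trans h)).op).hom := by
    rw [← CommRingCat.hom_comp, ← Functor.map_comp]
    rfl
  unfold resRees
  rw [reesMap_comp _ _ _ _ _ _ _ (by rw [h0]; exact map_idealU_le 𝓘 (h'.trans h))]
  exact reesMap_congr h0 _ _ _ _

/-- the presheaf of Rees algebras on the affine opens -/
noncomputable def reesFunctor : X.AffineZariskiSiteᵒᵖ ⥤ CommRingCat.{u} where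
  obj U := CommRingCat.of (reesAlgebra (idealU 𝓘 U.unop))
  map {U V} i := CommRingCat.ofHom
    (resRees 𝓘 (Scheme.AffineZariskiSite.toOpens_mono (leOfHom i.unop)))
  map_id U := by
    ext : 1
    exact resRees_self 𝓘 U.unop
  map_comp {U V W} i j := by
    ext : 1
    exact (resRees_comp 𝓘 _ _).symm

/-- the structure map -/
noncomputable def reesStr :
    (Scheme.AffineZariskiSite.toOpensFunctor X).op ⋙ X.presheaf ⟶ reesFunctor 𝓘 where
  app U := CommRingCat.ofHom (algebraMap Γ(X, U.unop.1) (reesAlgebra (idealU 𝓘 U.unop)))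
  naturality {U V} i := by
    ext r
    exact (reesMap_algebraMap (X.presheaf.map (homOfLE
      (Scheme.AffineZariskiSite.toOpens_mono (leOfHom i.unop))).op).hom _ _
      (map_idealU_le 𝓘 _) r).symm

theorem coequifibered_reesStr : (reesStr 𝓘).Coequifibered := by
  rw [Scheme.AffineZariskiSite.coequifibered_iff_forall_isLocalizationAway]
  intro U r
  have hA : IsLocalization.Away r Γ(X, X.basicOpen r) := U.2.isLocalization_basicOpen r
  have hI : (idealU 𝓘 U).map (X.presheaf.map (homOfLE (X.basicOpen_le r)).op).hom =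
      idealU 𝓘 (U.basicOpen r) :=
    𝓘.map_ideal (U := ⟨X.basicOpen r, U.2.basicOpen r⟩) (V := ⟨U.1, U.2⟩) (X.basicOpen_le r)
  exact isLocalization_reesMap (X.presheaf.map (homOfLE (X.basicOpen_le r)).op).hom r hA
    (idealU 𝓘 U) _ hI

/-- the affine-local graded data of the Rees algebra -/
noncomputable def reesGrData : GrData X where
  F := reesFunctor 𝓘
  str := reesStr 𝓘
  coeq := coequifibered_reesStr 𝓘
  deg U := toSubN (Rees.deg (reesAlgebra (idealU 𝓘 U)))
  graded U := gradedRing_comapDeg (RingEquiv.refl _) (Rees.deg (reesAlgebra (idealU 𝓘 U)))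
  map_mem := fun i _ _ hx => reesMap_mem_deg _ _ _ (map_idealU_le 𝓘 _) hx
  str_mem := fun U r m hm => by
    change (algebraMap Γ(X, U.1) (Polynomial Γ(X, U.1)) r).coeff m = 0
    have hm' : m ≠ 0 := hm
    rw [Polynomial.algebraMap_apply, Algebra.algebraMap_self, RingHom.id_apply,
      Polynomial.coeff_C, if_neg hm']

/-- the Rees algebra `⊕ 𝓘ⁿ` as a quasi-coherent graded algebra -/
noncomputable def reesAlg : RelProj.QCGrAlg X := grAlg (reesGrData 𝓘)

end Groth.Agent.Lib.Helper18.ReesData
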