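import Mathlib
import Groth.Prelude.Def_Rees
import Groth.Prelude.Def_RelProj
import Groth.Prelude.Def_BlowUp2
import Groth.Agent.Lib.Helper18.ReesData
import Groth.Agent.Lib.Helper18.AffGr2

/-!
# The Rees algebra of an ideal sheaf is generated in degree one, with degree one part of finite
type when the ideal is of finite type (helper18)
-/

set_option autoImplicit false
set_option linter.style.haveILetI false
universe u
open AlgebraicGeometry CategoryTheory Limits TopologicalSpace Opposite Polynomial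

namespace Groth.Agent.Lib.Helper18.ReesData

open Groth.Agent.Lib.Helper18.AffAlg Groth.Agent.Lib.Helper18.ReesLoc
  Groth.Agent.Lib.Helper18.GrTransport

section algebra

variable {A : Type u} [CommRing A] (I : Ideal A)

/-- the Rees algebra is generated by its parts of degree zero and one -/
theorem closure_deg_zero_one_eq_top :
    Subring.closure ((Rees.deg (reesAlgebra I) 0 : Set (reesAlgebra I)) ∪
      (Rees.deg (reesAlgebra I) 1 : Set (reesAlgebra I))) = ⊤ := by
  rw [eq_top_iff]
  rintro ⟨p, hp⟩ -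
  set s : Subring (reesAlgebra I) := Subring.closure
    ((Rees.deg (reesAlgebra I) 0 : Set (reesAlgebra I)) ∪
      (Rees.deg (reesAlgebra I) 1 : Set (reesAlgebra I))) with hs
  have key : ∀ (q : A[X]) (hq : q ∈ Algebra.adjoin A
      (Submodule.map (monomial 1 : A →ₗ[A] A[X]) I : Set A[X])),
      ∃ hq' : q ∈ reesAlgebra I, (⟨q, hq'⟩ : reesAlgebra I) ∈ s := by
    intro q hq
    induction hq using Algebra.adjoin_induction with
    | mem x hx =>
      obtain ⟨a, ha, rfl⟩ := hx
      have hmem : monomial 1 a ∈ reesAlgebra I :=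
        reesAlgebra.monomial_mem.mpr (by rwa [pow_one])
      refine ⟨hmem, Subring.subset_closure (Or.inr ?_)⟩
      intro m hm
      change (monomial 1 a).coeff m = 0
      rw [coeff_monomial]
      exact if_neg fun h => hm h.symm
    | algebraMap r =>
      refine ⟨(reesAlgebra I).algebraMap_mem r, Subring.subset_closure (Or.inl ?_)⟩
      intro m hm
      have hm' : m ≠ 0 := hm
      change (algebraMap A A[X] r).coeff m = 0
      rw [Polynomial.algebraMap_apply, Algebra.algebraMap_self, RingHom.id_apply,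
        Polynomial.coeff_C, if_neg hm']
    | add x y _ _ hx hy =>
      obtain ⟨hx', hx''⟩ := hx
      obtain ⟨hy', hy''⟩ := hy
      exact ⟨add_mem hx' hy', s.add_mem hx'' hy''⟩
    | mul x y _ _ hx hy =>
      obtain ⟨hx', hx''⟩ := hx
      obtain ⟨hy', hy''⟩ := hy
      exact ⟨mul_mem hx' hy', s.mul_mem hx'' hy''⟩
  obtain ⟨_, h⟩ := key p (by rw [adjoin_monomial_eq_reesAlgebra]; exact hp)
  exact h

/-- the degree one part of the Rees algebra of a finitely generated ideal is finitely generated -/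
theorem exists_finset_span_eq_deg_one (hI : I.FG) :
    ∃ T : Finset (reesAlgebra I), Submodule.span A (T : Set (reesAlgebra I)) =
      Rees.deg (reesAlgebra I) 1 := by
  have h1 : (I ^ 1).FG := by rwa [pow_one]
  haveI : Module.Finite A ↥(I ^ 1) := Module.Finite.of_fg h1
  haveI : Module.Finite A ↥(Rees.deg (reesAlgebra I) 1) :=
    Module.Finite.equiv (Rees.degEquiv I 1)
  obtain ⟨T, hT⟩ := (Submodule.fg_top (Rees.deg (reesAlgebra I) 1)).mp
    (Module.Finite.fg_top (R := A) (M := ↥(Rees.deg (reesAlgebra I) 1)))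
  exact ⟨T, hT⟩

end algebra

variable {X : Scheme.{u}} (𝓘 : X.IdealSheafData)

theorem isGenDegOne_reesAlg : (reesAlg 𝓘).IsGenDegOne :=
  isGenDegOne_grAlg (reesGrData 𝓘) (fun U => closure_deg_zero_one_eq_top (idealU 𝓘 U))

theorem isFTDeg_one_reesAlg (h𝓘 : BlowUp.IsFiniteTypeIdeal 𝓘) : (reesAlg 𝓘).IsFTDeg 1 := by
  refine isFTDeg_grAlg (reesGrData 𝓘) 1 (fun U => ?_)
  obtain ⟨T, hT⟩ := exists_finset_span_eq_deg_one (idealU 𝓘 U) (h𝓘 ⟨U.1, U.2⟩)
  have h1 : ∀ t ∈ T, t ∈ Rees.deg (reesAlgebra (idealU 𝓘 U)) 1 := by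
    intro t ht
    have : t ∈ Submodule.span Γ(X, U.1) (T : Set (reesAlgebra (idealU 𝓘 U))) :=
      Submodule.subset_span ht
    rw [hT] at this
    exact this
  have h2 : ∀ x ∈ Rees.deg (reesAlgebra (idealU 𝓘 U)) 1,
      ∃ c : reesAlgebra (idealU 𝓘 U) → Γ(X, U.1),
        x = ∑ t ∈ T, algebraMap Γ(X, U.1) (reesAlgebra (idealU 𝓘 U)) (c t) * t := by
    intro x hx
    have hx' : x ∈ Submodule.span Γ(X, U.1) (T : Set (reesAlgebra (idealU 𝓘 U))) := by
      rw [hT]; exact hx
    obtain ⟨c, -, hc⟩ := Submodule.mem_span_finset.mp hx'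
    refine ⟨c, ?_⟩
    rw [← hc]
    refine Finset.sum_congr rfl fun t _ => ?_
    exact Algebra.smul_def (c t) t
  exact ⟨T, fun t ht => h1 t ht, fun x hx => h2 x hx⟩

end Groth.Agent.Lib.Helper18.ReesData
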