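import Mathlib
import Groth.Prelude.Def_Rees
import Groth.Prelude.Def_RelProj
import Groth.Prelude.Def_BlowUp2
import Groth.Agent.Lib.Helper18.ReesData2
import Groth.Agent.Lib.Helper18.ProjEquiv
import Groth.Agent.Lib.Helper18.IdealComap
import Groth.Agent.Lib.Helper42.RelProjGlue
import Groth.Agent.Lib.Helper93.BlowUpLocal
import Groth.Agent.Lib.Helper93.BlowUpProper

/-!
# The relative homogeneous spectrum of the Rees algebra of an ideal sheaf is its blow-up (helper18)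
-/

set_option autoImplicit false
set_option linter.style.haveILetI false
universe u
open AlgebraicGeometry CategoryTheory Limits TopologicalSpace Opposite

namespace Groth.Agent.Lib.Helper18.ReesBlowUp

open Groth.Agent.Lib.Helper18.AffAlg Groth.Agent.Lib.Helper18.ReesData
  Groth.Agent.Lib.Helper18.GrTransport Groth.Agent.Lib.Helper93

variable {X : Scheme.{u}} (𝓘 : X.IdealSheafData) (U : X.Opens) (hU : IsAffineOpen U)

/-- the ideal over an affine open -/
abbrev IU : Ideal Γ(X, U) := 𝓘.ideal ⟨U, hU⟩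

/-- the sections of the Rees algebra over an affine open are the Rees algebra of the ideal -/
noncomputable def secE : reesAlgebra (IU 𝓘 U hU) ≃+* (reesAlg 𝓘).presheaf.obj (op U) :=
  (gamE (reesGrData 𝓘).toData U hU).symm

theorem mem_deg_iff (n : ℕ) (a : reesAlgebra (IU 𝓘 U hU)) :
    a ∈ Rees.deg (reesAlgebra (IU 𝓘 U hU)) n ↔ secE 𝓘 U hU a ∈ (reesAlg 𝓘).deg U hU n := by
  change _ ↔ gamE (reesGrData 𝓘).toData U hU ((gamE (reesGrData 𝓘).toData U hU).symm a) ∈
    toSubN (Rees.deg (reesAlgebra (IU 𝓘 U hU))) n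
  rw [RingEquiv.apply_symm_apply]
  exact Iff.rfl

theorem secE_algebraMap (r : Γ(X, U)) :
    secE 𝓘 U hU (algebraMap Γ(X, U) (reesAlgebra (IU 𝓘 U hU)) r) =
      ((reesAlg 𝓘).str.app (op U)).hom r := by
  apply (gamE (reesGrData 𝓘).toData U hU).injective
  change gamE (reesGrData 𝓘).toData U hU ((gamE (reesGrData 𝓘).toData U hU).symm _) = _
  rw [RingEquiv.apply_symm_apply]
  exact (gamE_str (reesGrData 𝓘).toData U hU r).symm

/-- the chart of the relative Proj of the Rees algebra is Proj of the Rees algebra -/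
noncomputable def projIsoRees :
    Proj ((reesAlg 𝓘).deg U hU) ≅ BlowUpProj.P (IU 𝓘 U hU) :=
  ProjEquiv.projIso (Rees.deg (reesAlgebra (IU 𝓘 U hU))) ((reesAlg 𝓘).deg U hU)
    (secE 𝓘 U hU) (mem_deg_iff 𝓘 U hU)

theorem projIsoRees_hom_p :
    (projIsoRees 𝓘 U hU).hom ≫ BlowUpProj.p (IU 𝓘 U hU) =
      Proj.toSpecZero ((reesAlg 𝓘).deg U hU) ≫ Spec.map ((reesAlg 𝓘).strZero U hU) := by
  unfold BlowUpProj.p projIsoRees
  rw [← Category.assoc, ProjEquiv.projIso_hom_toSpecZero, Category.assoc, ← Spec.map_comp]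
  congr 2
  ext r
  exact secE_algebraMap 𝓘 U hU r

/-- the restriction of the ideal sheaf to an affine open, through `isoSpec` -/
theorem comap_ι_eq :
    𝓘.comap U.ι = (BlowUpProj.idealSheaf (IU 𝓘 U hU)).comap hU.isoSpec.hom := by
  haveI : IsAffine (U : Scheme.{u}) := hU
  apply Scheme.IdealSheafData.ext_of_isAffine
  rw [BlowUpProj.ideal_comap_top]
  have h1 := Groth.Agent.Lib.Helper18.ideal_comap_ι_top 𝓘 ⟨U, hU⟩
  refine h1.trans ?_
  congr 1
  have h2 : CommRingCat.ofHom (BlowUpProj.toΓ hU.isoSpec.hom) = U.topIso.inv := by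
    rw [BlowUpProj.ofHom_toΓ]
    have h3 := hU.isoSpec_hom_appTop
    erw [h3]
    rw [Iso.inv_hom_id_assoc]
  exact (congrArg CommRingCat.Hom.hom h2).symm

/-- any relative homogeneous spectrum of the Rees algebra of `𝓘` is a blow-up of `𝓘` -/
theorem isBlowUp_of_isRelProj {P : Scheme.{u}} (p : P ⟶ X)
    (chart : ∀ (U : X.Opens) (hU : IsAffineOpen U),
      (((p ⁻¹ᵁ U : P.Opens) : Scheme.{u}) ≅ Proj ((reesAlg 𝓘).deg U hU)))
    (h : RelProj.IsRelProj (reesAlg 𝓘) p chart) : BlowUp.IsBlowUp p 𝓘 := by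
  refine BlowUpLocal.isBlowUp_of_cover 𝓘 p (σ := X.affineOpens) (fun i => i.1)
    (iSup_affineOpens_eq_top X) (fun i => ((p ⁻¹ᵁ i.1 : P.Opens) : Scheme.{u}))
    (fun i => p ∣_ i.1) (fun i => (p ⁻¹ᵁ i.1).ι)
    (fun i => (isPullback_morphismRestrict p i.1).flip) (fun i => ?_)
  obtain ⟨U, hU⟩ := i
  have e1 : p ∣_ U = ((chart U hU) ≪≫ projIsoRees 𝓘 U hU).hom ≫
      (BlowUpProj.p (IU 𝓘 U hU) ≫ hU.isoSpec.inv) := by
    rw [← cancel_mono U.ι]
    simp only [Category.assoc, Iso.trans_hom]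
    rw [morphismRestrict_ι, IsAffineOpen.isoSpec_inv_ι, ← h.chart_over U hU,
      reassoc_of% (projIsoRees_hom_p 𝓘 U hU)]
  change BlowUp.IsBlowUp (p ∣_ U) (𝓘.comap U.ι)
  rw [e1, comap_ι_eq 𝓘 U hU]
  exact BlowUpProper.isBlowUp_iso_comp _ _ _
    (BlowUpLocal.isBlowUp_comp_iso hU.isoSpec _ _ BlowUpProj.isBlowUp)

end Groth.Agent.Lib.Helper18.ReesBlowUp
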