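import Mathlib

/-!
# Ideals of zero divisors are annihilated by a nonzero element

`exists_ne_zero_forall_mul_eq_zero`: in a Noetherian ring, or a reduced ring with finitely many
minimal primes, an ideal disjoint from the nonzerodivisors is killed by a nonzero element.
-/

namespace Groth.Agent.Lib.Helper18

theorem exists_ne_zero_forall_mul_eq_zero_of_isNoetherianRing {A : Type*} [CommRing A]
    [IsNoetherianRing A] (I : Ideal A) (h : Disjoint (I : Set A) (nonZeroDivisors A)) :
    ∃ a : A, a ≠ 0 ∧ ∀ x ∈ I, a * x = 0 := by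
  have hlt := Ideal.bot_lt_annihilator_of_disjoint_nonZeroDivisors h
  obtain ⟨a, ha, ha0⟩ := SetLike.exists_of_lt hlt
  refine ⟨a, fun h0 => ha0 (by rw [h0]; exact Submodule.zero_mem _), fun x hx => ?_⟩
  have := Module.mem_annihilator.mp ha ⟨x, hx⟩
  have h2 := congrArg Subtype.val this
  simpa using h2

theorem exists_ne_zero_forall_mul_eq_zero_of_isReduced {A : Type*} [CommRing A] [IsReduced A]
    (hfin : (minimalPrimes A).Finite) (I : Ideal A)
    (h : Disjoint (I : Set A) (nonZeroDivisors A)) :
    ∃ a : A, a ≠ 0 ∧ ∀ x ∈ I, a * x = 0 := by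
  classical
  have hinf : sInf (minimalPrimes A) = (⊥ : Ideal A) := by
    have := Ideal.sInf_minimalPrimes (I := (⊥ : Ideal A))
    rw [show (⊥ : Ideal A).radical = nilradical A from rfl, nilradical_eq_zero] at this
    exact this
  -- `I` is contained in the union of the minimal primes
  have hsub : (I : Set A) ⊆ ⋃ p ∈ minimalPrimes A, (p : Set A) := by
    intro x hx
    have hx' : x ∉ nonZeroDivisors A := fun hx' => Set.disjoint_left.mp h hx hx'
    rw [mem_nonZeroDivisors_iff_right] at hx'
    push Not at hx'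
    obtain ⟨y, hyx, hy⟩ := hx'
    have : y ∉ sInf (minimalPrimes A) := by rw [hinf]; exact hy
    rw [Ideal.mem_sInf] at this
    push Not at this
    obtain ⟨p, hp, hyp⟩ := this
    refine Set.mem_biUnion hp ?_
    have hp' : Ideal.IsPrime p := hp.1.1
    have : y * x ∈ p := by rw [hyx]; exact p.zero_mem
    exact (hp'.mem_or_mem this).resolve_left hyp
  obtain ⟨p, hp, hIp⟩ := (Ideal.subset_union_prime_finite hfin (f := id) ⊥ ⊥
    (fun q hq _ _ => hq.1.1)).mp hsub
  have hp' : p.IsPrime := hp.1.1
  -- the intersection of the other minimal primes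
  set Q : Ideal A := (hfin.toFinset.erase p).inf id with hQ
  have hQp : ¬ Q ≤ p := by
    intro hle
    obtain ⟨q, hq, hqp⟩ := hp'.inf_le'.mp hle
    rw [Finset.mem_erase, hfin.mem_toFinset] at hq
    exact hq.1 (le_antisymm hqp (hp.2 hq.2.1 hqp))
  obtain ⟨a, haQ, hap⟩ := SetLike.not_le_iff_exists.mp hQp
  refine ⟨a, fun h0 => hap (h0 ▸ p.zero_mem), fun x hx => ?_⟩
  have hmem : a * x ∈ sInf (minimalPrimes A) := by
    rw [Ideal.mem_sInf]
    intro q hq
    by_cases hqp : q = p
    · rw [hqp]; exact p.mul_mem_left a (hIp hx)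
    · have : Q ≤ q := Finset.inf_le (f := id)
        (Finset.mem_erase.mpr ⟨hqp, hfin.mem_toFinset.mpr hq⟩)
      exact q.mul_mem_right x (this haQ)
  rw [hinf] at hmem
  exact hmem

end Groth.Agent.Lib.Helper18
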