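import Groth.Agent.Lib.Helper18.SchemDense
import Groth.Agent.Lib.Helper18.ZeroDivAnn
import Mathlib.AlgebraicGeometry.Morphisms.QuasiCompact

/-!
# Schematically dense opens of an affine scheme and regular elements
-/

universe u
open CategoryTheory AlgebraicGeometry TopologicalSpace

namespace Groth.Agent.Lib.Helper18

variable (X : Scheme.{u}) (U : X.Opens)

/-- the ideal of global functions whose nonvanishing locus lies in `U` -/
def basicOpenIdeal : Ideal Γ(X, ⊤) where
  carrier := {f | X.basicOpen f ≤ U}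
  zero_mem' := by simp
  add_mem' := fun ha hb => (X.basicOpen_add_le _ _).trans (sup_le ha hb)
  smul_mem' := fun c f hf => by
    simp only [smul_eq_mul, Set.mem_ofPred_eq, Scheme.basicOpen_mul]
    exact inf_le_right.trans hf

theorem mem_basicOpenIdeal {f : Γ(X, ⊤)} : f ∈ basicOpenIdeal X U ↔ X.basicOpen f ≤ U := Iff.rfl

variable {X U}

/-- a section over `⊤` killed by all `f` with `D(f) ≤ U` vanishes on `U` -/
theorem res_eq_zero_of_forall_mul_eq_zero [IsAffine X] (a : Γ(X, ⊤))
    (ha : ∀ f : Γ(X, ⊤), X.basicOpen f ≤ U → a * f = 0) :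
    X.presheaf.map (homOfLE (inf_le_left : ⊤ ⊓ U ≤ ⊤)).op a = 0 := by
  refine X.sheaf.eq_of_locally_eq' (fun f : {f : Γ(X, ⊤) // X.basicOpen f ≤ U} => X.basicOpen f.1)
    (⊤ ⊓ U) (fun f => homOfLE (le_inf le_top f.2)) ?_ _ _ (fun f => ?_)
  · rintro x ⟨-, hxU⟩
    obtain ⟨f, hf, hxf⟩ := (isAffineOpen_top X).exists_basicOpen_le ⟨x, hxU⟩ trivial
    exact Opens.mem_iSup.mpr ⟨⟨f, hf⟩, hxf⟩
  · change X.presheaf.map _ (X.presheaf.map _ a) = X.presheaf.map _ 0
    rw [map_zero, ← ConcreteCategory.comp_apply, ← X.presheaf.map_comp]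
    have hunit := X.toRingedSpace.isUnit_res_basicOpen f.1
    have h0 : X.presheaf.map (homOfLE (X.basicOpen_le f.1)).op (a * f.1) = 0 := by
      rw [ha f.1 f.2, map_zero]
    rw [map_mul] at h0
    exact (hunit.mul_left_eq_zero).mp h0

theorem eq_zero_of_forall_mul_eq_zero [IsAffine X] (hU : CInt.IsSchematicallyDense U)
    (a : Γ(X, ⊤)) (ha : ∀ f : Γ(X, ⊤), X.basicOpen f ≤ U → a * f = 0) : a = 0 := by
  apply hU ⊤
  rw [map_zero]
  exact res_eq_zero_of_forall_mul_eq_zero a ha

theorem isSchematicallyDense_of_basicOpen_le [IsAffine X] (t : Γ(X, ⊤))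
    (ht : t ∈ nonZeroDivisors Γ(X, ⊤)) (htU : X.basicOpen t ≤ U) :
    CInt.IsSchematicallyDense U := by
  intro V
  rw [injective_iff_map_eq_zero]
  intro s hs
  refine X.sheaf.eq_of_locally_eq' (fun g : {g : Γ(X, ⊤) // X.basicOpen g ≤ V} => X.basicOpen g.1)
    V (fun g => homOfLE g.2) ?_ _ _ (fun g => ?_)
  · intro x hxV
    obtain ⟨g, hg, hxg⟩ := (isAffineOpen_top X).exists_basicOpen_le ⟨x, hxV⟩ trivial
    exact Opens.mem_iSup.mpr ⟨⟨g, hg⟩, hxg⟩
  · change X.presheaf.map (homOfLE g.2).op s = X.presheaf.map (homOfLE g.2).op 0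
    rw [map_zero]
    have hAff : IsAffineOpen (X.basicOpen g.1) := (isAffineOpen_top X).basicOpen g.1
    set B := Γ(X, X.basicOpen g.1)
    set t' : B := X.presheaf.map (homOfLE (X.basicOpen_le g.1)).op t with ht'
    set sg : B := X.presheaf.map (homOfLE g.2).op s with hsg
    have ht'reg : t' ∈ nonZeroDivisors B := by
      have := (isAffineOpen_top X).isLocalization_basicOpen g.1
      exact IsLocalization.map_nonZeroDivisors_le (Submonoid.powers g.1) B
        (Submonoid.mem_map_of_mem _ ht)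
    have hle : X.basicOpen t' ≤ V ⊓ U := by
      rw [ht', Scheme.basicOpen_res]
      exact le_inf (inf_le_left.trans g.2) (inf_le_right.trans htU)
    have hres : X.presheaf.map (homOfLE (X.basicOpen_le t')).op sg = 0 := by
      have h1 : X.presheaf.map (homOfLE (X.basicOpen_le t')).op sg =
          X.presheaf.map (homOfLE hle).op
            (X.presheaf.map (homOfLE (inf_le_left : V ⊓ U ≤ V)).op s) := by
        rw [hsg, ← ConcreteCategory.comp_apply, ← X.presheaf.map_comp,
          ← ConcreteCategory.comp_apply, ← X.presheaf.map_comp]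
        rfl
      rw [h1, hs, map_zero]
    obtain ⟨n, hn⟩ := exists_pow_mul_eq_zero_of_res_basicOpen_eq_zero_of_isAffineOpen X hAff sg t'
      hres
    have hpow : t' ^ n ∈ nonZeroDivisors B := pow_mem ht'reg n
    exact (mul_left_mem_nonZeroDivisors_eq_zero_iff hpow).mp hn

end Groth.Agent.Lib.Helper18

namespace Groth.Agent.Lib.Helper18

theorem finite_irreducibleComponents_of_homeomorph {T T' : Type*} [TopologicalSpace T]
    [TopologicalSpace T'] (h : T ≃ₜ T') (hfin : (irreducibleComponents T).Finite) :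
    (irreducibleComponents T').Finite := by
  refine (hfin.image (fun s => h '' s)).subset ?_
  intro s hs
  refine ⟨h ⁻¹' s, ?_, h.surjective.image_preimage s⟩
  refine preimage_mem_irreducibleComponents hs h.isOpenEmbedding ?_
  rw [h.surjective.range_eq, Set.inter_univ]
  exact hs.1.1

theorem finite_minimalPrimes_of_isAffine (X : Scheme.{u}) [IsAffine X]
    (hfin : (irreducibleComponents ↥X).Finite) : (minimalPrimes Γ(X, ⊤)).Finite := by
  have h1 : (irreducibleComponents (PrimeSpectrum Γ(X, ⊤))).Finite :=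
    finite_irreducibleComponents_of_homeomorph (Scheme.homeoOfIso X.isoSpec) hfin
  have e := minimalPrimes.equivIrreducibleComponents Γ(X, ⊤)
  have : Finite (irreducibleComponents (PrimeSpectrum Γ(X, ⊤))) := h1.to_subtype
  have : Finite (irreducibleComponents (PrimeSpectrum Γ(X, ⊤)))ᵒᵈ := this
  exact Set.finite_coe_iff.mp (Finite.of_equiv _ e.symm.toEquiv)

end Groth.Agent.Lib.Helper18
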