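import Groth.Agent.Lib.Helper1.IdealMod

/-!
# Serre's criterion from surjectivity of global sections

Variants of helper1's Serre criterion (`Groth.Agent.Lib.Helper1.isAffine_of_forall_subsingleton_HH_one`)
in which the vanishing of `H¹` is replaced by the surjectivity statements that are actually used:

* global functions on every closed subscheme lift to `X`;
* for every finite list `l` of global functions whose non-vanishing loci cover `X`, the section `1`
  of `O_X` is in the image of `lin l : O_X^n ⟶ O_X` on global sections.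

Also: a monomorphism from helper1's `Opow X n` into the product / coproduct of `n` copies of `O_X`.
-/

set_option autoImplicit false
universe u
open AlgebraicGeometry CategoryTheory Limits Opposite TopologicalSpace

namespace Groth.Agent.Lib.Helper18.SerreSurj

open Groth.Agent.Lib.Helper1

/-- Variant of helper1's `exists_basicOpen_of_closed_point`: a closed point in an open `U` has a
neighbourhood of the form `X_f ⊆ U`, if global functions on closed subschemes lift. -/
theorem exists_basicOpen_of_closed_point (X : Scheme.{u})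
    (h : ∀ I : X.IdealSheafData, Function.Surjective I.subschemeι.appTop)
    (x : X) (hx : IsClosed ({x} : Set X)) (U : X.Opens) (hxU : x ∈ U) :
    ∃ f : Γ(X, ⊤), x ∈ X.basicOpen f ∧ X.basicOpen f ≤ U := by
  let C : Closeds X := ⟨(U : Set X)ᶜ ∪ {x}, U.2.isClosed_compl.union hx⟩
  let I := Scheme.IdealSheafData.vanishingIdeal C
  have hrange : Set.range I.subschemeι = (U : Set X)ᶜ ∪ {x} := by
    rw [Scheme.IdealSheafData.range_subschemeι, Scheme.IdealSheafData.coe_support_vanishingIdeal]
    rfl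
  have hsurj := h I
  let W : X.Opens := ⟨{x}ᶜ, hx.isOpen_compl⟩
  have hcov : I.subschemeι ⁻¹ᵁ U ⊔ I.subschemeι ⁻¹ᵁ W = ⊤ := by
    rw [eq_top_iff]
    intro z _
    by_cases hz : I.subschemeι z ∈ U
    · exact Or.inl hz
    · refine Or.inr ?_
      change I.subschemeι z ∈ ({x} : Set X)ᶜ
      intro hzx
      exact hz (by rw [Set.mem_singleton_iff.mp hzx]; exact hxU)
  have hdisj : I.subschemeι ⁻¹ᵁ U ⊓ I.subschemeι ⁻¹ᵁ W = ⊥ := by
    rw [eq_bot_iff]
    rintro z ⟨hz1, hz2⟩
    have hz : I.subschemeι z ∈ (U : Set X)ᶜ ∪ {x} := hrange ▸ Set.mem_range_self z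
    rcases hz with hz | hz
    · exact hz hz1
    · exact hz2 hz
  obtain ⟨e, he1, he2⟩ := exists_section_of_disjoint_cover I.subscheme _ _ hcov hdisj
  obtain ⟨f, hf⟩ := hsurj e
  have hpre : I.subschemeι ⁻¹ᵁ X.basicOpen f = I.subscheme.basicOpen e := by
    rw [Scheme.preimage_basicOpen_top, hf]
  have hle1 : I.subschemeι ⁻¹ᵁ U ≤ I.subscheme.basicOpen e := by
    have := I.subscheme.basicOpen_res e (homOfLE (le_top : I.subschemeι ⁻¹ᵁ U ≤ ⊤)).op
    rw [he1, Scheme.basicOpen_one] at this
    rw [this]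
    exact inf_le_right
  have hbot2 : I.subschemeι ⁻¹ᵁ W ⊓ I.subscheme.basicOpen e = ⊥ := by
    have := I.subscheme.basicOpen_res e (homOfLE (le_top : I.subschemeι ⁻¹ᵁ W ≤ ⊤)).op
    rw [he2, Scheme.basicOpen_zero] at this
    exact this.symm
  refine ⟨f, ?_, ?_⟩
  · have hxr : x ∈ Set.range I.subschemeι := by rw [hrange]; exact Or.inr rfl
    obtain ⟨x', hx'⟩ := hxr
    have h1 : x' ∈ I.subschemeι ⁻¹ᵁ X.basicOpen f := by
      rw [hpre]
      refine hle1 ?_
      change I.subschemeι x' ∈ U
      rw [hx']; exact hxU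
    rw [← hx']
    exact h1
  · intro z hz
    by_contra hzU
    have hzr : z ∈ Set.range I.subschemeι := by rw [hrange]; exact Or.inl hzU
    obtain ⟨z', hz'⟩ := hzr
    have h1 : z' ∈ I.subscheme.basicOpen e := by
      rw [← hpre]
      change I.subschemeι z' ∈ X.basicOpen f
      rw [hz']; exact hz
    have h2 : z' ∈ I.subschemeι ⁻¹ᵁ W := by
      change I.subschemeι z' ∈ ({x} : Set X)ᶜ
      rw [hz']
      intro hzx
      exact hzU (by rw [Set.mem_singleton_iff.mp hzx]; exact hxU)
    have h3 : z' ∈ (⊥ : I.subscheme.Opens) := hbot2 ▸ ⟨h2, h1⟩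
    exact h3

/-- **Serre's criterion, surjectivity form.**  A quasi-compact scheme is affine if global functions
on closed subschemes lift, and for every finite list `l` of global functions whose non-vanishing
loci cover `X` the function `1` is in the image of `lin l : O_X^n ⟶ O_X` on global sections. -/
theorem isAffine_of_surjective (X : Scheme.{u}) [CompactSpace X]
    (h1 : ∀ I : X.IdealSheafData, Function.Surjective I.subschemeι.appTop)
    (h2 : ∀ l : List Γ(X, ⊤), Epi (lin l) →
      ∃ t : Γ(Opow X l.length, ⊤), secToFun ((lin l).app ⊤ t) = 1) :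
    IsAffine X := by
  let s : Set Γ(X, ⊤) := {f | IsAffineOpen (X.basicOpen f)}
  have hcov : ∀ x : X, ∃ f ∈ s, x ∈ X.basicOpen f := by
    by_contra hcon
    let Wo : X.Opens := ⨆ f : s, X.basicOpen f.1
    have hne : ((Wo : Set X)ᶜ).Nonempty := by
      by_contra hemp
      rw [Set.not_nonempty_iff_eq_empty, Set.compl_empty_iff] at hemp
      apply hcon
      intro x
      have hx : x ∈ Wo := by
        change x ∈ (Wo : Set X)
        rw [hemp]; trivial
      obtain ⟨f, hf⟩ := Opens.mem_iSup.mp hx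
      exact ⟨f.1, f.2, hf⟩
    obtain ⟨x, hxC, hxcl⟩ := IsClosed.exists_closed_singleton Wo.2.isClosed_compl hne
    obtain ⟨_, ⟨U, hU, rfl⟩, hxU, -⟩ :=
      X.isBasis_affineOpens.exists_subset_of_mem_open (Set.mem_univ x) isOpen_univ
    obtain ⟨f, hxf, hfU⟩ := exists_basicOpen_of_closed_point X h1 x hxcl U hxU
    have haff : IsAffineOpen (X.basicOpen f) := by
      have := IsAffineOpen.basicOpen hU (X.presheaf.map (homOfLE (le_top : U ≤ ⊤)).op f)
      rwa [Scheme.basicOpen_res, inf_eq_right.mpr hfU] at this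
    exact hxC (Opens.mem_iSup.mpr ⟨⟨f, haff⟩, hxf⟩)
  obtain ⟨t, ht⟩ := isCompact_univ.elim_finite_subcover
    (fun f : s => (X.basicOpen f.1 : Set X)) (fun f => (X.basicOpen f.1).2) (by
      intro x _
      obtain ⟨f, hf, hxf⟩ := hcov x
      exact Set.mem_iUnion.mpr ⟨⟨f, hf⟩, hxf⟩)
  let l : List Γ(X, ⊤) := t.toList.map Subtype.val
  have hl : ∀ x : X, ∃ f ∈ l, x ∈ X.basicOpen f := by
    intro x
    have := ht (Set.mem_univ x)
    simp only [Set.mem_iUnion] at this
    obtain ⟨f, hft, hxf⟩ := this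
    exact ⟨f.1, List.mem_map.mpr ⟨f, Finset.mem_toList.mpr hft, rfl⟩, hxf⟩
  have h1' : (1 : Γ(X, ⊤)) ∈ Ideal.span {f | f ∈ l} := by
    obtain ⟨t, ht⟩ := h2 l (epi_lin l hl)
    have := lin_app_top_mem_span l t
    rwa [ht] at this
  have hsub : {f | f ∈ l} ⊆ s := by
    intro f hf
    obtain ⟨g, -, rfl⟩ := List.mem_map.mp hf
    exact g.2
  have hs : Ideal.span s = ⊤ := (Ideal.eq_top_iff_one _).mpr (Ideal.span_mono hsub h1')
  exact isAffine_of_isAffineOpen_basicOpen s hs (fun f hf => hf)

section generic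

universe v w

variable {C : Type v} [Category.{w} C] [Preadditive C] [HasBinaryBiproducts C]
  [HasFiniteProducts C]

/-- Extend a map `A ⟶ Bⁿ` to `A ⊞ B ⟶ Bⁿ⁺¹` (the new coordinate is the last one). -/
noncomputable def stepMap {A B : C} {n : ℕ} (m : A ⟶ ∏ᶜ (fun _ : Fin n => B)) :
    A ⊞ B ⟶ ∏ᶜ (fun _ : Fin (n + 1) => B) :=
  Pi.lift (fun k : Fin (n + 1) =>
    Fin.lastCases (motive := fun _ => (A ⊞ B ⟶ B)) biprod.snd
      (fun j => biprod.fst ≫ m ≫ Pi.π _ j) k)

theorem stepMap_last {A B : C} {n : ℕ} (m : A ⟶ ∏ᶜ (fun _ : Fin n => B)) :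
    stepMap m ≫ Pi.π (fun _ : Fin (n + 1) => B) (Fin.last n) = biprod.snd := by
  rw [stepMap, Pi.lift_π, Fin.lastCases_last]

theorem stepMap_castSucc {A B : C} {n : ℕ} (m : A ⟶ ∏ᶜ (fun _ : Fin n => B)) (j : Fin n) :
    stepMap m ≫ Pi.π (fun _ : Fin (n + 1) => B) j.castSucc = biprod.fst ≫ m ≫ Pi.π _ j := by
  rw [stepMap, Pi.lift_π, Fin.lastCases_castSucc]

theorem mono_stepMap {A B : C} {n : ℕ} (m : A ⟶ ∏ᶜ (fun _ : Fin n => B)) [Mono m] :
    Mono (stepMap m) := by
  refine Preadditive.mono_of_cancel_zero _ fun {P} a ha => ?_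
  have hlast : a ≫ biprod.snd = 0 := by
    rw [← stepMap_last m, ← Category.assoc, ha, zero_comp]
  have hfst : a ≫ biprod.fst = 0 := by
    rw [← cancel_mono m, zero_comp]
    apply Pi.hom_ext
    intro j
    rw [zero_comp, Category.assoc, Category.assoc, ← stepMap_castSucc, ← Category.assoc, ha,
      zero_comp]
  apply biprod.hom_ext
  · rw [hfst, zero_comp]
  · rw [hlast, zero_comp]

end generic

/-- A monomorphism from helper1's `Opow X n` (an iterated binary biproduct) to the product of `n`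
copies of `O_X`. -/
noncomputable def opowToPi (X : Scheme.{u}) :
    ∀ n : ℕ, Opow X n ⟶ ∏ᶜ (fun _ : Fin n => Coh.structureModule X)
  | 0 => 0
  | n + 1 => stepMap (opowToPi X n)

theorem mono_opowToPi (X : Scheme.{u}) : ∀ n : ℕ, Mono (opowToPi X n) := by
  intro n
  induction n with
  | zero =>
    refine Preadditive.mono_of_cancel_zero _ fun {P} a _ => ?_
    exact (isZero_zero X.Modules).eq_of_tgt _ _
  | succ n ih =>
    exact mono_stepMap (opowToPi X n)

/-- A monomorphism from `Opow X n` to the coproduct of `n` copies of `O_X`. -/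
noncomputable def opowToSigma (X : Scheme.{u}) (n : ℕ) :
    Opow X n ⟶ ∐ (fun _ : Fin n => Coh.structureModule X) :=
  haveI : HasFiniteBiproducts X.Modules := Abelian.hasFiniteBiproducts
  opowToPi X n ≫ (biproduct.isoProduct (fun _ : Fin n => Coh.structureModule X)).inv ≫
    (biproduct.isoCoproduct (fun _ : Fin n => Coh.structureModule X)).hom

theorem mono_opowToSigma (X : Scheme.{u}) (n : ℕ) : Mono (opowToSigma X n) := by
  have := mono_opowToPi X n
  have : HasFiniteBiproducts X.Modules := Abelian.hasFiniteBiproducts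
  unfold opowToSigma
  exact mono_comp _ _

end Groth.Agent.Lib.Helper18.SerreSurj
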