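import Mathlib.AlgebraicGeometry.IdealSheaf.Functorial
import Mathlib.AlgebraicGeometry.Morphisms.ClosedImmersion

/-!
# Kernel ideal sheaves of morphisms of affine schemes `Spec S ⟶ Spec R`
-/

universe u
open CategoryTheory CategoryTheory.Limits AlgebraicGeometry

namespace Groth.Agent.Lib.Helper18

/-- The component on global sections of `Spec.map ψ`. -/
theorem Spec_map_app_top {R S : CommRingCat.{u}} (ψ : R ⟶ S) :
    (Spec.map ψ).app ⊤ = (Scheme.ΓSpecIso R).hom ≫ ψ ≫ (Scheme.ΓSpecIso S).inv := by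
  have hnat := Scheme.ΓSpecIso_naturality ψ
  rw [← Category.assoc, ← hnat, Category.assoc, Iso.hom_inv_id, Category.comp_id]

/-- Global sections of the kernel ideal sheaf of `Spec.map ψ`. -/
theorem ker_Spec_map_ideal_top {R S : CommRingCat.{u}} (ψ : R ⟶ S) :
    (Spec.map ψ).ker.ideal ⟨⊤, isAffineOpen_top _⟩ =
      (RingHom.ker ψ.hom).map (Scheme.ΓSpecIso R).inv.hom := by
  rw [Scheme.Hom.ker_apply, Spec_map_app_top]
  set e := (Scheme.ΓSpecIso R).commRingCatIsoToRingEquiv with he
  set e' := (Scheme.ΓSpecIso S).commRingCatIsoToRingEquiv with he'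
  have hmap : (RingHom.ker ψ.hom).map (Scheme.ΓSpecIso R).inv.hom =
      (RingHom.ker ψ.hom).comap (e : _ →+* _) := by
    have := Ideal.map_symm (I := RingHom.ker ψ.hom) e
    exact this
  rw [hmap]
  ext x
  simp only [RingHom.mem_ker, Ideal.mem_comap]
  have hinj : Function.Injective e'.symm := e'.symm.injective
  constructor
  · intro h
    have h2 : e'.symm (ψ.hom (e x)) = 0 := h
    rwa [map_eq_zero_iff _ hinj] at h2
  · intro h
    have h2 : ψ.hom (e x) = 0 := h
    change e'.symm (ψ.hom (e x)) = 0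
    rw [h2, map_zero]

/-- If `ker ψ₁ = (ker ψ₂) ^ k` then the same holds for the kernel ideal sheaves on `Spec R`. -/
theorem ker_Spec_map_eq_pow {R S₁ S₂ : CommRingCat.{u}} (ψ₁ : R ⟶ S₁) (ψ₂ : R ⟶ S₂) (k : ℕ)
    (h : RingHom.ker ψ₁.hom = RingHom.ker ψ₂.hom ^ k) :
    (Spec.map ψ₁).ker = (Spec.map ψ₂).ker ^ k := by
  apply Scheme.IdealSheafData.ext_of_isAffine
  rw [Scheme.IdealSheafData.ideal_pow, Pi.pow_apply, ker_Spec_map_ideal_top,
    ker_Spec_map_ideal_top, h, Ideal.map_pow]

/-- A surjective ring map with nil kernel induces a surjection on spectra. -/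
theorem Spec_map_surjective_of_ker_le_nilradical {R S : CommRingCat.{u}} (ψ : R ⟶ S)
    (hs : Function.Surjective ψ.hom) (hk : RingHom.ker ψ.hom ≤ nilradical R) :
    Function.Surjective (Spec.map ψ).base := by
  intro p
  let p' : PrimeSpectrum R := p
  have hrange := range_comap_of_surjective _ ψ.hom hs
  have hp : p' ∈ PrimeSpectrum.zeroLocus (RingHom.ker ψ.hom : Set R) := by
    rw [PrimeSpectrum.mem_zeroLocus]
    intro x hx
    exact nilradical_le_prime p'.asIdeal (hk hx)
  rw [← hrange] at hp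
  obtain ⟨q, hq⟩ := hp
  exact ⟨q, hq⟩

end Groth.Agent.Lib.Helper18
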