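import Mathlib.AlgebraicGeometry.Pullbacks
import Mathlib.RingTheory.Ideal.Quotient.Operations

/-!
# Cartesian squares of affine schemes and pushouts of rings along surjections
-/

universe u
open CategoryTheory CategoryTheory.Limits AlgebraicGeometry

namespace Groth.Agent.Lib.Helper18

/-- A square of affine schemes is cartesian iff the square of rings is cocartesian. -/
theorem isPullback_SpecMap_iff {A B C P : CommRingCat.{u}} (f : A ⟶ B) (g : A ⟶ C)
    (inl : B ⟶ P) (inr : C ⟶ P) :
    IsPullback (Spec.map inl) (Spec.map inr) (Spec.map f) (Spec.map g) ↔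
      IsPushout f g inl inr := by
  refine ⟨fun h => ?_, fun h => isPullback_SpecMap_of_isPushout f g inl inr h⟩
  have h' : IsPullback (Scheme.Spec.map inl.op) (Scheme.Spec.map inr.op)
      (Scheme.Spec.map f.op) (Scheme.Spec.map g.op) := h
  have h2 := IsPullback.of_map_of_faithful (F := Scheme.Spec) h'
  exact h2.unop.flip

/-- A commutative square of rings with `g` and `inl` surjective is a pushout iff
`ker inl` is generated by the image of `ker g`. -/
theorem isPushout_iff_ker_of_surjective {R S R' S' : CommRingCat.{u}} (f : R ⟶ S) (g : R ⟶ R')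
    (inl : S ⟶ S') (inr : R' ⟶ S') (hg : Function.Surjective g.hom)
    (hinl : Function.Surjective inl.hom) (w : f ≫ inl = g ≫ inr) :
    IsPushout f g inl inr ↔ RingHom.ker inl.hom = (RingHom.ker g.hom).map f.hom := by
  have hle : (RingHom.ker g.hom).map f.hom ≤ RingHom.ker inl.hom := by
    rw [Ideal.map_le_iff_le_comap]
    intro r hr
    rw [Ideal.mem_comap, RingHom.mem_ker]
    have := congr($(w).hom r)
    simp only [CommRingCat.hom_comp, RingHom.comp_apply] at this
    rw [this, (RingHom.mem_ker).mp hr, map_zero]
  constructor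
  · intro h
    refine le_antisymm ?_ hle
    -- test object: S ⧸ (ker g) S
    let T : CommRingCat.{u} := CommRingCat.of (S ⧸ (RingHom.ker g.hom).map f.hom)
    let a : S ⟶ T := CommRingCat.ofHom (Ideal.Quotient.mk _)
    have hker : RingHom.ker g.hom ≤ RingHom.ker ((Ideal.Quotient.mk
        ((RingHom.ker g.hom).map f.hom)).comp f.hom) := by
      intro r hr
      rw [RingHom.mem_ker, RingHom.comp_apply, Ideal.Quotient.eq_zero_iff_mem]
      exact Ideal.mem_map_of_mem _ hr
    let b : R' ⟶ T := CommRingCat.ofHom (RingHom.liftOfSurjective g.hom hg ⟨_, hker⟩)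
    have hab : f ≫ a = g ≫ b := by
      ext r
      simp only [a, b, CommRingCat.hom_comp, CommRingCat.hom_ofHom, RingHom.comp_apply]
      exact (RingHom.liftOfSurjective_comp_apply g.hom hg ⟨_, hker⟩ r).symm
    have hl := h.inl_desc a b hab
    intro x hx
    have hx' : (h.desc a b hab).hom (inl.hom x) = 0 := by
      rw [(RingHom.mem_ker).mp hx, map_zero]
    have : a.hom x = 0 := by
      rw [← hl]; exact hx'
    exact Ideal.Quotient.eq_zero_iff_mem.mp this
  · intro hk
    refine ⟨⟨w⟩, ⟨PushoutCocone.IsColimit.mk _ (fun s => CommRingCat.ofHom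
      (RingHom.liftOfSurjective inl.hom hinl ⟨s.inl.hom, ?_⟩)) (fun s => ?_) (fun s => ?_)
      (fun s m h1 h2 => ?_)⟩⟩
    · rw [hk, Ideal.map_le_iff_le_comap]
      intro r hr
      rw [Ideal.mem_comap, RingHom.mem_ker]
      have := congr($(s.condition).hom r)
      simp only [CommRingCat.hom_comp, RingHom.comp_apply] at this
      rw [this, (RingHom.mem_ker).mp hr, map_zero]
    · ext x
      simp only [CommRingCat.hom_comp, CommRingCat.hom_ofHom, RingHom.comp_apply]
      exact RingHom.liftOfSurjective_comp_apply inl.hom hinl _ x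
    · ext y
      obtain ⟨r, rfl⟩ := hg y
      have h1 := congr($(w).hom r)
      have h2 := congr($(s.condition).hom r)
      simp only [CommRingCat.hom_comp, RingHom.comp_apply] at h1 h2
      simp only [CommRingCat.hom_comp, CommRingCat.hom_ofHom, RingHom.comp_apply]
      rw [← h1, ← h2]
      exact RingHom.liftOfSurjective_comp_apply inl.hom hinl _ (f.hom r)
    · ext y
      obtain ⟨x, rfl⟩ := hinl y
      have h3 := congr($(h1).hom x)
      simp only [CommRingCat.hom_comp, RingHom.comp_apply] at h3
      simp only [CommRingCat.hom_ofHom]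
      rw [h3]
      exact (RingHom.liftOfSurjective_comp_apply inl.hom hinl ⟨s.inl.hom, _⟩ x).symm

end Groth.Agent.Lib.Helper18
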