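import Groth.Prelude.Def_FSch3
import Groth.Agent.Lib.Helper25.InvLimAdic
import Groth.Agent.Lib.Helper25.CompleteNoetherian

/-!
# Affine adic systems of thickenings are formal spectra (helper18)

* `sysIsoMk`: an isomorphism of systems from levelwise isomorphisms.
* `invLim B u`: the inverse limit of a tower of rings as a subring of the product.
* `exists_iso_spf_of_affine`: a system of affine schemes with closed immersions as transition maps,
  adic, with `ker (X 0 → X 1)` finitely generated and `Γ(X 0)` Noetherian, is `spf A J` with `A` Noetherian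
  `J`-adically complete.
-/

set_option autoImplicit false

universe u

open CategoryTheory AlgebraicGeometry

namespace Groth.Agent.Lib.Helper18.SpfOfAffine

/-- An isomorphism of systems from levelwise isomorphisms commuting with the transition maps. -/
noncomputable def sysIsoMk {𝔛 𝔜 : FSch.Sys.{u}} (e : ∀ n, 𝔛.X n ≅ 𝔜.X n)
    (h : ∀ n, (e n).hom ≫ 𝔜.ι n = 𝔛.ι n ≫ (e (n + 1)).hom) : 𝔛 ≅ 𝔜 where
  hom := (⟨fun n => (e n).hom, h⟩ : FSch.Hom 𝔛 𝔜)
  inv := (⟨fun n => (e n).inv, fun n => by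
    rw [Iso.inv_comp_eq, ← Category.assoc, h, Category.assoc, Iso.hom_inv_id, Category.comp_id]⟩ :
      FSch.Hom 𝔜 𝔛)
  hom_inv_id := FSch.Hom.ext (funext fun n => (e n).hom_inv_id)
  inv_hom_id := FSch.Hom.ext (funext fun n => (e n).inv_hom_id)

section InvLim

variable (B : ℕ → Type u) [∀ n, CommRing (B n)] (u : ∀ n, B (n + 1) →+* B n)

/-- The inverse limit of a tower of rings, as a subring of the product. -/
def invLim : Subring (∀ n, B n) where
  carrier := {y | ∀ n, u n (y (n + 1)) = y n}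
  mul_mem' := fun {a b} ha hb n => by
    show u n (a (n + 1) * b (n + 1)) = a n * b n
    rw [map_mul, ha n, hb n]
  one_mem' := fun n => by
    show u n 1 = 1
    exact map_one _
  add_mem' := fun {a b} ha hb n => by
    show u n (a (n + 1) + b (n + 1)) = a n + b n
    rw [map_add, ha n, hb n]
  zero_mem' := fun n => by
    show u n 0 = 0
    exact map_zero _
  neg_mem' := fun {a} ha n => by
    show u n (- a (n + 1)) = - a n
    rw [map_neg, ha n]

/-- The projections of the inverse limit. -/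
def invLimProj (n : ℕ) : invLim B u →+* B n :=
  (Pi.evalRingHom B n).comp (invLim B u).subtype

theorem invLimProj_comp (n : ℕ) : (u n).comp (invLimProj B u (n + 1)) = invLimProj B u n := by
  ext x
  exact x.2 n

theorem invLimProj_inj (x : invLim B u) (hx : ∀ n, invLimProj B u n x = 0) : x = 0 :=
  Subtype.ext (funext hx)

theorem invLimProj_lift (y : ∀ n, B n) (hy : ∀ n, u n (y (n + 1)) = y n) :
    ∃ x : invLim B u, ∀ n, invLimProj B u n x = y n :=
  ⟨⟨y, hy⟩, fun _ => rfl⟩

end InvLim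

section Main

open Groth.Agent.Lib.Helper25

theorem exists_iso_spf_of_affine (𝔛 : FSch.Sys.{u}) [haff : ∀ n, IsAffine (𝔛.X n)]
    (hcl : ∀ n, IsClosedImmersion (𝔛.ι n)) (hA : 𝔛.IsAdic)
    (hfg : ((𝔛.ι 0).ker.ideal ⟨⊤, isAffineOpen_top _⟩).FG) [hN : IsNoetherianRing Γ(𝔛.X 0, ⊤)] :
    ∃ (A : Type u) (_ : CommRing A) (J : Ideal A),
      IsNoetherianRing A ∧ IsAdicComplete J A ∧ Nonempty (𝔛 ≅ FSch.spf A J) := by
  let B : ℕ → Type u := fun n => Γ(𝔛.X n, ⊤)
  let uu : ∀ n, B (n + 1) →+* B n := fun n => (𝔛.ι n).appTop.hom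
  let vv : ∀ n, B n →+* B 0 := fun n => (𝔛.toX n).appTop.hom
  have hu : ∀ n, Function.Surjective (uu n) := fun n => by
    have := hcl n
    exact (IsClosedImmersion.isAffine_surjective_of_isAffine (𝔛.ι n)).2
  have hv0 : vv 0 = RingHom.id (B 0) := by
    show (𝟙 (𝔛.X 0) : 𝔛.X 0 ⟶ 𝔛.X 0).appTop.hom = _
    rw [Scheme.Hom.id_appTop]
    rfl
  have hv : ∀ n, (vv n).comp (uu n) = vv (n + 1) := fun n => by
    show _ = (𝔛.toX n ≫ 𝔛.ι n).appTop.hom
    rw [Scheme.Hom.comp_appTop]
    rfl
  have hclX : ∀ n, IsClosedImmersion (𝔛.toX n) := by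
    intro n
    induction n with
    | zero => show IsClosedImmersion (𝟙 _); infer_instance
    | succ n ih =>
      have := hcl n
      show IsClosedImmersion (𝔛.toX n ≫ 𝔛.ι n)
      infer_instance
  have hker : ∀ n, RingHom.ker (uu n) = RingHom.ker (vv (n + 1)) ^ (n + 1) := fun n => by
    have := hcl n
    have := hclX (n + 1)
    have h1 := congrArg (fun I => I.ideal ⟨⊤, isAffineOpen_top _⟩) (hA n)
    simp only [Scheme.IdealSheafData.ideal_pow, Pi.pow_apply, Scheme.Hom.ker_apply] at h1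
    exact h1
  have hfg' : (RingHom.ker (vv 1)).FG := by
    have h1 : vv 1 = uu 0 := by
      rw [← hv 0, hv0]
      rfl
    rw [h1]
    have := hcl 0
    rw [Scheme.Hom.ker_apply] at hfg
    exact hfg
  obtain ⟨hcomp, hp, hJfg⟩ := InvLimAdic.main uu hu vv hv0 hv hker hfg' (invLimProj B uu)
    (invLimProj_comp B uu) (invLimProj_inj B uu) (invLimProj_lift B uu)
  set A := invLim B uu with hAdef
  set p := invLimProj B uu with hpdef
  set J : Ideal A := RingHom.ker (p 0) with hJdef
  have hNoeth : IsNoetherianRing A := by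
    have : IsNoetherianRing (A ⧸ J) :=
      isNoetherianRing_of_ringEquiv (B 0) (RingHom.quotientKerEquivOfSurjective (hp 0).1).symm
    exact CompleteNoetherian.isNoetherianRing_of_isAdicComplete J hJfg
  refine ⟨A, inferInstance, J, hNoeth, hcomp, ⟨?_⟩⟩
  -- the levelwise ring isomorphisms
  let φ : ∀ n, (A ⧸ J ^ (n + 1)) ≃+* B n := fun n =>
    (Ideal.quotEquivOfEq (hp n).2.symm).trans (RingHom.quotientKerEquivOfSurjective (hp n).1)
  have hφ : ∀ n (x : A), φ n (Ideal.Quotient.mk _ x) = p n x := fun n x => rfl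
  refine sysIsoMk (fun n => (𝔛.X n).isoSpec ≪≫
    (Scheme.Spec.mapIso (φ n).toCommRingCatIso.op)) (fun n => ?_)
  show ((𝔛.X n).isoSpec.hom ≫ Spec.map (CommRingCat.ofHom (φ n).toRingHom)) ≫
      CohB1.specQuotTrans J n =
    𝔛.ι n ≫ ((𝔛.X (n + 1)).isoSpec.hom ≫ Spec.map (CommRingCat.ofHom (φ (n + 1)).toRingHom))
  rw [← Category.assoc, ← Scheme.isoSpec_hom_naturality, Category.assoc, Category.assoc]
  congr 1
  unfold CohB1.specQuotTrans
  rw [← Spec.map_comp, ← Spec.map_comp]
  congr 1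
  ext x
  show φ n (Ideal.Quotient.mk _ x) = uu n (φ (n + 1) (Ideal.Quotient.mk _ x))
  rw [hφ, hφ]
  exact (congrArg (fun f => f x) (invLimProj_comp B uu n)).symm

end Main

end Groth.Agent.Lib.Helper18.SpfOfAffine
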