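import Groth.Agent.Lib.Helper1.Cech.Affine
import Groth.Agent.Lib.Helper45.IdealModSections

/-!
# The action of functions on a closed subscheme on a square-zero ideal sheaf

Let `I` be a quasi-coherent ideal sheaf on a scheme `X` with `I * I = ⊥` and `Z = V(I)`.  The ideal
module `ClSub.idealMod I` is then killed by `I`, hence "is" an `O_Z`-module.  We construct the
resulting action of the ring `Γ(Z, ⊤)` on the presheaf of abelian groups underlying
`ClSub.idealMod I` (as a helper1 `Cech.Action`), by gluing the action of local lifts over the basis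
of affine opens.  Over an affine open `W` the function `a` acts as multiplication by any lift of
`a|_W` to `Γ(X, W)`; and restriction from an affine open `W` to the locus where a lift of `f` is
invertible is "localizing" for `f` in the sense of helper1's `Cech.IsLocalizingAt`.
-/

set_option autoImplicit false
universe u
open AlgebraicGeometry CategoryTheory Limits Opposite TopologicalSpace

namespace Groth.Agent.Lib.Helper18.SqZero

open Groth.Agent.Lib.Helper45 Groth.Agent.Lib.Helper1.Cech

variable {X : Scheme.{u}} (I : X.IdealSheafData)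

/-- The basis of affine opens. -/
abbrev affB (X : Scheme.{u}) : X.affineOpens → X.Opens := Subtype.val

theorem isBasis_affB (X : Scheme.{u}) : Opens.IsBasis (Set.range (affB X)) := by
  rw [Subtype.range_coe]
  exact X.isBasis_affineOpens

theorem subschemeι_surjective (hI : I * I = ⊥) : Function.Surjective I.subschemeι := by
  intro x
  have h1 : (I * I).support = I.support := by
    rw [Scheme.IdealSheafData.support_mul, sup_idem]
  have h2 : Set.range I.subschemeι = Set.univ := by
    rw [Scheme.IdealSheafData.range_subschemeι, ← h1, hI, Scheme.IdealSheafData.support_bot]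
    rfl
  exact Set.range_eq_univ.mp h2 x

/-- Sections of `I` kill sections of the ideal module when `I * I = ⊥`. -/
theorem smul_eq_zero_of_mem (hI : I * I = ⊥) (W : X.affineOpens) (δ : Γ(X, W.1))
    (hδ : δ ∈ I.ideal W) (n : Γ(ClSub.idealMod I, W.1)) : δ • n = 0 := by
  apply idealModι_app_injective I W.1
  rw [map_zero]
  have h1 := idealModι_app_smul I W.1 δ n
  have h2 := idealModι_app_mem I W n
  have h3 : δ * (show Γ(X, W.1) from (ClSub.idealModι I).app W.1 n) ∈ (I * I).ideal W := by
    rw [Scheme.IdealSheafData.ideal_mul]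
    exact Ideal.mul_mem_mul hδ h2
  rw [hI, Scheme.IdealSheafData.ideal_bot] at h3
  exact h1.trans ((Ideal.mem_bot).mp h3)

/-- `r` lifts (the restriction of) the global function `a` on the closed subscheme. -/
def IsLift (a : Γ(I.subscheme, ⊤)) (W : X.Opens) (r : Γ(X, W)) : Prop :=
  I.subschemeι.app W r =
    I.subscheme.presheaf.map (homOfLE (le_top : I.subschemeι ⁻¹ᵁ W ≤ ⊤)).op a

variable {I}

theorem exists_isLift (a : Γ(I.subscheme, ⊤)) (W : X.affineOpens) : ∃ r, IsLift I a W.1 r :=
  I.subschemeι_app_surjective W _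

variable (I) in
/-- A chosen lift. -/
noncomputable def lift (a : Γ(I.subscheme, ⊤)) (W : X.affineOpens) : Γ(X, W.1) :=
  (exists_isLift a W).choose

theorem lift_spec (a : Γ(I.subscheme, ⊤)) (W : X.affineOpens) : IsLift I a W.1 (lift I a W) :=
  (exists_isLift a W).choose_spec

theorem IsLift.sub_mem {a : Γ(I.subscheme, ⊤)} {W : X.affineOpens} {r r' : Γ(X, W.1)}
    (h : IsLift I a W.1 r) (h' : IsLift I a W.1 r') : r - r' ∈ I.ideal W := by
  rw [← I.ker_subschemeι_app W, RingHom.mem_ker, map_sub]
  have e1 : (I.subschemeι.app W.1).hom r = _ := h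
  have e2 : (I.subschemeι.app W.1).hom r' = _ := h'
  rw [e1, e2, sub_self]

theorem IsLift.map {a : Γ(I.subscheme, ⊤)} {W W' : X.Opens} (hle : W' ≤ W) {r : Γ(X, W)}
    (h : IsLift I a W r) : IsLift I a W' (X.presheaf.map (homOfLE hle).op r) := by
  unfold IsLift at h ⊢
  have hn := I.subschemeι.naturality (homOfLE hle).op
  have h1 : I.subschemeι.app W' (X.presheaf.map (homOfLE hle).op r) =
      I.subscheme.presheaf.map ((Opens.map I.subschemeι.base).map (homOfLE hle)).op
        (I.subschemeι.app W r) := congr($hn r)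
  rw [h1, h, ← ConcreteCategory.comp_apply, ← Functor.map_comp]
  rfl

theorem IsLift.one {W : X.Opens} : IsLift I 1 W 1 := by
  unfold IsLift
  rw [map_one, map_one]

theorem IsLift.mul {a b : Γ(I.subscheme, ⊤)} {W : X.Opens} {r s : Γ(X, W)}
    (h : IsLift I a W r) (h' : IsLift I b W s) : IsLift I (a * b) W (r * s) := by
  unfold IsLift at h h' ⊢
  rw [map_mul, map_mul, h, h']

theorem IsLift.add {a b : Γ(I.subscheme, ⊤)} {W : X.Opens} {r s : Γ(X, W)}
    (h : IsLift I a W r) (h' : IsLift I b W s) : IsLift I (a + b) W (r + s) := by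
  unfold IsLift at h h' ⊢
  rw [map_add, map_add, h, h']

theorem IsLift.pow {a : Γ(I.subscheme, ⊤)} {W : X.Opens} {r : Γ(X, W)}
    (h : IsLift I a W r) (n : ℕ) : IsLift I (a ^ n) W (r ^ n) := by
  unfold IsLift at h ⊢
  rw [map_pow, map_pow, h]

theorem IsLift.smul_eq (hI : I * I = ⊥) {a : Γ(I.subscheme, ⊤)} {W : X.affineOpens}
    {r r' : Γ(X, W.1)} (h : IsLift I a W.1 r) (h' : IsLift I a W.1 r')
    (n : Γ(ClSub.idealMod I, W.1)) : r • n = r' • n := by
  have := smul_eq_zero_of_mem I hI W (r - r') (h.sub_mem h') n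
  rwa [sub_smul, sub_eq_zero] at this

variable (I)

/-- The action on the basis of affine opens: multiplication by the chosen lift. -/
noncomputable def actBasis (hI : I * I = ⊥) (a : Γ(I.subscheme, ⊤)) :
    (inducedFunctor (affB X)).op ⋙ (ClSub.idealMod I).presheaf ⟶
      (inducedFunctor (affB X)).op ⋙ (ClSub.idealMod I).presheaf where
  app W := (ClSub.idealMod I).smul (lift I a W.unop)
  naturality W W' g := by
    ext (m : Γ(ClSub.idealMod I, (W.unop).1))
    have hle : (W'.unop).1 ≤ (W.unop).1 := leOfHom g.unop.hom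
    change lift I a W'.unop • (ClSub.idealMod I).presheaf.map (homOfLE hle).op m =
      (ClSub.idealMod I).presheaf.map (homOfLE hle).op (lift I a W.unop • m)
    rw [Scheme.Modules.map_smul]
    exact IsLift.smul_eq hI (lift_spec a W'.unop) ((lift_spec a W.unop).map hle) _

/-- The action of `a ∈ Γ(Z, ⊤)` on the ideal module, as an endomorphism of the underlying presheaf
of abelian groups. -/
noncomputable def act (hI : I * I = ⊥) (a : Γ(I.subscheme, ⊤)) :
    (ClSub.idealMod I).presheaf ⟶ (ClSub.idealMod I).presheaf :=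
  TopCat.Sheaf.restrictHomEquivHom (ClSub.idealMod I).presheaf
    ⟨(ClSub.idealMod I).presheaf, (ClSub.idealMod I).isSheaf⟩ (isBasis_affB X) (actBasis I hI a)

theorem act_app_affine (hI : I * I = ⊥) (a : Γ(I.subscheme, ⊤)) (W : X.affineOpens)
    (m : Γ(ClSub.idealMod I, W.1)) : (act I hI a).app (op W.1) m = lift I a W • m := by
  have := TopCat.Sheaf.extend_hom_app (ClSub.idealMod I).presheaf
    ⟨(ClSub.idealMod I).presheaf, (ClSub.idealMod I).isSheaf⟩ (isBasis_affB X) (actBasis I hI a) W
  exact congr($this m)

theorem act_app_eq_of_isLift (hI : I * I = ⊥) {a : Γ(I.subscheme, ⊤)} (W : X.affineOpens)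
    {r : Γ(X, W.1)} (h : IsLift I a W.1 r) (m : Γ(ClSub.idealMod I, W.1)) :
    (act I hI a).app (op W.1) m = r • m := by
  rw [act_app_affine]
  exact IsLift.smul_eq hI (lift_spec a W) h m

theorem act_ext
    {φ ψ : (ClSub.idealMod I).presheaf ⟶ (ClSub.idealMod I).presheaf}
    (h : ∀ (W : X.affineOpens) (m : Γ(ClSub.idealMod I, W.1)),
      φ.app (op W.1) m = ψ.app (op W.1) m) : φ = ψ :=
  TopCat.Sheaf.hom_ext (ClSub.idealMod I).presheaf
    ⟨(ClSub.idealMod I).presheaf, (ClSub.idealMod I).isSheaf⟩ (isBasis_affB X)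
    (fun W => by ext m; exact h W m)

/-- The action of `Γ(Z, ⊤)` on the presheaf of abelian groups underlying the ideal module of a
square-zero ideal sheaf. -/
noncomputable def action (hI : I * I = ⊥) :
    Action Γ(I.subscheme, ⊤) (ClSub.idealMod I).presheaf where
  act := act I hI
  act_one W m := by
    have h : act I hI 1 = 𝟙 _ := act_ext I (fun W m => by
      rw [act_app_eq_of_isLift I hI W IsLift.one, one_smul]; rfl)
    rw [h]; rfl
  act_mul a b W m := by
    have h : act I hI (a * b) = act I hI b ≫ act I hI a := act_ext I (fun W m => by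
      rw [act_app_eq_of_isLift I hI W ((lift_spec a W).mul (lift_spec b W)), mul_smul]
      change _ = (act I hI a).app (op W.1) ((act I hI b).app (op W.1) m)
      rw [act_app_affine, act_app_affine])
    rw [h]; rfl
  act_add a b W m := by
    have h : act I hI (a + b) = act I hI a + act I hI b := act_ext I (fun W m => by
      rw [act_app_eq_of_isLift I hI W ((lift_spec a W).add (lift_spec b W)), add_smul]
      change _ = (act I hI a).app (op W.1) m + (act I hI b).app (op W.1) m
      rw [act_app_affine, act_app_affine])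
    rw [h]; rfl

theorem action_app_eq_of_isLift (hI : I * I = ⊥) {a : Γ(I.subscheme, ⊤)} (W : X.affineOpens)
    {r : Γ(X, W.1)} (h : IsLift I a W.1 r) (m : Γ(ClSub.idealMod I, W.1)) :
    ((action I hI).act a).app (op W.1) m = r • m :=
  act_app_eq_of_isLift I hI W h m

/-- Restriction from an affine open `W` to the basic open of a lift `r` of `f|_W` is localizing at
`f`. -/
theorem isLocalizingAt_basicOpen (hI : I * I = ⊥) (W : X.affineOpens) (f : Γ(I.subscheme, ⊤))
    (r : Γ(X, W.1)) (hr : IsLift I f W.1 r) :
    IsLocalizingAt (X := X.toTopCat) (action I hI) f (X.basicOpen_le r) := by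
  let V : X.affineOpens := ⟨X.basicOpen r, W.2.basicOpen r⟩
  constructor
  · intro u
    obtain ⟨n, t, ht⟩ := exists_restrict_eq_pow_smul W.2 (ClSub.idealMod I) r u
    refine ⟨n, t, ?_⟩
    rw [action_app_eq_of_isLift I hI V ((hr.pow n).map (X.basicOpen_le r)), map_pow]
    exact ht
  · intro t ht
    obtain ⟨n, hn⟩ := exists_pow_smul_eq_zero_of_restrict_eq_zero W.2 (ClSub.idealMod I) r t ht
    refine ⟨n, ?_⟩
    rw [action_app_eq_of_isLift I hI W (hr.pow n)]
    exact hn

end Groth.Agent.Lib.Helper18.SqZero
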