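import Groth.Agent.Lib.Helper18.SqZeroAction
import Groth.Agent.Lib.Helper1.IdealMod
import Groth.Agent.S0013

/-!
# A square-zero thickening of an affine scheme is affine

Let `I` be a quasi-coherent ideal sheaf on a scheme `X` with `I * I = ⊥` whose closed subscheme
`Z = V(I)` is affine.  Then `Γ(X, ⊤) → Γ(Z, ⊤)` is surjective (vanishing of `H¹(X, I)`, proved by the
Čech argument: `S0013` + helper1's Čech acyclicity for a localizing action), and `X` is affine.
-/

set_option autoImplicit false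
universe u
open AlgebraicGeometry CategoryTheory Limits Opposite TopologicalSpace

namespace Groth.Agent.Lib.Helper18.SqZero

open Groth.Agent.Lib.Helper45 Groth.Agent.Lib.Helper1.Cech

variable {X : Scheme.{u}} (I : X.IdealSheafData)

theorem preimage_injective (hI : I * I = ⊥) {V V' : X.Opens}
    (h : I.subschemeι ⁻¹ᵁ V = I.subschemeι ⁻¹ᵁ V') : V = V' := by
  ext x
  obtain ⟨z, rfl⟩ := subschemeι_surjective I hI x
  change z ∈ I.subschemeι ⁻¹ᵁ V ↔ z ∈ I.subschemeι ⁻¹ᵁ V'
  rw [h]

variable {I} in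
theorem IsLift.preimage_basicOpen {f : Γ(I.subscheme, ⊤)} {W : X.Opens} {r : Γ(X, W)}
    (hr : IsLift I f W r) :
    I.subschemeι ⁻¹ᵁ X.basicOpen r = I.subschemeι ⁻¹ᵁ W ⊓ I.subscheme.basicOpen f := by
  rw [Scheme.preimage_basicOpen, hr, Scheme.basicOpen_res]

theorem compactSpace_of_sqZero (hI : I * I = ⊥) [CompactSpace I.subscheme] : CompactSpace X := by
  constructor
  rw [← Set.range_eq_univ.mpr (subschemeι_surjective I hI)]
  exact isCompact_range I.subschemeι.continuous

/-- Around every point there is an affine open `W`, a function `f` on `Z` and a lift `r` of `f|_W`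
with `x ∈ D(r)` and `t⁻¹ D(r) = D(f)`. -/
theorem exists_chart (hI : I * I = ⊥) [IsAffine I.subscheme] (x : X) :
    ∃ (W : X.affineOpens) (f : Γ(I.subscheme, ⊤)) (r : Γ(X, W.1)),
      IsLift I f W.1 r ∧ x ∈ X.basicOpen r ∧
        I.subschemeι ⁻¹ᵁ X.basicOpen r = I.subscheme.basicOpen f := by
  obtain ⟨z, rfl⟩ := subschemeι_surjective I hI x
  obtain ⟨_, ⟨W, hW, rfl⟩, hxW, -⟩ :=
    X.isBasis_affineOpens.exists_subset_of_mem_open (Set.mem_univ (I.subschemeι z)) isOpen_univ
  have hz : z ∈ I.subschemeι ⁻¹ᵁ W := hxW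
  obtain ⟨f, hf1, hf2⟩ := (isAffineOpen_top I.subscheme).exists_basicOpen_le
    (V := I.subschemeι ⁻¹ᵁ W) ⟨z, hz⟩ (Opens.mem_top z)
  have hr := lift_spec f ⟨W, hW⟩
  have hpre : I.subschemeι ⁻¹ᵁ X.basicOpen (lift I f ⟨W, hW⟩) = I.subscheme.basicOpen f := by
    rw [hr.preimage_basicOpen]
    exact inf_eq_right.mpr hf1
  refine ⟨⟨W, hW⟩, f, lift I f ⟨W, hW⟩, hr, ?_, hpre⟩
  change z ∈ I.subschemeι ⁻¹ᵁ X.basicOpen (lift I f ⟨W, hW⟩)
  rw [hpre]
  exact hf2

section cover

variable (hI : I * I = ⊥) {ι : Type u} (f : ι → Γ(I.subscheme, ⊤)) (U : ι → X.Opens)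
  (hU : ∀ i, IsAffineOpen (U i))
  (hpre : ∀ i, I.subschemeι ⁻¹ᵁ (U i) = I.subscheme.basicOpen (f i))

include hI hpre in
theorem inf_eq_basicOpen_lift (V : X.affineOpens) (j : ι) :
    X.basicOpen (lift I (f j) V) = V.1 ⊓ U j := by
  apply preimage_injective I hI
  rw [(lift_spec (f j) V).preimage_basicOpen]
  change _ = I.subschemeι ⁻¹ᵁ V.1 ⊓ I.subschemeι ⁻¹ᵁ (U j)
  rw [hpre j]

include hI hpre in
theorem isAffineOpen_inf (V : X.affineOpens) (j : ι) : IsAffineOpen (V.1 ⊓ U j) := by
  rw [← inf_eq_basicOpen_lift I hI f U hpre V j]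
  exact V.2.basicOpen _

include hI hU hpre in
theorem isAffineOpen_biInf (s : Finset ι) (hs : s.Nonempty) :
    IsAffineOpen (⨅ i ∈ s, U i) := by
  classical
  induction hs using Finset.Nonempty.cons_induction with
  | singleton a => simpa using hU a
  | cons a s ha hs ih =>
    rw [Finset.cons_eq_insert, Finset.iInf_insert, inf_comm]
    exact isAffineOpen_inf I hI f U hpre ⟨_, ih⟩ a

include hI hU hpre in
theorem isAffineOpen_inter {q : ℕ} (y : Fin (q + 1) → ι) : IsAffineOpen (inter U y) := by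
  classical
  rw [inter_eq_iInf]
  have hs : (⨅ k, U (y k)) = ⨅ i ∈ (Finset.univ.image y), U i := by
    apply le_antisymm
    · refine le_iInf fun i => le_iInf fun hi => ?_
      obtain ⟨k, -, rfl⟩ := Finset.mem_image.mp hi
      exact iInf_le _ k
    · exact le_iInf fun k => (iInf_le _ (y k)).trans
        (iInf_le _ (Finset.mem_image_of_mem y (Finset.mem_univ k)))
  rw [hs]
  exact isAffineOpen_biInf I hI f U hU hpre _ (Finset.image_nonempty.mpr Finset.univ_nonempty)

include hI hU hpre in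
theorem isLocalizingAt_inter (j : ι) {q : ℕ} (y : Fin (q + 1) → ι) :
    IsLocalizingAt (X := X.toTopCat) (action I hI) (f j) (inter_cons_le U j y) := by
  have haff := isAffineOpen_inter I hI f U hU hpre y
  have H := isLocalizingAt_basicOpen I hI ⟨inter U y, haff⟩ (f j)
    (lift I (f j) ⟨inter U y, haff⟩) (lift_spec _ _)
  refine IsLocalizingAt.of_eq' rfl ?_ _ H
  rw [inter_cons_eq]
  exact inf_eq_basicOpen_lift I hI f U hpre ⟨inter U y, haff⟩ j

include hI hU hpre in
/-- Čech `H¹` of the ideal module vanishes for a finite cover by "principal" affine opens. -/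
theorem exactAt_one [Finite ι] (hspan : Ideal.span (Set.range f) = ⊤) :
    (K U (ClSub.idealMod I).presheaf).ExactAt 1 :=
  exactAt_of_localizing_of_span_eq_top (X := X.toTopCat) (action I hI) f hspan
    (fun j q y => isLocalizingAt_inter I hI f U hU hpre j y) 0

end cover

/-- **Vanishing of `H¹` of a square-zero ideal with affine zero scheme**, in the form: global
functions on the closed subscheme lift. -/
theorem appTop_surjective_of_sqZero (hI : I * I = ⊥) [IsAffine I.subscheme] :
    Function.Surjective I.subschemeι.appTop := by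
  classical
  haveI := compactSpace_of_sqZero I hI
  choose W f r hr hx hpre using exists_chart I hI
  obtain ⟨s, hs⟩ := isCompact_univ.elim_finite_subcover
    (fun x : X => ((X.basicOpen (r x)) : Set X))
    (fun x => (X.basicOpen (r x)).2) (fun x _ => Set.mem_iUnion.mpr ⟨x, hx x⟩)
  let U : (↥s) → X.Opens := fun i => X.basicOpen (r i.1)
  let f' : (↥s) → Γ(I.subscheme, ⊤) := fun i => f i.1
  have hU : ∀ i, IsAffineOpen (U i) := fun i => (W i.1).2.basicOpen _
  have hpre' : ∀ i, I.subschemeι ⁻¹ᵁ (U i) = I.subscheme.basicOpen (f' i) := fun i => hpre i.1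
  have hcov : ⨆ i, U i = ⊤ := by
    rw [eq_top_iff]
    intro x _
    have := hs (Set.mem_univ x)
    simp only [Set.mem_iUnion] at this
    obtain ⟨y, hy, hxy⟩ := this
    exact Opens.mem_iSup.mpr ⟨⟨y, hy⟩, hxy⟩
  have hspan : Ideal.span (Set.range f') = ⊤ := by
    rw [← (isAffineOpen_top I.subscheme).iSup_basicOpen_eq_self_iff, eq_top_iff]
    intro z _
    have hz : I.subschemeι z ∈ ⨆ i, U i := by rw [hcov]; trivial
    obtain ⟨i, hi⟩ := Opens.mem_iSup.mp hz
    refine Opens.mem_iSup.mpr ⟨⟨f' i, Set.mem_range_self i⟩, ?_⟩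
    change z ∈ I.subscheme.basicOpen (f' i)
    rw [← hpre' i]
    exact hi
  have hex := exactAt_one I hI f' U hU hpre' hspan
  have hsub : Subsingleton (CohB1.cechH U (ClSub.idealMod I) 1) :=
    AddCommGrpCat.subsingleton_of_isZero hex.isZero_homology
  obtain ⟨e⟩ := Groth.Agent.S0013.result X U hcov (isAffineOpen_biInf I hI f' U hU hpre')
    (ClSub.idealMod I) 1
  have hHH : Subsingleton (Coh.HH X (ClSub.idealMod I) 1) := e.symm.toEquiv.subsingleton
  exact Groth.Agent.Lib.Helper1.appTop_surjective_of_subsingleton_HH_one I hHH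

theorem IsLift.zero {W : X.Opens} : IsLift I 0 W 0 := by
  unfold IsLift
  rw [map_zero, map_zero]

theorem sq_eq_zero_of_appTop_eq_zero (hI : I * I = ⊥) (δ : Γ(X, ⊤))
    (hδ : I.subschemeι.appTop δ = 0) : δ * δ = 0 := by
  have hl : IsLift I 0 ⊤ δ := by
    unfold IsLift
    rw [map_zero]
    exact hδ
  refine TopCat.Sheaf.eq_of_locally_eq' X.sheaf (fun W : X.affineOpens => W.1) ⊤
    (fun W => homOfLE le_top) ?_ _ _ (fun W => ?_)
  · intro x _
    obtain ⟨_, ⟨W, hW, rfl⟩, hxW, -⟩ :=
      X.isBasis_affineOpens.exists_subset_of_mem_open (Set.mem_univ x) isOpen_univ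
    exact Opens.mem_iSup.mpr ⟨⟨W, hW⟩, hxW⟩
  · change X.presheaf.map (homOfLE (le_top : W.1 ≤ ⊤)).op (δ * δ) =
      X.presheaf.map (homOfLE (le_top : W.1 ≤ ⊤)).op 0
    rw [map_zero, map_mul]
    have h1 : X.presheaf.map (homOfLE (le_top : W.1 ≤ ⊤)).op δ ∈ I.ideal W := by
      have := (hl.map (le_top : W.1 ≤ ⊤)).sub_mem (W := W) (IsLift.zero I)
      rwa [sub_zero] at this
    have h3 := Ideal.mul_mem_mul h1 h1
    have h4 : I.ideal W * I.ideal W = ⊥ := by
      have := congrArg (fun J => Scheme.IdealSheafData.ideal J W) hI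
      simpa using this
    rw [h4] at h3
    exact (Ideal.mem_bot).mp h3

/-- **A square-zero thickening of an affine scheme is affine.** -/
theorem isAffine_of_sqZero (hI : I * I = ⊥) [IsAffine I.subscheme] : IsAffine X := by
  have hsurj := appTop_surjective_of_sqZero I hI
  let s : Set Γ(X, ⊤) := {g | IsAffineOpen (X.basicOpen g)}
  have hcov : ∀ x : X, ∃ g ∈ s, x ∈ X.basicOpen g := by
    intro x
    obtain ⟨W, f, r, hr, hx, hpre⟩ := exists_chart I hI x
    obtain ⟨g, hg⟩ := hsurj f
    have e : X.basicOpen g = X.basicOpen r := by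
      apply preimage_injective I hI
      rw [hpre, Scheme.preimage_basicOpen_top, hg]
    refine ⟨g, ?_, ?_⟩
    · change IsAffineOpen _
      rw [e]
      exact W.2.basicOpen r
    · rw [e]
      exact hx
  have hs : Ideal.span s = ⊤ := by
    have h1 : Ideal.span (I.subschemeι.appTop.hom '' s) = ⊤ := by
      rw [← (isAffineOpen_top I.subscheme).iSup_basicOpen_eq_self_iff, eq_top_iff]
      intro z _
      obtain ⟨g, hg, hz⟩ := hcov (I.subschemeι z)
      refine Opens.mem_iSup.mpr ⟨⟨I.subschemeι.appTop g, g, hg, rfl⟩, ?_⟩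
      change z ∈ I.subscheme.basicOpen (I.subschemeι.appTop g)
      rw [← Scheme.preimage_basicOpen_top]
      exact hz
    have h2 : (1 : Γ(I.subscheme, ⊤)) ∈
        Ideal.map I.subschemeι.appTop.hom (Ideal.span s) := by
      rw [Ideal.map_span, h1]
      trivial
    obtain ⟨σ, hσ, hσ1⟩ := (Ideal.mem_map_iff_of_surjective _ hsurj).mp h2
    have hδ := sq_eq_zero_of_appTop_eq_zero I hI (1 - σ) (by
      have : I.subschemeι.appTop.hom σ = 1 := hσ1
      change I.subschemeι.appTop.hom (1 - σ) = 0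
      rw [map_sub, map_one, this, sub_self])
    have hunit : IsUnit σ := by
      refine IsUnit.of_mul_eq_one (1 + (1 - σ)) ?_
      linear_combination (-1 : Γ(X, ⊤)) * hδ
    exact Ideal.eq_top_of_isUnit_mem _ hσ hunit
  exact isAffine_of_isAffineOpen_basicOpen s hs (fun g hg => hg)

end Groth.Agent.Lib.Helper18.SqZero
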