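import Mathlib

/-!
# Surjectivity on stalks can be checked modulo a nilpotent ideal

`surjectiveOnStalks_of_nilpotent`: `f : A →+* B`, `K` a nilpotent ideal of `A`, `p : B →+* B₀`
surjective with kernel `K B`.  If `p ∘ f` is surjective on stalks then so is `f`.
-/

namespace Groth.Agent.Lib.Helper18

open RingHom in
theorem surjectiveOnStalks_of_nilpotent {A B B₀ : Type*} [CommRing A] [CommRing B] [CommRing B₀]
    (f : A →+* B) (K : Ideal A) (m : ℕ) (hK : K ^ m = ⊥) (p : B →+* B₀)
    (hp : Function.Surjective p) (hker : RingHom.ker p = K.map f)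
    (h : (p.comp f).SurjectiveOnStalks) : f.SurjectiveOnStalks := by
  intro P hP
  have hNP : K.map f ≤ P := by
    refine hP.le_of_pow_le (n := m) ?_
    rw [← Ideal.map_pow, hK, Ideal.map_bot]
    exact bot_le
  have hQ : (P.map p).IsPrime := Ideal.map_isPrime_of_surjective hp (hker ▸ hNP)
  have H := (RingHom.surjective_localRingHom_iff (f := p.comp f) (P.map p)).mp (h _ hQ)
  have hmemQ : ∀ b : B, p b ∈ P.map p → b ∈ P := by
    intro b hb
    have : b ∈ (P.map p).comap p := hb
    rw [Ideal.comap_map_of_surjective p hp, ← RingHom.ker_eq_comap_bot, hker,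
      sup_eq_left.mpr hNP] at this
    exact this
  have key : ∀ b : B, ∃ x r : A, ∃ c : B, c ∉ P ∧ f r ∉ P ∧
      c * f r * b - c * f x ∈ K.map f := by
    intro b
    obtain ⟨x, r, c₀, hc₀, hr, e⟩ := H (p b)
    obtain ⟨c, rfl⟩ := hp c₀
    refine ⟨x, r, c, fun hc => hc₀ (Ideal.mem_map_of_mem p hc),
      fun hr' => hr (Ideal.mem_map_of_mem p hr'), ?_⟩
    rw [← hker, RingHom.mem_ker, map_sub, map_mul, map_mul, map_mul, sub_eq_zero]
    exact e
  -- notation
  set L := Localization.AtPrime P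
  set ψ : B →+* L := algebraMap B L with hψ
  set φ := Localization.localRingHom (P.comap f) P f rfl with hφ
  set 𝔫 : Ideal L := (K.map f).map ψ with h𝔫
  have hunit : ∀ t : B, t ∉ P → IsUnit (ψ t) := fun t ht =>
    IsLocalization.map_units L (⟨t, ht⟩ : P.primeCompl)
  -- step 1 : elements of `B`
  have step1 : ∀ b : B, ∃ a : Localization.AtPrime (P.comap f), ψ b - φ a ∈ 𝔫 ∧
      ((b ∉ P) → IsUnit a) := by
    intro b
    obtain ⟨x, r, c, hc, hr, hmem⟩ := key b
    have hr' : r ∈ (P.comap f).primeCompl := hr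
    refine ⟨IsLocalization.mk' _ x (⟨r, hr'⟩ : (P.comap f).primeCompl), ?_, ?_⟩
    · have hu : IsUnit (ψ c * ψ (f r)) := (hunit c hc).mul (hunit _ hr)
      rw [← Ideal.unit_mul_mem_iff_mem 𝔫 hu]
      have h1 : ψ (f r) * φ (IsLocalization.mk' _ x (⟨r, hr'⟩ : (P.comap f).primeCompl)) =
          ψ (f x) := by
        rw [hφ, Localization.localRingHom_mk']
        exact IsLocalization.mk'_spec' L (f x) (⟨f r, hr⟩ : P.primeCompl)
      have h2 : ψ c * ψ (f r) * (ψ b - φ (IsLocalization.mk' _ x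
          (⟨r, hr'⟩ : (P.comap f).primeCompl))) = ψ (c * f r * b - c * f x) := by
        rw [mul_sub, mul_assoc (ψ c) (ψ (f r)) (φ _), h1]
        simp only [map_sub, map_mul]
      rw [h2]
      exact Ideal.mem_map_of_mem ψ hmem
    · intro hb
      have hx : f x ∉ P := by
        intro hx
        have h1 : c * f r * b ∉ P := fun h' =>
          (hP.mem_or_mem h').elim (fun h'' => (hP.mem_or_mem h'').elim hc hr) hb
        apply h1
        have : c * f r * b = (c * f r * b - c * f x) + c * f x := by ring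
        rw [this]
        exact P.add_mem (hNP hmem) (P.mul_mem_left c hx)
      have hx' : x ∈ (P.comap f).primeCompl := hx
      refine IsUnit.of_mul_eq_one (IsLocalization.mk' _ r (⟨x, hx'⟩ : (P.comap f).primeCompl)) ?_
      rw [← IsLocalization.mk'_mul]
      have hmul : (⟨r, hr'⟩ : (P.comap f).primeCompl) * ⟨x, hx'⟩ =
          ⟨x * r, (P.comap f).primeCompl.mul_mem hx' hr'⟩ := by
        ext; simp [mul_comm]
      rw [hmul]
      exact IsLocalization.mk'_self _ ((P.comap f).primeCompl.mul_mem hx' hr')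
  -- Q(1)
  have Q1 : ∀ y : L, ∃ a : Localization.AtPrime (P.comap f), y - φ a ∈ 𝔫 := by
    intro y
    obtain ⟨b, t, rfl⟩ := IsLocalization.exists_mk'_eq P.primeCompl y
    obtain ⟨ab, hab, -⟩ := step1 b
    obtain ⟨at', hat, hatu⟩ := step1 t.1
    obtain ⟨u, hu⟩ := hatu t.2
    refine ⟨ab * ↑u⁻¹, ?_⟩
    rw [← Ideal.unit_mul_mem_iff_mem 𝔫 (hunit t.1 t.2)]
    have h1 : ψ t.1 * IsLocalization.mk' L b t = ψ b := IsLocalization.mk'_spec' L b t
    have h2 : ψ t.1 * (IsLocalization.mk' L b t - φ (ab * ↑u⁻¹)) =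
        (ψ b - φ ab) - (ψ t.1 - φ at') * φ (ab * ↑u⁻¹) := by
      have h3 : φ at' * φ (ab * ↑u⁻¹) = φ ab := by
        rw [← map_mul, ← hu, mul_comm ab, ← mul_assoc, Units.mul_inv, one_mul]
      rw [mul_sub, h1, sub_mul, h3]
      ring
    rw [h2]
    exact 𝔫.sub_mem hab (𝔫.mul_mem_right _ hat)
  -- induction
  have hpow : ∀ j : ℕ, 𝔫 ^ j = Ideal.span ((ψ.comp f) '' (K ^ j : Ideal A)) := by
    intro j
    rw [h𝔫, Ideal.map_map, ← Ideal.map_pow]
    rfl
  have Qj : ∀ j : ℕ, ∀ y : L, ∃ a : Localization.AtPrime (P.comap f), y - φ a ∈ 𝔫 ^ (j + 1) := by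
    intro j
    induction j with
    | zero => simpa using Q1
    | succ j ih =>
      intro y
      obtain ⟨a, ha⟩ := ih y
      have hp' : ∀ z ∈ 𝔫 ^ (j + 1), ∀ w : L, ∃ a' : Localization.AtPrime (P.comap f),
          w * z - φ a' ∈ 𝔫 ^ (j + 1 + 1) := by
        intro z hz
        rw [hpow (j + 1)] at hz
        induction hz using Submodule.span_induction with
        | mem z hz =>
          obtain ⟨k, hk, rfl⟩ := hz
          intro w
          obtain ⟨aw, haw⟩ := Q1 w
          refine ⟨aw * algebraMap A _ k, ?_⟩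
          have h1 : φ (aw * algebraMap A _ k) = φ aw * (ψ.comp f) k := by
            rw [map_mul, hφ, Localization.localRingHom_to_map]
            rfl
          rw [h1, ← sub_mul, pow_succ' 𝔫 (j + 1)]
          refine Ideal.mul_mem_mul haw ?_
          rw [hpow (j + 1)]
          exact Ideal.subset_span ⟨k, hk, rfl⟩
        | zero =>
          intro w
          exact ⟨0, by simp⟩
        | add z₁ z₂ _ _ h₁ h₂ =>
          intro w
          obtain ⟨a₁, ha₁⟩ := h₁ w
          obtain ⟨a₂, ha₂⟩ := h₂ w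
          refine ⟨a₁ + a₂, ?_⟩
          have : w * (z₁ + z₂) - φ (a₁ + a₂) = (w * z₁ - φ a₁) + (w * z₂ - φ a₂) := by
            rw [map_add]; ring
          rw [this]
          exact Ideal.add_mem _ ha₁ ha₂
        | smul c z _ h₁ =>
          intro w
          obtain ⟨a₁, ha₁⟩ := h₁ (w * c)
          refine ⟨a₁, ?_⟩
          have : w * (c • z) - φ a₁ = w * c * z - φ a₁ := by
            rw [smul_eq_mul]; ring
          rw [this]
          exact ha₁
      obtain ⟨a', ha'⟩ := hp' _ ha 1
      refine ⟨a + a', ?_⟩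
      have : y - φ (a + a') = 1 * (y - φ a) - φ a' := by rw [map_add]; ring
      rw [this]
      exact ha'
  intro y
  rcases Nat.eq_zero_or_pos m with hm | hm
  · -- `K ^ 0 = ⊤ = ⊥`, so `A` is trivial, hence `B`, `L` trivial
    subst hm
    have hA : Subsingleton A := by
      rw [pow_zero, Ideal.one_eq_top] at hK
      exact (Submodule.subsingleton_iff A).mp (subsingleton_of_bot_eq_top hK.symm)
    have : (1 : B) = 0 := by rw [← map_one f, Subsingleton.elim (1 : A) 0, map_zero]
    have hL : Subsingleton L := by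
      refine subsingleton_of_zero_eq_one ?_
      rw [← map_one ψ, this, map_zero]
    exact ⟨0, Subsingleton.elim _ _⟩
  · obtain ⟨j, rfl⟩ : ∃ j, m = j + 1 := ⟨m - 1, by omega⟩
    obtain ⟨a, ha⟩ := Qj j y
    refine ⟨a, ?_⟩
    have h0 : 𝔫 ^ (j + 1) = ⊥ := by
      rw [h𝔫, Ideal.map_map, ← Ideal.map_pow, hK, Ideal.map_bot]
    rw [h0, Ideal.mem_bot, sub_eq_zero] at ha
    exact ha.symm

end Groth.Agent.Lib.Helper18
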