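import Mathlib
import Groth.Agent.Lib.Helper18.SymLoc

/-!
# The symmetric algebra commutes with base change (pushout form) (helper18)
-/

set_option autoImplicit false
set_option linter.style.haveILetI false
universe u
open CategoryTheory Limits

namespace Groth.Agent.Lib.Helper18.SymBC

open Groth.Agent.Lib.Helper18.SymLoc

variable {R R' : Type u} [CommRing R] [CommRing R'] [Algebra R R']
  {M M' : Type u} [AddCommGroup M] [Module R M] [AddCommGroup M'] [Module R M'] [Module R' M']
  [IsScalarTower R R' M'] (f : M →ₗ[R] M') (hf : IsBaseChange R' f)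

section desc

variable {T : Type u} [CommRing T] (a : R' →+* T) (b : SymmetricAlgebra R M →+* T)
  (hab : ∀ r : R, a (algebraMap R R' r) = b (algebraMap R _ r))

include hf in
/-- the induced map out of `Sym_{R'} M'` -/
noncomputable def desc : SymmetricAlgebra R' M' →+* T :=
  letI : Algebra R' T := a.toAlgebra
  letI : Algebra R T := (a.comp (algebraMap R R')).toAlgebra
  haveI : IsScalarTower R R' T := IsScalarTower.of_algebraMap_eq (fun _ => rfl)
  (SymmetricAlgebra.lift (R := R') (M := M') (A := T)
    (hf.lift (Q := T)
      { toFun := fun m => b (SymmetricAlgebra.ι R M m)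
        map_add' := fun x y => by rw [map_add, map_add]
        map_smul' := fun r m => by
          rw [map_smul, Algebra.smul_def, map_mul, ← hab, RingHom.id_apply, Algebra.smul_def]
          rfl })).toRingHom

theorem desc_algebraMap (r : R') : desc f hf a b hab (algebraMap R' _ r) = a r := by
  letI : Algebra R' T := a.toAlgebra
  letI : Algebra R T := (a.comp (algebraMap R R')).toAlgebra
  haveI : IsScalarTower R R' T := IsScalarTower.of_algebraMap_eq (fun _ => rfl)
  unfold desc
  exact AlgHom.commutes _ r

theorem desc_ι (m : M) :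
    desc f hf a b hab (SymmetricAlgebra.ι R' M' (f m)) = b (SymmetricAlgebra.ι R M m) := by
  letI : Algebra R' T := a.toAlgebra
  letI : Algebra R T := (a.comp (algebraMap R R')).toAlgebra
  haveI : IsScalarTower R R' T := IsScalarTower.of_algebraMap_eq (fun _ => rfl)
  unfold desc
  refine (SymmetricAlgebra.lift_ι_apply _ (f m)).trans ?_
  exact hf.lift_eq _ m

theorem desc_comp_locMap : (desc f hf a b hab).comp (locMap (R' := R') f) = b := by
  refine ringHom_ext _ _ (fun r => ?_) (fun m => ?_)
  · rw [RingHom.comp_apply, symMap_algebraMap, desc_algebraMap, hab]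
  · rw [RingHom.comp_apply, symMap_ι]
    exact desc_ι f hf a b hab m

theorem desc_unique (h : SymmetricAlgebra R' M' →+* T)
    (h1 : ∀ r, h (algebraMap R' _ r) = a r) (h2 : h.comp (locMap (R' := R') f) = b) :
    h = desc f hf a b hab := by
  refine ringHom_ext _ _ (fun r => ?_) ?_
  · rw [h1, desc_algebraMap]
  · letI : Algebra R' T := a.toAlgebra
    have key : ∀ k : SymmetricAlgebra R' M' →+* T, (∀ r, k (algebraMap R' _ r) = a r) →
        ∃ l : M' →ₗ[R'] T, ∀ m, l m = k (SymmetricAlgebra.ι R' M' m) := fun k hk =>
      ⟨{ toFun := fun m => k (SymmetricAlgebra.ι R' M' m)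
         map_add' := fun x y => by rw [map_add, map_add]
         map_smul' := fun r m => by
          rw [map_smul, Algebra.smul_def, map_mul, hk, RingHom.id_apply, Algebra.smul_def]
          rfl }, fun m => rfl⟩
    obtain ⟨l1, hl1⟩ := key h h1
    obtain ⟨l2, hl2⟩ := key (desc f hf a b hab) (desc_algebraMap f hf a b hab)
    have : l1 = l2 := hf.algHom_ext l1 l2 (fun x => by
      rw [hl1, hl2, desc_ι, ← h2, RingHom.comp_apply, symMap_ι]
      rfl)
    intro m
    rw [← hl1, ← hl2, this]

end desc

include hf in
/-- **`Sym_{R'}(R' ⊗ M) = R' ⊗ Sym_R M`**, as a pushout square of commutative rings. -/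
theorem isPushout_locMap :
    IsPushout (CommRingCat.ofHom (algebraMap R R'))
      (CommRingCat.ofHom (algebraMap R (SymmetricAlgebra R M)))
      (CommRingCat.ofHom (algebraMap R' (SymmetricAlgebra R' M')))
      (CommRingCat.ofHom (locMap (R' := R') f)) := by
  have w : CommRingCat.ofHom (algebraMap R R') ≫
        CommRingCat.ofHom (algebraMap R' (SymmetricAlgebra R' M')) =
      CommRingCat.ofHom (algebraMap R (SymmetricAlgebra R M)) ≫
        CommRingCat.ofHom (locMap (R' := R') f) := by
    ext r
    change algebraMap R' _ (algebraMap R R' r) = locMap (R' := R') f (algebraMap R _ r)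
    rw [symMap_algebraMap]
  have hcond : ∀ s : PushoutCocone (CommRingCat.ofHom (algebraMap R R'))
      (CommRingCat.ofHom (algebraMap R (SymmetricAlgebra R M))),
      ∀ r : R, s.inl.hom (algebraMap R R' r) = s.inr.hom (algebraMap R _ r) := fun s r =>
    congrArg (fun k => k.hom r) s.condition
  refine ⟨⟨w⟩, ⟨PushoutCocone.IsColimit.mk _
    (fun s => CommRingCat.ofHom (desc f hf s.inl.hom s.inr.hom (hcond s)))
    (fun s => ?_) (fun s => ?_) (fun s m hl hr => ?_)⟩⟩
  · ext r
    exact desc_algebraMap f hf s.inl.hom s.inr.hom (hcond s) r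
  · ext : 1
    exact desc_comp_locMap f hf s.inl.hom s.inr.hom (hcond s)
  · ext : 1
    refine desc_unique f hf s.inl.hom s.inr.hom (hcond s) m.hom (fun r => ?_) ?_
    · exact congrArg (fun k => k.hom r) hl
    · exact congrArg (fun k => k.hom) hr

end Groth.Agent.Lib.Helper18.SymBC
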