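import Mathlib
import Groth.Prelude.Def_RelSpec
import Groth.Agent.Lib.Helper18.SymQC5
import Groth.Agent.Lib.Helper42.QCohAffineSections
import Groth.Agent.Lib.Helper49.QCAlgModule

/-!
# A criterion for being the symmetric algebra: `Sym E(U) → A(U)` bijective on affines (helper18)
-/

set_option autoImplicit false
set_option linter.style.haveILetI false
universe u
open AlgebraicGeometry CategoryTheory Limits TopologicalSpace Opposite

namespace Groth.Agent.Lib.Helper18.SymQC

open Groth.Agent.Lib.Helper18.SymLoc Groth.Agent.Lib.Helper49 RelSpec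

variable {S : Scheme.{u}}

/-- a homomorphism of quasi-coherent algebras that is bijective over affine opens is an
isomorphism -/
theorem isIso_of_bijective_affine {A B : QCAlg S} (θ : A ⟶ B)
    (h : ∀ (U : S.Opens) (_ : IsAffineOpen U), Function.Bijective (θ.hom.app (op U)).hom) :
    IsIso θ := by
  have h1 : IsIso (QCAlg.Hom.toModuleMap θ) := by
    apply Groth.Agent.Lib.Helper42.isIso_of_app_bijective_of_cover
    intro x
    obtain ⟨_, ⟨U, hU, rfl⟩, hxU, -⟩ :=
      S.isBasis_affineOpens.exists_subset_of_mem_open (Set.mem_univ x) isOpen_univ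
    exact ⟨U, hU, hxU, h U hU⟩
  have h2 : ∀ U : (Opens S)ᵒᵖ, IsIso (θ.hom.app U) := by
    intro U
    rw [ConcreteCategory.isIso_iff_bijective]
    let ψ := inv (QCAlg.Hom.toModuleMap θ)
    have hl : ∀ s, ψ.app U.unop ((QCAlg.Hom.toModuleMap θ).app U.unop s) = s := fun s =>
      congrArg (fun k : A.toModule ⟶ A.toModule => k.app U.unop s)
        (IsIso.hom_inv_id (QCAlg.Hom.toModuleMap θ))
    have hr : ∀ s, (QCAlg.Hom.toModuleMap θ).app U.unop (ψ.app U.unop s) = s := fun s =>
      congrArg (fun k : B.toModule ⟶ B.toModule => k.app U.unop s)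
        (IsIso.inv_hom_id (QCAlg.Hom.toModuleMap θ))
    exact ⟨Function.LeftInverse.injective (g := fun s => ψ.app U.unop s) hl,
      Function.RightInverse.surjective (g := fun s => ψ.app U.unop s) hr⟩
  have h3 : IsIso θ.hom := NatIso.isIso_of_isIso_app θ.hom
  refine ⟨⟨inv θ.hom, ?_⟩, ?_, ?_⟩
  · rw [IsIso.comp_inv_eq]
    exact θ.comm.symm
  · apply QCAlg.hom_ext
    exact IsIso.hom_inv_id θ.hom
  · apply QCAlg.hom_ext
    exact IsIso.inv_hom_id θ.hom

/-- transport of the universal property along an isomorphism -/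
theorem isSymAlg_of_iso (E : S.Modules) {A A' : QCAlg S} (j : E ⟶ A.toModule) (hA : IsSymAlg E A j)
    (θ : A ⟶ A') [IsIso θ] (j' : E ⟶ A'.toModule) (hj' : j ≫ QCAlg.Hom.toModuleMap θ = j') :
    IsSymAlg E A' j' := by
  intro B φ
  obtain ⟨ψ, hψ, huniq⟩ := hA B φ
  refine ⟨inv θ ≫ ψ, ?_, fun ψ' hψ' => ?_⟩
  · change j' ≫ QCAlg.Hom.toModuleMap (inv θ ≫ ψ) = φ
    rw [← hj', toModuleMap_comp, Category.assoc, ← Category.assoc (QCAlg.Hom.toModuleMap θ),
      ← toModuleMap_comp, IsIso.hom_inv_id, toModuleMap_id, Category.id_comp]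
    exact hψ
  · have h1 : θ ≫ ψ' = ψ := by
      apply huniq
      change j ≫ QCAlg.Hom.toModuleMap (θ ≫ ψ') = φ
      rw [toModuleMap_comp, ← Category.assoc, hj']
      exact hψ'
    rw [← h1, IsIso.inv_hom_id_assoc]

/-- **Criterion.** `(A, j)` is the symmetric algebra of the quasi-coherent module `E` as soon as
`Sym E(U) → A(U)` is bijective for all affine opens `U`. -/
theorem isSymAlg_of_bijective_liftU (E : S.Modules) [E.IsQuasicoherent] (A : QCAlg S)
    (j : E ⟶ A.toModule)
    (h : ∀ (U : S.Opens) (_ : IsAffineOpen U), Function.Bijective (liftU E A j U)) :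
    IsSymAlg E A j := by
  have h1 : IsIso (psiHom E A j) := by
    apply isIso_of_bijective_affine
    intro U hU
    change Function.Bijective ((psiMap E A j).app (op U)).hom
    rw [psiMap_app E A j U hU]
    exact (h U hU).comp ((ConcreteCategory.isIso_iff_bijective (gam E U hU)).mp inferInstance)
  exact isSymAlg_of_iso E (jHom E) (isSymAlg E) (psiHom E A j) j (jHom_psiHom E A j)

end Groth.Agent.Lib.Helper18.SymQC
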