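import Mathlib
import Groth.Prelude.Def_RelSpec
import Groth.Agent.Lib.Helper18.SymQC5
import Groth.Agent.Lib.Helper18.EpiAffine
import Groth.Agent.Lib.Helper18.SpecMapClosed

/-!
# A surjection of quasi-coherent modules induces a closed immersion of vector bundles (helper18)
-/

set_option autoImplicit false
set_option linter.style.haveILetI false
universe u
open AlgebraicGeometry CategoryTheory Limits TopologicalSpace Opposite

namespace Groth.Agent.Lib.Helper18.SymQC

open Groth.Agent.Lib.Helper18.SymLoc RelSpec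

variable {S : Scheme.{u}} (E F : S.Modules) [E.IsQuasicoherent] [F.IsQuasicoherent]
  (v : E ⟶ F) (A B : QCAlg S) (j : E ⟶ A.toModule) (k : F ⟶ B.toModule)
  (ψ : A ⟶ B) (hψ : j ≫ QCAlg.Hom.toModuleMap ψ = v ≫ k)

include hψ in
theorem surjective_app_of_epi [Epi v] (hB : IsSymAlg F B k) (U : S.Opens) (hU : IsAffineOpen U) :
    Function.Surjective (ψ.hom.app (op U)).hom := by
  intro b
  obtain ⟨x, rfl⟩ := (bijective_liftU F B k hB U hU).2 b
  induction x using SymmetricAlgebra.induction with
  | algebraMap r =>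
    refine ⟨(A.str.app (op U)).hom r, ?_⟩
    rw [liftU_algebraMap]
    exact congrArg (fun k => k.hom r) (NatTrans.congr_app ψ.comm (op U))
  | ι m =>
    obtain ⟨e, rfl⟩ := EpiAffine.app_surjective_of_epi v hU m
    refine ⟨toSec A U (j.app U e), ?_⟩
    rw [liftU_ι]
    exact congrArg (fun k => toSec B U (k.app U e)) hψ
  | mul a b ha hb =>
    obtain ⟨a', ha'⟩ := ha
    obtain ⟨b', hb'⟩ := hb
    exact ⟨a' * b', by rw [map_mul, ha', hb', map_mul]⟩
  | add a b ha hb =>
    obtain ⟨a', ha'⟩ := ha
    obtain ⟨b', hb'⟩ := hb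
    exact ⟨a' + b', by rw [map_add, ha', hb', map_add]⟩

include hψ in
theorem isClosedImmersion_specMap_of_epi [Epi v] (hB : IsSymAlg F B k) :
    IsClosedImmersion (QCAlg.specMap ψ) :=
  SpecMapClosed.isClosedImmersion_specMap ψ
    (fun U hU => surjective_app_of_epi E F v A B j k ψ hψ hB U hU)

end Groth.Agent.Lib.Helper18.SymQC
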