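import Mathlib
import Groth.Agent.Lib.Helper42.SymProjHom
import Groth.Agent.Lib.Helper49.FiniteTypeAffine

/-!
# The degree-one part of a graded symmetric algebra (helper18)

For `E` quasi-coherent and `𝒯` its graded symmetric algebra through `j : E ⟶ 𝒯`, the degree-one
part of `𝒯(U)` over an affine open `U` is the image of `E(U)` (`SymFTDeg.exists_of_mem_deg_one`);
hence `𝒯.IsFTDeg 1` as soon as `E` is of finite type (`SymFTDeg.isFTDeg_one`).
-/

set_option autoImplicit false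
set_option linter.style.haveILetI false
universe u
open CategoryTheory CategoryTheory.Limits AlgebraicGeometry Opposite TopologicalSpace
noncomputable section

namespace Groth.Agent.Lib.Helper18.SymFTDeg

open Groth.Agent.Lib.Helper18.SymQC Groth.Agent.Lib.Helper18.SymLoc RelSpec
open Groth.Agent.Lib.Helper42.SymGrading Groth.Agent.Lib.Helper42.SymGrAlg
  Groth.Agent.Lib.Helper42.SymProjHom

variable {Y : Scheme.{u}} (E : Y.Modules) [E.IsQuasicoherent] (𝒯 : RelProj.QCGrAlg Y)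
  (j : E ⟶ 𝒯.toModule) (hj : RelProj.IsGrSymAlg E 𝒯 j)

/-- the graded ring homomorphism `Sym E(U) → 𝒯(U)` -/
def liftGr (U : Y.Opens) (hU : IsAffineOpen U) :
    deg Γ(Y, U) Γ(E, U) →+*ᵍ 𝒯.deg U hU where
  toRingHom := liftU E 𝒯.toQCAlg j U
  map_mem := fun hx => liftU_mem_deg 𝒯 E j hj.2 U hU hx

include hj in
/-- the degree-one part of `𝒯(U)` is the image of `E(U)` -/
theorem exists_of_mem_deg_one (U : Y.Opens) (hU : IsAffineOpen U)
    (x : 𝒯.presheaf.obj (op U)) (hx : x ∈ 𝒯.deg U hU 1) :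
    ∃ m : Γ(E, U), toSec 𝒯.toQCAlg U (j.app U m) = x := by
  obtain ⟨z, rfl⟩ := (bijective_liftU E 𝒯.toQCAlg j hj.1 U hU).2 x
  have h1 := (liftGr E 𝒯 j hj U hU).map_directSumDecompose (x := z) (i := 1)
  have h2 : (DirectSum.decompose (𝒯.deg U hU) (liftU E 𝒯.toQCAlg j U z) 1 :
      𝒯.presheaf.obj (op U)) = liftU E 𝒯.toQCAlg j U z :=
    DirectSum.decompose_of_mem_same _ hx
  have h3 : (DirectSum.decompose (deg Γ(Y, U) Γ(E, U)) z 1 : SymmetricAlgebra Γ(Y, U) Γ(E, U)) ∈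
      LinearMap.range (SymmetricAlgebra.ι Γ(Y, U) Γ(E, U)) := by
    have := SetLike.coe_mem (DirectSum.decompose (deg Γ(Y, U) Γ(E, U)) z 1)
    change _ ∈ LinearMap.range (SymmetricAlgebra.ι Γ(Y, U) Γ(E, U)) ^ 1 at this
    rwa [pow_one] at this
  obtain ⟨m, hm⟩ := h3
  refine ⟨m, ?_⟩
  rw [← liftU_ι E 𝒯.toQCAlg j U m, hm]
  exact h1.trans h2

include hj in
theorem isFTDeg_one (hft : SheafOfModules.IsFiniteType (R := Y.ringCatSheaf) E) :
    𝒯.IsFTDeg 1 := by
  classical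
  intro U hU
  have hfin : Module.Finite Γ(Y, U) Γ(E, U) :=
    Groth.Agent.Lib.Helper49.finite_sections_of_isFiniteType E hft hU
  obtain ⟨G, hG⟩ := hfin.fg_top
  letI := algB 𝒯.toQCAlg U
  refine ⟨G.image (linU E 𝒯.toQCAlg j U), ?_, ?_⟩
  · intro t ht
    rw [Finset.coe_image] at ht
    obtain ⟨g, -, rfl⟩ := ht
    exact hj.2 U hU g
  · intro x hx
    obtain ⟨m, rfl⟩ := exists_of_mem_deg_one E 𝒯 j hj U hU x hx
    have hm : m ∈ Submodule.span Γ(Y, U) (G : Set Γ(E, U)) := by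
      rw [hG]
      trivial
    have h1 : linU E 𝒯.toQCAlg j U m ∈
        Submodule.span Γ(Y, U) ((G.image (linU E 𝒯.toQCAlg j U) : Finset _) : Set _) := by
      rw [Finset.coe_image, ← Submodule.map_span]
      exact Submodule.mem_map_of_mem hm
    obtain ⟨c, -, hc⟩ := Submodule.mem_span_finset.mp h1
    refine ⟨c, ?_⟩
    change linU E 𝒯.toQCAlg j U m = _
    rw [← hc]
    refine Finset.sum_congr rfl fun t _ => ?_
    exact Algebra.smul_def _ _

end Groth.Agent.Lib.Helper18.SymFTDeg
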