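import Mathlib

/-!
# Kähler differentials of a symmetric algebra given by its universal property (helper18)

For `f : M →ₗ[R] B` with `IsSymmetricAlgebra f`: `B ⊗[R] M → Ω[B/R]`, `b ⊗ m ↦ b • d(f m)` is
bijective.  (Adapted from helper62's `SymKaehler`, which treats `SymmetricAlgebra R M` itself.)
-/

set_option autoImplicit false
universe u

namespace Groth.Agent.Lib.Helper18.SymKaehlerGen

open KaehlerDifferential TensorProduct

variable {R : Type u} [CommRing R] {M : Type u} [AddCommGroup M] [Module R M]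
  {B : Type u} [CommRing B] [Algebra R B] (f : M →ₗ[R] B) (hf : IsSymmetricAlgebra f)

/-- The algebra map `B → B ⊕ ε (B ⊗ M)`, `f m ↦ f m + ε (1 ⊗ m)`. -/
noncomputable def φ : B →ₐ[R] TrivSqZeroExt B (B ⊗[R] M) :=
  hf.lift
    ((TrivSqZeroExt.inlAlgHom R B (B ⊗[R] M)).toLinearMap ∘ₗ f
      + ((TrivSqZeroExt.inrHom B (B ⊗[R] M)).restrictScalars R) ∘ₗ (TensorProduct.mk R B M 1))

lemma φ_f (m : M) : φ f hf (f m) =
    TrivSqZeroExt.inl (f m) + TrivSqZeroExt.inr (1 ⊗ₜ m) := by
  rw [φ, hf.lift_eq]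
  simp

lemma fst_φ (c : B) : (φ f hf c).fst = c := by
  have : (TrivSqZeroExt.fstHom R B (B ⊗[R] M)).comp (φ f hf) = AlgHom.id R _ := by
    apply hf.algHom_ext
    ext m
    simp [φ_f]
  exact congr($this c)

/-- The universal derivation `B → B ⊗ M`, `f m ↦ 1 ⊗ m`. -/
noncomputable def dH : Derivation R B (B ⊗[R] M) where
  toLinearMap := ((TrivSqZeroExt.sndHom B (B ⊗[R] M)).restrictScalars R) ∘ₗ (φ f hf).toLinearMap
  map_one_eq_zero' := by simp
  leibniz' b b' := by
    simp only [LinearMap.coe_comp, LinearMap.coe_restrictScalars, Function.comp_apply,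
      AlgHom.toLinearMap_apply, map_mul, TrivSqZeroExt.sndHom_apply, TrivSqZeroExt.snd_mul,
      fst_φ, op_smul_eq_smul]

lemma dH_apply (c : B) : dH f hf c = (φ f hf c).snd := rfl

@[simp] lemma dH_f (m : M) : dH f hf (f m) = 1 ⊗ₜ m := by
  rw [dH_apply, φ_f]; simp

/-- `Ω[B / R] → B ⊗ M`. -/
noncomputable def fwd : Ω[B⁄R] →ₗ[B] (B ⊗[R] M) :=
  (dH f hf).liftKaehlerDifferential

/-- `B ⊗ M → Ω[B / R]`, `c ⊗ m ↦ c • d (f m)`. -/
noncomputable def bwd : (B ⊗[R] M) →ₗ[B] Ω[B⁄R] :=
  LinearMap.liftBaseChange B ((D R B).toLinearMap ∘ₗ f)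

@[simp] lemma fwd_D (c : B) : fwd f hf (D R _ c) = dH f hf c :=
  Derivation.liftKaehlerDifferential_comp_D _ _

@[simp] lemma bwd_tmul (c : B) (m : M) : bwd f (c ⊗ₜ m) = c • D R _ (f m) := by
  simp [bwd]

include hf in
lemma bwd_dH (c : B) : bwd f (dH f hf c) = D R _ c := by
  induction c using hf.induction with
  | algebraMap r => simp
  | ι m => simp
  | mul a b ha hb => rw [Derivation.leibniz, Derivation.leibniz, map_add, map_smul, map_smul, ha, hb]
  | add a b ha hb => rw [map_add, map_add, map_add, ha, hb]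

/-- `Ω[B / R] ≃ B ⊗[R] M`. -/
noncomputable def kaehlerEquiv : Ω[B⁄R] ≃ₗ[B] (B ⊗[R] M) :=
  LinearEquiv.ofLinearMap (fwd f hf) (bwd f)
    (by
      apply TensorProduct.AlgebraTensorModule.ext
      intro c m
      simp only [LinearMap.comp_apply, bwd_tmul, map_smul, fwd_D, dH_f, LinearMap.id_apply]
      rw [TensorProduct.smul_tmul', smul_eq_mul, mul_one])
    (by
      apply Derivation.liftKaehlerDifferential_unique
      ext c
      simp [bwd_dH f hf])

include hf in
theorem bijective_bwd : Function.Bijective (bwd f) :=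
  (kaehlerEquiv f hf).symm.bijective

end Groth.Agent.Lib.Helper18.SymKaehlerGen
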