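import Mathlib
import Groth.Prelude.Def_RelSpec
import Groth.Prelude.Def_Omega3
import Groth.Agent.Lib.Helper18.SymFT
import Groth.Agent.Lib.Helper18.SymKaehlerGen
import Groth.Agent.Lib.Helper49.UnitChart
import Groth.Agent.Lib.Helper51.OmegaUniv.Sections
import Groth.Agent.Lib.Helper42.QCohAffineSections

/-!
# The differentials of a vector bundle: `Ω_{V(E)/S} = p^* E` (helper18)
-/

set_option autoImplicit false
set_option linter.style.haveILetI false
universe u
open AlgebraicGeometry CategoryTheory Limits TopologicalSpace Opposite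

namespace Groth.Agent.Lib.Helper18.SymQC

open Groth.Agent.Lib.Helper18.SymLoc Groth.Agent.Lib.Helper49 RelSpec
  Groth.Agent.Lib.Helper49.UnitChart Groth.Agent.Lib.Helper18.SymKaehlerGen TensorProduct

variable {S : Scheme.{u}} (E : S.Modules) [E.IsQuasicoherent] (A : QCAlg S) (j : E ⟶ A.toModule)

/-- `inv gammaAff` of the structure map is `π^♯` -/
theorem inv_gammaAff_str (U : S.Opens) (hU : IsAffineOpen U) (r : Γ(S, U)) :
    haveI := isIso_gammaAff' A U hU
    (inv (A.gammaAff U hU)).hom ((A.str.app (op U)).hom r) = (A.π.app U).hom r := by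
  haveI := isIso_gammaAff' A U hU
  rw [π_app_eq A U hU]
  rfl

variable (Ω' : A.spec.Modules) (d : OmegaSh.Der A.π Ω')
  (φ : (Scheme.Modules.pullback A.π).obj E ⟶ Ω')
  (hφ : ∀ (U : S.Opens) (t : Γ(E, U)) (t' : Γ(A.spec, A.π ⁻¹ᵁ U)),
      A.gammaMap.app (op U) t' = j.app U t →
        φ.app (A.π ⁻¹ᵁ U) (OmegaSh.pullSect A.π E U t) = d.app (A.π ⁻¹ᵁ U) t')

include hφ in
theorem bijective_app_of_isUniversal (hA : IsSymAlg E A j) (hd : OmegaSh.IsUniversal d)
    (U : S.Opens) (hU : IsAffineOpen U) : Function.Bijective (φ.app (A.π ⁻¹ᵁ U)) := by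
  have hW : IsAffineOpen (A.π ⁻¹ᵁ U) := hU.preimage A.π
  haveI := isIso_gammaAff' A U hU
  letI := (A.π.appLE U (A.π ⁻¹ᵁ U) le_rfl).hom.toAlgebra
  letI : Module Γ(S, U) Γ((Scheme.Modules.pullback A.π).obj E, A.π ⁻¹ᵁ U) :=
    Module.compHom _ (A.π.appLE U (A.π ⁻¹ᵁ U) le_rfl).hom
  haveI : IsScalarTower Γ(S, U) Γ(A.spec, A.π ⁻¹ᵁ U)
      Γ((Scheme.Modules.pullback A.π).obj E, A.π ⁻¹ᵁ U) := IsScalarTower.of_compHom _ _ _
  obtain ⟨g, hg1, hg2⟩ := exists_isBaseChange_pullSLE A.π hU hW le_rfl E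
  obtain ⟨e, he⟩ := Groth.Agent.Lib.Helper51.OmegaUniv.exists_sections_equiv A.π hd hW hU le_rfl
  have halg : ∀ r : Γ(S, U), algebraMap Γ(S, U) Γ(A.spec, A.π ⁻¹ᵁ U) r = (A.π.app U).hom r := by
    intro r
    change (A.π.appLE U (A.π ⁻¹ᵁ U) le_rfl).hom r = _
    rw [← Scheme.Hom.app_eq_appLE]
  -- the structure map `E(U) → B`
  let f : Γ(E, U) →ₗ[Γ(S, U)] Γ(A.spec, A.π ⁻¹ᵁ U) :=
    { toFun := fun t => (inv (A.gammaAff U hU)).hom (toSec A U (j.app U t))
      map_add' := fun a b => by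
        have : j.app U (a + b) = j.app U a + j.app U b := map_add _ _ _
        rw [this]
        exact map_add (inv (A.gammaAff U hU)).hom _ _
      map_smul' := fun r t => by
        rw [Scheme.Modules.Hom.app_smul, toSec_smul, map_mul, inv_gammaAff_str, RingHom.id_apply,
          Algebra.smul_def, halg] }
  have hf : IsSymmetricAlgebra f := by
    have h1 : (SymmetricAlgebra.lift f).toRingHom =
        (inv (A.gammaAff U hU)).hom.comp (liftU E A j U) := by
      refine ringHom_ext _ _ (fun r => ?_) (fun t => ?_)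
      · rw [RingHom.comp_apply, liftU_algebraMap, inv_gammaAff_str, ← halg]
        exact (SymmetricAlgebra.lift f).commutes r
      · rw [RingHom.comp_apply, liftU_ι]
        exact SymmetricAlgebra.lift_ι_apply f t
    have h2 : Function.Bijective ((inv (A.gammaAff U hU)).hom.comp (liftU E A j U)) :=
      ((ConcreteCategory.isIso_iff_bijective (inv (A.gammaAff U hU))).mp inferInstance).comp
        (bijective_liftU E A j hA U hU)
    rw [← h1] at h2
    exact h2
  -- `φ` on pulled back sections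
  have hgφ : ∀ t : Γ(E, U), φ.app (A.π ⁻¹ᵁ U) (g t) = d.app (A.π ⁻¹ᵁ U) (f t) := by
    intro t
    have h3 : A.gammaMap.app (op U) (f t) = j.app U t := by
      rw [A.gammaMap_app U hU]
      change (inv (A.gammaAff U hU) ≫ A.gammaAff U hU).hom _ = _
      rw [IsIso.inv_hom_id]
      rfl
    rw [← hφ U t (f t) h3, hg1]
    congr 1
    change ((Scheme.Modules.pullback A.π).obj E).presheaf.map (homOfLE (le_refl _)).op _ = _
    have : homOfLE (le_refl (A.π ⁻¹ᵁ U)) = 𝟙 _ := rfl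
    rw [this, op_id, CategoryTheory.Functor.map_id]
    rfl
  -- the linear version of `φ`
  let φL : Γ((Scheme.Modules.pullback A.π).obj E, A.π ⁻¹ᵁ U) →ₗ[Γ(A.spec, A.π ⁻¹ᵁ U)]
      Γ(Ω', A.π ⁻¹ᵁ U) :=
    { toFun := φ.app (A.π ⁻¹ᵁ U)
      map_add' := map_add _
      map_smul' := fun r m => Scheme.Modules.Hom.app_smul φ r m }
  letI : Module Γ(S, U) Γ(Ω', A.π ⁻¹ᵁ U) :=
    Module.compHom _ (A.π.appLE U (A.π ⁻¹ᵁ U) le_rfl).hom
  haveI : IsScalarTower Γ(S, U) Γ(A.spec, A.π ⁻¹ᵁ U) Γ(Ω', A.π ⁻¹ᵁ U) :=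
    IsScalarTower.of_compHom _ _ _
  have key : φL ∘ₗ hg2.equiv.toLinearMap = e.toLinearMap ∘ₗ bwd f := by
    apply TensorProduct.AlgebraTensorModule.ext
    intro b t
    simp only [LinearMap.comp_apply, LinearEquiv.coe_coe, IsBaseChange.equiv_tmul, bwd_tmul,
      map_smul]
    congr 1
    rw [he]
    exact hgφ t
  have hbij : Function.Bijective (e.toLinearMap ∘ₗ bwd f) :=
    e.bijective.comp (bijective_bwd f hf)
  rw [← key] at hbij
  have h4 : Function.Bijective φL := by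
    have := hbij.comp hg2.equiv.symm.bijective
    convert this using 1
    ext x
    simp
  exact h4

include hφ in
/-- **`Ω_{V(E)/S} = p^* E`.** -/
theorem isIso_of_isUniversal (hA : IsSymAlg E A j) (hd : OmegaSh.IsUniversal d) : IsIso φ := by
  haveI : Ω'.IsQuasicoherent :=
    Groth.Agent.Lib.Helper51.OmegaUniv.isQuasicoherent_of_isUniversal A.π hd
  haveI : ((Scheme.Modules.pullback A.π).obj E).IsQuasicoherent :=
    Groth.Agent.Lib.Helper16.FlatPull.isQuasicoherent_pullback A.π E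
  apply Groth.Agent.Lib.Helper42.isIso_of_app_bijective_of_cover
  intro x
  obtain ⟨_, ⟨U, hU, rfl⟩, hxU, -⟩ :=
    S.isBasis_affineOpens.exists_subset_of_mem_open (Set.mem_univ (A.π x)) isOpen_univ
  exact ⟨A.π ⁻¹ᵁ U, hU.preimage A.π, hxU,
    bijective_app_of_isUniversal E A j Ω' d φ hφ hA hd U hU⟩

end Groth.Agent.Lib.Helper18.SymQC
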