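import Mathlib
import Groth.Agent.Lib.Helper18.SymProd

/-!
# `Sym(M ⊕ R) = Sym(M)[X]` (helper18)

If `A₁ = Sym_R(M)` (through a bijection `lam`), `B = A₁[X]` (through `eval₂ ι z`), and `P = M ⊕ R`,
then a ring map `Φ : Sym_R(P) → B` which is `ι ∘ lam` on `Sym M` and sends the generator of the
summand `R` to `z` is bijective.
-/

set_option autoImplicit false
set_option linter.style.haveILetI false
universe u

namespace Groth.Agent.Lib.Helper18.SymPoly

open Groth.Agent.Lib.Helper18.SymLoc Groth.Agent.Lib.Helper18.SymProd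

variable {R : Type u} [CommRing R] {M P : Type u} [AddCommGroup M] [Module R M]
  [AddCommGroup P] [Module R P]
  (inl : M →ₗ[R] P) (inr : R →ₗ[R] P) (fst : P →ₗ[R] M) (snd : P →ₗ[R] R)
  (htot : ∀ p, inl (fst p) + inr (snd p) = p)
  {A₁ B : Type u} [CommRing A₁] [CommRing B] (a : R →+* A₁) (ι : A₁ →+* B) (z : B)
  (lam : SymmetricAlgebra R M →+* A₁) (hlam : Function.Bijective lam)
  (hlam_alg : ∀ r, lam (algebraMap R _ r) = a r)
  (Φ : SymmetricAlgebra R P →+* B)
  (hΦ1 : ∀ r, Φ (algebraMap R _ r) = ι (a r))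
  (hΦ2 : ∀ s, Φ (symLin inl s) = ι (lam s))
  (hΦ3 : ∀ r, Φ (SymmetricAlgebra.ι R P (inr r)) = ι (a r) * z)
  (hpoly : Function.Bijective (Polynomial.eval₂RingHom ι z))

include htot hlam hlam_alg hΦ1 hΦ2 hΦ3 hpoly in
theorem bijective_of_poly : Function.Bijective Φ := by
  let e : Polynomial A₁ ≃+* B := RingEquiv.ofBijective _ hpoly
  let l : SymmetricAlgebra R M ≃+* A₁ := RingEquiv.ofBijective lam hlam
  let f₀ : A₁ →+* SymmetricAlgebra R P := (symLin inl).comp l.symm.toRingHom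
  let x₀ : SymmetricAlgebra R P := SymmetricAlgebra.ι R P (inr 1)
  let Ψ : B →+* SymmetricAlgebra R P := (Polynomial.eval₂RingHom f₀ x₀).comp e.symm.toRingHom
  have hΨ : ∀ q : Polynomial A₁, Ψ (Polynomial.eval₂ ι z q) = Polynomial.eval₂ f₀ x₀ q := by
    intro q
    change Polynomial.eval₂RingHom f₀ x₀ (e.symm (e q)) = _
    rw [e.symm_apply_apply]
    rfl
  have hf₀ : ∀ s, f₀ (lam s) = symLin inl s := by
    intro s
    change symLin inl (l.symm (l s)) = _
    rw [l.symm_apply_apply]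
  have hΦf₀ : ∀ a', Φ (f₀ a') = ι a' := by
    intro a'
    obtain ⟨s, rfl⟩ := hlam.2 a'
    rw [hf₀, hΦ2]
  have hΦx₀ : Φ x₀ = z := by
    change Φ (SymmetricAlgebra.ι R P (inr 1)) = z
    rw [hΦ3, map_one, map_one, one_mul]
  -- Φ ∘ Ψ = id
  have h1 : ∀ b, Φ (Ψ b) = b := by
    intro b
    obtain ⟨q, rfl⟩ := hpoly.2 b
    change Φ (Ψ (Polynomial.eval₂ ι z q)) = Polynomial.eval₂ ι z q
    rw [hΨ, Polynomial.hom_eval₂, hΦx₀]
    congr 1
    exact RingHom.ext hΦf₀
  -- Ψ ∘ Φ = id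
  have h2 : Ψ.comp Φ = RingHom.id _ := by
    refine ringHom_ext _ _ (fun r => ?_) (fun p => ?_)
    · rw [RingHom.comp_apply, RingHom.id_apply, hΦ1]
      have : ι (a r) = Polynomial.eval₂ ι z (Polynomial.C (a r)) := by rw [Polynomial.eval₂_C]
      rw [this, hΨ, Polynomial.eval₂_C, ← hlam_alg, hf₀, symLin_algebraMap]
    · rw [RingHom.comp_apply, RingHom.id_apply]
      have hp : SymmetricAlgebra.ι R P p =
          symLin inl (SymmetricAlgebra.ι R M (fst p)) + SymmetricAlgebra.ι R P (inr (snd p)) := by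
        rw [symLin_ι, ← map_add, htot]
      have h3 : Φ (SymmetricAlgebra.ι R P p) = Polynomial.eval₂ ι z
          (Polynomial.C (lam (SymmetricAlgebra.ι R M (fst p))) +
            Polynomial.C (a (snd p)) * Polynomial.X) := by
        rw [Polynomial.eval₂_add, Polynomial.eval₂_mul, Polynomial.eval₂_C, Polynomial.eval₂_C,
          Polynomial.eval₂_X]
        conv_lhs => rw [hp]
        rw [map_add, hΦ2, hΦ3]
      rw [h3, hΨ, Polynomial.eval₂_add, Polynomial.eval₂_mul, Polynomial.eval₂_C,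
        Polynomial.eval₂_C, Polynomial.eval₂_X, hf₀, ← hlam_alg, hf₀, symLin_algebraMap, symLin_ι]
      change _ + algebraMap R _ (snd p) * SymmetricAlgebra.ι R P (inr 1) = _
      rw [← Algebra.smul_def, ← map_smul, ← map_smul, smul_eq_mul, mul_one, ← map_add, htot]
  refine ⟨?_, fun b => ⟨Ψ b, h1 b⟩⟩
  intro x y hxy
  have hx := congrArg (fun k => k x) h2
  have hy := congrArg (fun k => k y) h2
  simp only [RingHom.comp_apply, RingHom.id_apply] at hx hy
  rw [← hx, ← hy, hxy]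

end Groth.Agent.Lib.Helper18.SymPoly
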