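import Mathlib
import Groth.Prelude.Def_RelSpec2
import Groth.Prelude.Def_RelProj2
import Groth.Agent.Lib.Helper18.SymCrit
import Groth.Agent.Lib.Helper18.SymPoly
import Groth.Agent.Lib.Helper18.SymBiprod
import Groth.Agent.Lib.Helper45.RegularSections

/-!
# `Sym(E ⊕ O) = Sym(E)[z]` for quasi-coherent algebras (helper18)
-/

set_option autoImplicit false
set_option linter.style.haveILetI false
universe u
open AlgebraicGeometry CategoryTheory Limits TopologicalSpace Opposite

namespace Groth.Agent.Lib.Helper18.SymQC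

open Groth.Agent.Lib.Helper18.SymLoc Groth.Agent.Lib.Helper18.SymProd Groth.Agent.Lib.Helper49 RelSpec

variable {Y : Scheme.{u}} (E : Y.Modules) [E.IsQuasicoherent]
  (𝒮 𝒮h : RelProj.QCGrAlg Y) (j : E ⟶ 𝒮.toModule) (hS : RelProj.IsGrSymAlg E 𝒮 j)
  (ι : 𝒮.toQCAlg ⟶ 𝒮h.toQCAlg) (z : 𝒮h.presheaf.obj (op ⊤)) (hz : RelCone.IsPolyOver 𝒮 𝒮h ι z)
  (k : Coh.structureModule Y ⟶ 𝒮h.toModule)
  (hk : ∀ U : Y.Opens, (k.app U) (1 : Γ(Y, U)) = RelCone.restrictTop 𝒮h z U)

include hk in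
theorem k_app (U : Y.Opens) (r : Γ(Y, U)) :
    toSec 𝒮h.toQCAlg U (k.app U r) =
      (𝒮h.str.app (op U)).hom r * RelCone.restrictTop 𝒮h z U := by
  have h1 : k.app U r = r • k.app U (1 : Γ(Y, U)) := by
    rw [← Scheme.Modules.Hom.app_smul]
    congr 1
    exact (mul_one r).symm
  rw [h1, toSec_smul, hk U]
  rfl

theorem total_apply (U : Y.Opens) (p : Γ(E ⊞ Coh.structureModule Y, U)) :
    appL (biprod.inl : E ⟶ E ⊞ Coh.structureModule Y) U
        (appL (biprod.fst : E ⊞ Coh.structureModule Y ⟶ E) U p) +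
      appL (biprod.inr : Coh.structureModule Y ⟶ E ⊞ Coh.structureModule Y) U
        (appL (biprod.snd : E ⊞ Coh.structureModule Y ⟶ Coh.structureModule Y) U p) = p := by
  have h : (appL (biprod.inl : E ⟶ E ⊞ Coh.structureModule Y) U) ∘ₗ
      (appL (biprod.fst : E ⊞ Coh.structureModule Y ⟶ E) U) +
      (appL (biprod.inr : Coh.structureModule Y ⟶ E ⊞ Coh.structureModule Y) U) ∘ₗ
      (appL (biprod.snd : E ⊞ Coh.structureModule Y ⟶ Coh.structureModule Y) U) =
      LinearMap.id := by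
    rw [appL_comp, appL_comp, ← appL_add, biprod.total, appL_id]
  exact LinearMap.congr_fun h p

include hS hz hk in
/-- the comparison `Sym(E ⊕ O)(U) → 𝒮h(U)` is bijective over affine opens -/
theorem bijective_liftU_biprod (U : Y.Opens) (hU : IsAffineOpen U) :
    haveI : (E ⊞ Coh.structureModule Y).IsQuasicoherent :=
      isQuasicoherent_biprod E (Coh.structureModule Y)
    Function.Bijective (liftU (E ⊞ Coh.structureModule Y) 𝒮h.toQCAlg
      (biprod.desc (j ≫ QCAlg.Hom.toModuleMap ι) k) U) := by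
  haveI : (E ⊞ Coh.structureModule Y).IsQuasicoherent :=
    isQuasicoherent_biprod E (Coh.structureModule Y)
  let φ : E ⊞ Coh.structureModule Y ⟶ 𝒮h.toModule := biprod.desc (j ≫ QCAlg.Hom.toModuleMap ι) k
  have hstr : ∀ r : Γ(Y, U), (𝒮h.str.app (op U)).hom r =
      (ι.hom.app (op U)).hom ((𝒮.str.app (op U)).hom r) := fun r =>
    (congrArg (fun k => k.hom r) (NatTrans.congr_app ι.comm (op U))).symm
  refine SymPoly.bijective_of_poly
    (appL (biprod.inl : E ⟶ E ⊞ Coh.structureModule Y) U)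
    (appL (biprod.inr : Coh.structureModule Y ⟶ E ⊞ Coh.structureModule Y) U)
    (appL (biprod.fst : E ⊞ Coh.structureModule Y ⟶ E) U)
    (appL (biprod.snd : E ⊞ Coh.structureModule Y ⟶ Coh.structureModule Y) U)
    (total_apply E U)
    (𝒮.str.app (op U)).hom (ι.hom.app (op U)).hom (RelCone.restrictTop 𝒮h z U)
    (liftU E 𝒮.toQCAlg j U) (bijective_liftU E 𝒮.toQCAlg j hS.1 U hU)
    (liftU_algebraMap E 𝒮.toQCAlg j U)
    (liftU (E ⊞ Coh.structureModule Y) 𝒮h.toQCAlg φ U) ?_ ?_ ?_ (hz.bij U hU)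
  · intro r
    rw [liftU_algebraMap, hstr]
  · intro s
    have h1 := liftU_symLin (biprod.inl : E ⟶ E ⊞ Coh.structureModule Y) j φ ι
      (biprod.inl_desc _ _).symm U
    exact congrArg (fun k => k s) h1
  · intro r
    rw [liftU_ι, ← hstr]
    have h2 : φ.app U (appL (biprod.inr : Coh.structureModule Y ⟶ E ⊞ Coh.structureModule Y) U r) =
        k.app U r :=
      congrArg (fun m : Coh.structureModule Y ⟶ 𝒮h.toModule => m.app U r) (biprod.inr_desc _ _)
    exact (congrArg (toSec 𝒮h.toQCAlg U) h2).trans (k_app 𝒮h z k hk U r)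

include hS hz hk in
/-- **`𝒮[z]` is the graded symmetric algebra of `E ⊕ O`.** -/
theorem isGrSymAlg_biprod :
    RelProj.IsGrSymAlg (E ⊞ Coh.structureModule Y) 𝒮h
      (biprod.desc (j ≫ QCAlg.Hom.toModuleMap ι) k) := by
  haveI : (E ⊞ Coh.structureModule Y).IsQuasicoherent :=
    isQuasicoherent_biprod E (Coh.structureModule Y)
  refine ⟨isSymAlg_of_bijective_liftU _ _ _
    (fun U hU => bijective_liftU_biprod E 𝒮 𝒮h j hS ι z hz k hk U hU), fun U hU x => ?_⟩
  let φ : E ⊞ Coh.structureModule Y ⟶ 𝒮h.toModule := biprod.desc (j ≫ QCAlg.Hom.toModuleMap ι) k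
  rw [← total_apply E U x]
  change toSec 𝒮h.toQCAlg U (φ.app U _) ∈ 𝒮h.deg U hU 1
  rw [map_add]
  refine AddSubgroup.add_mem _ ?_ ?_
  · have h1 : φ.app U (appL (biprod.inl : E ⟶ E ⊞ Coh.structureModule Y) U
        (appL (biprod.fst : E ⊞ Coh.structureModule Y ⟶ E) U x)) =
        (j ≫ QCAlg.Hom.toModuleMap ι).app U (appL (biprod.fst : E ⊞ Coh.structureModule Y ⟶ E) U x) :=
      congrArg (fun m : E ⟶ 𝒮h.toModule => m.app U _) (biprod.inl_desc _ _)
    rw [h1]
    exact hz.graded U hU 1 _ (hS.2 U hU _)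
  · have h2 : φ.app U (appL (biprod.inr : Coh.structureModule Y ⟶ E ⊞ Coh.structureModule Y) U
        (appL (biprod.snd : E ⊞ Coh.structureModule Y ⟶ Coh.structureModule Y) U x)) =
        k.app U (appL (biprod.snd : E ⊞ Coh.structureModule Y ⟶ Coh.structureModule Y) U x) :=
      congrArg (fun m : Coh.structureModule Y ⟶ 𝒮h.toModule => m.app U _) (biprod.inr_desc _ _)
    have h3 := SetLike.GradedMul.mul_mem (𝒮h.str_mem U hU
      (appL (biprod.snd : E ⊞ Coh.structureModule Y ⟶ Coh.structureModule Y) U x)) (hz.deg_z U hU)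
    rw [zero_add] at h3
    have h4 := (congrArg (toSec 𝒮h.toQCAlg U) h2).trans (k_app 𝒮h z k hk U
      (appL (biprod.snd : E ⊞ Coh.structureModule Y ⟶ Coh.structureModule Y) U x))
    have h5 : toSec 𝒮h.toQCAlg U (φ.app U
        (appL (biprod.inr : Coh.structureModule Y ⟶ E ⊞ Coh.structureModule Y) U
        (appL (biprod.snd : E ⊞ Coh.structureModule Y ⟶ Coh.structureModule Y) U x))) ∈
        𝒮h.deg U hU 1 := by
      rw [h4]
      exact h3
    exact h5

end Groth.Agent.Lib.Helper18.SymQC
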