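import Mathlib
import Groth.Prelude.Def_RelSpec
import Groth.Prelude.Def_RelProj4
import Groth.Agent.Lib.Helper18.SymQC5
import Groth.Agent.Lib.Helper18.SymBC
import Groth.Agent.Lib.Helper49.UnitChart

/-!
# The symmetric algebra commutes with base change: `Sym(g^* E) = g^* Sym(E)` (helper18)
-/

set_option autoImplicit false
set_option linter.style.haveILetI false
universe u
open AlgebraicGeometry CategoryTheory Limits TopologicalSpace Opposite

namespace Groth.Agent.Lib.Helper18.SymQC

open Groth.Agent.Lib.Helper18.SymLoc Groth.Agent.Lib.Helper18.SymBC RelSpec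
  Groth.Agent.Lib.Helper49 Groth.Agent.Lib.Helper49.UnitChart

variable {S S' : Scheme.{u}} (g : S' ⟶ S)
  (E : S.Modules) [E.IsQuasicoherent] (A : QCAlg S) (j : E ⟶ A.toModule)
  (B : QCAlg S') (j' : (Scheme.Modules.pullback g).obj E ⟶ B.toModule)
  (u : QHom g A B)
  (hu : ∀ (U : S.Opens) (x : Γ(E, U)),
      (u.app U).hom ((j.app U) x) =
        (j'.app (g ⁻¹ᵁ U)) (((Scheme.Modules.pullbackPushforwardAdjunction g).unit.app E).app U x))

include hu in
theorem appLE_j (U : S.Opens) (U' : S'.Opens) (hle : U' ≤ g ⁻¹ᵁ U) (x : Γ(E, U)) :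
    (u.appLE U U' hle).hom (toSec A U (j.app U x)) =
      toSec B U' (j'.app U' (pullSLE g E U U' hle x)) := by
  have h1 : (u.appLE U U' hle).hom (toSec A U (j.app U x)) =
      (B.presheaf.map (homOfLE hle).op).hom ((u.app U).hom ((j.app U) x)) := rfl
  rw [h1, hu]
  have hnat : j'.app U' (((Scheme.Modules.pullback g).obj E).presheaf.map (homOfLE hle).op
      ((((Scheme.Modules.pullbackPushforwardAdjunction g).unit.app E).app U) x)) =
      B.toModule.presheaf.map (homOfLE hle).op (j'.app (g ⁻¹ᵁ U)
        ((((Scheme.Modules.pullbackPushforwardAdjunction g).unit.app E).app U) x)) :=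
    congrArg (fun k => k.hom
      ((((Scheme.Modules.pullbackPushforwardAdjunction g).unit.app E).app U) x))
      (j'.mapPresheaf.naturality (homOfLE hle).op)
  exact hnat.symm

include hu in
/-- **`Sym(g^*E) = g^* Sym(E)`**: the canonical `g`-morphism is a base change. -/
theorem isQBaseChange (hA : IsSymAlg E A j)
    (hB : IsSymAlg ((Scheme.Modules.pullback g).obj E) B j') : IsQBaseChange u := by
  intro U hU U' hU' hle
  have _ : ((Scheme.Modules.pullback g).obj E).IsQuasicoherent :=
    Groth.Agent.Lib.Helper16.FlatPull.isQuasicoherent_pullback g E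
  letI := (g.appLE U U' hle).hom.toAlgebra
  letI : Module Γ(S, U) Γ((Scheme.Modules.pullback g).obj E, U') :=
    Module.compHom _ (g.appLE U U' hle).hom
  haveI : IsScalarTower Γ(S, U) Γ(S', U') Γ((Scheme.Modules.pullback g).obj E, U') :=
    IsScalarTower.of_compHom _ _ _
  obtain ⟨f, hf1, hf2⟩ := exists_isBaseChange_pullSLE g hU hU' hle E
  have h0 := isPushout_locMap f hf2
  have bA := bijective_liftU E A j hA U hU
  have bB := bijective_liftU ((Scheme.Modules.pullback g).obj E) B j' hB U' hU'
  let eA : CommRingCat.of (SymmetricAlgebra Γ(S, U) Γ(E, U)) ≅ A.presheaf.obj (op U) :=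
    (RingEquiv.ofBijective (liftU E A j U) bA).toCommRingCatIso
  let eB : CommRingCat.of (SymmetricAlgebra Γ(S', U') Γ((Scheme.Modules.pullback g).obj E, U')) ≅
      B.presheaf.obj (op U') :=
    (RingEquiv.ofBijective (liftU ((Scheme.Modules.pullback g).obj E) B j' U') bB).toCommRingCatIso
  refine h0.of_iso (Iso.refl _) (Iso.refl _) eA eB ?_ ?_ ?_ ?_
  · ext r
    rfl
  · ext r
    exact liftU_algebraMap E A j U r
  · ext r
    exact liftU_algebraMap ((Scheme.Modules.pullback g).obj E) B j' U' r
  · ext x
    change liftU ((Scheme.Modules.pullback g).obj E) B j' U' (locMap (R' := Γ(S', U')) f x) =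
      (u.appLE U U' hle).hom (liftU E A j U x)
    have key : (liftU ((Scheme.Modules.pullback g).obj E) B j' U').comp
        (locMap (R' := Γ(S', U')) f) = (u.appLE U U' hle).hom.comp (liftU E A j U) := by
      refine ringHom_ext _ _ (fun r => ?_) (fun m => ?_)
      · rw [RingHom.comp_apply, RingHom.comp_apply, symMap_algebraMap, liftU_algebraMap,
          liftU_algebraMap]
        exact (congrArg (fun k => k.hom r) (u.str_appLE U U' hle)).symm
      · rw [RingHom.comp_apply, RingHom.comp_apply, symMap_ι, liftU_ι, liftU_ι,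
          appLE_j g E A j B j' u hu U U' hle m]
        congr 2
        exact hf1 m
    exact congrArg (fun k => k x) key

end Groth.Agent.Lib.Helper18.SymQC
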