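import Mathlib
import Groth.Prelude.Def_RelSpec
import Groth.Prelude.Def_RelProj4
import Groth.Agent.Lib.Helper18.SymPull

/-!
# The canonical `g`-morphism `Sym(E) → g_* Sym(g^* E)` (helper18)

For `g : S' ⟶ S`, a quasi-coherent `E` on `S` with symmetric algebra `(A, j)` and any quasi-coherent
algebra `B` on `S'` with a module map `j' : g^*E ⟶ B`, we construct the `g`-morphism of algebras
`u : A → g_* B` extending `E → g_* g^* E → g_* B`.
-/

set_option autoImplicit false
set_option linter.style.haveILetI false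
universe u
open AlgebraicGeometry CategoryTheory Limits TopologicalSpace Opposite

namespace Groth.Agent.Lib.Helper18.SymQHom

open Groth.Agent.Lib.Helper18.SymLoc Groth.Agent.Lib.Helper18.SymQC RelSpec
  Groth.Agent.Lib.Helper49 Groth.Agent.Lib.Helper49.UnitChart
  Groth.Agent.Lib.Helper11.PullbackBasis

section homOfAffine

variable {S : Scheme.{u}} (P F : TopCat.Presheaf CommRingCat.{u} S) (hF : F.IsSheaf)
  (d : ∀ (U : S.Opens) (_ : IsAffineOpen U), P.obj (op U) ⟶ F.obj (op U))
  (hd : ∀ {U V : S.Opens} (hU : IsAffineOpen U) (hV : IsAffineOpen V) (h : V ≤ U),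
    P.map (homOfLE h).op ≫ d V hV = d U hU ≫ F.map (homOfLE h).op)

/-- the family on the affine site -/
noncomputable def restrictHom :
    (Scheme.AffineZariskiSite.toOpensFunctor S).op ⋙ P ⟶
      (Scheme.AffineZariskiSite.toOpensFunctor S).op ⋙ F where
  app U := d U.unop.1 U.unop.2
  naturality U V i :=
    hd U.unop.2 V.unop.2 (Scheme.AffineZariskiSite.toOpens_mono i.unop.le)

/-- a map of presheaves of rings into a sheaf from compatible maps over affine opens -/
noncomputable def homOfAffine : P ⟶ F :=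
  Functor.IsCoverDense.restrictHomEquivHom (G := Scheme.AffineZariskiSite.toOpensFunctor S)
    (K := Opens.grothendieckTopology S) (ℱ := P)
    (ℱ' := (⟨F, hF⟩ : TopCat.Sheaf CommRingCat.{u} S.carrier))
    (restrictHom P F d hd)

theorem homOfAffine_restrict :
    (Scheme.AffineZariskiSite.toOpensFunctor S).op.whiskerLeft (homOfAffine P F hF d hd) =
      restrictHom P F d hd :=
  (Functor.IsCoverDense.restrictHomEquivHom (G := Scheme.AffineZariskiSite.toOpensFunctor S)
    (K := Opens.grothendieckTopology S) (ℱ := P)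
    (ℱ' := (⟨F, hF⟩ : TopCat.Sheaf CommRingCat.{u} S.carrier))).symm_apply_apply _

theorem homOfAffine_app (U : S.Opens) (hU : IsAffineOpen U) :
    (homOfAffine P F hF d hd).app (op U) = d U hU :=
  NatTrans.congr_app (homOfAffine_restrict P F hF d hd) (op ⟨U, hU⟩)

include hF in
/-- maps of presheaves of rings into a sheaf are determined on affine opens -/
theorem hom_ext_affine_sheaf (α β : P ⟶ F)
    (H : ∀ (U : S.Opens) (_ : IsAffineOpen U), α.app (op U) = β.app (op U)) : α = β := by
  apply (Functor.IsCoverDense.restrictHomEquivHom (G := Scheme.AffineZariskiSite.toOpensFunctor S)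
    (K := Opens.grothendieckTopology S) (ℱ := P)
    (ℱ' := (⟨F, hF⟩ : TopCat.Sheaf CommRingCat.{u} S.carrier))).symm.injective
  ext U : 2
  exact H U.unop.1 U.unop.2

end homOfAffine

variable {S S' : Scheme.{u}} (g : S' ⟶ S) (E : S.Modules)
  (A : QCAlg S) (j : E ⟶ A.toModule)
  (B : QCAlg S') (j' : (Scheme.Modules.pullback g).obj E ⟶ B.toModule)

/-- the unit on sections, restricted, as an additive map -/
noncomputable def pullAdd (U : S.Opens) (W : S'.Opens) (h : W ≤ g ⁻¹ᵁ U) :
    Γ(E, U) →+ Γ((Scheme.Modules.pullback g).obj E, W) :=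
  AddMonoidHom.mk' (pullSLE g E U W h) (pullSLE_add g E U W h)

theorem pullAdd_apply (U : S.Opens) (W : S'.Opens) (h : W ≤ g ⁻¹ᵁ U) (m : Γ(E, U)) :
    pullAdd g E U W h m = pullSLE g E U W h m := rfl

/-- `Sym_{O(U)} E(U) → B(W)` for `W ⊆ g⁻¹ U` -/
noncomputable def dLE (U : S.Opens) (W : S'.Opens) (h : W ≤ g ⁻¹ᵁ U) :
    SymmetricAlgebra Γ(S, U) Γ(E, U) →+* B.presheaf.obj (op W) :=
  (liftU ((Scheme.Modules.pullback g).obj E) B j' W).comp
    (symMap (g.appLE U W h).hom (pullAdd g E U W h) (pullSLE_smul g E U W h))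

theorem dLE_algebraMap (U : S.Opens) (W : S'.Opens) (h : W ≤ g ⁻¹ᵁ U) (r : Γ(S, U)) :
    dLE g E B j' U W h (algebraMap _ _ r) = (B.str.app (op W)).hom ((g.appLE U W h).hom r) := by
  unfold dLE
  rw [RingHom.comp_apply, symMap_algebraMap, liftU_algebraMap]

theorem dLE_ι (U : S.Opens) (W : S'.Opens) (h : W ≤ g ⁻¹ᵁ U) (m : Γ(E, U)) :
    dLE g E B j' U W h (SymmetricAlgebra.ι _ _ m) =
      toSec B W (j'.app W (pullSLE g E U W h m)) := by
  unfold dLE
  rw [RingHom.comp_apply, symMap_ι, liftU_ι]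
  rfl

theorem dLE_res {U V : S.Opens} (hVU : V ≤ U) {W W' : S'.Opens} (hW : W ≤ g ⁻¹ᵁ U)
    (hW' : W' ≤ g ⁻¹ᵁ V) (hWW : W' ≤ W) :
    (B.presheaf.map (homOfLE hWW).op).hom.comp (dLE g E B j' U W hW) =
      (dLE g E B j' V W' hW').comp (resSym E hVU) := by
  refine ringHom_ext _ _ (fun r => ?_) (fun m => ?_)
  · rw [RingHom.comp_apply, RingHom.comp_apply, dLE_algebraMap, resSym_algebraMap, dLE_algebraMap]
    have h1 : (B.presheaf.map (homOfLE hWW).op).hom ((B.str.app (op W)).hom ((g.appLE U W hW).hom r)) =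
        (B.str.app (op W')).hom ((S'.presheaf.map (homOfLE hWW).op).hom ((g.appLE U W hW).hom r)) :=
      (congrArg (fun ψ => ψ.hom ((g.appLE U W hW).hom r)) (B.str.naturality (homOfLE hWW).op)).symm
    rw [h1]
    congr 1
    have h2 : g.appLE U W hW ≫ S'.presheaf.map (homOfLE hWW).op = g.appLE U W' (hWW.trans hW) :=
      Scheme.Hom.appLE_map g hW (homOfLE hWW).op
    have h3 : S.presheaf.map (homOfLE hVU).op ≫ g.appLE V W' hW' = g.appLE U W' (hWW.trans hW) :=
      Scheme.Hom.map_appLE g hW' (homOfLE hVU).op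
    exact (congrArg (fun ψ => ψ.hom r) h2).trans (congrArg (fun ψ => ψ.hom r) h3).symm
  · rw [RingHom.comp_apply, RingHom.comp_apply, dLE_ι, resSym_ι, dLE_ι]
    have h1 : pullSLE g E V W' hW' ((E.presheaf.map (homOfLE hVU).op).hom m) =
        pullSLE g E U W' (hWW.trans hW) m := pullSLE_mres g E hVU W' hW' m
    have h2 : mres ((Scheme.Modules.pullback g).obj E) hWW (pullSLE g E U W hW m) =
        pullSLE g E U W' (hWW.trans hW) m := mres_pullSLE g E U hW hWW m
    rw [h1, ← h2]
    have hnat : j'.app W' (mres ((Scheme.Modules.pullback g).obj E) hWW (pullSLE g E U W hW m)) =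
        B.toModule.presheaf.map (homOfLE hWW).op (j'.app W (pullSLE g E U W hW m)) :=
      congrArg (fun k => k.hom (pullSLE g E U W hW m)) (j'.mapPresheaf.naturality (homOfLE hWW).op)
    rw [hnat]
    rfl

section construct

variable [E.IsQuasicoherent] (hA : IsSymAlg E A j)

/-- `A(U) = Sym E(U)` over an affine open -/
noncomputable def symEquiv (U : S.Opens) (hU : IsAffineOpen U) :
    SymmetricAlgebra Γ(S, U) Γ(E, U) ≃+* A.presheaf.obj (op U) :=
  RingEquiv.ofBijective (liftU E A j U) (bijective_liftU E A j hA U hU)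

theorem symEquiv_apply (U : S.Opens) (hU : IsAffineOpen U) (y : SymmetricAlgebra Γ(S, U) Γ(E, U)) :
    symEquiv E A j hA U hU y = liftU E A j U y := rfl

theorem symEquiv_symm_liftU (U : S.Opens) (hU : IsAffineOpen U)
    (y : SymmetricAlgebra Γ(S, U) Γ(E, U)) :
    (symEquiv E A j hA U hU).symm (liftU E A j U y) = y :=
  (symEquiv E A j hA U hU).symm_apply_apply y

/-- the map `A(U) → B(g⁻¹ U)` over an affine open `U` -/
noncomputable def dAff (U : S.Opens) (hU : IsAffineOpen U) :
    A.presheaf.obj (op U) ⟶ (g.base _* B.presheaf).obj (op U) :=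
  CommRingCat.ofHom ((dLE g E B j' U (g ⁻¹ᵁ U) le_rfl).comp
    (symEquiv E A j hA U hU).symm.toRingHom)

theorem dAff_liftU (U : S.Opens) (hU : IsAffineOpen U) (y : SymmetricAlgebra Γ(S, U) Γ(E, U)) :
    (dAff g E A j B j' hA U hU).hom (liftU E A j U y) = dLE g E B j' U (g ⁻¹ᵁ U) le_rfl y := by
  change dLE g E B j' U (g ⁻¹ᵁ U) le_rfl ((symEquiv E A j hA U hU).symm (liftU E A j U y)) = _
  rw [symEquiv_symm_liftU]

theorem dAff_natural {U V : S.Opens} (hU : IsAffineOpen U) (hV : IsAffineOpen V) (h : V ≤ U) :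
    A.presheaf.map (homOfLE h).op ≫ dAff g E A j B j' hA V hV =
      dAff g E A j B j' hA U hU ≫ (g.base _* B.presheaf).map (homOfLE h).op := by
  ext x
  obtain ⟨y, rfl⟩ := (bijective_liftU E A j hA U hU).2 x
  change (dAff g E A j B j' hA V hV).hom ((A.presheaf.map (homOfLE h).op).hom (liftU E A j U y)) =
    (B.presheaf.map (homOfLE (g.preimage_mono h)).op).hom
      ((dAff g E A j B j' hA U hU).hom (liftU E A j U y))
  have h1 : (A.presheaf.map (homOfLE h).op).hom (liftU E A j U y) =
      liftU E A j V (resSym E h y) := congrArg (fun k => k y) (liftU_res E A j h)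
  rw [h1, dAff_liftU, dAff_liftU]
  exact (congrArg (fun k => k y)
    (dLE_res g E B j' h (le_refl (g ⁻¹ᵁ U)) (le_refl (g ⁻¹ᵁ V)) (g.preimage_mono h))).symm

/-- the map of presheaves of rings `A → g_* B` -/
noncomputable def uMap : A.presheaf ⟶ g.base _* B.presheaf :=
  homOfAffine A.presheaf (g.base _* B.presheaf)
    (TopCat.Sheaf.pushforward_sheaf_of_sheaf g.base B.isSheaf)
    (dAff g E A j B j' hA) (dAff_natural g E A j B j' hA)

theorem uMap_app (U : S.Opens) (hU : IsAffineOpen U) :
    (uMap g E A j B j' hA).app (op U) = dAff g E A j B j' hA U hU :=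
  homOfAffine_app _ _ _ _ _ U hU

theorem str_uMap : A.str ≫ uMap g E A j B j' hA =
    g.c ≫ (TopCat.Presheaf.pushforward CommRingCat.{u} g.base).map B.str := by
  refine hom_ext_affine_sheaf _ _ (TopCat.Sheaf.pushforward_sheaf_of_sheaf g.base B.isSheaf) _ _
    (fun U hU => ?_)
  rw [NatTrans.comp_app, uMap_app g E A j B j' hA U hU]
  ext r
  change (dAff g E A j B j' hA U hU).hom ((A.str.app (op U)).hom r) =
    (B.str.app (op (g ⁻¹ᵁ U))).hom ((g.app U).hom r)
  rw [← liftU_algebraMap E A j U r, dAff_liftU, dLE_algebraMap, Scheme.Hom.appLE_eq_app]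

/-- **the canonical `g`-morphism `Sym(E) → g_* B`** -/
noncomputable def symQHom : QHom g A B where
  app U := (uMap g E A j B j' hA).app (op U)
  naturality i := ((uMap g E A j B j' hA).naturality (homOfLE i).op).symm
  str_app U := NatTrans.congr_app (str_uMap g E A j B j' hA) (op U)

theorem symQHom_app_liftU (U : S.Opens) (hU : IsAffineOpen U)
    (y : SymmetricAlgebra Γ(S, U) Γ(E, U)) :
    ((symQHom g E A j B j' hA).app U).hom (liftU E A j U y) =
      dLE g E B j' U (g ⁻¹ᵁ U) le_rfl y := by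
  change ((uMap g E A j B j' hA).app (op U)).hom (liftU E A j U y) = _
  rw [uMap_app g E A j B j' hA U hU, dAff_liftU]

theorem symQHom_appLE_liftU (U : S.Opens) (hU : IsAffineOpen U) (U' : S'.Opens)
    (hle : U' ≤ g ⁻¹ᵁ U) (y : SymmetricAlgebra Γ(S, U) Γ(E, U)) :
    ((symQHom g E A j B j' hA).appLE U U' hle).hom (liftU E A j U y) =
      dLE g E B j' U U' hle y := by
  change (B.presheaf.map (homOfLE hle).op).hom
    (((symQHom g E A j B j' hA).app U).hom (liftU E A j U y)) = _
  rw [symQHom_app_liftU g E A j B j' hA U hU]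
  have h := dLE_res g E B j' (le_refl U) (le_refl (g ⁻¹ᵁ U)) hle hle
  rw [resSym_self, RingHom.comp_id] at h
  exact congrArg (fun k => k y) h

theorem symQHom_appLE_j (U : S.Opens) (hU : IsAffineOpen U) (U' : S'.Opens)
    (hle : U' ≤ g ⁻¹ᵁ U) (x : Γ(E, U)) :
    ((symQHom g E A j B j' hA).appLE U U' hle).hom (toSec A U (j.app U x)) =
      toSec B U' (j'.app U' (pullSLE g E U U' hle x)) := by
  rw [← liftU_ι E A j U x, symQHom_appLE_liftU g E A j B j' hA U hU, dLE_ι]

end construct

section basechange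

open Groth.Agent.Lib.Helper18.SymBC

variable [E.IsQuasicoherent] (hA : IsSymAlg E A j)

/-- **`Sym(g^*E) = g^* Sym(E)`**: the canonical `g`-morphism is a base change. -/
theorem isQBaseChange_symQHom (hB : IsSymAlg ((Scheme.Modules.pullback g).obj E) B j') :
    IsQBaseChange (symQHom g E A j B j' hA) := by
  intro U hU U' hU' hle
  have _ : ((Scheme.Modules.pullback g).obj E).IsQuasicoherent :=
    Groth.Agent.Lib.Helper16.FlatPull.isQuasicoherent_pullback g E
  letI := (g.appLE U U' hle).hom.toAlgebra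
  letI : Module Γ(S, U) Γ((Scheme.Modules.pullback g).obj E, U') :=
    Module.compHom _ (g.appLE U U' hle).hom
  haveI : IsScalarTower Γ(S, U) Γ(S', U') Γ((Scheme.Modules.pullback g).obj E, U') :=
    IsScalarTower.of_compHom _ _ _
  obtain ⟨f, hf1, hf2⟩ := exists_isBaseChange_pullSLE g hU hU' hle E
  have h0 := isPushout_locMap f hf2
  have bA := bijective_liftU E A j hA U hU
  have bB := bijective_liftU ((Scheme.Modules.pullback g).obj E) B j' hB U' hU'
  let eA : CommRingCat.of (SymmetricAlgebra Γ(S, U) Γ(E, U)) ≅ A.presheaf.obj (op U) :=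
    (RingEquiv.ofBijective (liftU E A j U) bA).toCommRingCatIso
  let eB : CommRingCat.of (SymmetricAlgebra Γ(S', U') Γ((Scheme.Modules.pullback g).obj E, U')) ≅
      B.presheaf.obj (op U') :=
    (RingEquiv.ofBijective (liftU ((Scheme.Modules.pullback g).obj E) B j' U') bB).toCommRingCatIso
  refine h0.of_iso (Iso.refl _) (Iso.refl _) eA eB ?_ ?_ ?_ ?_
  · ext r
    rfl
  · ext r
    exact liftU_algebraMap E A j U r
  · ext r
    exact liftU_algebraMap ((Scheme.Modules.pullback g).obj E) B j' U' r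
  · ext x
    change liftU ((Scheme.Modules.pullback g).obj E) B j' U' (locMap (R' := Γ(S', U')) f x) =
      ((symQHom g E A j B j' hA).appLE U U' hle).hom (liftU E A j U x)
    have key : (liftU ((Scheme.Modules.pullback g).obj E) B j' U').comp
        (locMap (R' := Γ(S', U')) f) =
        ((symQHom g E A j B j' hA).appLE U U' hle).hom.comp (liftU E A j U) := by
      refine ringHom_ext _ _ (fun r => ?_) (fun m => ?_)
      · rw [RingHom.comp_apply, RingHom.comp_apply, symMap_algebraMap, liftU_algebraMap,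
          liftU_algebraMap]
        exact (congrArg (fun k => k.hom r) ((symQHom g E A j B j' hA).str_appLE U U' hle)).symm
      · rw [RingHom.comp_apply, RingHom.comp_apply, symMap_ι, liftU_ι, liftU_ι,
          symQHom_appLE_j g E A j B j' hA U hU U' hle m]
        congr 2
        exact hf1 m
    exact congrArg (fun k => k x) key

end basechange

end Groth.Agent.Lib.Helper18.SymQHom
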