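import Mathlib
import Groth.Prelude.Def_RelSpec
import Groth.Prelude.Def_RelProj2
import Groth.Prelude.Def_RelProj4
import Groth.Agent.Lib.Helper18.SymQHom

/-!
# The canonical graded `g`-morphism `Sym(E) → g_* Sym(g^* E)` (helper18)
-/

set_option autoImplicit false
set_option linter.style.haveILetI false
universe u
open AlgebraicGeometry CategoryTheory Limits TopologicalSpace Opposite

namespace Groth.Agent.Lib.Helper18.GrClosure

open DirectSum

/-- a ring homomorphism between graded rings which maps a generating set of homogeneous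
elements to homogeneous elements of the same degree is graded -/
theorem map_mem_of_closure {A B : Type*} [CommRing A] [CommRing B]
    (𝒜 : ℕ → AddSubgroup A) [GradedRing 𝒜] (ℬ : ℕ → AddSubgroup B) [GradedRing ℬ] (φ : A →+* B)
    (T : Set A) (hT : Subring.closure T = ⊤) (h : ∀ t ∈ T, ∃ d, t ∈ 𝒜 d ∧ φ t ∈ ℬ d)
    (d : ℕ) (x : A) (hx : x ∈ 𝒜 d) : φ x ∈ ℬ d := by
  classical
  let H : Submonoid A :=
    { carrier := {x | ∃ d, x ∈ 𝒜 d ∧ φ x ∈ ℬ d}
      one_mem' := ⟨0, SetLike.one_mem_graded 𝒜, by rw [map_one]; exact SetLike.one_mem_graded ℬ⟩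
      mul_mem' := by
        rintro a b ⟨d, ha, ha'⟩ ⟨e, hb, hb'⟩
        exact ⟨d + e, SetLike.mul_mem_graded ha hb, by
          rw [map_mul]; exact SetLike.mul_mem_graded ha' hb'⟩ }
  have hTH : Submonoid.closure T ≤ H := Submonoid.closure_le.mpr h
  have key : ∀ x : A, ∀ d, φ (decompose 𝒜 x d : A) = (decompose ℬ (φ x) d : B) := by
    intro x
    have hx : x ∈ Subring.closure T := by rw [hT]; trivial
    rw [Subring.mem_closure_iff] at hx
    induction hx using AddSubgroup.closure_induction with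
    | mem y hy =>
      obtain ⟨e, hye, hφe⟩ := hTH hy
      intro d
      by_cases hde : e = d
      · subst hde
        rw [decompose_of_mem_same 𝒜 hye, decompose_of_mem_same ℬ hφe]
      · rw [decompose_of_mem_ne 𝒜 hye hde, decompose_of_mem_ne ℬ hφe hde, map_zero]
    | zero => intro d; simp
    | add a b _ _ ha hb =>
      intro d
      rw [decompose_add, DirectSum.add_apply, AddMemClass.coe_add, map_add, ha d, hb d, map_add,
        decompose_add, DirectSum.add_apply, AddMemClass.coe_add]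
    | neg a _ ha =>
      intro d
      rw [decompose_neg, map_neg, decompose_neg]
      have e1 : ((-(decompose 𝒜) a) d : A) = -((decompose 𝒜 a d : 𝒜 d) : A) := rfl
      have e2 : ((-(decompose ℬ) (φ a)) d : B) = -((decompose ℬ (φ a) d : ℬ d) : B) := rfl
      rw [e1, e2, map_neg, ha d]
  have h1 := key x d
  rw [decompose_of_mem_same 𝒜 hx] at h1
  rw [h1]
  exact SetLike.coe_mem _

end Groth.Agent.Lib.Helper18.GrClosure

namespace Groth.Agent.Lib.Helper18.SymQHom

open Groth.Agent.Lib.Helper18.SymLoc Groth.Agent.Lib.Helper18.SymQC RelSpec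
  Groth.Agent.Lib.Helper49 Groth.Agent.Lib.Helper49.UnitChart
  Groth.Agent.Lib.Helper18.GrClosure

variable {S S' : Scheme.{u}} (g : S' ⟶ S) (E : S.Modules) [E.IsQuasicoherent]

/-- over an affine open, a symmetric algebra is generated as a ring by the functions and `E` -/
theorem closure_eq_top (A : QCAlg S) (j : E ⟶ A.toModule) (hA : IsSymAlg E A j) (U : S.Opens)
    (hU : IsAffineOpen U) :
    Subring.closure (Set.range (A.str.app (op U)).hom ∪
      Set.range (fun m : Γ(E, U) => toSec A U (j.app U m))) = ⊤ := by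
  rw [eq_top_iff]
  intro x _
  obtain ⟨y, rfl⟩ := (bijective_liftU E A j hA U hU).2 x
  clear * -
  induction y using SymmetricAlgebra.induction with
  | algebraMap r =>
    rw [liftU_algebraMap]
    exact Subring.subset_closure (Or.inl ⟨r, rfl⟩)
  | ι m =>
    rw [liftU_ι]
    exact Subring.subset_closure (Or.inr ⟨m, rfl⟩)
  | mul a b ha hb =>
    rw [map_mul]
    exact Subring.mul_mem _ ha hb
  | add a b ha hb =>
    rw [map_add]
    exact Subring.add_mem _ ha hb

variable (𝒮 : RelProj.QCGrAlg S) (j : E ⟶ 𝒮.toModule) (hj : RelProj.IsGrSymAlg E 𝒮 j)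
  (𝒮' : RelProj.QCGrAlg S') (j' : (Scheme.Modules.pullback g).obj E ⟶ 𝒮'.toModule)
  (hj' : ∀ (U' : S'.Opens) (hU' : IsAffineOpen U')
    (x : Γ((Scheme.Modules.pullback g).obj E, U')), (j'.app U') x ∈ 𝒮'.deg U' hU' 1)

/-- **the canonical graded `g`-morphism `Sym(E) → g_* 𝒮'`** for a graded algebra `𝒮'` with a map
from `g^* E` landing in degree one -/
noncomputable def symQGrHom : RelProj.QGrHom g 𝒮 𝒮' where
  toQHom := symQHom g E 𝒮.toQCAlg j 𝒮'.toQCAlg j' hj.1
  map_mem U hU U' hU' hle {d x} hx := by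
    refine map_mem_of_closure (𝒮.deg U hU) (𝒮'.deg U' hU')
      ((symQHom g E 𝒮.toQCAlg j 𝒮'.toQCAlg j' hj.1).appLE U U' hle).hom _
      (closure_eq_top E 𝒮.toQCAlg j hj.1 U hU) ?_ d x hx
    rintro t (⟨r, rfl⟩ | ⟨m, rfl⟩)
    · refine ⟨0, 𝒮.str_mem U hU r, ?_⟩
      have h1 := congrArg (fun k => k.hom r)
        ((symQHom g E 𝒮.toQCAlg j 𝒮'.toQCAlg j' hj.1).str_appLE U U' hle)
      change ((symQHom g E 𝒮.toQCAlg j 𝒮'.toQCAlg j' hj.1).appLE U U' hle).hom
        ((𝒮.str.app (op U)).hom r) = (𝒮'.str.app (op U')).hom ((g.appLE U U' hle).hom r) at h1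
      rw [h1]
      exact 𝒮'.str_mem U' hU' _
    · refine ⟨1, hj.2 U hU m, ?_⟩
      change ((symQHom g E 𝒮.toQCAlg j 𝒮'.toQCAlg j' hj.1).appLE U U' hle).hom
        (toSec 𝒮.toQCAlg U (j.app U m)) ∈ _
      rw [symQHom_appLE_j g E 𝒮.toQCAlg j 𝒮'.toQCAlg j' hj.1 U hU U' hle m]
      exact hj' U' hU' _

theorem symQGrHom_toQHom :
    (symQGrHom g E 𝒮 j hj 𝒮' j' hj').toQHom = symQHom g E 𝒮.toQCAlg j 𝒮'.toQCAlg j' hj.1 := rfl

end Groth.Agent.Lib.Helper18.SymQHom
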