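import Mathlib
import Groth.Prelude.Def_RelSpec
import Groth.Agent.Lib.Helper18.SymFT
import Groth.Agent.Lib.Helper49.FreeMod

/-!
# Vector bundles of finite locally free modules are smooth (helper18)
-/

set_option autoImplicit false
set_option linter.style.haveILetI false
universe u
open AlgebraicGeometry CategoryTheory Limits TopologicalSpace Opposite

namespace Groth.Agent.Lib.Helper18.SymQC

open Groth.Agent.Lib.Helper18.SymLoc Groth.Agent.Lib.Helper49 RelSpec

variable {S : Scheme.{u}}

/-- a ring-hom property of the structure maps of `A` over small affines passes to `Spec(A) → S` -/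
theorem π_of_local (A : QCAlg S) (P : MorphismProperty Scheme.{u})
    (Q : ∀ {R T : Type u} [CommRing R] [CommRing T], (R →+* T) → Prop)
    [HasRingHomProperty P Q]
    (hQ : RingHom.StableUnderCompositionWithLocalizationAwaySource Q)
    (h : ∀ x : S, ∃ U : S.Opens, IsAffineOpen U ∧ x ∈ U ∧ Q (A.str.app (op U)).hom) :
    P A.π := by
  rw [HasRingHomProperty.iff_exists_appLE (P := P) hQ]
  intro y
  obtain ⟨U, hU, hyU, hQU⟩ := h (A.π y)
  refine ⟨⟨U, hU⟩, ⟨A.π ⁻¹ᵁ U, hU.preimage A.π⟩, hyU, le_rfl, ?_⟩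
  rw [← Scheme.Hom.app_eq_appLE]
  haveI := isIso_gammaAff' A U hU
  rw [π_app_eq A U hU, CommRingCat.hom_comp]
  have hri : RingHom.RespectsIso Q := (HasRingHomProperty.isLocal_ringHomProperty P).respectsIso
  exact (hri.cancel_right_isIso (A.str.app (op U)) (inv (A.gammaAff U hU))).mpr hQU

theorem smooth_algebraMap_sym {R : Type u} [CommRing R] {M : Type u} [AddCommGroup M] [Module R M]
    {n : ℕ} (e : M ≃ₗ[R] (Fin n → R)) : (algebraMap R (SymmetricAlgebra R M)).Smooth := by
  rw [RingHom.smooth_algebraMap]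
  let b : Module.Basis (Fin n) R M := Module.Basis.ofEquivFun e
  have : Algebra.Smooth R (MvPolynomial (Fin n) R) := ⟨inferInstance, inferInstance⟩
  exact Algebra.Smooth.of_equiv (SymmetricAlgebra.equivMvPolynomial b).symm

variable (E : S.Modules) [E.IsQuasicoherent] (A : QCAlg S) (j : E ⟶ A.toModule)

theorem smooth_str (hA : IsSymAlg E A j) (U : S.Opens) (hU : IsAffineOpen U) {n : ℕ}
    (e : Γ(E, U) ≃ₗ[Γ(S, U)] (Fin n → Γ(S, U))) : (A.str.app (op U)).hom.Smooth := by
  rw [str_eq_liftU_comp E A j U]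
  exact RingHom.Smooth.comp (smooth_algebraMap_sym e)
    (RingHom.Smooth.of_bijective (bijective_liftU E A j hA U hU))

/-- **`V(E) → S` is smooth for `E` finite locally free.** -/
theorem smooth_π (hA : IsSymAlg E A j) (hlf : FlatMod.IsFinLocFree E) : Smooth A.π := by
  refine π_of_local A @Smooth RingHom.Smooth
    (RingHom.Smooth.stableUnderComposition.stableUnderCompositionWithLocalizationAway
      RingHom.Smooth.holdsForLocalizationAway).left (fun x => ?_)
  obtain ⟨U, n, hU, hxU, ⟨e⟩⟩ := (isFinLocFree_iff_affine E).mp hlf x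
  exact ⟨U, hU, hxU, smooth_str E A j hA U hU e⟩

end Groth.Agent.Lib.Helper18.SymQC
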