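import Mathlib
import Groth.Agent.Lib.Helper18.ThickProper

/-!
# Finite type lifts along a surjection with finitely generated nilpotent kernel (helper18)
-/

open CategoryTheory CategoryTheory.Limits AlgebraicGeometry

namespace Groth.Agent.Lib.Helper18

universe u

theorem finiteType_of_fg_nilpotent_ker {A B B₀ : Type*} [CommRing A] [CommRing B] [CommRing B₀]
    (f : A →+* B) (p : B →+* B₀) (hp : Function.Surjective p) (hfg : (RingHom.ker p).FG)
    (hnil : IsNilpotent (RingHom.ker p)) (h : (p.comp f).FiniteType) : f.FiniteType := by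
  classical
  algebraize [f, p.comp f]
  let pA : B →ₐ[A] B₀ := { p with commutes' := fun a => rfl }
  obtain ⟨s₀, hs₀⟩ := (h : Algebra.FiniteType A B₀).out
  obtain ⟨t, ht⟩ := hfg
  obtain ⟨m, hm⟩ := hnil
  choose g hg using hp
  let s : Finset B := s₀.image g ∪ t
  set S := Algebra.adjoin A (s : Set B) with hS
  have hmap : S.map pA = ⊤ := by
    rw [eq_top_iff, ← hs₀, hS, AlgHom.map_adjoin]
    apply Algebra.adjoin_mono
    intro x hx
    refine ⟨g x, ?_, hg x⟩
    simp only [s, Finset.coe_union, Finset.coe_image, Set.mem_union, Set.mem_image, Finset.mem_coe]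
    exact Or.inl ⟨x, hx, rfl⟩
  have htS : ∀ x ∈ t, x ∈ S := by
    intro x hx
    apply Algebra.subset_adjoin
    simp only [s, Finset.coe_union, Set.mem_union, Finset.mem_coe]
    exact Or.inr hx
  -- the ideal of `S` generated by `t`
  let IS : Ideal S := Ideal.span {x : S | (x : B) ∈ t}
  have hISmap : IS.map (algebraMap S B) = RingHom.ker p := by
    rw [Ideal.map_span, ← ht]
    congr 1
    ext x
    simp only [Set.mem_image, Set.mem_ofPred_eq, Finset.mem_coe]
    constructor
    · rintro ⟨y, hy, rfl⟩; exact hy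
    · intro hx; exact ⟨⟨x, htS x hx⟩, hx, rfl⟩
  have hISpow : IS ^ m = ⊥ := by
    have h1 : (IS ^ m).map (algebraMap S B) = ⊥ := by
      rw [Ideal.map_pow, hISmap, hm, Ideal.zero_eq_bot]
    exact (Ideal.map_eq_bot_iff_of_injective (f := algebraMap S B) Subtype.val_injective).mp h1
  have hsup : (⊤ : Submodule S B) ≤
      LinearMap.range (Algebra.linearMap S B) ⊔ IS • (⊤ : Submodule S B) := by
    intro b _
    have : pA b ∈ S.map pA := by rw [hmap]; trivial
    obtain ⟨b', hb', hbb'⟩ := this
    have hk : b - b' ∈ RingHom.ker p := by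
      rw [RingHom.mem_ker, map_sub, sub_eq_zero]
      exact hbb'.symm
    refine Submodule.mem_sup.mpr ⟨b', ⟨⟨b', hb'⟩, rfl⟩, b - b', ?_, by ring⟩
    rw [Ideal.smul_top_eq_map, hISmap]
    exact hk
  have htop := submodule_eq_top_of_sup_smul_top IS m hISpow _ hsup
  refine ⟨⟨s, ?_⟩⟩
  rw [eq_top_iff]
  intro b _
  have : b ∈ LinearMap.range (Algebra.linearMap S B) := by rw [htop]; trivial
  obtain ⟨x, rfl⟩ := this
  exact x.2

end Groth.Agent.Lib.Helper18
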