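import Mathlib
import Groth.Agent.Lib.Helper51.OmegaUniv.Affine

/-!
# Derivations of `O_{Spec B}` are determined by their values on global functions
-/

set_option autoImplicit false
universe u
open CategoryTheory CategoryTheory.Limits AlgebraicGeometry TopologicalSpace Opposite

namespace Groth.Agent.Lib.Helper18.TildeDerExt

open Groth.Agent.Lib.Helper51.OmegaUniv OmegaSh

theorem algebraMap_top {R : CommRingCat.{u}} (x : R) :
    algebraMap R Γ(Spec R, ⊤) x = (Scheme.ΓSpecIso R).inv x := by
  simp only [AlgebraicGeometry.IsAffineOpen.algebraMap_Spec_obj]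
  have : (homOfLE (le_top : (⊤ : (Spec R).Opens) ≤ ⊤)).op = 𝟙 _ := rfl
  rw [this, CategoryTheory.Functor.map_id, Category.comp_id]

variable {R B : CommRingCat.{u}} (φ : R ⟶ B) {F : (Spec B).Modules}

theorem der_app_top_base (D : Der (Spec.map φ) F) (r : R) :
    D.app ⊤ ((Scheme.ΓSpecIso B).inv (φ r)) = 0 := by
  have := der_app_top_algebraMap_map (φ := φ) D r
  rwa [algebraMap_top] at this

theorem der_ext_of_top (D D' : Der (Spec.map φ) F)
    (h : ∀ x : B, D.app ⊤ ((Scheme.ΓSpecIso B).inv x) = D'.app ⊤ ((Scheme.ΓSpecIso B).inv x)) :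
    D = D' := by
  apply der_ext_of_basis (fun b : B => bo b) (AlgDer.isBasis_bo B)
  intro b s
  have key := Alg.leibniz_ext (A := B) (Submonoid.powers b) (RingHom.id Γ(Spec B, bo b))
    (D.app (bo b)) (D'.app (bo b)) (der_app_mul D) (der_app_mul D') ?_
  · exact DFunLike.congr_fun key s
  · intro x
    rw [← AlgDer.algebraMap_res' (homOfLE (le_top : bo b ≤ ⊤)).op x, der_app_map, der_app_map,
      algebraMap_top, h]

end Groth.Agent.Lib.Helper18.TildeDerExt
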